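import Cfsg.Agent.Blk.FrobPrin
import Cfsg.Agent.Blk.InvHecke
import Cfsg.Agent.Blk.PrinAb
import Cfsg.Agent.Blk.FrobTwo
import Cfsg.Agent.Blk.OneSub
import Cfsg.Agent.Grp.Transfer

/-!
# Abelian Sylow `2`-subgroups with free automizer: products of involutions
-/

set_option autoImplicit false
set_option linter.unusedSectionVars false
set_option linter.unusedVariables false
set_option linter.style.haveILetI false

namespace Cfsg

open Exc Subgroup
open scoped ComplexConjugate Classical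

universe u v w

variable {G : Type u} [Group G] [Finite G] {M : Ideal AlgInt}

local notation "C₁(" u ")" => Subgroup.centralizer ({u} : Set _)
local notation "C(" Q ")" => Subgroup.centralizer ((Q : Subgroup G) : Set G)
local notation "N(" Q ")" => Subgroup.normalizer ((Q : Subgroup G) : Set G)

theorem IrrCharacter.sum_class_mul_class [Fintype G] (χ : IrrCharacter G) (a b : G) :
    ∑ x with IsConj a x, ∑ y with IsConj b y, χ (x * y) =
      ((C₁(a) : Subgroup G).index : ℂ) * (C₁(b) : Subgroup G).index * (χ a * χ b / χ 1) := by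
  rw [χ.isClassFunction.sum_class_mul_class]
  simp [IrrCharacter.ip_eq]

theorem isConj_of_mul_self_of_isPRegular {x y : G} (hx : x * x = 1) (hy : y * y = 1)
    (h : IsPRegular 2 (x * y)) : IsConj y x := by
  obtain ⟨k, hk⟩ := exists_pow_eq_self_of_coprime (x := x * y) (n := 2)
    ((Nat.Prime.coprime_iff_not_dvd Nat.prime_two).2 h)
  have h1 : y * (x * y)⁻¹ * y⁻¹ = x * y := by
    rw [mul_inv_rev, inv_eq_of_mul_eq_one_right hx, inv_eq_of_mul_eq_one_right hy, ← mul_assoc,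
      hy, one_mul]
  refine isConj_iff.2 ⟨(x * y) ^ k, ?_⟩
  calc _ = (x * y) ^ k * (y * (x * y)⁻¹ ^ k * y⁻¹) * y := by rw [inv_pow]; group
    _ = x := by
      rw [← conj_pow, h1, ← pow_add, ← two_mul, pow_mul, hk, mul_assoc, hy, mul_one]

theorem mul_self_of_isConj_of_orderOf {s x : G} (hs : orderOf s = 2) (hx : IsConj s x) :
    x * x = 1 := by
  obtain ⟨c, rfl⟩ := isConj_iff.1 hx
  rw [← pow_two, conj_pow, ← hs, pow_orderOf_eq_one, mul_one, mul_inv_cancel]

theorem commute_of_sylow_comm {p : ℕ} [Fact p.Prime] (P : Sylow p G)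
    (hab : (P : Subgroup G) ≤ C(P)) {Q : Subgroup G} (hQ : IsPGroup p Q) {x y : G} (hx : x ∈ Q)
    (hy : y ∈ Q) : Commute x y := by
  obtain ⟨S, hS⟩ := hQ.exists_le_sylow
  obtain ⟨g, rfl⟩ := MulAction.exists_smul_eq G P S
  obtain ⟨a, ha, rfl⟩ := hS hx
  obtain ⟨b, hb, rfl⟩ := hS hy
  exact (show Commute a b from hab hb a ha).map (MulAut.conj g)

theorem invol_mul_pPart (P : Sylow 2 G) (hab : (P : Subgroup G) ≤ C(P)) {x y : G}
    (hx : x * x = 1) (hy : y * y = 1) :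
    Commute x (pPart 2 (x * y)) ∧ pPart 2 (x * y) * pPart 2 (x * y) = 1 := by
  have hinv : x * (x * y) * x⁻¹ = (x * y)⁻¹ := by
    rw [← mul_assoc, hx, one_mul, mul_inv_rev, inv_eq_of_mul_eq_one_right hy]
  have h1 : x * pPart 2 (x * y) * x⁻¹ = (pPart 2 (x * y))⁻¹ := by
    obtain ⟨k, hk⟩ := exists_pPart_eq_pow (p := 2) (x * y)
    rw [hk, ← conj_pow, hinv, inv_pow]
  have hn : zpowers x ≤ normalizer (zpowers (pPart 2 (x * y)) : Set G) := by
    refine zpowers_le.2 (mem_normalizer_fintype ?_)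
    rintro _ ⟨k, rfl⟩
    exact ⟨-k, by simp only; rw [← conj_zpow, h1, inv_zpow', zpow_neg]⟩
  have h2 := commute_of_sylow_comm P hab ((isPElt_iff_isPGroup_zpowers.1
    (isPElt_two_of_mul_self hx)).to_sup_of_normal_right'
      (isPElt_iff_isPGroup_zpowers.1 (isPElt_pPart (p := 2) (x * y))) hn)
    (mem_sup_left (mem_zpowers _)) (mem_sup_right (mem_zpowers _))
  rw [h2.eq, mul_inv_cancel_right] at h1
  exact ⟨h2, mul_eq_one_iff_eq_inv.2 h1⟩

theorem exists_mem_pSection_of_not_isPRegular {p : ℕ} [Fact p.Prime] (P : Sylow p G) {g : G}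
    (hg : ¬ IsPRegular p g) : ∃ u : (P : Subgroup G), u ≠ 1 ∧ g ∈ pSection p (u : G) := by
  obtain ⟨x, hx⟩ := (isPElt_pPart (p := p) g).exists_conj_mem P
  exact ⟨⟨_, hx⟩, fun e => hg (pPart_eq_one_iff.1 (conj_eq_one_iff.1 (congrArg Subtype.val e))),
    mem_pSection.2 (isConj_iff.2 ⟨x, rfl⟩)⟩

theorem ip_secOne_comp {p : ℕ} [Fact p.Prime] {L : Type v} [Group L] [Finite L] {i : L →* G}
    (hi : Function.Injective i) {u : L} (hu : IsPElt p u) (hC : C₁(i u) ≤ i.range) {θ : G → ℂ}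
    (hθ : IsClassFunction G θ) : ip (secOne p (i u)) θ = ip (secOne p u) (θ ∘ i) := by
  have h1 := isSec_centralizer hu
  have h2 : IsSec p (i.comp (C₁(u) : Subgroup L).subtype) (i u) := by
    refine ⟨hi.comp (subtype_injective _), hu.map i, le_antisymm ?_ fun g hg => ?_⟩
    · rintro _ ⟨c, rfl⟩
      exact mem_centralizer_singleton_iff.2 (by
        simpa using congrArg i (mem_centralizer_singleton_iff.1 c.2))
    · obtain ⟨c, rfl⟩ := hC hg
      exact ⟨⟨c, mem_centralizer_singleton_iff.2 (hi (by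
        simpa using mem_centralizer_singleton_iff.1 hg))⟩, rfl⟩
  rw [secOne, secOne, h1.ip_indicator_pSection (fun _ _ => rfl) (hθ.comp i),
    h2.ip_indicator_pSection (fun _ _ => rfl) hθ]
  congr 1
  funext c
  simp [secFun]

theorem eq_of_sum_mul_sum_of_pos {ι : Type*} {s : Finset ι} {a : ι → ℤ} {x : ι → ℕ}
    (hx : ∀ i, 0 < x i) (ha : ∀ i ∈ s, 0 < a i)
    (h : (∑ i ∈ s, (a i * x i : ℚ)) * ∑ i ∈ s, (a i ^ 3 / x i : ℚ) = (∑ i ∈ s, (a i ^ 2 : ℚ)) ^ 2)
    {i₀ : ι} (h0 : i₀ ∈ s) (h1 : a i₀ = 1) (h2 : x i₀ = 1) {i : ι} (hi : i ∈ s) :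
    (x i : ℤ) = a i := by
  set S₁ := ∑ i ∈ s, (a i * x i : ℚ) with e1
  set S₂ := ∑ i ∈ s, (a i ^ 2 : ℚ) with e2
  set S₃ := ∑ i ∈ s, (a i ^ 3 / x i : ℚ) with e3
  have hx' : ∀ i, (0 : ℚ) < x i := fun i => Nat.cast_pos.2 (hx i)
  have ha' : ∀ i ∈ s, (0 : ℚ) < a i := fun i hi => Int.cast_pos.2 (ha i hi)
  have h3 : ∑ i ∈ s, (a i * (S₂ * x i - S₁ * a i) ^ 2 / x i : ℚ) = 0 := by
    rw [Finset.sum_congr rfl (g := fun i => S₂ ^ 2 * (a i * x i) - 2 * S₁ * S₂ * a i ^ 2 +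
      S₁ ^ 2 * (a i ^ 3 / x i)) fun i _ => by have := (hx' i).ne'; field_simp; ring]
    simp only [Finset.sum_add_distrib, Finset.sum_sub_distrib, ← Finset.mul_sum, ← e1, ← e2, ← e3]
    linear_combination S₁ * h
  rw [Finset.sum_eq_zero_iff_of_nonneg fun i hi => by
    have := hx' i; have := ha' i hi; positivity] at h3
  have h4 : ∀ i ∈ s, S₂ * x i = S₁ * a i := fun i hi => by
    have := h3 i hi
    simpa [(hx' i).ne', (ha' i hi).ne', sub_eq_zero] using this
  have h5 := h4 _ h0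
  have h6 : 0 < S₂ := Finset.sum_pos (fun i hi => pow_pos (ha' i hi) 2) ⟨_, h0⟩
  simp only [h1, h2, Nat.cast_one, Int.cast_one, mul_one] at h5
  have := h4 i hi
  rw [← h5] at this
  exact_mod_cast mul_left_cancel₀ h6.ne' this

theorem eq_zero_of_cubic (n : ℕ) : ∀ x y g : ℤ, x.natAbs + y.natAbs = n →
    x ^ 2 - x * y + y ^ 2 + 2 * g * (x * y * (x + y)) = 0 → x = 0 ∧ y = 0 := by
  induction n using Nat.strong_induction_on with
  | _ n ih =>
  intro x y g hn h
  obtain ⟨x', rfl | rfl⟩ := Int.even_or_odd' x <;> obtain ⟨y', rfl | rfl⟩ := Int.even_or_odd' y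
  · by_cases h0 : n = 0
    · omega
    · have := ih _ (by omega) x' y' (2 * g) rfl (by linarith)
      omega
  all_goals
    exfalso
    have := congrArg (Int.cast : ℤ → ZMod 2) h
    push_cast at this
    rw [show (2 : ZMod 2) = 0 from rfl] at this
    simp at this

theorem eq_of_sum_mul_sum_of_three {ι : Type*} {s : Finset ι} {a : ι → ℤ} {x : ι → ℕ}
    (hx : ∀ i, 0 < x i) (ha : ∀ i ∈ s, a i ≠ 0) (h4 : ∀ i ∈ s, (4 : ℤ) ∣ x i - a i)
    (h : (∑ i ∈ s, (a i * x i : ℚ)) * ∑ i ∈ s, (a i ^ 3 / x i : ℚ) = 9)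
    (h3 : ∑ i ∈ s, a i ^ 2 = 3)
    {i₀ : ι} (h0 : i₀ ∈ s) (h1 : a i₀ = 1) (h2 : x i₀ = 1) {i : ι} (hi : i ∈ s) :
    (x i : ℤ) = a i := by
  simp only [← Finset.add_sum_erase s _ h0, h1, h2] at h h3
  have hs : ∀ j ∈ s.erase i₀, a j = 1 ∨ a j = -1 := fun j hj => by
    have h5 := Finset.single_le_sum (f := fun j => a j ^ 2) (fun _ _ => sq_nonneg _) hj
    have h6 := ha j (Finset.mem_of_mem_erase hj)
    have h7 : a j ≤ 1 := by nlinarith
    have h8 : -1 ≤ a j := by nlinarith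
    omega
  rw [Finset.sum_congr rfl (g := fun _ => 1) fun j hj => by
    rcases hs j hj with e | e <;> simp [e]] at h3
  obtain ⟨j, k, hjk, e⟩ := (Finset.card_eq_two (s := s.erase i₀)).1 (by simp at h3; omega)
  have hj : j ∈ s.erase i₀ := by simp [e]
  have hk : k ∈ s.erase i₀ := by simp [e]
  obtain ⟨u, hu⟩ := h4 j (Finset.mem_of_mem_erase hj)
  obtain ⟨v, hv⟩ := h4 k (Finset.mem_of_mem_erase hk)
  rw [e, Finset.sum_pair hjk, Finset.sum_pair hjk] at h
  have hx' : ∀ i, (x i : ℚ) ≠ 0 := fun i => Nat.cast_ne_zero.2 (hx i).ne'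
  have h5 := hx' j
  have h6 := hx' k
  field_simp at h
  have h7 : (x j : ℤ) = a j + 4 * u := by linarith
  have h8 : (x k : ℤ) = a k + 4 * v := by linarith
  have h9 : ((1 : ℤ) + (a j * x j + a k * x k)) * (x j * x k + (a j ^ 3 * x k + x j * a k ^ 3)) =
      x j * x k * 9 := by
    exact_mod_cast (by push_cast at h ⊢; linarith :
      (((1 : ℤ) + (a j * x j + a k * x k)) * (x j * x k + (a j ^ 3 * x k + x j * a k ^ 3)) : ℚ) =
      x j * x k * 9)
  rw [h7, h8] at h9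
  have := eq_zero_of_cubic _ (a j * u) (a k * v) 1 rfl (by
    rcases hs j hj with e1 | e1 <;> rcases hs k hk with e2 | e2 <;> rw [e1, e2] at h9 ⊢ <;>
      linarith)
  have hu0 : u = 0 := (mul_eq_zero.1 this.1).resolve_left (ha j (Finset.mem_of_mem_erase hj))
  have hv0 : v = 0 := (mul_eq_zero.1 this.2).resolve_left (ha k (Finset.mem_of_mem_erase hk))
  by_cases hi0 : i = i₀
  · simp [hi0, h1, h2]
  · have : i ∈ s.erase i₀ := Finset.mem_erase.2 ⟨hi0, hi⟩
    simp only [e, Finset.mem_insert, Finset.mem_singleton] at this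
    rcases this with rfl | rfl <;> omega

/-- Abelian Sylow `2`-subgroup whose automizer acts freely. -/
structure AbFree (P : Sylow 2 G) : Prop where
  comm : (P : Subgroup G) ≤ C(P)
  free : ∀ y ∈ (P : Subgroup G), y ≠ 1 → C₁(y) ⊓ N(P) ≤ C(P)

/-- The class function attached to a function on the Sylow subgroup. -/
noncomputable def secSum (P : Subgroup G) [Fintype P] (c : P → ℂ) : G → ℂ :=
  ∑ u, c u • secOne 2 (u : G)

theorem isClassFunction_secSum (P : Subgroup G) [Fintype P] (c : P → ℂ) :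
    IsClassFunction G (secSum P c) := fun g x => by
  simp only [secSum, Finset.sum_apply, Pi.smul_apply, isClassFunction_secOne 2 _ g x]

namespace AbFree

variable {P : Sylow 2 G}

local notation "𝐄" => autOf (Subgroup.subtype (P : Subgroup G)) N(P)

theorem mul_comm' (h : AbFree P) (a b : (P : Subgroup G)) : a * b = b * a :=
  Subtype.ext (h.comm b.2 a a.2)

theorem isFree (h : AbFree P) : IsFree 𝐄 :=
  isFree_autOf (subtype_injective _) (by
    rw [range_subtype]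
    exact fun g hg x hx h1 e => h.free x hx h1
      ⟨mem_centralizer_singleton_iff.2 (mul_inv_eq_iff_eq_mul.1 e), hg⟩)

theorem exists_aut_iff (h : AbFree P) (u v : (P : Subgroup G)) :
    (∃ σ ∈ 𝐄, σ u = v) ↔ IsConj (u : G) v := by
  rw [exists_autOf_apply_iff (subtype_injective _) (by rw [range_subtype])]
  constructor
  · rintro ⟨g, -, e⟩
    exact isConj_iff.2 ⟨g, e.symm⟩
  · intro hc
    obtain ⟨g, e⟩ := isConj_iff.1 hc
    obtain ⟨n, hn, e'⟩ := exists_mem_normalizer_conj_eq P (h.comm u.2) (g := g) (e ▸ h.comm v.2)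
    exact ⟨n, hn, (e'.trans e).symm⟩

variable [Fintype P]

theorem secSum_of_reg {c : ↥(P : Subgroup G) → ℂ} (hc : c 1 = 0) {g : G} (hg : IsPRegular 2 g) :
    secSum P c g = 0 := by
  simp only [secSum, Finset.sum_apply, Pi.smul_apply, smul_eq_mul]
  refine Finset.sum_eq_zero fun u _ => ?_
  by_cases hu : u = 1
  · rw [hu, hc, zero_mul]
  · rw [secOne_of_notMem, mul_zero]
    rw [mem_pSection, pPart_eq_one_iff.2 hg, isConj_one_right]
    exact fun e => hu (Subtype.ext e)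

theorem secSum_of_mem [Fintype 𝐄] (h : AbFree P) (c : ↥(P : Subgroup G) → ℂ)
    {v : (P : Subgroup G)} (hv : v ≠ 1) {g : G} (hg : g ∈ pSection 2 (v : G)) :
    secSum P c g = ∑ σ : 𝐄, c (σ.1 v) := by
  rw [← h.isFree.sum_orbit hv c, Finset.sum_filter]
  simp only [secSum, Finset.sum_apply, Pi.smul_apply, smul_eq_mul]
  refine Finset.sum_congr rfl fun u _ => ?_
  split_ifs with e <;> rw [h.exists_aut_iff] at e
  · rw [secOne_of_mem (pSection_eq_of_isConj e ▸ hg), mul_one]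
  · rw [secOne_of_notMem fun e' => e ((mem_pSection.1 hg).symm.trans (mem_pSection.1 e')),
      mul_zero]

variable {X Y : Set (IrrCharacter G)} {δ d : ℤ} {ζ : ((P : Subgroup G) →* ℂˣ) → IrrCharacter G}
  {a : IrrCharacter G → ℤ}

local notation "𝐒" => fun u : (P : Subgroup G) => secOne 2 (u : G)

theorem apply_X (h : AbFree P) (hM : IsPModular 2 M)
    (o : ExcOut 2 (principalBlock M G) 𝐄 𝐒 X Y δ d ζ a) {χ : IrrCharacter G} (hχ : χ ∈ X) {g : G}
    (hg : ¬ IsPRegular 2 g) : χ g = a χ := by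
  obtain ⟨u, hu, hg⟩ := exists_mem_pSection_of_not_isPRegular P hg
  rw [apply_eq_excDec_principal hM h.comm h.free (o.X_subset hχ) hu hg, o.nonexc χ hχ u hu]

theorem apply_zeta (h : AbFree P) (hM : IsPModular 2 M)
    (o : ExcOut 2 (principalBlock M G) 𝐄 𝐒 X Y δ d ζ a) {lam : (P : Subgroup G) →* ℂˣ}
    (hl : lam ≠ 1) {u : (P : Subgroup G)} (hu : u ≠ 1) {g : G} (hg : g ∈ pSection 2 (u : G)) :
    ζ lam g = d + δ * osum 𝐄 lam u := by
  rw [apply_eq_excDec_principal hM h.comm h.free (o.Y_subset (o.mem lam hl)) hu hg,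
    o.exc lam hl u hu]

theorem mem_X (h : AbFree P) (hM : IsPModular 2 M)
    (o : ExcOut 2 (principalBlock M G) 𝐄 𝐒 X Y δ d ζ a) (he : Nat.card 𝐄 + 1 < Nat.card P)
    {χ : IrrCharacter G} (hχ : χ ∈ principalBlock M G) (h1 : ∀ u ∈ (P : Subgroup G), χ u = 1) :
    χ ∈ X ∧ a χ = 1 := by
  have h2 := o.const he χ hχ 1 fun u hu => by
    rw [excDec_principal hM h.comm h.free hχ hu, h1 u u.2]
  haveI : Nontrivial (P : Subgroup G) := Finite.one_lt_card_iff_nontrivial.1 (by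
    have : 0 < Nat.card 𝐄 := Nat.card_pos
    omega)
  obtain ⟨u, hu⟩ := exists_ne (1 : (P : Subgroup G))
  have h3 := o.nonexc χ h2 u hu
  rw [excDec_principal hM h.comm h.free hχ hu, h1 u u.2] at h3
  exact ⟨h2, by exact_mod_cast h3.symm⟩

/-- Two classes of involutions. -/
theorem apply_one_of_not_isConj (h : AbFree P) (hM : IsPModular 2 M)
    (o : ExcOut 2 (principalBlock M G) 𝐄 𝐒 X Y δ d ζ a) {s t : G} (hs : orderOf s = 2)
    (ht : orderOf t = 2) (hst : ¬ IsConj s t) {χ : IrrCharacter G} (hχ : χ ∈ X) : χ 1 = a χ := by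
  have := Fintype.ofFinite G
  have sq := @mul_self_of_isConj_of_orderOf G _ _
  have h1 := χ.sum_class_mul_class s t
  rw [Finset.sum_congr rfl fun x hx => Finset.sum_congr rfl fun y hy => h.apply_X hM o hχ fun e =>
    hst ((Finset.mem_filter.1 hx).2.trans ((isConj_of_mul_self_of_isPRegular
      (sq hs (Finset.mem_filter.1 hx).2) (sq ht (Finset.mem_filter.1 hy).2) e).symm.trans
        (Finset.mem_filter.1 hy).2.symm)),
    h.apply_X hM o hχ (g := s) (not_not.2 hs.symm.dvd),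
    h.apply_X hM o hχ (g := t) (not_not.2 ht.symm.dvd)] at h1
  simp only [Finset.sum_const, card_filter_isConj, nsmul_eq_mul] at h1
  have h2 : ((C₁(s) : Subgroup G).index : ℂ) ≠ 0 := Nat.cast_ne_zero.2 index_ne_zero_of_finite
  have h3 : ((C₁(t) : Subgroup G).index : ℂ) ≠ 0 := Nat.cast_ne_zero.2 index_ne_zero_of_finite
  have h4 : (a χ : ℂ) ≠ 0 := Int.cast_ne_zero.2 (o.a_ne χ hχ)
  have h5 := χ.apply_one_ne_zero
  field_simp at h1
  exact h1

/-- If the nonexceptional characters have `P` in their kernels, regular elements of the normal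
closure of `P` lie in `O_{2'}(G)`. -/
theorem mem_pPrimeCore (h : AbFree P) (hM : IsPModular 2 M)
    (o : ExcOut 2 (principalBlock M G) 𝐄 𝐒 X Y δ d ζ a) (he : Nat.card 𝐄 + 1 < Nat.card P)
    (H : ∀ χ ∈ X, χ 1 = a χ) {g : G} (hg : g ∈ normalClosure ((P : Subgroup G) : Set G))
    (hr : IsPRegular 2 g) : g ∈ pPrimeCore 2 G := by
  have h1 : ∀ χ ∈ X, χ g = χ 1 := fun χ hχ => by
    refine χ.isCharacter.mem_charKer.1 (normalClosure_le_normal (N := charKer χ.1) ?_ hg)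
    intro u hu
    refine χ.isCharacter.mem_charKer.2 ?_
    by_cases h1 : u = 1
    · rw [h1]
    · exact (h.apply_X hM o hχ fun e => h1 ((isPElt_of_mem P.isPGroup' hu).eq_one_of_isPRegular
        e)).trans (H χ hχ).symm
  refine (mem_pPrimeCore_iff_principal hM).2 fun χ hχ => ?_
  rcases (o.union ▸ hχ : χ ∈ X ∪ Y) with hχ | hχ
  · exact h1 χ hχ
  have h2 := o.reg_rel χ hχ g hr
  have h3 := o.reg_rel χ hχ 1 isPRegular_one
  rw [finsum_mem_congr rfl fun ψ hψ => by rw [h1 ψ hψ]] at h2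
  refine mul_left_cancel₀ (fun e => ?_) (add_right_cancel (h2.trans h3.symm))
  rw [e, zero_mul, zero_add, finsum_mem_congr rfl (g := fun ψ => ((a ψ ^ 2 : ℤ) : ℂ))
    fun ψ hψ => by rw [H ψ hψ]; push_cast; ring, finsum_mem_eq_finite_toFinset_sum _ X.toFinite,
    ← Int.cast_sum, Int.cast_eq_zero, Finset.sum_eq_zero_iff_of_nonneg fun _ _ => sq_nonneg _]
    at h3
  obtain ⟨h4, h5⟩ := h.mem_X hM o he hM.one_mem_principalBlock fun _ _ => rfl
  have := h3 _ (X.toFinite.mem_toFinset.2 h4)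
  simp [h5] at this

section OneClass

variable {t : ↥(P : Subgroup G)}

theorem sum_omega [Fintype 𝐄] (h : AbFree P) (ht : orderOf (t : G) = 2)
    (hone : ∀ s : G, orderOf s = 2 → IsConj (t : G) s) {R : Type*} [AddCommMonoid R]
    (F : ↥(P : Subgroup G) → R) : ∑ v with v * v = 1, F v = F 1 + ∑ σ : 𝐄, F (σ.1 t) := by
  have h1 : t ≠ 1 := by rintro rfl; simp at ht
  rw [← h.isFree.sum_orbit h1 F, ← Finset.add_sum_erase _ _ (a := 1) (by simp)]
  congr 1
  refine Finset.sum_congr (Finset.ext fun v => ?_) fun _ _ => rfl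
  simp only [Finset.mem_erase, Finset.mem_filter, Finset.mem_univ, true_and]
  constructor
  · rintro ⟨h2, h3⟩
    exact (h.exists_aut_iff _ _).2 (hone _ (by
      rw [orderOf_coe]; exact orderOf_eq_prime (by rw [pow_two, h3]) h2))
  · rintro ⟨σ, -, rfl⟩
    refine ⟨by simpa using h1, ?_⟩
    rw [← map_mul, show t * t = 1 from Subtype.ext
      (mul_self_of_isConj_of_orderOf ht (IsConj.refl _)), map_one]

theorem sq_le_card (h : AbFree P) (ht : orderOf (t : G) = 2)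
    (hone : ∀ s : G, orderOf s = 2 → IsConj (t : G) s) (he : Nat.card 𝐄 + 1 < Nat.card P) :
    (∃ u : ↥(P : Subgroup G), u * u ≠ 1) ∧ (Nat.card 𝐄 + 1) ^ 2 ≤ Nat.card P := by
  have := Fintype.ofFinite 𝐄
  let f : ↥(P : Subgroup G) →* ↥(P : Subgroup G) := MonoidHom.mk' (fun u => u * u) fun u v => by
    rw [mul_assoc, mul_assoc, ← mul_assoc v, h.mul_comm' v u, mul_assoc]
  have h1 : Nat.card f.ker = Nat.card 𝐄 + 1 := by
    have := h.sum_omega ht hone fun _ => 1
    simp only [Finset.sum_const, smul_eq_mul, mul_one, Finset.card_univ] at this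
    rw [Nat.card_eq_fintype_card (α := 𝐄), add_comm, ← this, Nat.card_eq_fintype_card,
      Fintype.card_subtype]
    exact congrArg _ (Finset.filter_congr fun _ _ => Iff.rfl)
  have h2 : ∃ u : ↥(P : Subgroup G), u * u ≠ 1 := by
    by_contra! H
    rw [(eq_top_iff' f.ker).2 H, card_top] at h1
    exact he.ne' h1
  refine ⟨h2, ?_⟩
  obtain ⟨u, hu⟩ := h2
  obtain ⟨k, hk⟩ := exists_pow_orderOf_eq P.isPGroup' hu
  have h3 : f.ker ≤ f.range := fun v hv => by
    by_cases h4 : v = 1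
    · rw [h4]; exact one_mem _
    obtain ⟨σ, -, rfl⟩ := (h.exists_aut_iff ((u * u) ^ k) v).2 ((hone _ (by
      rw [orderOf_coe, hk])).symm.trans (hone _ (by
        rw [orderOf_coe]; exact orderOf_eq_prime (by rw [pow_two]; exact hv) h4)))
    exact ⟨σ (u ^ k), by rw [(Commute.refl u).mul_pow, map_mul]; rfl⟩
  have h4 := f.ker.card_mul_index
  rw [index_ker] at h4
  rw [← h1, pow_two]
  exact (Nat.mul_le_mul_left _ (card_le_of_le h3)).trans h4.le

theorem d_eq_zero (h : AbFree P) (hM : IsPModular 2 M)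
    (o : ExcOut 2 (principalBlock M G) 𝐄 𝐒 X Y δ d ζ a) (he : Nat.card 𝐄 + 1 < Nat.card P)
    (he2 : (Nat.card 𝐄 + 1) ^ 2 ≤ Nat.card P) : d = 0 := by
  by_contra hd
  have h1 := o.norm
  have h2 := o.cardY
  obtain ⟨h4, h5⟩ := h.mem_X hM o he hM.one_mem_principalBlock fun _ _ => rfl
  rw [finsum_mem_eq_finite_toFinset_sum _ X.toFinite] at h1
  have h3 := Finset.single_le_sum (f := fun χ => a χ ^ 2) (fun _ _ => sq_nonneg _)
    (X.toFinite.mem_toFinset.2 h4)
  have h6 : 0 < Nat.card 𝐄 := Nat.card_pos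
  have h7 : Nat.card 𝐄 + 2 ≤ Nat.card Y := Nat.le_of_mul_le_mul_left (by nlinarith) h6
  have h8 : 1 ≤ d ^ 2 := by have := sq_pos_of_ne_zero hd; omega
  simp only [h5] at h3
  zify at h7
  nlinarith [sq_nonneg (d - δ)]

theorem sum_sq (o : ExcOut 2 (principalBlock M G) 𝐄 𝐒 X Y δ 0 ζ a) :
    ∑ χ ∈ X.toFinite.toFinset, a χ ^ 2 = Nat.card 𝐄 := by
  have h1 := o.norm
  rw [finsum_mem_eq_finite_toFinset_sum _ X.toFinite] at h1
  linear_combination h1 - o.sq

theorem secSum_eq (h : AbFree P) (hM : IsPModular 2 M)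
    (o : ExcOut 2 (principalBlock M G) 𝐄 𝐒 X Y δ 0 ζ a) {lam : (P : Subgroup G) →* ℂˣ}
    (hl : lam ≠ 1) (g : G) : secSum P (fun u => lam u - 1) g =
      δ * ζ lam g - ∑ χ ∈ X.toFinite.toFinset, a χ * χ g := by
  have := Fintype.ofFinite 𝐄
  by_cases hg : IsPRegular 2 g
  · have := o.reg_rel _ (o.mem lam hl) g hg
    rw [finsum_mem_eq_finite_toFinset_sum _ X.toFinite] at this
    rw [secSum_of_reg (by simp) hg]
    push_cast at this
    linear_combination this
  · rw [Finset.sum_congr rfl (g := fun χ => ((a χ ^ 2 : ℤ) : ℂ)) fun χ hχ => by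
      rw [h.apply_X hM o (X.toFinite.mem_toFinset.1 hχ) hg]; push_cast; ring, ← Int.cast_sum,
      sum_sq o]
    obtain ⟨u, hu, hg⟩ := exists_mem_pSection_of_not_isPRegular P hg
    have : (δ : ℂ) * δ = 1 := by exact_mod_cast o.sq
    rw [h.secSum_of_mem _ hu hg, h.apply_zeta hM o hl hu hg, h.isFree.osum_eq h.mul_comm' hl,
      Finset.sum_sub_distrib]
    simp only [Finset.sum_const, Finset.card_univ, nsmul_eq_mul, Nat.card_eq_fintype_card]
    push_cast
    linear_combination (-∑ σ : 𝐄, ((lam (σ.1 u) : ℂˣ) : ℂ)) * this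

theorem sum_pairs_secSum [Fintype G] [Fintype 𝐄] (h : AbFree P) (hM : IsPModular 2 M)
    (o : ExcOut 2 (principalBlock M G) 𝐄 𝐒 X Y δ 0 ζ a) (ht : orderOf (t : G) = 2)
    {lam : (P : Subgroup G) →* ℂˣ} (hl : lam ≠ 1) :
    ∑ x with IsConj (t : G) x, ∑ y with IsConj (t : G) y, secSum P (fun u => lam u - 1) (x * y) =
      ((C₁((t : G)) : Subgroup G).index : ℂ) ^ 2 *
        (δ * (∑ σ : 𝐄, ((lam (σ.1 t) : ℂˣ) : ℂ)) ^ 2 / ζ lam 1 -
          ∑ χ ∈ X.toFinite.toFinset, (a χ : ℂ) ^ 3 / χ 1) := by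
  have h1 : t ≠ 1 := by rintro rfl; simp at ht
  have h2 : (δ : ℂ) * δ = 1 := by exact_mod_cast o.sq
  simp only [h.secSum_eq hM o hl, Finset.sum_sub_distrib, ← Finset.mul_sum]
  rw [IrrCharacter.sum_class_mul_class, h.apply_zeta hM o hl h1
    (self_mem_pSection (isPElt_of_mem P.isPGroup' t.2)), h.isFree.osum_eq h.mul_comm' hl,
    Finset.sum_congr rfl fun x _ => Finset.sum_comm, Finset.sum_comm, mul_sub,
    Finset.mul_sum X.toFinite.toFinset]
  congr 1
  · push_cast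
    linear_combination (δ * ((C₁((t : G)) : Subgroup G).index : ℂ) ^ 2 *
      (∑ σ : 𝐄, ((lam (σ.1 t) : ℂˣ) : ℂ)) ^ 2 / ζ lam 1) * h2
  refine Finset.sum_congr rfl fun χ hχ => ?_
  simp only [← Finset.mul_sum]
  rw [IrrCharacter.sum_class_mul_class, h.apply_X hM o (X.toFinite.mem_toFinset.1 hχ)
    (g := t) (not_not.2 ht.symm.dvd)]
  ring

theorem sum_cube [Fintype 𝐄] (h : AbFree P) (hM : IsPModular 2 M)
    (o : ExcOut 2 (principalBlock M G) 𝐄 𝐒 X Y δ 0 ζ a) (ht : orderOf (t : G) = 2)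
    (hu : ∃ u : ↥(P : Subgroup G), u * u ≠ 1) {η : IrrCharacter G} (hη : η ∈ Y) :
    ∑ χ ∈ X.toFinite.toFinset, (a χ : ℂ) ^ 3 / χ 1 = δ * (Nat.card 𝐄 : ℂ) ^ 2 / η 1 := by
  have := Fintype.ofFinite G
  obtain ⟨u, hu⟩ := hu
  obtain ⟨lam, hl⟩ : ∃ lam : (P : Subgroup G) →* ℂˣ, lam (u * u) ≠ 1 := by
    letI : CommGroup ↥(P : Subgroup G) := ⟨h.mul_comm'⟩
    exact CommGroup.exists_apply_ne_one_of_hasEnoughRootsOfUnity _ ℂ hu
  have h1 : ∀ v, v * v = 1 → (lam * lam) v = 1 := fun v hv => by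
    rw [MonoidHom.mul_apply, ← map_mul, hv, map_one]
  have h2 : lam * lam ≠ 1 := fun e => hl (by rw [map_mul, ← MonoidHom.mul_apply, e]; rfl)
  have h3 : ∀ v, v * v = 1 → ∀ σ : 𝐄, (((lam * lam) (σ.1 v) : ℂˣ) : ℂ) = 1 := fun v hv σ => by
    rw [h1 _ (by rw [← map_mul, hv, map_one]), Units.val_one]
  have sq : ∀ {x : G}, IsConj (t : G) x → x * x = 1 := mul_self_of_isConj_of_orderOf ht
  have h4 := h.sum_pairs_secSum hM o ht h2
  rw [Finset.sum_eq_zero fun x hx => Finset.sum_eq_zero fun y hy => ?_, eq_comm, mul_eq_zero,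
    Finset.sum_congr rfl fun σ _ => h3 t (Subtype.ext (sq (IsConj.refl _))) σ,
    o.reg_eq _ (o.mem _ h2) η hη 1 isPRegular_one] at h4
  · rw [← sub_eq_zero.1 (h4.resolve_left (pow_ne_zero _ (Nat.cast_ne_zero.2
      index_ne_zero_of_finite)))]
    simp
  by_cases hg : IsPRegular 2 (x * y)
  · exact secSum_of_reg (by simp) hg
  obtain ⟨v, hv, hg⟩ := exists_mem_pSection_of_not_isPRegular P hg
  rw [h.secSum_of_mem _ hv hg]
  refine Finset.sum_eq_zero fun σ _ => sub_eq_zero.2 (h3 v (Subtype.ext ?_) σ)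
  obtain ⟨c, hc⟩ := isConj_iff.1 (mem_pSection.1 hg)
  have := (invol_mul_pPart P h.comm (sq (Finset.mem_filter.1 hx).2)
    (sq (Finset.mem_filter.1 hy).2)).2
  rw [coe_mul, ← hc, ← pow_two, conj_pow, pow_two, this, mul_one, mul_inv_cancel, coe_one]

theorem sum_mul_sum (h : AbFree P) (hM : IsPModular 2 M)
    (o : ExcOut 2 (principalBlock M G) 𝐄 𝐒 X Y δ 0 ζ a) (ht : orderOf (t : G) = 2)
    (hu : ∃ u : ↥(P : Subgroup G), u * u ≠ 1) :
    (∑ χ ∈ X.toFinite.toFinset, (a χ * charDegree χ.1 : ℚ)) *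
      ∑ χ ∈ X.toFinite.toFinset, (a χ ^ 3 / charDegree χ.1 : ℚ) = (Nat.card 𝐄 : ℚ) ^ 2 := by
  have := Fintype.ofFinite 𝐄
  have h1 : t ≠ 1 := by rintro rfl; simp at ht
  obtain ⟨η, hη⟩ := o.Y_nonempty (excSys_principal hM h.comm
    (fun e => h1 (Subtype.ext (mem_bot.1 (e ▸ t.2)))) h.free)
  have h2 := h.sum_cube hM o ht hu hη
  have h3 := o.reg_rel η hη 1 isPRegular_one
  rw [finsum_mem_eq_finite_toFinset_sum _ X.toFinite] at h3
  have h4 : (δ : ℂ) * δ = 1 := by exact_mod_cast o.sq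
  apply Rat.cast_injective (α := ℂ)
  push_cast
  simp only [← IrrCharacter.apply_one, h2]
  have h5 := η.apply_one_ne_zero
  push_cast at h3
  field_simp
  linear_combination δ * h3 + η 1 * h4

end OneClass

end AbFree

end Cfsg

set_option linter.all false in
theorem Cfsg.Rz.Blk_AbFree_0 : True := by
  have := @_root_.Cfsg.AbFree.mk.congr_simp.{0}
  have := @_root_.Cfsg.secSum.eq_def.{0}
  have := @_root_.Cfsg.secSum.fun_cases
  trivial
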