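import Cfsg.Agent.Blk.AbFree

/-!
# Abelian Sylow `2`-subgroups with free automizer: a subgroup containing all centralizers
-/

set_option autoImplicit false
set_option linter.unusedSectionVars false
set_option linter.unusedVariables false
set_option linter.style.haveILetI false

namespace Cfsg

open Exc Subgroup
open scoped ComplexConjugate Classical

universe u v w

variable {G : Type u} [Group G] [Finite G] {M : Ideal AlgInt}

local notation "C₁(" u ")" => Subgroup.centralizer ({u} : Set _)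
local notation "C(" Q ")" => Subgroup.centralizer ((Q : Subgroup G) : Set G)
local notation "N(" Q ")" => Subgroup.normalizer ((Q : Subgroup G) : Set G)

/-- A `2`-nilpotent subgroup containing the centralizers of all nontrivial elements of `P`. -/
structure NilHull (P : Subgroup G) {L : Type v} [Group L] (i : L →* G) (j : P →* L)
    (ρ : L →* P) : Prop where
  inj : Function.Injective i
  fac : ∀ u, i (j u) = u
  ret : ∀ u, ρ (j u) = u
  part : ∀ l, IsConj (pPart 2 l) (j (ρ l))
  cent : ∀ u : P, u ≠ 1 → C₁((u : G)) ≤ i.range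

theorem sum_filter_eq_of_range {L : Type v} [Group L] [Fintype L] [Fintype G] {i : L →* G}
    (hi : Function.Injective i) (q : G → Prop) [DecidablePred q] {F : G → ℂ}
    (hF : ∀ x, q x → x ∉ i.range → F x = 0) :
    ∑ x with q x, F x = ∑ x with q (i x), F (i x) :=
  (Finset.sum_of_injOn i hi.injOn (fun x hx => by simpa using hx)
    (fun x hx h => hF x (Finset.mem_filter.1 hx).2 fun ⟨l, e⟩ => h ⟨l, by simpa [e] using hx, e⟩)
    fun _ _ => rfl).symm

theorem isConj_conj_right_iff {a b : G} (c : G) : IsConj a (c * b * c⁻¹) ↔ IsConj a b :=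
  have h : IsConj b (c * b * c⁻¹) := isConj_iff.2 ⟨c, rfl⟩
  ⟨fun e => e.trans h.symm, fun e => e.trans h⟩

namespace NilHull

variable {P : Sylow 2 G} [Fintype P] {L : Type v} [Group L] [Finite L] {i : L →* G}
  {j : (P : Subgroup G) →* L} {ρ : L →* (P : Subgroup G)}

local notation "𝐄" => autOf (Subgroup.subtype (P : Subgroup G)) N(P)
local notation "𝐒" => fun u : (P : Subgroup G) => secOne 2 (u : G)

theorem mem_pSection_iff (n : NilHull P i j ρ) (h : AbFree P) {l : L} {u : (P : Subgroup G)} :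
    l ∈ pSection 2 (j u) ↔ ρ l = u := by
  letI : CommGroup ↥(P : Subgroup G) := ⟨h.mul_comm'⟩
  refine ⟨fun e => ?_, fun e => e ▸ mem_pSection.2 (n.part l)⟩
  have := ρ.map_isConj ((n.part l).symm.trans (mem_pSection.1 e))
  rwa [n.ret, n.ret, isConj_iff_eq] at this

theorem eq_one_iff (n : NilHull P i j ρ) (h : AbFree P) {l : L} : ρ l = 1 ↔ IsPRegular 2 l := by
  rw [← n.mem_pSection_iff h, mem_pSection, map_one, isConj_one_left, pPart_eq_one_iff]

theorem ip_secSum (n : NilHull P i j ρ) (h : AbFree P) {c : ↥(P : Subgroup G) → ℂ} (hc : c 1 = 0)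
    {θ : G → ℂ} (hθ : IsClassFunction G θ) : ip (secSum P c) θ = ip (c ∘ ρ) (θ ∘ i) := by
  have e : c ∘ ρ = ∑ u, c u • secOne 2 (j u) := by
    funext l
    simp only [Finset.sum_apply, Pi.smul_apply, smul_eq_mul, Function.comp_apply]
    rw [Finset.sum_eq_single (ρ l), secOne_of_mem ((n.mem_pSection_iff h).2 rfl), mul_one]
    · exact fun u _ hu => by
        rw [secOne_of_notMem fun e => hu ((n.mem_pSection_iff h).1 e).symm, mul_zero]
    · simp
  rw [e, secSum, ip_sum_left, ip_sum_left]
  refine Finset.sum_congr rfl fun u _ => ?_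
  rw [ip_smul_left, ip_smul_left]
  by_cases hu : u = 1
  · rw [hu, hc, zero_mul, zero_mul]
  · rw [← ip_secOne_comp n.inj (isPElt_iff_pow_eq_one.2 ((P.isPGroup' u).imp fun k hk => by
      rw [← map_pow, hk, map_one])) (by rw [n.fac]; exact n.cent u hu)
      hθ, n.fac]

variable [Fintype G] [Fintype L] {t : ↥(P : Subgroup G)}

theorem sum_invol [Fintype 𝐄] (n : NilHull P i j ρ) (h : AbFree P) (ht : orderOf (t : G) = 2)
    (c : ↥(P : Subgroup G) → ℂ) : (Nat.card G : ℂ) * ∑ l with IsConj (t : G) (i l), c (ρ l) =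
      Nat.card L * (C₁((t : G)) : Subgroup G).index * ∑ σ : 𝐄, c (σ.1 t) := by
  have h1 : t ≠ 1 := by rintro rfl; simp at ht
  have h2 := n.ip_secSum h (c := fun u => if u = 1 then 0 else c u) (if_pos rfl)
    (θ := fun g => if IsConj (t : G) g then 1 else 0) fun g x => by
      simp only [isConj_conj_right_iff]
  simp only [ip_def, Function.comp_apply, apply_ite conj, map_one, map_zero, mul_ite, mul_one,
    mul_zero, ← Finset.sum_filter] at h2
  rw [Finset.sum_congr rfl fun g hg => h.secSum_of_mem _ h1 (mem_pSection_iff_isConj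
    (isPElt_two_of_mul_self (mul_self_of_isConj_of_orderOf ht (Finset.mem_filter.1 hg).2))
      |>.2 (Finset.mem_filter.1 hg).2.symm), Finset.sum_const, card_filter_isConj,
    Finset.sum_congr rfl fun σ _ => if_neg (by simpa using h1),
    Finset.sum_congr rfl fun l hl => if_neg fun e => ?_] at h2
  · have hG := natCard_cast_ne_zero G
    have hL := natCard_cast_ne_zero L
    field_simp at h2
    rw [← h2, nsmul_eq_mul]
    ring
  have h3 := (isPRegular_iff_of_isConj (Finset.mem_filter.1 hl).2).2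
    (((n.eq_one_iff h).1 e).map i)
  exact h3 ht.symm.dvd

theorem sum_pairs (n : NilHull P i j ρ) (h : AbFree P) (ht : orderOf (t : G) = 2)
    {c : ↥(P : Subgroup G) → ℂ} (hc : c 1 = 0) : (Nat.card L : ℂ) *
      ∑ x with IsConj (t : G) x, ∑ y with IsConj (t : G) y, secSum P c (x * y) = Nat.card G *
      ∑ x with IsConj (t : G) (i x), ∑ y with IsConj (t : G) (i y), c (ρ (x * y)) := by
  have h2 := n.ip_secSum h hc (θ := fun g => ∑ x with IsConj (t : G) x,
    ∑ y with IsConj (t : G) y, if x * y = g then 1 else 0) fun g z => by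
      refine (Finset.sum_equiv (MulAut.conj z).toEquiv (by simp [-isConj_iff, isConj_conj_right_iff]) fun x _ =>
        Finset.sum_equiv (MulAut.conj z).toEquiv (by simp [-isConj_iff, isConj_conj_right_iff]) fun y _ => ?_).symm
      simp
  simp only [ip_def, Function.comp_apply, map_sum, apply_ite conj, map_one, map_zero] at h2
  have h3 : ∀ l, c (ρ l) * ∑ x with IsConj (t : G) x, ∑ y with IsConj (t : G) y,
      (if x * y = i l then (1 : ℂ) else 0) = ∑ x with IsConj (t : G) (i x),
      ∑ y with IsConj (t : G) (i y), if x * y = l then c (ρ l) else 0 := by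
    intro l
    by_cases hl : ρ l = 1
    · simp [hl, hc]
    have H : ∀ x y, IsConj (t : G) x → IsConj (t : G) y → x * y = i l → x ∈ i.range := by
      intro x y hx hy e
      have h4 := (invol_mul_pPart P h.comm (mul_self_of_isConj_of_orderOf ht hx)
        (mul_self_of_isConj_of_orderOf ht hy)).1
      obtain ⟨k, hk⟩ := isConj_iff.1 (n.part l)
      have h5 : i k * x * (i k)⁻¹ ∈ i.range := n.cent _ hl (mem_centralizer_singleton_iff.2 (by
        rw [← n.fac, ← hk, map_mul, map_mul, map_pPart, ← e, map_inv]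
        exact (h4.map (MulAut.conj (i k))).eq))
      have h6 : i k ∈ i.range := ⟨k, rfl⟩
      rwa [mul_mem_cancel_right (inv_mem h6), mul_mem_cancel_left h6] at h5
    rw [sum_filter_eq_of_range n.inj _ fun x hx h1 => Finset.sum_eq_zero fun y hy => if_neg
      fun e => h1 (H x y hx (Finset.mem_filter.1 hy).2 e), Finset.mul_sum]
    refine Finset.sum_congr rfl fun x hx => ?_
    rw [sum_filter_eq_of_range n.inj _ fun y _ hy => if_neg
      fun e => hy ⟨x⁻¹ * l, by simp [← e]⟩, Finset.mul_sum]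
    exact Finset.sum_congr rfl fun y _ => by simp [← map_mul, n.inj.eq_iff]
  simp only [h3] at h2
  simp only [Finset.mul_sum (Finset.univ.filter (IsConj (t : G) ·)), mul_ite, mul_one,
    mul_zero] at h2
  rw [Finset.sum_comm, Finset.sum_congr rfl fun x _ => Finset.sum_comm,
    Finset.sum_comm (s := (Finset.univ : Finset L)),
    Finset.sum_congr rfl fun (x : L) _ => Finset.sum_comm] at h2
  simp only [Finset.sum_ite_eq, Finset.mem_univ, if_true] at h2
  have hG := natCard_cast_ne_zero G
  have hL := natCard_cast_ne_zero L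
  field_simp at h2
  linear_combination h2

variable {X Y : Set (IrrCharacter G)} {δ : ℤ} {ζ : ((P : Subgroup G) →* ℂˣ) → IrrCharacter G}
  {a : IrrCharacter G → ℤ}

theorem a_pos (n : NilHull P i j ρ) (h : AbFree P) (hM : IsPModular 2 M)
    (o : ExcOut 2 (principalBlock M G) 𝐄 𝐒 X Y δ 0 ζ a) (ht : orderOf (t : G) = 2)
    (hone : ∀ s : G, orderOf s = 2 → IsConj (t : G) s) (hu : ∃ u : ↥(P : Subgroup G), u * u ≠ 1)
    (he : 1 < Nat.card 𝐄) {χ : IrrCharacter G} (hχ : χ ∈ X) : 0 < a χ := by
  have := Fintype.ofFinite 𝐄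
  have h1 : t ≠ 1 := by rintro rfl; simp at ht
  have ht2 : t * t = 1 := Subtype.ext (mul_self_of_isConj_of_orderOf ht (IsConj.refl _))
  obtain ⟨lam, hl⟩ : ∃ lam : (P : Subgroup G) →* ℂˣ, lam t ≠ 1 := by
    letI : CommGroup ↥(P : Subgroup G) := ⟨h.mul_comm'⟩
    exact CommGroup.exists_apply_ne_one_of_hasEnoughRootsOfUnity _ ℂ h1
  have hl1 : lam ≠ 1 := by rintro rfl; exact hl rfl
  have h2 : ∑ σ : 𝐄, ((lam (σ.1 t) : ℂˣ) : ℂ) = -1 := by
    have e1 := h.sum_omega ht hone fun v => ((lam v : ℂˣ) : ℂ)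
    have e2 : ∑ v with v * v = 1, ((lam t : ℂˣ) : ℂ) * lam v =
        ∑ v with v * v = 1, ((lam v : ℂˣ) : ℂ) :=
      Finset.sum_equiv (Equiv.mulLeft t) (fun v => by
        simp only [Finset.mem_filter, Finset.mem_univ, true_and, Equiv.coe_mulLeft]
        rw [mul_assoc, ← mul_assoc v, h.mul_comm' v t, mul_assoc, ← mul_assoc, ht2, one_mul])
        fun v _ => by simp
    rw [← Finset.mul_sum, mul_left_eq_self₀, Units.val_eq_one, or_iff_right hl, e1] at e2
    simpa [add_eq_zero_iff_eq_neg'] using e2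
  have hA := n.sum_invol h ht fun v => lam v
  have hB := n.sum_invol h ht fun _ => 1
  have h3 := n.sum_pairs h ht (c := fun u => lam u - 1) (by simp)
  rw [h.sum_pairs_secSum hM o ht hl1, h.sum_cube hM o ht hu (o.mem lam hl1), h2] at h3
  simp only [map_mul, Units.val_mul, Finset.sum_sub_distrib, ← Finset.mul_sum, ← Finset.sum_mul,
    Finset.sum_const, nsmul_eq_mul, mul_one, h2, Finset.card_univ,
    ← Nat.card_eq_fintype_card] at hA hB h3
  have hG := natCard_cast_ne_zero G
  have hL := natCard_cast_ne_zero L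
  have hi : ((C₁((t : G)) : Subgroup G).index : ℂ) ≠ 0 :=
    Nat.cast_ne_zero.2 index_ne_zero_of_finite
  have hz := (ζ lam).apply_one_ne_zero
  have he1 : (1 : ℂ) - (Nat.card 𝐄 : ℂ) ^ 2 ≠ 0 := fun e => by
    have : 1 = Nat.card 𝐄 ^ 2 := by exact_mod_cast sub_eq_zero.1 e
    nlinarith
  have hGL : (Nat.card G : ℂ) = i.range.index * Nat.card L := by
    rw [← i.range.index_mul_card, Nat.card_congr (MonoidHom.ofInjective n.inj).toEquiv,
      Nat.cast_mul]
  have h4 : (δ : ℂ) * i.range.index = ζ lam 1 := by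
    refine mul_left_cancel₀ (mul_ne_zero (mul_ne_zero (pow_ne_zero 2 hL) (pow_ne_zero 2 hi)) he1) ?_
    set A := ∑ l with IsConj (t : G) (i l), ((lam (ρ l) : ℂˣ) : ℂ)
    set B := ((Finset.univ.filter fun l => IsConj (t : G) (i l)).card : ℂ)
    field_simp at h3
    rw [hGL] at hA hB h3
    linear_combination (i.range.index * Nat.card L : ℂ) * h3 + ζ lam 1 *
      ((i.range.index * Nat.card L * A - Nat.card L * (C₁((t : G)) : Subgroup G).index) * hA -
        (i.range.index * Nat.card L * B + Nat.card L * (C₁((t : G)) : Subgroup G).index *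
          Nat.card 𝐄) * hB)
  rw [(ζ lam).apply_one] at h4
  have h5 : δ * i.range.index = charDegree (ζ lam).1 := by exact_mod_cast h4
  have h6 := (ζ lam).charDegree_pos
  obtain rfl : δ = 1 := o.sign.resolve_right fun e => by rw [e] at h5; omega
  have hc := isCharacter_linear (lam.comp ρ)
  have h7 : ∀ ψ : IrrCharacter G, ((if ζ lam = ψ then 1 else 0) - if ψ ∈ X then a ψ else 0 : ℤ) =
      ipNat (ψ.1 ∘ i) (fun l => ((lam.comp ρ l : ℂˣ) : ℂ)) - ipNat (ψ.1 ∘ i) (fun _ => 1) := by
    intro ψ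
    have e := n.ip_secSum h (c := fun u => lam u - 1) (by simp) ψ.isClassFunction
    rw [show secSum P (fun u => lam u - 1) = (ζ lam).1 - ∑ χ ∈ X.toFinite.toFinset,
      (a χ : ℂ) • χ.1 from funext fun g => by simp [h.secSum_eq hM o hl1],
      show (fun u => ((lam u : ℂˣ) : ℂ) - 1) ∘ ρ = (fun l => ((lam.comp ρ l : ℂˣ) : ℂ)) -
        fun _ => 1 from rfl, ip_sub_left, ip_sub_left, ip_sum_left,
      ← hc.ipNat_cast (ψ.isCharacter.comp i),
      ← IsCharacter.ipNat_cast (φ := fun _ => 1) (IrrCharacter.one L).isCharacter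
        (ψ.isCharacter.comp i), ipNat_comm, ipNat_comm fun _ => 1] at e
    simp only [ip_smul_left, IrrCharacter.ip_eq, mul_ite, mul_one, mul_zero, Finset.sum_ite_eq',
      Set.Finite.mem_toFinset] at e
    exact_mod_cast e
  have h8 := h7 (ζ lam)
  have h9 := h7 χ
  have hne : ζ lam ≠ χ := fun e => Set.disjoint_left.1 o.disj hχ (e ▸ o.mem lam hl1)
  rw [if_pos rfl, if_neg (Set.disjoint_right.1 o.disj (o.mem lam hl1))] at h8
  rw [if_neg hne, if_pos hχ] at h9
  have h10 := Finset.add_le_sum (s := Finset.univ) (f := fun ψ : IrrCharacter G =>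
    ipNat (ψ.1 ∘ i) (fun l => ((lam.comp ρ l : ℂˣ) : ℂ)) * charDegree ψ.1)
    (fun _ _ => Nat.zero_le _) (Finset.mem_univ _) (Finset.mem_univ _) hne
  rw [hc.sum_ipNat_mul_charDegree n.inj, show charDegree (fun l => ((lam.comp ρ l : ℂˣ) : ℂ)) = 1
    from IrrCharacter.charDegree_ofLinear _] at h10
  have h11 := χ.charDegree_pos
  have h12 := o.a_ne χ hχ
  have h13 : ipNat (χ.1 ∘ i) (fun l => ((lam.comp ρ l : ℂˣ) : ℂ)) = 0 := by
    by_contra h0
    have := Nat.mul_pos (Nat.pos_of_ne_zero h0) h11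
    have := Nat.le_mul_of_pos_left (charDegree (ζ lam).1)
      (show 0 < ipNat ((ζ lam).1 ∘ i) (fun l => ((lam.comp ρ l : ℂˣ) : ℂ)) by omega)
    omega
  omega

end NilHull

end Cfsg

set_option linter.all false in
theorem Cfsg.Rz.Blk_AbFreeB_0 : True := by
  have := @_root_.Cfsg.NilHull.mk.congr_simp.{0, 0}
  trivial
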