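import Cfsg.Agent.Blk.Red
import Cfsg.Agent.Blk.Sixteen

/-!
# Abelian defect groups with small or free inertial quotient
-/

set_option autoImplicit false
set_option linter.unusedSectionVars false
set_option linter.style.haveILetI false

namespace Cfsg

open MonoidAlgebra GA Subgroup Exc
open scoped ComplexConjugate

universe u v w

local notation "C(" Q ")" => Subgroup.centralizer ((Q : Subgroup _) : Set _)
local notation "N(" Q ")" => Subgroup.normalizer ((Q : Subgroup _) : Set _)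

variable {G : Type u} [Group G] [Finite G] {H : Type v} [Group H] [Finite H] {Q : Type w} [Group Q]
  [Finite Q] {p : ℕ} {M : Ideal AlgInt} {P : Subgroup G} {B : Set (IrrCharacter G)}

theorem card_le_free_quad {ι : Type*} (X : Finset ι) (c a : ι → ℤ) {t m s : ℤ} (ht : 1 ≤ t)
    (hm : m ≠ 0) (ha : ∀ i ∈ X, a i ≠ 0) {N : ℤ} (hN : N = t * ((∑ i ∈ X, c i ^ 2) * ∑ i ∈ X, a i ^ 2 -
      (∑ i ∈ X, c i * a i) ^ 2) + ∑ i ∈ X, (c i * m - s * a i) ^ 2) (h0 : N ≠ 0) : X.card ≤ N := by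
  classical
  have key : ∀ j ∈ X, ∑ i ∈ X, (c i * a j - c j * a i) ^ 2 ≤
      (∑ i ∈ X, c i ^ 2) * ∑ i ∈ X, a i ^ 2 - (∑ i ∈ X, c i * a i) ^ 2 := fun j hj => by
    have h1 := Finset.sum_mul_sq_le_sq_mul_sq (X.erase j) c a
    have h2 : ∑ i ∈ X.erase j, (c i * a j - c j * a i) ^ 2 = a j ^ 2 * ∑ i ∈ X.erase j, c i ^ 2 +
        c j ^ 2 * ∑ i ∈ X.erase j, a i ^ 2 - 2 * c j * a j * ∑ i ∈ X.erase j, c i * a i := by
      simp only [Finset.mul_sum, ← Finset.sum_add_distrib, ← Finset.sum_sub_distrib]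
      exact Finset.sum_congr rfl fun _ _ => by ring
    simp only [← Finset.add_sum_erase X _ hj]
    nlinarith
  by_cases h1 : ∃ j ∈ X, c j * m - s * a j ≠ 0
  · obtain ⟨j, hj, h1⟩ := h1
    have h2 := key j hj
    have h3 := Finset.sum_nonneg (s := X) fun i _ => sq_nonneg (c i * a j - c j * a i)
    have h4 := Finset.card_nsmul_le_sum X
      (fun i => (c i * a j - c j * a i) ^ 2 + (c i * m - s * a i) ^ 2) 1 fun i hi => by
        by_cases h : c i * m - s * a i = 0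
        · have : c i * a j - c j * a i ≠ 0 := fun e => mul_ne_zero (ha i hi) h1 (by
            linear_combination a j * h - m * e)
          have := sq_pos_of_ne_zero this
          simp only [h]; omega
        · have := sq_pos_of_ne_zero h
          have := sq_nonneg (c i * a j - c j * a i)
          omega
    rw [Finset.sum_add_distrib, nsmul_eq_mul, mul_one] at h4
    nlinarith
  · push Not at h1
    refine absurd (mul_left_cancel₀ (pow_ne_zero 2 hm) ?_) h0
    have h2 : ∀ i ∈ X, m * c i = s * a i := fun i hi => by linear_combination h1 i hi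
    have h3 : m ^ 2 * ∑ i ∈ X, c i ^ 2 = s ^ 2 * ∑ i ∈ X, a i ^ 2 := by
      simp only [Finset.mul_sum, ← mul_pow]
      exact Finset.sum_congr rfl fun i hi => by rw [h2 i hi]
    have h4 : m * ∑ i ∈ X, c i * a i = s * ∑ i ∈ X, a i ^ 2 := by
      simp only [Finset.mul_sum]
      exact Finset.sum_congr rfl fun i hi => by rw [← mul_assoc, h2 i hi]; ring
    rw [hN, Finset.sum_eq_zero (f := fun i => (c i * m - s * a i) ^ 2) fun i hi => by rw [h1 i hi]; rfl]
    linear_combination t * (∑ i ∈ X, a i ^ 2) * h3 -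
      t * (m * ∑ i ∈ X, c i * a i + s * ∑ i ∈ X, a i ^ 2) * h4

theorem ExcOut.blockRank_le_ip' {A : Type w} [Group A] [Fintype A] {X Y : Set (IrrCharacter G)}
    {E : Subgroup (MulAut A)} {S : A → G → ℂ} {δ d : ℤ} {ζ : (A →* ℂˣ) → IrrCharacter G}
    {a : IrrCharacter G → ℤ} (o : ExcOut p B E S X Y δ d ζ a) (h : ExcSys p M B E S) {η : G → ℂ}
    (hη : η ∈ regLat p B) (h0 : η ≠ 0) : (blockRank p B : ℝ) ≤ (Nat.card A * ip η η).re := by
  classical
  obtain ⟨θ, h1, h2, rfl⟩ := mem_regLat_iff.1 hη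
  choose c hc using fun χ : IrrCharacter G => h1.exists_ip_eq_int χ.isCharacter.isGen
  obtain ⟨ψ₀, hψ₀⟩ := o.Y_nonempty h
  obtain ⟨t, ht⟩ : ∃ t : ℤ, t = (Nat.card Y : ℕ) := ⟨_, rfl⟩
  have ht1 : 1 ≤ t := by
    rw [ht]; exact_mod_cast Nat.card_pos_iff.2 ⟨⟨⟨ψ₀, hψ₀⟩⟩, (inferInstance : Finite Y)⟩
  have ht0 : (t : ℂ) ≠ 0 := Int.cast_ne_zero.2 (by omega)
  have htc : ((Finset.univ.filter (· ∈ Y)).card : ℂ) = t := by rw [ht, natCard_eq_card_filter]; simp
  obtain ⟨m, hm⟩ : ∃ m : ℤ, m = t * d - δ := ⟨_, rfl⟩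
  obtain ⟨s, hs⟩ : ∃ s : ℤ, s = ∑ χ with χ ∈ Y, c χ := ⟨_, rfl⟩
  have hY : ∀ u, u ≠ 1 → ∑ χ with χ ∈ Y, excDec S χ.1 u = m := fun u hu => by
    rw [← finsum_mem_irr_eq_sum, o.sumY u hu, hm, ht]; simp
  have hm0 : m ≠ 0 := fun e => by
    obtain ⟨u, hu, h3⟩ := h.exists_dec_ne_zero (o.Y_subset hψ₀)
    have h4 : t = 1 := by
      have := Int.eq_one_or_neg_one_of_mul_eq_one (u := t) (v := d * δ) (by
        linear_combination δ * e - δ * hm + o.sq)
      omega
    have h5 := hY u hu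
    obtain ⟨ψ, hψ⟩ := Finset.card_eq_one.1 (by rw [h4] at htc; exact_mod_cast htc :
      (Finset.univ.filter (· ∈ Y)).card = 1)
    rw [hψ, Finset.sum_singleton, ← Finset.mem_singleton.1 (hψ ▸ by simpa : ψ₀ ∈ ({ψ} : Finset _)),
      e] at h5
    exact h3 (by simpa using h5)
  have hA : (Nat.card A : ℤ) = t * ∑ χ with χ ∈ X, a χ ^ 2 + m ^ 2 := by
    have h3 := o.norm
    have h4 : (Nat.card E : ℤ) * t + 1 = Nat.card A := by rw [ht]; exact_mod_cast o.cardY
    rw [finsum_mem_irr_eq_sum, ← ht] at h3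
    rw [hm]
    linear_combination -h4 - t * h3 + (t - 1) * o.sq
  have hA0 := natCard_cast_ne_zero A
  have hA' : (Nat.card A : ℂ) = t * ∑ χ with χ ∈ X, (a χ : ℂ) ^ 2 + m ^ 2 := by exact_mod_cast hA
  let F : (IrrCharacter G → ℂ) → ℂ → G → ℂ := fun k y =>
    ∑ χ with χ ∈ X, k χ • χ.1 + ∑ χ with χ ∈ Y, y • χ.1
  have hcf : ∀ k y, IsClassFunction G (F k y) := fun k y =>
    (IsClassFunction.sum fun χ _ => χ.isClassFunction.smul _).add
      (IsClassFunction.sum fun χ _ => χ.isClassFunction.smul _)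
  have hbp : ∀ k y, blockPart B (F k y) = F k y := fun k y => by
    rw [blockPart_add, blockPart_sum, blockPart_sum]
    congr 1 <;> refine Finset.sum_congr rfl fun χ hχ => ?_
    · rw [blockPart_smul, blockPart_irr_of_mem (o.X_subset (Finset.mem_filter.1 hχ).2)]
    · rw [blockPart_smul, blockPart_irr_of_mem (o.Y_subset (Finset.mem_filter.1 hχ).2)]
  have hd : ∀ k y u, u ≠ 1 → excDec S (F k y) u = ∑ χ with χ ∈ X, k χ * a χ + y * m :=
    fun k y u hu => by
    simp only [F, excDec_add, excDec_sum, excDec_smul, ← Finset.mul_sum, hY u hu]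
    rw [Finset.sum_congr rfl fun χ hχ => by rw [o.nonexc χ (Finset.mem_filter.1 hχ).2 u hu]]
  have hr : ∀ k y g, IsPRegular p g → F k y g = ∑ χ with χ ∈ X, k χ * χ g + y * t * ψ₀ g :=
    fun k y g hg => by
    simp only [F, Pi.add_apply, Finset.sum_apply, Pi.smul_apply, smul_eq_mul]
    rw [Finset.sum_congr (s₁ := Finset.univ.filter (· ∈ Y)) rfl fun χ hχ => by
      rw [show χ.1 g = ψ₀ g from o.reg_eq χ (Finset.mem_filter.1 hχ).2 ψ₀ hψ₀ g hg],
      Finset.sum_const, nsmul_eq_mul, htc]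
    ring
  have hip : ∀ k y k' y', ip (F k y) (F k' y') =
      ∑ χ with χ ∈ X, k χ * conj (k' χ) + t * (y * conj y') := fun k y k' y' => by
    simp only [F, ip_add_left, ip_add_right]
    rw [ip_sum_smul_irr_sum, ip_sum_smul_irr_sum (a := fun _ => y), ip_sum_smul_irr_sum (b := fun _ => y'),
      ip_sum_smul_irr_sum (a := fun _ => y) (b := fun _ => y'), Finset.filter_mem_eq_inter,
      Finset.inter_self, Finset.filter_false_of_mem fun χ h h' => Set.disjoint_left.1 o.disj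
        (Finset.mem_filter.1 h').2 (Finset.mem_filter.1 h).2, Finset.filter_false_of_mem
        fun χ h h' => Set.disjoint_left.1 o.disj (Finset.mem_filter.1 h).2 (Finset.mem_filter.1 h').2,
      Finset.filter_mem_eq_inter, Finset.inter_self]
    simp [htc]
  obtain ⟨κ, hκ⟩ : ∃ κ : ℂ, κ = (∑ χ with χ ∈ X, c χ * a χ + s / t * m) / Nat.card A := ⟨_, rfl⟩
  have h3 : pRegularPart p θ = F (fun χ => c χ - κ * t * a χ) (s / t - κ * m) := by
    refine Eq.trans ?_ (pRegularPart_eq_self_iff.2 fun g hg =>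
      h.vanish_of_dec (hcf _ _) (hbp _ _) (fun u hu => ?_) hg)
    · refine pRegularPart_eq_iff.2 fun g hg => ?_
      have h3 := o.reg_rel ψ₀ hψ₀ g hg
      rw [finsum_mem_irr_eq_sum, ← Int.cast_natCast, ← ht] at h3
      rw [hr _ _ g hg, ← h2, blockPart_eq, o.union, finsum_mem_union o.disj (Set.toFinite _)
        (Set.toFinite _), finsum_mem_irr_eq_sum, finsum_mem_irr_eq_sum, Finset.sum_congr
        (s₁ := Finset.univ.filter (· ∈ Y)) rfl fun χ hχ => by
          rw [show χ.1 g = ψ₀ g from o.reg_eq χ (Finset.mem_filter.1 hχ).2 ψ₀ hψ₀ g hg]]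
      simp only [hc, sub_mul, Finset.sum_sub_distrib, mul_assoc κ, mul_assoc (t : ℂ), ← Finset.mul_sum,
        ← Finset.sum_mul, ← Int.cast_sum, ← hs, div_mul_cancel₀ _ ht0, hm]
      push_cast
      linear_combination κ * t * h3
    · simp only [hd _ _ u hu, sub_mul, Finset.sum_sub_distrib, mul_assoc κ, mul_assoc (t : ℂ),
        ← Finset.mul_sum]
      rw [eq_div_iff hA0] at hκ
      simp only [pow_two] at hA'
      push_cast at hκ
      linear_combination κ * hA' - hκ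
  obtain ⟨N, hN⟩ : ∃ N : ℤ, N = t * ((∑ χ with χ ∈ X, c χ ^ 2) * ∑ χ with χ ∈ X, a χ ^ 2 -
      (∑ χ with χ ∈ X, c χ * a χ) ^ 2) + ∑ χ with χ ∈ X, (c χ * m - s * a χ) ^ 2 := ⟨_, rfl⟩
  have h4 : Nat.card A * ip (pRegularPart p θ) (pRegularPart p θ) = N := by
    have h5 : conj κ = κ := by simp [hκ]
    have h6 : ∑ χ with χ ∈ X, (c χ * m - s * a χ) ^ 2 = m ^ 2 * ∑ χ with χ ∈ X, c χ ^ 2 -
        2 * m * s * ∑ χ with χ ∈ X, c χ * a χ + s ^ 2 * ∑ χ with χ ∈ X, a χ ^ 2 := by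
      simp only [Finset.mul_sum, ← Finset.sum_add_distrib, ← Finset.sum_sub_distrib]
      exact Finset.sum_congr rfl fun _ _ => by ring
    have h7 : ∑ χ with χ ∈ X, (c χ - κ * t * a χ) * conj (c χ - κ * t * a χ) =
        ∑ χ with χ ∈ X, (c χ : ℂ) ^ 2 - 2 * κ * t * ∑ χ with χ ∈ X, (c χ : ℂ) * a χ +
          (κ * t) ^ 2 * ∑ χ with χ ∈ X, (a χ : ℂ) ^ 2 := by
      simp only [Finset.mul_sum, ← Finset.sum_add_distrib, ← Finset.sum_sub_distrib, map_sub, map_mul,
        map_intCast, h5]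
      exact Finset.sum_congr rfl fun _ _ => by ring
    rw [h3, hip, h7, hN, h6]
    simp only [map_sub, map_mul, map_intCast, h5, map_div₀]
    push_cast at hκ ⊢
    rw [eq_div_iff hA0] at hκ
    generalize ∑ χ with χ ∈ X, (c χ : ℂ) ^ 2 = c2, ∑ χ with χ ∈ X, (a χ : ℂ) ^ 2 = a2,
      ∑ χ with χ ∈ X, (c χ : ℂ) * a χ = ca at *
    obtain ⟨y, hy⟩ : ∃ y : ℂ, s = y * t := ⟨s / t, by field_simp⟩
    rw [hy, mul_div_cancel_right₀ _ ht0] at hκ ⊢
    linear_combination (c2 + t * y ^ 2 - κ ^ 2 * t * Nat.card A) * hA' +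
      t * (κ * Nat.card A - ca - y * m) * hκ
  rw [h4, Complex.intCast_re, o.rank, natCard_eq_card_filter X]
  refine mod_cast card_le_free_quad _ c a ht1 hm0 (fun i hi => o.a_ne i (Finset.mem_filter.1 hi).2) hN
    fun e => h0 (eq_zero_of_ip_self_re ?_)
  rw [e, Int.cast_zero, mul_eq_zero, or_iff_right hA0] at h4
  rw [h4, Complex.zero_re]

theorem aut_eq_one_of_coprime {A : Type w} [Group A] {σ : MulAut A} {K : Subgroup A} {n : ℕ}
    (hσ : σ ^ n = 1) (hn : (Nat.card K).Coprime n) (h1 : ∀ k ∈ K, σ k = k)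
    (h2 : ∀ a, a⁻¹ * σ a ∈ K) : σ = 1 := MulEquiv.ext fun a => by
  have h3 : ∀ j : ℕ, (σ ^ j) a = a * (a⁻¹ * σ a) ^ j := fun j => by
    induction j with
    | zero => simp
    | succ j ih => rw [pow_succ', MulAut.mul_apply, ih, map_mul, h1 _ (pow_mem (h2 a) j), pow_succ',
        ← mul_assoc, mul_inv_cancel_left]
  have h4 := h3 n
  rw [hσ, MulAut.one_apply, left_eq_mul] at h4
  have h5 : (⟨_, h2 a⟩ : K) = 1 := by
    rw [← orderOf_eq_one_iff, ← Nat.dvd_one, ← hn]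
    exact Nat.dvd_gcd (orderOf_dvd_natCard _) (orderOf_dvd_of_pow_eq_one (Subtype.ext h4))
  exact (inv_mul_eq_one.1 (congrArg Subtype.val h5)).symm

variable [Fact p.Prime] [CharP (ResK M) p] {e : (ResK M)[G]}

theorem GA.IsMaxPair.not_dvd_card_iAut (hM : IsPModular p M) {b : (ResK M)[G]}
    (hP : IsMaxPair p b P e) (hab : P ≤ C(P)) : ¬ p ∣ Nat.card (iAut P e) := by
  rw [iAut, card_autOf_subtype inf_le_left]
  exact hP.not_dvd_relIndex_stab hM hab

theorem GA.IsMaxPair.exists_excSys_of_free [Fintype P] (hM : IsPModular p M) (hB : IsPBlock M B)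
    (hP : IsMaxPair p (blockIdem M B) P e) (hab : P ≤ C(P)) (hP1 : P ≠ ⊥) (hf : IsFree (iAut P e)) :
    ∃ S, ExcSys p M B (iAut P e) S := by
  refine (hP.exists_excSys hM hB hab hP1 (fun g hg x hx h1 h2 => ?_) (j := P.subtype)
    (MulEquiv.refl P) fun _ => rfl).imp fun _ h => h.1
  obtain ⟨σ, h3, h4⟩ := exists_mem_iAut hg
  have := hf σ h3 ⟨x, hx⟩ (by simpa using h1) (Subtype.ext ((h4 _).trans h2))
  exact mem_centralizer_sub_conj'.2 fun a ha => (h4 ⟨a, ha⟩).symm.trans (by simp [this])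

theorem GA.IsMaxPair.blockRank_of_bot (hM : IsPModular p M) (hB : IsPBlock M B)
    (hP : IsMaxPair p (blockIdem M B) P e) (h : P = ⊥) : blockRank p B = 1 := by
  have h1 := ((hB.isDefectGroup_iff hM _).2 hP.defect).card_eq hB hM
  rw [h, card_bot, eq_comm, Nat.pow_eq_one, or_iff_right hM.prime.ne_one] at h1
  exact hB.blockRank_eq_one_of_defect_zero hM h1

theorem GA.IsMaxPair.blockRank_le_of_free (hM : IsPModular p M) (hB : IsPBlock M B)
    (hP : IsMaxPair p (blockIdem M B) P e) (hab : P ≤ C(P)) (hf : IsFree (iAut P e)) {η : G → ℂ}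
    (hη : η ∈ regLat p B) (h0 : η ≠ 0) : (blockRank p B : ℝ) ≤ (Nat.card P * ip η η).re := by
  by_cases h : P = ⊥
  · obtain ⟨n, hn, hn'⟩ := regLat_exists_nat hη
    rw [hP.blockRank_of_bot hM hB h, ((hB.isDefectGroup_iff hM _).2 hP.defect).card_eq hB hM,
      Nat.cast_pow, hn, Complex.natCast_re]
    exact_mod_cast hn' h0
  letI := Fintype.ofFinite P
  obtain ⟨S, hS⟩ := hP.exists_excSys_of_free hM hB hab h hf
  obtain ⟨X, Y, δ, d, ζ, a, o⟩ := hS.exists_out
  exact o.blockRank_le_ip' hS hη h0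

namespace Red

variable {u : G} {f : H →* G} {π : H →* Q} {b : Set (IrrCharacter H)} {s : (ResK M)[H]}
  {P' : Subgroup Q} {ρ : P →* P'} {c : Set (IrrCharacter Q)} {e' : (ResK M)[Q]}
  (h : Red p M P B e u f π b s P' ρ c e')
include h

theorem card_le_of_free (hab : P' ≤ C(P')) (hf : IsFree (iAut P' e')) : Nat.card B ≤ Nat.card P :=
  h.card_le_of_min fun _ => h.max.blockRank_le_of_free h.modular h.block hab hf

theorem comm (hab : P ≤ C(P)) : P' ≤ C(P') := fun x hx y hy => by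
  obtain ⟨a, ha⟩ := h.surj ⟨x, hx⟩
  obtain ⟨b, hb⟩ := h.surj ⟨y, hy⟩
  have := congrArg (fun z => (ρ z : Q)) (show b * a = a * b from Subtype.ext (hab a.2 b b.2))
  simpa [ha, hb] using this

theorem eq_one_of_apply (hab : P ≤ C(P)) {σ : MulAut P} (hσ : σ ∈ iAut P e)
    (h1 : σ ⟨u, h.mem⟩ = ⟨u, h.mem⟩) (h2 : ∀ x, ρ (σ x) = ρ x) : σ = 1 := by
  refine aut_eq_one_of_coprime (K := ρ.ker) (n := Nat.card (iAut P e))
    (congrArg Subtype.val (pow_card_eq_one' (x := (⟨σ, hσ⟩ : iAut P e))))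
    (IsPGroup.coprime_card_of_not_dvd (h.hP.pair.isPGroup.to_subgroup _)
      (h.hP.not_dvd_card_iAut h.modular hab)) (fun k hk => ?_) fun a => by simp [h2]
  obtain ⟨n, hn⟩ := h.eq_one_iff.1 hk
  rw [show k = ⟨u, h.mem⟩ ^ n from Subtype.ext hn.symm, map_zpow, h1]

theorem card_iAut (hab : P ≤ C(P)) : Nat.card (iAut P' e') =
    Nat.card (iAut P e ⊓ MulAction.stabilizer (MulAut P) (⟨u, h.mem⟩ : P) : Subgroup _) := by
  choose F h1 h2 using fun σ : (iAut P e ⊓ MulAction.stabilizer (MulAut P) (⟨u, h.mem⟩ : P) :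
    Subgroup _) => h.fwd_iAut σ.2.1 σ.2.2
  refine (Nat.card_eq_of_bijective (fun σ => (⟨F σ, h1 σ⟩ : iAut P' e')) ⟨fun σ τ e => ?_,
    fun σ' => ?_⟩).symm
  · rw [← mul_inv_eq_one]
    refine Subtype.ext (h.eq_one_of_apply hab (σ * τ⁻¹).2.1 (σ * τ⁻¹).2.2 fun x => ?_)
    have := h2 τ (τ.1⁻¹ x)
    rw [← show F σ = F τ from congrArg Subtype.val e, h2] at this
    simpa using this
  · obtain ⟨σ, h3, h4, h5⟩ := h.bwd_iAut σ'.2
    exact ⟨⟨σ, h3, h4⟩, Subtype.ext (MulEquiv.ext fun x => by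
      obtain ⟨x, rfl⟩ := h.surj x
      exact (h2 _ x).trans (h5 x).symm)⟩

theorem card_lt (hu : u ≠ 1) : Nat.card P' < Nat.card P := by
  rw [← h.card_mul]
  exact lt_mul_of_one_lt_right Nat.card_pos
    (lt_of_le_of_ne (orderOf_pos u) fun e => hu (orderOf_eq_one_iff.1 e.symm))

end Red

/-- Abelian defect group with inertial index at most three. -/
theorem GA.IsMaxPair.blockRank_eq_card_iAut (hM : IsPModular p M) (hB : IsPBlock M B)
    (hP : IsMaxPair p (blockIdem M B) P e) (hab : P ≤ C(P)) (h3 : Nat.card (iAut P e) ≤ 3) :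
    blockRank p B = Nat.card (iAut P e) := by
  induction hn : Nat.card P using Nat.strong_induction_on generalizing G with | _ n ih => ?_
  by_cases h : P = ⊥
  · haveI : Subsingleton P := by rw [h]; infer_instance
    rw [hP.blockRank_of_bot hM hB h, eq_comm, Nat.card_eq_one_iff_unique]
    exact ⟨⟨fun σ τ => Subtype.ext (MulEquiv.ext fun _ => Subsingleton.elim _ _)⟩, ⟨1⟩⟩
  letI := Fintype.ofFinite P
  by_cases hf : IsFree (iAut P e)
  · obtain ⟨S, hS⟩ := hP.exists_excSys_of_free hM hB hab h hf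
    exact hP.blockRank_eq_of_le_three hM hB (j := P.subtype) (MulEquiv.refl P) (fun _ => rfl) hS h3
  have h1 : (Nat.card (iAut P e)).Prime := by
    have h0 : 0 < Nat.card (iAut P e) := Nat.card_pos
    have h1 : Nat.card (iAut P e) ≠ 1 := fun h1 => hf fun σ hσ _ _ _ => by
      rwa [card_eq_one.1 h1] at hσ
    interval_cases Nat.card (iAut P e) <;> simp_all [Nat.prime_two, Nat.prime_three]
  obtain ⟨u, hu, h2⟩ : ∃ u : P, (∀ σ ∈ iAut P e, σ u = u) ∧ u ≠ 1 := by
    by_contra! h2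
    exact hf (isFree_of_prime_card h1 h2)
  obtain ⟨H, _, _, Q, _, _, f, π, b, s, P', ρ, c, e', r⟩ :=
    hM.exists_red hB hP u.2 (le_centralizer_zpowers_of_comm hab u.2)
  have h4 := r.card_iAut hab
  rw [inf_eq_left.2 fun σ hσ => hu σ hσ] at h4
  rw [← h4, ← ih _ (hn ▸ r.card_lt (by simpa using h2)) r.block r.max (r.comm hab) (h4 ▸ h3) rfl,
    r.rank₁]
  refine (r.loc.watanabe hM hB hP hab fun g hg => ?_).1
  obtain ⟨σ, h5, h6⟩ := exists_mem_iAut hg
  rw [← h6, hu σ h5]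

theorem GA.IsMaxPair.lrk_eq_card_stab (hM : IsPModular p M) (hB : IsPBlock M B)
    (hP : IsMaxPair p (blockIdem M B) P e) (hab : P ≤ C(P)) (u : P)
    (h3 : Nat.card (iAut P e ⊓ MulAction.stabilizer (MulAut P) u : Subgroup _) ≤ 3) :
    lrk p M P e (zpowers (u : G)) =
      Nat.card (iAut P e ⊓ MulAction.stabilizer (MulAut P) u : Subgroup _) := by
  obtain ⟨H, _, _, Q, _, _, f, π, b, s, P', ρ, c, e', r⟩ :=
    hM.exists_red hB hP u.2 (le_centralizer_zpowers_of_comm hab u.2)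
  rw [← r.rank, ← r.card_iAut hab,
    r.max.blockRank_eq_card_iAut hM r.block (r.comm hab) (r.card_iAut hab ▸ h3)]

end Cfsg
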