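import Cfsg.Agent.Blk.AbFreeB
import Cfsg.Agent.Blk.FreeMin
import Cfsg.Agent.SF.Abel
import Cfsg.Agent.FT.Main

/-!
# Principal `2`-blocks with abelian defect group and prime inertial index
-/

set_option autoImplicit false
set_option linter.unusedSectionVars false
set_option linter.unusedVariables false
set_option linter.style.haveILetI false

namespace Cfsg

open Exc Subgroup
open scoped ComplexConjugate Classical

universe u v w

variable {G : Type u} [Group G] [Finite G] {M : Ideal AlgInt}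

local notation "C₁(" u ")" => Subgroup.centralizer ({u} : Set _)
local notation "C(" Q ")" => Subgroup.centralizer ((Q : Subgroup G) : Set G)
local notation "N(" Q ")" => Subgroup.normalizer ((Q : Subgroup G) : Set G)

theorem isSolvable_of_not_two_dvd (h : ¬ 2 ∣ Nat.card G) : Group.IsSolvable G :=
  Agent.FT.oddOrder (by rwa [← Nat.not_even_iff_odd, even_iff_two_dvd])

theorem HasNormalPComplement.isSolvable_two (h : HasNormalPComplement 2 G) :
    Group.IsSolvable G := by
  obtain ⟨K, hK, h1, k, h2⟩ := hasNormalPComplement_iff.1 h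
  haveI := isSolvable_of_not_two_dvd h1
  haveI := isSolvable_of_isPGroup (isPGroup_quotient_iff_index.2 ⟨k, h2⟩)
  exact Group.isSolvable_of_ker_le_range K.subtype (QuotientGroup.mk' K) (by simp)

theorem conj_eq_of_coprime_normalizer {p : ℕ} [Fact p.Prime] {P W : Subgroup G}
    (hP : IsPGroup p P) (hW : ¬ p ∣ Nat.card W) (hn : P ≤ N(W)) {w x : G} (hw : w ∈ W)
    (hx : x ∈ P) (h : w * x * w⁻¹ ∈ P) : w * x * w⁻¹ = x := by
  have h1 : w * x * w⁻¹ * x⁻¹ ∈ W := by
    have := mul_mem hw ((mem_normalizer_iff.1 (hn hx) _).1 (inv_mem hw))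
    simpa only [mul_assoc] using this
  exact mul_inv_eq_one.1 ((isPElt_of_mem hP (mul_mem h (inv_mem hx))).eq_one_of_isPRegular
    (isPRegular_of_mem_of_not_dvd hW h1))

theorem conj_eq_of_mem_sup_centralizer {p : ℕ} [Fact p.Prime] {P W : Subgroup G}
    (hP : IsPGroup p P) (hW : ¬ p ∣ Nat.card W) (hn : N(P) ≤ N(W)) {g x : G}
    (hg : g ∈ W ⊔ C(P)) (hx : x ∈ P) (h : g * x * g⁻¹ ∈ P) : g * x * g⁻¹ = x := by
  obtain ⟨w, hw, c, hc, rfl⟩ := (mem_sup_of_le_normalizer'
    ((centralizer_le_normalizer _).trans hn)).1 hg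
  rw [show w * c * x * (w * c)⁻¹ = w * (c * x * c⁻¹) * w⁻¹ by group,
    mul_inv_eq_iff_eq_mul.2 (hc x hx).symm] at h ⊢
  exact conj_eq_of_coprime_normalizer hP hW (le_normalizer.trans hn) hw hx h

namespace AbFree

variable {P : Sylow 2 G}

local notation "𝐄" => autOf (Subgroup.subtype (P : Subgroup G)) N(P)
local notation "𝐒" => fun u : (P : Subgroup G) => secOne 2 (u : G)

theorem isMulCommutative (h : AbFree P) : IsMulCommutative (P : Subgroup G) := ⟨⟨h.mul_comm'⟩⟩

theorem exists_nilHull (h : AbFree P) (hr : 3 ≤ Agent.FT.rP 2 (P : Subgroup G)) :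
    ∃ (L : Subgroup G) (j : (P : Subgroup G) →* L) (ρ : L →* (P : Subgroup G)),
      NilHull P L.subtype j ρ := by
  obtain ⟨W, -, -, hW, hn, hQ⟩ := Agent.SF.exists_abelian_core (Agent.FT.isSylowOf_sylow P)
    h.isMulCommutative hr (fun x hx => (hasNormalPComplement_centralizer_of_free P
      (fun y hy => mem_centralizer_singleton_iff.2 (h.comm hy x hx.1).symm)
      (h.free x hx.1 hx.2)).isSolvable_two) fun x _ => by
      rw [← Nat.not_even_iff_odd, even_iff_two_dvd]; exact Agent.FT.not_dvd_piCoreOf 2 _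
  have hle : (P : Subgroup G) ≤ W ⊔ C(P) := h.comm.trans le_sup_right
  have hL : HasNormalPComplement 2 (W ⊔ C(P) : Subgroup G) :=
    hasNormalPComplement_of_fusion (P.subtype hle) fun x hx g hg => ⟨1, one_mem _, Subtype.ext (by
      simpa using (conj_eq_of_mem_sup_centralizer P.isPGroup' hW hn g.2 hx hg).symm)⟩
  obtain ⟨π, h1, h2, -, h3⟩ := hL.exists_proj P.isPGroup' hle fun e =>
    P.not_dvd_index (e.trans (relIndex_dvd_index_of_le hle))
  refine ⟨_, inclusion hle, π.codRestrict _ h1, subtype_injective _, fun _ => rfl,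
    fun u => Subtype.ext (h2 _ u.2), fun l => ?_, fun u hu g hg => ?_⟩
  · obtain ⟨x, hx, e⟩ := h3 l
    exact isConj_iff.2 ⟨⟨x, hx⟩, Subtype.ext (by simpa [coe_pPart] using e)⟩
  · rw [range_subtype]
    have hu' : (u : G) ≠ 1 := fun e => hu (Subtype.ext e)
    obtain ⟨w, hw, n, hn', rfl⟩ := (mem_sup_of_le_normalizer' hn).1 (hQ (zpowers (u : G))
      (zpowers_le.2 u.2) (by simpa using hu') (Agent.FT.cent1_le_norm_zpowers _ hg))
    have e1 : w * (n * u * n⁻¹) * w⁻¹ = u := by
      refine .trans ?_ (mul_inv_eq_iff_eq_mul.2 (mem_centralizer_singleton_iff.1 hg)); group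
    have e2 := conj_eq_of_coprime_normalizer P.isPGroup' hW (le_normalizer.trans hn) hw
      ((mem_normalizer_iff.1 hn' _).1 u.2) (e1.symm ▸ u.2)
    exact mul_mem_sup hw (h.free _ u.2 hu' ⟨mem_centralizer_singleton_iff.2
      (mul_inv_eq_iff_eq_mul.1 (e2.symm.trans e1)), hn'⟩)

variable [Fintype P] {X Y : Set (IrrCharacter G)} {δ d : ℤ}
  {ζ : ((P : Subgroup G) →* ℂˣ) → IrrCharacter G} {a : IrrCharacter G → ℤ}

theorem apply_one_eq (h : AbFree P) (hM : IsPModular 2 M)
    (o : ExcOut 2 (principalBlock M G) 𝐄 𝐒 X Y δ d ζ a) (he : Nat.card 𝐄 + 1 < Nat.card P)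
    (he1 : 1 < Nat.card 𝐄) {χ : IrrCharacter G} (hχ : χ ∈ X) : χ 1 = a χ := by
  have := Fintype.ofFinite G
  have := Fintype.ofFinite 𝐄
  have hP1 : (P : Subgroup G) ≠ ⊥ := fun e => by simp [e] at he
  have hS := excSys_principal hM h.comm hP1 h.free
  obtain ⟨t, ht⟩ := exists_prime_orderOf_dvd_card' 2 hS.dvd_card
  rw [← orderOf_coe] at ht
  by_cases hone : ∀ s : G, orderOf s = 2 → IsConj (t : G) s
  swap
  · push Not at hone
    obtain ⟨s, hs, hst⟩ := hone
    exact h.apply_one_of_not_isConj hM o ht hs hst hχ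
  obtain ⟨hu, h1⟩ := h.sq_le_card ht hone he
  obtain rfl := h.d_eq_zero hM o he h1
  obtain ⟨h2, h3⟩ := h.mem_X hM o he hM.one_mem_principalBlock fun _ _ => rfl
  have h4 := h.sum_mul_sum hM o ht hu
  have h5 := sum_sq o
  rw [χ.apply_one, ← Int.cast_natCast, Int.cast_inj]
  by_cases hr : 3 ≤ Agent.FT.rP 2 (P : Subgroup G)
  · obtain ⟨L, j, ρ, n⟩ := h.exists_nilHull hr
    have := Fintype.ofFinite L
    exact eq_of_sum_mul_sum_of_pos (x := fun χ => charDegree χ.1) (fun χ => χ.charDegree_pos)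
      (fun χ hχ => n.a_pos h hM o ht hone hu he1 (X.toFinite.mem_toFinset.1 hχ))
      (by rw [h4]; congr 1; exact_mod_cast h5.symm) (X.toFinite.mem_toFinset.2 h2) h3
      (by simp) (X.toFinite.mem_toFinset.2 hχ)
  have hΩ := Agent.FT.isPElem_omegaOne (p := 2) h.isMulCommutative
  have h6 : Nat.card (omegaOne 2 (P : Subgroup G)) = Nat.card 𝐄 + 1 := by
    have := h.sum_omega ht hone fun _ => 1
    simp only [Finset.sum_const, smul_eq_mul, mul_one, Finset.card_univ] at this
    rw [Nat.card_eq_fintype_card (α := 𝐄), add_comm, ← this, ← Fintype.card_subtype,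
      ← Nat.card_eq_fintype_card]
    exact Nat.card_congr ⟨fun x => ⟨⟨x.1, hΩ.le x.2⟩, Subtype.ext (by
      simpa [pow_two] using hΩ.elem.2 x.1 x.2)⟩, fun x => ⟨x.1.1, Agent.FT.mem_omegaOne x.1.2 (by
        simpa [pow_two] using congrArg Subtype.val x.2)⟩, fun _ => rfl, fun _ => rfl⟩
  have h7 : Nat.card 𝐄 = 3 := by
    rw [hΩ.card] at h6
    generalize Agent.FT.rP 2 (P : Subgroup G) = r at hr h6
    have : r ≤ 2 := by omega
    interval_cases r <;> omega
  rw [h7] at h1 h4 h5
  refine eq_of_sum_mul_sum_of_three (x := fun χ => charDegree χ.1) (fun χ => χ.charDegree_pos)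
    (fun χ hχ => o.a_ne χ (X.toFinite.mem_toFinset.1 hχ)) (fun χ hχ => ?_) (by rw [h4]; norm_num)
    h5 (X.toFinite.mem_toFinset.2 h2) h3 (by simp) (X.toFinite.mem_toFinset.2 hχ)
  have h8 := o.pow_dvd_X hS (X.toFinite.mem_toFinset.1 hχ) h2
  rw [P.card_eq_multiplicity] at h1
  have h9 : 2 ≤ (Nat.card G).factorization 2 :=
    (Nat.pow_le_pow_iff_right (a := 2) (by norm_num)).1 (by omega)
  simpa [h3] using (pow_dvd_pow 2 h9).trans h8

theorem isSolvable (h : AbFree P) (hM : IsPModular 2 M)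
    (o : ExcOut 2 (principalBlock M G) 𝐄 𝐒 X Y δ d ζ a) (he : Nat.card 𝐄 + 1 < Nat.card P)
    (he1 : 1 < Nat.card 𝐄) : Group.IsSolvable G := by
  set K := normalClosure ((P : Subgroup G) : Set G)
  have h1 : HasNormalPComplement 2 K := by
    refine hasNormalPComplement_iff.2 ⟨(pPrimeCore 2 G).subgroupOf K, inferInstance, fun e =>
      not_dvd_card_pPrimeCore 2 G (e.trans (card_comap_dvd_of_injective _ _ (subtype_injective _))),
      exists_index_eq_of_pow_mem fun x => ?_⟩
    obtain ⟨n, hn⟩ := isPElt_iff_pow_eq_one.1 (isPElt_pPart (p := 2) x)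
    refine ⟨n, h.mem_pPrimeCore hM o he (fun χ hχ => h.apply_one_eq hM o he he1 hχ)
      (x ^ 2 ^ n).2 (IsPRegular.map ?_ _)⟩
    rw [← pPart_mul_pPrimePart (p := 2) x, (commute_pPart_pPrimePart (p := 2) x).mul_pow, hn, one_mul]
    exact (isPRegular_pPrimePart (p := 2) x).pow _
  haveI := h1.isSolvable_two
  haveI := isSolvable_of_not_two_dvd (G := G ⧸ K) fun e =>
    P.not_dvd_index (e.trans (index_dvd_of_le le_normalClosure))
  exact Group.isSolvable_of_ker_le_range K.subtype (QuotientGroup.mk' K) (by simp)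

theorem le_card_X (h : AbFree P) (hM : IsPModular 2 M)
    (o : ExcOut 2 (principalBlock M G) 𝐄 𝐒 X Y δ d ζ a) (he : Nat.card 𝐄 + 1 < Nat.card P)
    (hp : (Nat.card 𝐄).Prime) (hs : Group.IsSolvable G) : Nat.card 𝐄 ≤ Nat.card X := by
  have hP := Agent.FT.isSylowOf_sylow P
  have h1 := (Agent.FT.plength1_frattini hP (Agent.SF.plength1_of_abelian inferInstance hP
    h.isMulCommutative)).2
  have h2 : pPrimeCore 2 G ⊔ N(P) = ⊤ := eq_top_iff.2 (h1.ge.trans (sup_le_sup
    (le_pPrimeCore_of_not_dvd (Agent.FT.not_dvd_piCoreOf 2 ⊤)) inf_le_right))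
  set L := pPrimeCore 2 G ⊔ C(P) with hL
  haveI : L.Normal := normalizer_eq_top_iff.1 (eq_top_iff.2 (h2.ge.trans (sup_le
    (le_sup_left.trans le_normalizer) ((le_inf le_normalizer_of_normal
      (normalizer_le_normalizer_centralizer _)).trans
        (normalizer_inf_normalizer_le_normalizer_sup _ _)))))
  have h3 : L.index = Nat.card 𝐄 := by
    rw [card_autOf_subtype le_rfl, ← relIndex_top_right, show (⊤ : Subgroup G) = N(P) ⊔ L from
      le_antisymm (h2.ge.trans (sup_le (le_sup_left.trans le_sup_right) le_sup_left)) le_top,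
      relIndex_sup_right, ← inf_relIndex_right]
    congr 1
    refine le_antisymm (fun g hg x hx => ?_) (le_inf le_sup_right (centralizer_le_normalizer _))
    exact (mul_inv_eq_iff_eq_mul.1 (conj_eq_of_mem_sup_centralizer P.isPGroup'
      (not_dvd_card_pPrimeCore 2 G) le_normalizer_of_normal hg.1 hx
      ((mem_normalizer_iff.1 hg.2 _).1 hx))).symm
  haveI := Fact.mk hp
  haveI : IsCyclic (G ⧸ L) := isCyclic_of_prime_card (p := Nat.card 𝐄) h3
  letI : CommGroup (G ⧸ L) := IsCyclic.commGroup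
  rw [← h3, index_eq_card, ← CommGroup.card_monoidHom_of_hasEnoughRootsOfUnity _ ℂ]
  have h4 : ∀ (lam : G ⧸ L →* ℂˣ), ∀ g ∈ L,
      IrrCharacter.ofLinear (lam.comp (QuotientGroup.mk' L)) g = 1 := fun lam g hg => by
    simp [(QuotientGroup.eq_one_iff g).2 hg]
  refine Nat.card_le_card_of_injective (fun lam => ⟨_, (h.mem_X hM o he
    (((isPSolvable_of_isSolvable 2 G).mem_principalBlock_iff hM _).2 fun g hg => by
      rw [h4 lam g (mem_sup_left hg), h4 lam 1 (one_mem _)])
    fun u hu => h4 lam u (mem_sup_right (h.comm hu))).1⟩) fun lam mu e => ?_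
  exact (MonoidHom.cancel_right (QuotientGroup.mk'_surjective L)).1
    (IrrCharacter.ofLinear_injective (congrArg Subtype.val e))

omit [Fintype P] in
theorem principal_of_prime (h : AbFree P) (hM : IsPModular 2 M) (hp : (Nat.card 𝐄).Prime) :
    blockRank 2 (principalBlock M G) = Nat.card 𝐄 ∧
      (¬ Group.IsSolvable G → Nat.card (principalBlock M G) = Nat.card P) := by
  have := Fintype.ofFinite P
  have := Fintype.ofFinite 𝐄
  have hP1 : (P : Subgroup G) ≠ ⊥ := fun e => hp.one_lt.ne' (by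
    rw [card_autOf_subtype le_rfl, e, relIndex_eq_one]
    rintro g - x hx
    simp [mem_bot.1 hx])
  have hS := excSys_principal hM h.comm hP1 h.free
  obtain ⟨X, Y, δ, d, ζ, a, o⟩ := hS.exists_out
  by_cases he : Nat.card 𝐄 + 1 < Nat.card P
  · have hs := h.isSolvable hM o he hp.one_lt
    exact ⟨le_antisymm hS.blockRank_le (o.rank ▸ h.le_card_X hM o he hp hs), fun e => absurd hs e⟩
  have h1 : Nat.card 𝐄 + 1 = Nat.card P := by
    have h2 := o.cardY
    have h3 : 0 < Nat.card Y := Nat.card_pos_iff.2 ⟨(o.Y_nonempty hS).to_subtype, inferInstance⟩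
    have := Nat.le_mul_of_pos_right (Nat.card 𝐄) h3
    omega
  obtain ⟨t, ht⟩ := exists_prime_orderOf_dvd_card' 2 hS.dvd_card
  have ht1 : t ≠ 1 := by rintro rfl; simp at ht
  have h2 : ElFree P := ⟨fun u hu => by
    by_cases hu1 : u = 1
    · simp [hu1]
    have h3 : Function.Bijective fun σ : 𝐄 => (⟨σ.1 t, by simpa using ht1⟩ :
        {v : (P : Subgroup G) // v ≠ 1}) :=
      (Nat.bijective_iff_injective_and_card _).2 ⟨fun σ τ e => Subtype.ext
        (h.isFree.eq_of_apply σ.2 τ.2 ht1 (congrArg Subtype.val e)), by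
          rw [Nat.card_eq_fintype_card (α := {v : (P : Subgroup G) // ¬ v = 1}),
            Fintype.card_subtype_compl, Fintype.card_subtype_eq, ← Nat.card_eq_fintype_card, ← h1]
          rfl⟩
    obtain ⟨σ, hσ⟩ := h3.2 ⟨⟨u, hu⟩, fun e => hu1 (congrArg Subtype.val e)⟩
    exact mul_self_of_isConj_of_orderOf (by rw [orderOf_coe, ht])
      ((h.exists_aut_iff t ⟨u, hu⟩).1 ⟨σ.1, σ.2, congrArg Subtype.val hσ⟩), h.free⟩
  haveI := Fact.mk hp
  haveI : IsCyclic 𝐄 := isCyclic_of_prime_card rfl
  have h3 := h2.card_principal_of_regular hM h1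
  have h4 := hS.blockRank_add
  rw [h3, ← h1, Nat.add_sub_cancel, Nat.div_self hp.pos] at h4
  exact ⟨by omega, fun _ => h3⟩

end AbFree

theorem relIndex_sylowInfNormal {p : ℕ} [Fact p.Prime] (P : Sylow p G)
    (hab : (P : Subgroup G) ≤ C(P)) {K : Subgroup G} [K.Normal] (hK : commutator G ≤ K)
    (hs : (P : Subgroup G) ⊔ K = ⊤) :
    (centralizer ((sylowInfNormal P K : Subgroup K) : Set K)).relIndex
      (normalizer ((sylowInfNormal P K : Subgroup K) : Set K)) = (C(P)).relIndex N(P) := by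
  set Q := (sylowInfNormal P K : Subgroup K) with hQ
  have hQP : ∀ x : K, x ∈ Q ↔ (x : G) ∈ (P : Subgroup G) := fun x => by
    rw [hQ, coe_sylowInfNormal, mem_subgroupOf]
  set j := K.subtype.comp Q.subtype
  have hj : Function.Injective j := (subtype_injective _).comp (subtype_injective _)
  have hr : j.range = (P : Subgroup G) ⊓ K := by
    rw [MonoidHom.range_comp, range_subtype, hQ, map_sylowInfNormal]
  have hN : N(P) ≤ N(j.range) := by
    rw [hr]
    exact (le_inf le_rfl le_normalizer_of_normal).trans (inf_normalizer_le_normalizer_inf)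
  have h1 : autOf j ((normalizer (Q : Set K)).map K.subtype) = autOf j N(P) := by
    refine le_antisymm ?_ ?_
    · rintro σ ⟨g, -, hg⟩
      letI := MulAction.compHom G (MulAut.conj (G := G))
      obtain ⟨n, hn, e⟩ := exists_mem_normalizer_smul_eq P (Ω := Q → G) (ω := j) (g := g)
        (fun x hx => funext fun a => mul_inv_eq_iff_eq_mul.2
          (hab hx _ ((hQP _).1 a.2)).symm) fun x hx => funext fun a => by
          change x * (g * j a * g⁻¹) * x⁻¹ = g * j a * g⁻¹
          rw [← hg]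
          exact mul_inv_eq_iff_eq_mul.2 (hab hx _ ((hQP _).1 (σ a).2)).symm
      exact ⟨n, hn, fun a => (hg a).trans (congrFun e a).symm⟩
    · rintro σ ⟨g, hn, hg⟩
      obtain ⟨u, hu, k, hk, rfl⟩ := (mem_sup_of_normal_right (x := g⁻¹)).1 (hs ▸ mem_top _)
        |>.imp fun u h => h.imp_right fun h => h.imp fun k h => h.imp_right fun h =>
          (inv_eq_iff_eq_inv.1 h.symm)
      have e : ∀ a : Q, j (σ a) = k⁻¹ * j a * k⁻¹⁻¹ := fun a => by
        rw [hg, mul_inv_rev, mul_inv_rev, mul_assoc k⁻¹, mul_assoc, mul_assoc, inv_inv, inv_inv,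
          ← mul_assoc (j a), hab hu (j a) ((hQP _).1 a.2)]
        group
      refine ⟨k⁻¹, ⟨⟨k⁻¹, inv_mem hk⟩, mem_normalizer_fintype fun a ha => (hQP _).2 ?_, rfl⟩, e⟩
      have := (hQP _).1 (σ ⟨a, ha⟩).2
      exact (e ⟨a, ha⟩).subst (motive := (· ∈ (P : Subgroup G))) this
  rw [← card_autOf_subtype le_rfl, ← autOf_comp _ K.subtype (subtype_injective _), h1,
    card_autOf hj hN, ← inf_relIndex_right]
  congr 1
  refine le_antisymm (fun g hg => ?_) (le_inf (centralizer_le (hr ▸ inf_le_left))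
    (centralizer_le_normalizer _))
  have hr' : N(P) ≤ N((P : Subgroup G).subtype.range) := by rw [range_subtype]
  have h2 := autHom_spec (subtype_injective _) hr' ⟨g, hg.2⟩
  have h3 : autHom (subtype_injective _) hr' ⟨g, hg.2⟩ = 1 := by
    refine aut_eq_one_of_coprime (K := K.subgroupOf P) (n := (C(P)).relIndex N(P)) ?_ ?_
      (fun k hk => Subtype.ext ((h2 k).trans (mul_inv_eq_iff_eq_mul.2
        (hg.1 _ (hr ▸ ⟨k.2, hk⟩)).symm))) fun a => hK ?_
    · rw [← card_autOf_subtype le_rfl, ← range_autHom (subtype_injective _) hr']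
      exact congrArg Subtype.val (pow_card_eq_one' (G := (autHom (subtype_injective _) hr').range)
        (x := ⟨_, _, rfl⟩))
    · obtain ⟨m, hm⟩ := IsPGroup.iff_card.1 (P.isPGroup'.to_subgroup (K.subgroupOf P))
      rw [hm]
      exact ((Nat.Prime.coprime_iff_not_dvd Fact.out).2 fun e => P.not_dvd_index
        ((e.trans (relIndex_dvd_of_le_left _ hab)).trans
          (relIndex_dvd_index_of_le le_normalizer))).pow_left m
    · have := h2 a
      simp only [coe_subtype] at this ⊢
      rw [coe_mul, this]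
      simpa [commutatorElement_def, mul_assoc, _root_.commutator] using commutator_mem_commutator
        (mem_top (a : G)⁻¹) (mem_top g)
  intro x hx
  have := h2 ⟨x, hx⟩
  rw [h3] at this
  exact eq_mul_inv_iff_mul_eq.1 this

theorem principal_of_prime_relIndex (hM : IsPModular 2 M) (n : ℕ) :
    ∀ (G : Type u) [Group G] [Finite G], Nat.card G = n → ∀ P : Sylow 2 G,
      (P : Subgroup G) ≤ centralizer ((P : Subgroup G) : Set G) →
      ((centralizer ((P : Subgroup G) : Set G)).relIndex
        (normalizer ((P : Subgroup G) : Set G))).Prime →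
      blockRank 2 (principalBlock M G) = (centralizer ((P : Subgroup G) : Set G)).relIndex
        (normalizer ((P : Subgroup G) : Set G)) ∧
      (¬ Group.IsSolvable G → Nat.card (principalBlock M G) = Nat.card P) := by
  induction n using Nat.strong_induction_on with
  | _ n ih =>
  intro G _ _ hn P hab he
  haveI : IsMulCommutative (P : Subgroup G) := ⟨⟨fun a b => Subtype.ext (hab b.2 a a.2)⟩⟩
  by_cases h : pResidual 2 G = ⊤
  · rw [← card_autOf_subtype le_rfl] at he ⊢
    refine AbFree.principal_of_prime ⟨hab, fun y hy h1 => ?_⟩ hM he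
    have h2 : centralizer ((P : Subgroup G) : Set G) ≤ centralizer {y} ⊓
        normalizer ((P : Subgroup G) : Set G) :=
      le_inf (centralizer_le (Set.singleton_subset_iff.2 hy)) (centralizer_le_normalizer _)
    rw [card_autOf_subtype le_rfl, ← relIndex_mul_relIndex _ _ _ h2 inf_le_right] at he
    refine relIndex_eq_one.1 ((Nat.prime_mul_iff.1 he).resolve_left (fun e => h1 ?_)).2
    refine mem_bot.1 (commutator_inf_sylow_inf_centralizer_normalizer P ▸ ⟨⟨?_, hy⟩, fun g hg =>
      mem_centralizer_singleton_iff.1 (relIndex_eq_one.1 e.2 hg).1⟩)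
    rw [← focalSubgroup_eq_of_pResidual_eq_top h P,
      ← commutator_inf_eq_focalSubgroup_of_coprime (Sylow.coprime_card_index' P)] at hy
    exact hy.1
  obtain ⟨K, _, hK⟩ := exists_normal_index_eq_prime_of_pResidual_ne_top h
  have hK1 : commutator G ≤ K := by
    haveI : IsCyclic (G ⧸ K) := isCyclic_of_prime_card (p := 2) hK
    exact Normal.quotient_commutative_iff_commutator_le.1 inferInstance
  have hs : (P : Subgroup G) ⊔ K = ⊤ := index_eq_one.1
    (((Nat.dvd_prime Nat.prime_two).1 ((index_dvd_of_le le_sup_right).trans hK.dvd)).resolve_right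
      fun e => P.not_dvd_index (e.symm.dvd.trans (index_dvd_of_le le_sup_left)))
  have e := relIndex_sylowInfNormal P hab hK1 hs
  have hQ2 : 2 * Nat.card (sylowInfNormal P K) = Nat.card P := by
    rw [(sylowInfNormal P K).card_eq_multiplicity, P.card_eq_multiplicity, ← K.index_mul_card, hK,
      Nat.factorization_mul two_ne_zero Nat.card_pos.ne', Finsupp.add_apply,
      Nat.prime_two.factorization_self, pow_add, pow_one]
  obtain ⟨h1, h2⟩ := ih _ (by
    have h1 := K.index_mul_card
    have : 0 < Nat.card K := Nat.card_pos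
    rw [hK] at h1
    omega) K rfl (sylowInfNormal P K) (fun a ha b hb => Subtype.ext (hab ha b hb)) (e ▸ he)
  have hpow : ∀ x : G, ∃ n : ℕ, x ^ 2 ^ n ∈ K.subtype.range := by
    rw [range_subtype]; exact pow_mem_of_index_eq (k := 1) hK
  refine ⟨?_, fun hs => ?_⟩
  · rw [blockRank_principal_of_comm hM K.subtype hpow P fun a ha b hb => hab hb a ha, h1, e]
  · rw [card_principal_of_comm hM K.subtype hpow P fun a ha b hb => hab hb a ha, range_subtype,
      hK, ← hQ2, h2 fun _ => hs ?_]
    haveI := isSolvable_of_isPGroup ((isPGroup_quotient_iff_index (p := 2)).2 ⟨1, hK⟩)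
    exact Group.isSolvable_of_ker_le_range K.subtype (QuotientGroup.mk' K) (by simp)

end Cfsg
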