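import Cfsg.Agent.Blk.BrSuzA

/-!
# The Brauer-Suzuki theorem and Glauberman's `Z*`-theorem

`z` is the only involution of `C(z)` and lies in the kernel of no nontrivial irreducible character.
A generalized character `1 + A + B` that vanishes on elements of odd order and has
`B z = ± (1 + A z)` gives a contradiction. For a quaternion Sylow subgroup of order eight it is
induced from `C(z)`, for larger ones from the centralizer of an element of order four.
-/

set_option autoImplicit false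
set_option linter.unusedSectionVars false
set_option linter.style.haveILetI false

namespace Cfsg.BrSuz

open Subgroup Cfsg.Acd
open scoped ComplexConjugate commutatorElement

universe u v

variable {G : Type u} [Group G] [Finite G] {z : G} {A B θ : G → ℂ}

theorem exists_three (hθ : IsGeneralizedCharacter G θ) (g1 : ip θ θ = 3)
    (g2 : ip θ (fun _ => 1) = 1) : ∃ A B : G → ℂ, SI A ∧ SI B ∧ ip A B = 0 ∧
      ip A (fun _ => 1) = 0 ∧ ip B (fun _ => 1) = 0 ∧ θ = (fun _ => 1) + A + B := by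
  have g2' := SI.ip_symm si_one.gen hθ ▸ g2
  obtain ⟨A, B, hA, hB, oAB, e⟩ := exists_si_add (hθ.sub si_one.gen) (by
    simp only [ip_sub_left, ip_sub_right, g1, g2, g2', ip_one_one]; norm_num)
  have oBA := SI.ip_symm hB.gen hA.gen ▸ oAB
  have o : ip A (fun _ => 1) + ip B (fun _ => 1) = 0 := by
    rw [← ip_add_left, ← e, ip_sub_left, g2, ip_one_one, sub_self]
  have oA : ip A (fun _ => 1) = 0 := by
    have o' : ip B (fun _ => 1) = -ip A (fun _ => 1) := by linear_combination o
    rcases hA.trich si_one with a | a | a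
    · rw [a] at o' oBA; rw [oBA, ip_one_one] at o'; norm_num at o'
    · rw [a, ip_neg_right, o', a, ip_neg_left, ip_one_one] at oBA; norm_num at oBA
    · exact a
  exact ⟨A, B, hA, hB, oAB, oA, by linear_combination o - oA, by
    rw [add_assoc, ← e, add_sub_cancel]⟩

theorem final (hk : ∀ χ : IrrCharacter G, χ z = χ 1 → χ = .one G) (hI : IsIsolInv z) (hA : SI A)
    (hB : SI B) (oA : ip A (fun _ => 1) = 0)
    (hv : ∀ x, IsPRegular 2 x → ((fun _ => 1) + A + B : G → ℂ) x = 0)
    (hz : B z * B z = (1 + A z) ^ 2) : False := by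
  have t := si_one.three hA hB (z := z) fun x y hx hy => hv _ (by
    obtain ⟨a, rfl⟩ := isConj_iff.1 hx
    obtain ⟨b, rfl⟩ := isConj_iff.1 hy
    convert (hI.conj a).2 (b * a⁻¹) using 2
    group)
  have e1 : B 1 = -1 - A 1 := by
    have := hv 1 isPRegular_one
    simp only [Pi.add_apply] at this
    linear_combination this
  have a0 := hA.one_ne
  have b0 := hB.one_ne
  rw [hz] at t
  field_simp at t
  rw [e1] at t
  have : A z = A 1 := by
    have : (A z - A 1) ^ 2 = 0 := by linear_combination -t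
    simpa [sub_eq_zero] using this
  obtain ⟨χ, rfl | rfl⟩ := hA
  · rw [hk χ this] at oA; exact one_ne_zero (ip_one_one.symm.trans oA)
  · rw [hk χ (neg_injective this), ip_neg_left, neg_eq_zero] at oA
    exact one_ne_zero (ip_one_one.symm.trans oA)

theorem isIsolInv (hz : orderOf z = 2) (hu : ∀ v : G, orderOf v = 2 → Commute z v → v = z) :
    IsIsolInv z :=
  isIsolInv_of_forall (mul_self_of_two hz) fun v hv h => hu v (by
    obtain ⟨g, rfl⟩ := isConj_iff.1 hv
    exact ((MulAut.conj g).orderOf_eq z).trans hz) h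

theorem mem_cent_of_conj (hz : orderOf z = 2) (hu : ∀ v : G, orderOf v = 2 → Commute z v → v = z)
    {a g : G} (ha : a ∈ centralizer {z}) (h2 : 2 ∣ orderOf a)
    (hg : g * a * g⁻¹ ∈ centralizer {z}) : g ∈ centralizer {z} := by
  obtain ⟨_, ⟨k, rfl⟩, hj⟩ := exists_mem_zpowers_orderOf_two h2
  have h0 : a ^ k = z := hu _ hj (mem_centralizer_singleton_iff.1 (zpow_mem ha k)).symm
  have h1 := zpow_mem hg k
  rw [conj_zpow, h0] at h1
  exact mem_centralizer_singleton_iff.2 (mul_inv_eq_iff_eq_mul.1 (hu _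
    (((MulAut.conj g).orderOf_eq z).trans hz) (mem_centralizer_singleton_iff.1 h1).symm))

theorem ind_vanish {H : Type v} [Group H] [Finite H] {f : H →* G} (hf : Function.Injective f)
    {φ : H → ℂ} {n : ℕ} (h : ∀ c, ¬ n ∣ orderOf c → φ c = 0) {g : G} (hg : ¬ n ∣ orderOf g) :
    ind f φ g = 0 :=
  ind_apply_eq_zero' _ fun c hc => h c fun h => hg <| by
    obtain ⟨a, e⟩ := isConj_iff.1 hc
    rwa [← (MulAut.conj a).orderOf_eq g, MulAut.conj_apply, e, orderOf_injective f hf]

theorem false_of_eight (hz : orderOf z = 2) (hu : ∀ v : G, orderOf v = 2 → Commute z v → v = z)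
    (hk : ∀ χ : IrrCharacter G, χ z = χ 1 → χ = .one G) (S : Sylow 2 G)
    (hle : (S : Subgroup G) ≤ centralizer {z}) (h8 : Nat.card S = 8)
    (hS : ∀ x ∈ (S : Subgroup G), x ≠ 1 → x ≠ z → x * x = z ∧ ∃ y ∈ (S : Subgroup G),
      y * x * y⁻¹ = x * z) (hz' : z ∈ commutator G) (hn : ¬ HasNormalPComplement 2 G) :
    False := by
  obtain ⟨M, hM⟩ := exists_isPModular Nat.prime_two
  have hsec := isSec_centralizer (p := 2) (isPElt_of_two hz)
  set H := centralizer ({z} : Set G) with hH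
  let z' : H := ⟨z, mem_centralizer_singleton_iff.2 rfl⟩
  obtain ⟨α, β, g1, g2, v1, v2, i1, i2, i3, i4, i5, hD⟩ := exists_loc hM (z := z')
    ((orderOf_coe _).symm.trans hz)
    (mem_center_iff.2 fun g => Subtype.ext (mem_centralizer_singleton_iff.1 g.2))
    (S.subtype hle) ((Nat.card_congr (subgroupOfEquivOfLe hle).toEquiv).trans h8)
    (fun x hx h1 h2 => by
      obtain ⟨a, y, hy, b⟩ := hS x hx (fun h => h1 (Subtype.ext h)) fun h => h2 (Subtype.ext h)
      exact ⟨Subtype.ext a, ⟨y, hle hy⟩, hy, Subtype.ext b⟩)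
    fun h => hn (hasNormalPComplement_of_fusion S fun x hx g hg => by
      by_cases h1 : x = 1
      · exact ⟨1, one_mem _, by simp [h1]⟩
      have hg' := mem_cent_of_conj hz hu (hle hx) (not_not.1 fun h =>
        h1 ((isPElt_of_mem S.isPGroup' hx).eq_one_of_isPRegular h)) (hle hg)
      obtain ⟨u, hu, e⟩ := h.fusion (S.subtype hle).isPGroup' (S.subtype hle).not_dvd_index
        (x := ⟨x, hle hx⟩) (g := ⟨g, hg'⟩) hx hg
      exact ⟨u, hu, congrArg Subtype.val e⟩)
  have I1 : ∀ {θ φ : H → ℂ}, IsGeneralizedCharacter H θ → IsGeneralizedCharacter H φ →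
      (∀ h, IsPRegular 2 h → θ h = 0) → (∀ h, IsPRegular 2 h → φ h = 0) →
      ip (ind H.subtype θ) (ind H.subtype φ) = ip θ φ := fun a b c d =>
    ip_ind_ind_of_ti (X := {c | 2 ∣ orderOf c}) (subtype_injective _) (fun x hx y _ g e => by
      rw [range_subtype, ← inv_mem_iff]
      exact mem_cent_of_conj hz hu x.2 ((orderOf_coe x).symm ▸ hx) (by
        rw [inv_inv, show g⁻¹ * (x : G) * g = y from e]; exact y.2))
      a.isClassFunction b.isClassFunction c d
  have I2 : ∀ θ : H → ℂ, ip (ind H.subtype θ) (fun _ => 1) = ip θ fun _ => 1 := fun θ =>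
    ip_ind_left _ _ (IsClassFunction.const 1)
  set a := ind H.subtype α
  have ga : IsGeneralizedCharacter G a := g1.ind _
  have a1 : ip a a = 4 := (I1 g1 g1 v1 v1).trans i1
  have a2 : ip a (fun _ => 1) = 1 := (I2 α).trans i2
  have a2' := SI.ip_symm si_one.gen ga ▸ a2
  have hv : ∀ i x, IsPRegular 2 x → ind H.subtype (β i) x = 0 := fun i x hx =>
    ind_vanish (subtype_injective _) (v2 i) hx
  have hlin : ∀ {A : G → ℂ}, SI A → ip A (fun _ => 1) = 0 → 1 + A 1 ≠ 0 := by
    rintro A ⟨χ, rfl | rfl⟩ h e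
    · rw [χ.apply_one] at e; norm_cast at e; omega
    · rw [Pi.neg_apply, add_neg_eq_zero, eq_comm, ← χ.commutator_le_charKer_iff] at e
      rw [hk χ (χ.mem_charKer.1 (e hz')), ip_neg_left, neg_eq_zero] at h
      exact one_ne_zero (ip_one_one.symm.trans h)
  have dec : ∀ i, ∃ A C : G → ℂ, SI A ∧ SI C ∧ ip A C = 0 ∧ ip A (fun _ => 1) = 0 ∧
      ip C (fun _ => 1) = 0 ∧ ind H.subtype (β i) = (fun _ => 1) + A + C ∧ ip A a = 1 ∧
      ip C a = 0 := fun i => by
    obtain ⟨A, C, hA, hC, o, oA, oC, e⟩ := exists_three ((g2 i).ind H.subtype)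
      ((I1 (g2 i) (g2 i) (v2 i) (v2 i)).trans (by simp [i5])) ((I2 _).trans (i3 i))
    have h := (I1 (g2 i) g1 (v2 i) v1).trans (i4 i)
    obtain ⟨m, hm⟩ := hA.gen.exists_ip_eq_int ga
    obtain ⟨n, hn⟩ := hC.gen.exists_ip_eq_int ga
    have h6 := ip_self_re_nonneg (a - (fun _ => 1) - (m : ℂ) • A - (n : ℂ) • C)
    simp only [ip_sub_left, ip_sub_right, ip_smul_left, ip_smul_right, a1, a2, a2', hm, hn, o, oA,
      oC, map_intCast, ← SI.ip_symm hA.gen ga, ← SI.ip_symm hC.gen ga, SI.ip_symm hC.gen hA.gen,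
      ← SI.ip_symm hA.gen si_one.gen, ← SI.ip_symm hC.gen si_one.gen, hA.ip_self, hC.ip_self,
      ip_one_one] at h6
    rw [e, ip_add_left, ip_add_left, a2', hm, hn] at h
    norm_cast at h h6
    rw [show Int.subNatNat 4 1 = 3 from rfl, show Int.subNatNat 1 1 = 0 from rfl] at h6
    have : -2 < m := by nlinarith
    have : m < 2 := by nlinarith
    have : -2 < n := by nlinarith
    have : n < 2 := by nlinarith
    obtain ⟨rfl, rfl⟩ | ⟨rfl, rfl⟩ : m = 1 ∧ n = 0 ∨ m = 0 ∧ n = 1 := by omega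
    · exact ⟨A, C, hA, hC, o, oA, oC, e, by simpa using hm, by simpa using hn⟩
    · exact ⟨C, A, hC, hA, SI.ip_symm hA.gen hC.gen ▸ o, oC, oA, add_right_comm _ A C ▸ e,
        by simpa using hn, by simpa using hm⟩
  obtain ⟨A, C, hA, hC, o, oA, oC, e, aA, aC⟩ := dec 0
  have hB : ∀ {A : G → ℂ}, SI A → blockPart (principalBlock M G) A = A ∨
      blockPart (principalBlock M G) A = 0 := by
    rintro A ⟨χ, rfl | rfl⟩ <;> by_cases h : χ ∈ principalBlock M G
    · exact .inl (blockPart_irr_of_mem h)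
    · exact .inr (blockPart_irr_of_notMem h)
    · left; rw [← neg_one_smul ℂ, blockPart_smul, blockPart_irr_of_mem h]
    · right; rw [← neg_one_smul ℂ, blockPart_smul, blockPart_irr_of_notMem h, smul_zero]
  have h0 : 1 + blockPart (principalBlock M G) A 1 + blockPart (principalBlock M G) C 1 = 0 := by
    have h1 : pRegularPart 2 (ind H.subtype (β 0)) = 0 := funext fun x => by
      by_cases hx : IsPRegular 2 x <;> simp [pRegularPart, hx, hv]
    have := congrFun (isPBlock_principalBlock.blockPart_pRegularPart hM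
      (ind_isClassFunction H.subtype (β 0))) 1
    rw [h1, blockPart_zero, pRegularPart_apply_one, e, blockPart_add, blockPart_add,
      blockPart_principal_one hM] at this
    exact this.symm
  obtain ⟨bA, bC⟩ : blockPart (principalBlock M G) A = A ∧ blockPart (principalBlock M G) C = C := by
    rcases hB hA with b | b <;> rcases hB hC with c | c <;> rw [b, c] at h0
    · exact ⟨b, c⟩
    · exact absurd (by simpa using h0) (hlin hA oA)
    · exact absurd (by simpa using h0) (hlin hC oC)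
    · simp at h0
  have gD := (si_one.gen.add hA.gen).sub hC.gen
  have bD : blockPart (principalBlock M G) ((fun _ => 1) + A - C) = (fun _ => 1) + A - C := by
    rw [blockPart_sub, blockPart_add, blockPart_principal_one hM, bA, bC]
  have key := hD (((fun _ => 1) + A - C) ∘ H.subtype) (gD.comp _).isClassFunction (by
      classical
      have h1 := hsec.pRegularPart_secFun_blockPart hM isPBlock_principalBlock gD.isClassFunction
      rw [bD, Finset.sum_eq_single_of_mem ⟨_, isPBlock_principalBlock⟩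
        (by simpa using hsec.induces_principal hM) fun b hb hne => absurd (Subtype.ext
          (((Finset.mem_filter.1 hb).2.eq_principal_iff hM hsec.inj).1 rfl)) hne] at h1
      exact h1 ▸ isPBlock_principalBlock.blockPart_subPart hM _ _ _)
    fun j => by
      rw [← ip_ind_right _ _ gD.isClassFunction, ← ip_ind_right _ _ gD.isClassFunction]
      have h2 : ip A (ind H.subtype (β j)) = ip C (ind H.subtype (β j)) := by
        have h3 := (I1 (g2 0) (g2 j) (v2 0) (v2 j)).trans (i5 0 j)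
        by_cases hj : 0 = j
        · rw [← hj, e]
          simp [ip_add_right, oA, oC, o, hA.ip_self, hC.ip_self, SI.ip_symm hC.gen hA.gen]
        obtain ⟨A', C', hA', hC', o', oA', oC', e', aA', aC'⟩ := dec j
        have h4 : ∀ {A C : G → ℂ}, SI A → SI C → ip A a = 1 → ip C a = 0 → ip A C = 0 :=
          fun hA hC p q => by
            rcases hA.trich hC with h | h | h
            · rw [h, q] at p; norm_num at p
            · rw [h, ip_neg_left, q] at p; norm_num at p
            · exact h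
        have h5 := h4 hA hC' aA aC'
        have h6 := SI.ip_symm hA'.gen hC.gen ▸ h4 hA' hC aA' aC
        rw [if_neg hj, e, e'] at h3
        rw [e']
        simp only [ip_add_left, ip_add_right, ip_one_one, oA, oC, h5, h6, oA', oC',
          ← SI.ip_symm hA'.gen si_one.gen, ← SI.ip_symm hC'.gen si_one.gen] at h3 ⊢
        rcases hA.trich hA' with h | h | h
        · rw [← h, hA.ip_self] at h3
          rcases hC.trich hC' with k | k | k
          · rw [← k, hC.ip_self] at h3; norm_num at h3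
          · have p := hv 0 1 isPRegular_one
            have q := hv j 1 isPRegular_one
            rw [e, k] at p
            rw [e', ← h] at q
            simp only [Pi.add_apply, Pi.neg_apply] at p q
            exact absurd (by linear_combination (p + q) / 2) (hlin hA oA)
          · rw [k] at h3; norm_num at h3
        · rw [h, ip_neg_left, aA'] at aA; norm_num at aA
        · rw [h] at h3 ⊢; linear_combination -h3
      have h7 : ip (fun _ => 1) (ind H.subtype (β j)) = 1 :=
        SI.ip_symm si_one.gen ((g2 j).ind H.subtype) ▸ (I2 _).trans (i3 j)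
      rw [ip_sub_left, ip_add_left, ip_sub_left, ip_add_left, h7, h2, a2', aA, aC]; ring
  refine final hk (isIsolInv hz hu) hA hC oA (e ▸ hv 0) ?_
  have : C z = 1 + A z := (sub_eq_zero.1 key).symm
  rw [this, sq]

theorem mem_or_mem {x a b : G} (hx : IsPElt 2 x) (ha : a ∈ zpowers x) (hb : b ∈ zpowers x) :
    a ∈ zpowers b ∨ b ∈ zpowers (a * a) := by
  have key : ∀ c ∈ zpowers x, ∃ s k : ℕ, c = (x ^ 2 ^ s) ^ k ∧ ∀ r : ℕ,
      x ^ (2 ^ (s + r)) ∈ zpowers (c ^ 2 ^ r) := fun c hc => by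
    obtain ⟨i, rfl⟩ := (Submonoid.mem_powers_iff _ _).1 (mem_powers_iff_mem_zpowers.2 hc)
    obtain ⟨s, k, hk, e⟩ := Nat.exists_eq_two_pow_mul_odd (n := i + orderOf x)
      (by have := orderOf_pos x; omega)
    have h1 : x ^ i = (x ^ 2 ^ s) ^ k := by rw [← pow_mul, ← e, pow_add, pow_orderOf_eq_one, mul_one]
    refine ⟨s, k, h1, fun r => ?_⟩
    obtain ⟨j, hj⟩ := hx.pow (2 ^ (s + r))
    rw [h1, ← pow_mul, mul_comm k, pow_mul, ← pow_mul x, ← pow_add]
    exact mem_zpowers_pow_iff.2 (hj ▸ (Nat.coprime_two_right.2 hk).pow_right j)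
  obtain ⟨s, k, rfl, h1⟩ := key a ha
  obtain ⟨t, l, rfl, h2⟩ := key b hb
  rcases le_or_gt t s with h | h
  · obtain ⟨r, rfl⟩ := Nat.exists_eq_add_of_le h
    refine .inl (pow_mem ?_ _)
    rw [pow_add, pow_mul]
    exact pow_mem (by simpa using h2 0) _
  · obtain ⟨r, rfl⟩ := Nat.exists_eq_add_of_lt h
    refine .inr (pow_mem ?_ _)
    rw [add_right_comm, pow_add, pow_mul, ← sq]
    exact pow_mem (by simpa using h1 1) _

/-- In a noncyclic `2`-group with a unique involution an element of maximal order is inverted. -/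
theorem exists_inv {P : Subgroup G} (hP : IsPGroup 2 P)
    (hu : ∀ v ∈ P, v * v = 1 → v = 1 ∨ v = z) {x : G} (hx : x ∈ P)
    (hm : ∀ a ∈ P, orderOf a ≤ orderOf x) (hn : ¬ P ≤ zpowers x) :
    ∃ y ∈ P, y ∉ zpowers x ∧ y * x * y⁻¹ = x⁻¹ := by
  have hx2 := isPElt_of_mem hP hx
  have hle := zpowers_le.2 hx
  have hx1 : x ≠ 1 := by
    rintro rfl
    exact hn fun a ha => by
      have := hm a ha
      have h := orderOf_pos a
      rw [orderOf_one] at this
      rw [orderOf_eq_one_iff.1 (le_antisymm this h)]; exact one_mem _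
  have hz : z ∈ zpowers x := by
    obtain ⟨j, hj, hj2⟩ := exists_mem_zpowers_orderOf_two (g := x)
      (not_not.1 fun h => hx1 (hx2.eq_one_of_isPRegular h))
    exact (hu j (hle hj) (mul_self_of_two hj2)).resolve_left (ne_one_of_two hj2) ▸ hj
  obtain ⟨g, hg, hg'⟩ := SetLike.exists_of_lt (lt_inf_normalizer_of_isPGroup hP
    (lt_of_le_of_ne hle fun e => hn e.ge))
  obtain ⟨k, h1, h2⟩ := Nat.exists_not_and_succ_of_not_zero_of_exists
    (p := fun k => g ^ 2 ^ k ∈ zpowers x) (by simpa)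
    ((isPElt_iff_pow_eq_one.1 (isPElt_of_mem hP hg.1)).imp fun k hk => hk ▸ one_mem _)
  rw [pow_succ, pow_mul, sq] at h2
  have hy := pow_mem hg (2 ^ k)
  generalize g ^ 2 ^ k = y at h1 h2 hy
  refine ⟨y, hy.1, h1, ?_⟩
  have hc : ∀ a ∈ zpowers x, ∀ b ∈ zpowers x, Commute a b := by
    rintro _ ⟨i, rfl⟩ _ ⟨j, rfl⟩; exact (Commute.refl x).zpow_zpow i j
  have h3 : y * x * y⁻¹ ∈ zpowers x := (mem_normalizer_iff.1 hy.2 x).1 (mem_zpowers x)
  have hw : ∀ i : ℤ, y * (y * y) ^ i * y⁻¹ = (y * y) ^ i := fun i => by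
    rw [(((Commute.refl y).mul_right (Commute.refl y)).zpow_right i).eq, mul_inv_cancel_right]
  rcases mem_or_mem hx2 h2 (mul_mem h3 (mem_zpowers x)) |>.symm with ⟨j, hj⟩ | ⟨j, hj⟩
  · have h4 : y * (x * (y * y) ^ (-j)) * y⁻¹ = (x * (y * y) ^ (-j))⁻¹ := by
      have h5 : y * x * y⁻¹ = (y * y) ^ j * (y * y) ^ j * x⁻¹ := by
        rw [← (Commute.refl _).mul_zpow, eq_mul_inv_iff_mul_eq]; exact hj.symm
      rw [← conj_mul, hw, h5, (hc _ (mul_mem (mul_mem (zpow_mem h2 j) (zpow_mem h2 j))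
        (inv_mem (mem_zpowers x))) _ (zpow_mem h2 _)).eq]
      group
    have h5 := mul_mem (mem_zpowers x) (zpow_mem h2 (-j))
    rcases mem_or_mem hx2 (mem_zpowers x) h5 with h | h
    · exact conj_eq_inv_of_mem_zpowers h4 h
    rcases mem_or_mem hx2 (mem_zpowers x) h2 with h' | h'
    · refine absurd ((eq_of_le_of_card_ge (zpowers_le.2 (zpowers_le.2
        (mul_mem (mem_zpowers y) (mem_zpowers y)) h')) ?_).ge (mem_zpowers y)) h1
      simpa only [Nat.card_zpowers] using hm y hy.1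
    · have h6 : x ∈ zpowers (x ^ 2) := by
        rw [sq]; exact (mul_mem_cancel_right (zpow_mem h' _)).1 h
      rw [mem_zpowers_pow_iff] at h6
      exact absurd (hx2.eq_one_of_isPRegular (Nat.prime_two.coprime_iff_not_dvd.1 h6)) hx1
  · have h4 : y * x ^ (-j) * (y * x ^ (-j)) = 1 := by
      have h5 : (y * x * y⁻¹ * x) ^ j = y * y := hj
      rw [(hc _ h3 _ (mem_zpowers x)).mul_zpow, conj_zpow] at h5
      calc _ = y * x ^ (-j) * y⁻¹ * (y * y) * x ^ (-j) := by group
        _ = 1 := by rw [← h5]; group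
    refine absurd ((mul_mem_cancel_right (zpow_mem (mem_zpowers x) (-j))).1 ?_) h1
    rcases hu _ (mul_mem hy.1 (zpow_mem hx _)) h4 with h | h <;> rw [h]
    exacts [one_mem _, hz]

theorem eq_or_eq_inv (hz : orderOf z = 2) (hu : ∀ v : G, orderOf v = 2 → Commute z v → v = z)
    {t w : G} (ht : t * t = z) (hw : orderOf w = 4) (hc : Commute w t) : w = t ∨ w = t⁻¹ := by
  have hc' : Commute z w := ht ▸ (hc.mul_right hc).symm
  have h1 : w * w = z := hu _ (by rw [← sq, orderOf_pow, hw]; rfl) (hc'.mul_right hc')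
  have h2 : w * t * (w * t) = 1 := by rw [hc.symm.mul_mul_mul_comm, h1, ht, mul_self_of_two hz]
  by_cases h3 : w * t = 1
  · exact .inr (eq_inv_of_mul_eq_one_left h3)
  · have := hu _ (two_of_mul_self h2 h3)
      (hc'.mul_right (ht ▸ (Commute.refl t).mul_left (Commute.refl t)))
    exact .inl (mul_right_cancel (this.trans ht.symm))

theorem exists_four {a : G} (h : 4 ∣ orderOf a) : ∃ k : ℕ, orderOf (a ^ k) = 4 :=
  ⟨_, orderOf_pow_orderOf_div (orderOf_pos a).ne' h⟩

theorem false_of_large (hz : orderOf z = 2) (hu : ∀ v : G, orderOf v = 2 → Commute z v → v = z)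
    (hk : ∀ χ : IrrCharacter G, χ z = χ 1 → χ = .one G) {x y : G} (hx : orderOf x = 8)
    (hxz : Commute z x) (hy : y * x * y⁻¹ = x⁻¹) : False := by
  classical
  set t := x * x with ht
  have ht4 : orderOf t = 4 := by rw [ht, ← sq, orderOf_pow, hx]; rfl
  have htz : t * t = z := hu _ (by rw [← sq, orderOf_pow, ht4]; rfl)
    ((hxz.mul_right hxz).mul_right (hxz.mul_right hxz))
  have hyt : y * t * y⁻¹ = t⁻¹ := by rw [ht, ← conj_mul, hy, mul_inv_rev]
  have hne : t⁻¹ ≠ t := fun e => ne_one_of_two hz (by rw [← htz]; nth_rw 1 [← e]; simp)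
  set C := centralizer ({t} : Set G) with hC
  have mC : ∀ {g}, g ∈ C ↔ g * t * g⁻¹ = t := fun {g} => by
    rw [mul_inv_eq_iff_eq_mul]; exact mem_centralizer_singleton_iff
  have hxC : x ∈ C := mC.2 (by rw [ht]; group)
  have hyC : y ∉ C := fun h => hne (hyt ▸ mC.1 h)
  have U4 : ∀ w ∈ C, orderOf w = 4 → w = t ∨ w = t⁻¹ := fun w hw h =>
    eq_or_eq_inv hz hu htz h (mem_centralizer_singleton_iff.1 hw)
  obtain ⟨R, hR⟩ := IsPElt.exists_mem_sylow (p := 2) (g := (⟨x, hxC⟩ : C))
    ⟨3, (orderOf_coe _).symm.trans hx⟩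
  haveI : IsCyclic (R : Subgroup C) := by
    obtain ⟨r, hr, hm⟩ := Set.exists_max_image (R : Set C) orderOf (Set.toFinite _) ⟨1, one_mem _⟩
    by_cases hle : (R : Subgroup C) ≤ zpowers r
    · rw [le_antisymm hle (zpowers_le.2 hr)]; infer_instance
    obtain ⟨v, -, -, hv⟩ := exists_inv (z := ⟨z, htz ▸ mul_mem (mC.2 (by group)) (mC.2 (by group))⟩)
      R.isPGroup' (fun v _ h => or_iff_not_imp_left.2 fun h1 => Subtype.ext (hu v
        ((orderOf_coe v).trans (two_of_mul_self h h1)) (by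
          have : Commute t v := (mem_centralizer_singleton_iff.1 v.2).symm
          exact htz ▸ this.mul_left this))) hr hm hle
    obtain ⟨k, hk⟩ := exists_four (a := r) (by
      obtain ⟨j, hj⟩ := isPElt_of_mem R.isPGroup' hr
      have := hm _ hR
      rw [← orderOf_coe, hx, hj] at this
      exact hj ▸ pow_dvd_pow 2 (show 2 ≤ j by by_contra! h; interval_cases j <;> omega))
    have h1 : (v : G) * (r ^ k : C) * (v : G)⁻¹ = ((r ^ k : C) : G)⁻¹ := congrArg Subtype.val
      (conj_eq_inv_of_mem_zpowers hv (pow_mem (mem_zpowers r) k))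
    have h2 := mC.1 v.2
    rcases U4 _ (r ^ k).2 ((orderOf_coe _).trans hk) with h | h <;> rw [h] at h1
    · exact absurd (h1.symm.trans h2) hne
    · rw [← conj_inv, h2, inv_inv] at h1; exact absurd h1 hne
  obtain ⟨π, p1, p2, -, p4⟩ := (hasNormalPComplement_two_of_isCyclic R).exists_proj_top
    R.isPGroup' R.not_dvd_index
  obtain ⟨ν, hν⟩ := exists_linear_injective_of_isCyclic (G := (R : Subgroup C))
  let lam : C →* ℂˣ := (ν.comp (π.codRestrict _ p1)) ^ 2
  have l1 : ∀ c, lam c = 1 ↔ π c ^ 2 = 1 := fun c => by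
    rw [MonoidHom.pow_apply, MonoidHom.comp_apply, ← map_pow, map_eq_one_iff ν hν, Subtype.ext_iff]
    rfl
  have l2 : ∀ c, ¬ 4 ∣ orderOf c → lam c = 1 := fun c hc => by
    obtain ⟨g, hg⟩ := p4 c
    obtain ⟨j, hj⟩ := isPElt_pPart 2 c
    have h1 : j ≤ 1 := by
      by_contra! h
      exact hc ((hj ▸ pow_dvd_pow 2 h : 2 ^ 2 ∣ _).trans
        (orderOf_dvd_of_mem_zpowers (pPart_mem_zpowers 2 c)))
    rw [l1, ← hg, conj_pow, orderOf_dvd_iff_pow_eq_one.1
      (show orderOf (pPart 2 c) ∣ 2 from hj ▸ (pow_dvd_pow 2 h1 : 2 ^ j ∣ 2 ^ 1))]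
    simp
  have hyN : ∀ c ∈ C, y⁻¹ * c * y ∈ C := fun c hc => mC.2 (by
    calc _ = y⁻¹ * (c * (y * t * y⁻¹) * c⁻¹) * y := by group
      _ = y⁻¹ * (y * t * y⁻¹) * y := by rw [hyt, conj_inv.symm, mC.1 hc]
      _ = t := by group)
  let κ : C →* C := ((MulAut.conj y⁻¹).toMonoidHom.comp C.subtype).codRestrict _ fun c => by
    simpa using hyN c c.2
  have k1 : κ ⟨x, hxC⟩ = ⟨x, hxC⟩⁻¹ := Subtype.ext (by
    calc y⁻¹ * x * y⁻¹⁻¹ = y⁻¹ * (y * x * y⁻¹)⁻¹ * y⁻¹⁻¹ := by rw [hy, inv_inv x]
      _ = x⁻¹ := by group)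
  have l3 : lam ⟨x, hxC⟩ ^ 2 ≠ 1 := fun e => by
    rw [← map_pow, l1, p2 _ (pow_mem hR 2), ← pow_mul, ← orderOf_dvd_iff_pow_eq_one, ← orderOf_coe,
      hx] at e
    omega
  have n1 : IrrCharacter.ofLinear lam ≠ .one C := fun e => l3 (by
    rw [IrrCharacter.ofLinear_eq_one_iff.1 e]; simp)
  have n2 : IrrCharacter.ofLinear (lam.comp κ) ≠ .one C := fun e => l3 (by
    have := DFunLike.congr_fun (IrrCharacter.ofLinear_eq_one_iff.1 e) ⟨x, hxC⟩
    rw [MonoidHom.comp_apply, k1, map_inv, MonoidHom.one_apply, inv_eq_one] at this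
    rw [this, one_pow])
  have n3 : IrrCharacter.ofLinear lam ≠ .ofLinear (lam.comp κ) := fun e => l3 (by
    have := DFunLike.congr_fun (IrrCharacter.ofLinear_inj.1 e) ⟨x, hxC⟩
    rw [MonoidHom.comp_apply, k1, map_inv] at this
    rw [sq, ← eq_inv_iff_mul_eq_one, ← this])
  set φ := (IrrCharacter.one C).1 - (IrrCharacter.ofLinear lam).1 with hφ
  have gφ : IsGeneralizedCharacter C φ :=
    (IrrCharacter.one C).isCharacter.isGen.sub (IrrCharacter.ofLinear lam).isCharacter.isGen
  have v1 : ∀ c, ¬ 4 ∣ orderOf c → φ c = 0 := fun c hc => by simp [hφ, l2 c hc]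
  have v2 : ∀ c : C, 4 ∣ orderOf c → ind C.subtype φ c = φ c + φ (κ c) := fun c hc => by
    haveI := Fintype.ofFinite (G ⧸ C)
    have h1 : ∀ g : G, extendByZero C φ ((g : G ⧸ C).out⁻¹ * c * (g : G ⧸ C).out) =
        extendByZero C φ (g⁻¹ * c * g) := fun g => by
      rw [← extendByZero_conj gφ.isClassFunction _ (QuotientGroup.eq.1 (g : G ⧸ C).out_eq)]
      congr 1; group
    rw [ind_subtype_apply_eq_sum_quotient C gφ.isClassFunction,
      Finset.sum_eq_add_of_mem ((1 : G) : G ⧸ C) (y : G ⧸ C) (Finset.mem_univ _) (Finset.mem_univ _)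
        (fun e => hyC (by simpa using QuotientGroup.eq.1 e)), h1, h1,
      extendByZero_of_mem _ _ (hyN c c.2)]
    · simp only [inv_one, one_mul, mul_one, extendByZero_coe]
      congr 2; exact Subtype.ext (by simp [κ])
    intro q _ hq
    obtain ⟨g, rfl⟩ := QuotientGroup.mk_surjective q
    refine (h1 g).trans (extendByZero_of_notMem _ _ fun hg => ?_)
    obtain ⟨k, hk⟩ := exists_four ((orderOf_coe c).symm ▸ hc)
    have h2 := pow_mem hg k
    rw [show (g⁻¹ * c * g) ^ k = g⁻¹ * c ^ k * g⁻¹⁻¹ by rw [← conj_pow, inv_inv]] at h2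
    have h3 := U4 _ h2 (((MulAut.conj g⁻¹).orderOf_eq _).trans hk)
    have h4 : g⁻¹ * t * g⁻¹⁻¹ = t ∨ g⁻¹ * t * g⁻¹⁻¹ = t⁻¹ := by
      rcases U4 _ (pow_mem c.2 k) hk with h | h <;> rw [h] at h3
      · exact h3
      · rw [← conj_inv, inv_inj, inv_eq_iff_eq_inv] at h3; exact h3.symm
    rcases h4 with h | h
    · exact hq.1 (QuotientGroup.eq.2 (by simpa using mC.2 h))
    · refine hq.2 (QuotientGroup.eq.2 (mC.2 ?_))
      calc _ = (g⁻¹ * (y * t * y⁻¹)⁻¹ * g⁻¹⁻¹)⁻¹ := by group
        _ = t := by rw [hyt, inv_inv, h, inv_inv]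
  obtain ⟨A, B, hA, hB, -, oA, -, e⟩ := exists_three (gφ.ind C.subtype) (by
      haveI := Fintype.ofFinite C
      have : ip φ (ind C.subtype φ ∘ C.subtype) = ip φ (φ + ((IrrCharacter.one C).1 -
          (IrrCharacter.ofLinear (lam.comp κ)).1)) := by
        rw [ip_def, ip_def]
        refine congrArg _ (Finset.sum_congr rfl fun c _ => ?_)
        by_cases hc : 4 ∣ orderOf c
        · rw [Function.comp_apply, coe_subtype, v2 c hc]; rfl
        · rw [v1 c hc, zero_mul, zero_mul]
      rw [ip_ind_left _ _ (ind_isClassFunction _ _), this, hφ]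
      simp only [ip_add_right, ip_sub_left, ip_sub_right, IrrCharacter.ip_self,
        IrrCharacter.ip_of_ne n1, IrrCharacter.ip_of_ne n1.symm, IrrCharacter.ip_of_ne n2.symm,
        IrrCharacter.ip_of_ne n3]
      norm_num)
    (by
      rw [ip_ind_left _ _ (IsClassFunction.const 1), hφ, ip_sub_left]
      exact (congrArg₂ (· - ·) (IrrCharacter.one C).ip_self (IrrCharacter.ip_of_ne n1)).trans
        (sub_zero _))
  refine final hk (isIsolInv hz hu) hA hB oA (fun g hg => e ▸ ind_vanish (subtype_injective _) v1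
    fun h => hg (Nat.dvd_trans (by decide) h)) ?_
  have := ind_vanish (subtype_injective _) v1 (g := z) (by rw [hz]; decide)
  rw [e] at this
  have h : B z = -(1 + A z) := eq_neg_of_add_eq_zero_right this
  rw [h]; ring

end BrSuz

open BrSuz Subgroup
open scoped commutatorElement

universe u

/-- The Brauer-Suzuki theorem. -/
theorem brauerSuzuki (G : Type u) [Group G] [Finite G] (hO : pPrimeCore 2 G = ⊥) {z : G}
    (hzz : z * z = 1) (h1 : z ≠ 1) (hu' : ∀ v, v * v = 1 → v ≠ 1 → Commute z v → v = z) :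
    z ∈ center G := by
  induction hn : Nat.card G using Nat.strong_induction_on generalizing G with | _ n ih
  subst hn
  have hz := two_of_mul_self hzz h1
  have hu : ∀ v : G, orderOf v = 2 → Commute z v → v = z := fun v hv =>
    hu' v (mul_self_of_two hv) (ne_one_of_two hv)
  by_cases hK : normalClosure ({z} : Set G) = ⊤
  swap
  · have hzK : z ∈ normalClosure ({z} : Set G) := subset_normalClosure rfl
    have := ih _ (card_lt_of_ne_top hK) (normalClosure ({z} : Set G))
      (by rw [pPrimeCore_eq_subgroupOf_of_normal, hO, bot_subgroupOf]) (z := ⟨z, hzK⟩)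
      (Subtype.ext hzz) (fun h => h1 (congrArg Subtype.val h))
      (fun v a b c => Subtype.ext (hu' v (congrArg Subtype.val a) (fun h => b (Subtype.ext h))
        (congrArg Subtype.val c))) rfl
    refine mem_center_iff.2 fun g => mul_inv_eq_iff_eq_mul.1
      (hu _ (((MulAut.conj g).orderOf_eq z).trans hz) ?_)
    exact (congrArg Subtype.val (mem_center_iff.1 this
      ⟨g * z * g⁻¹, Subgroup.Normal.conj_mem inferInstance _ hzK g⟩)).symm
  have hk : ∀ χ : IrrCharacter G, χ z = χ 1 → χ = .one G := fun χ h => by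
    rw [← χ.charKer_eq_top_iff, eq_top_iff, ← hK]
    exact normalClosure_le_normal (Set.singleton_subset_iff.2 (χ.mem_charKer.2 h))
  obtain ⟨S, hzS⟩ := (isPElt_of_two hz).exists_mem_sylow
  have hle : (S : Subgroup G) ≤ centralizer {z} := by
    haveI : Nontrivial (S : Subgroup G) := ⟨⟨z, hzS⟩, 1, fun h => h1 (congrArg Subtype.val h)⟩
    haveI := S.isPGroup'.center_nontrivial
    obtain ⟨⟨c, hc⟩, hc1⟩ := exists_ne (1 : center (S : Subgroup G))
    obtain ⟨j, hj, hj2⟩ := exists_mem_zpowers_orderOf_two (g := c) (not_not.1 fun h => hc1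
      (Subtype.ext ((isPElt_coe_iff.1 (isPElt_of_mem S.isPGroup' c.2)).eq_one_of_isPRegular h)))
    have hj' := mem_center_iff.1 (zpowers_le.2 hc hj)
    rw [← hu j ((orderOf_coe j).trans hj2) (congrArg Subtype.val (hj' ⟨z, hzS⟩))]
    exact fun g hg => mem_centralizer_singleton_iff.2 (congrArg Subtype.val (hj' ⟨g, hg⟩))
  by_cases hn : HasNormalPComplement 2 G
  · rw [hasNormalPComplement_iff_sup_eq_top S, hO, bot_sup_eq] at hn
    exact mem_center_iff.2 fun g => mem_centralizer_singleton_iff.1 (hle (hn ▸ mem_top g))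
  have hS : ∀ v ∈ (S : Subgroup G), v * v = 1 → v = 1 ∨ v = z := fun v hv h =>
    or_iff_not_imp_left.2 fun h' => hu' v h h' (mem_centralizer_singleton_iff.1 (hle hv)).symm
  have hnc : ∀ x ∈ (S : Subgroup G), ¬ (S : Subgroup G) ≤ zpowers x := fun x hx h => by
    haveI : IsCyclic (S : Subgroup G) := by rw [le_antisymm h (zpowers_le.2 hx)]; infer_instance
    exact hn (hasNormalPComplement_two_of_isCyclic S)
  obtain ⟨x, hx, hm⟩ := Set.exists_max_image (S : Set G) orderOf (Set.toFinite _) ⟨1, one_mem _⟩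
  obtain ⟨y, hy, hy', hyx⟩ := exists_inv S.isPGroup' hS hx hm (hnc x hx)
  exfalso
  by_cases h8 : 8 ∣ orderOf x
  · exact false_of_large hz hu hk (orderOf_pow_orderOf_div (orderOf_pos x).ne' h8)
      (mem_centralizer_singleton_iff.1 (pow_mem (hle hx) _)).symm
      (conj_eq_inv_of_mem_zpowers hyx (pow_mem (mem_zpowers x) _))
  have h4 : orderOf x ≤ 4 := by
    obtain ⟨j, hj⟩ := isPElt_of_mem S.isPGroup' hx
    rw [hj] at h8 ⊢
    exact Nat.pow_le_pow_right two_pos (show j ≤ 2 by
      by_contra! h; exact h8 (pow_dvd_pow 2 h : 2 ^ 3 ∣ _))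
  have hsq : ∀ a ∈ (S : Subgroup G), a ≠ 1 → a ≠ z → a * a = z ∧ orderOf a = 4 := fun a ha p q => by
    obtain ⟨j, hj⟩ := isPElt_of_mem S.isPGroup' ha
    have h5 := hj ▸ (hm a ha).trans h4
    have h6 : j ≤ 2 := (Nat.pow_le_pow_iff_right one_lt_two).1 h5
    have h7 : a * a ≠ 1 := fun h => (hS a ha h).elim p q
    have h9 : j = 2 := by
      by_contra h
      exact h7 (by
        rw [← sq, ← orderOf_dvd_iff_pow_eq_one, hj]
        exact (pow_dvd_pow 2 (by omega) : 2 ^ j ∣ 2 ^ 1))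
    rw [h9] at hj
    refine ⟨(hS _ (mul_mem ha ha) ?_).resolve_left h7, hj⟩
    rw [← sq, ← sq, ← pow_mul, ← orderOf_dvd_iff_pow_eq_one, hj]; rfl
  have hx1 : x ≠ 1 ∧ x ≠ z := by
    obtain ⟨a, ha, ha'⟩ := SetLike.not_le_iff_exists.1 (hnc z hzS)
    have := (hsq a ha (fun e => ha' (e ▸ one_mem _)) fun e => ha' (e ▸ mem_zpowers _)).2 ▸ hm a ha
    exact ⟨fun e => by simp [e] at this, fun e => by rw [e, hz] at this; omega⟩
  obtain ⟨hxx, hx4⟩ := hsq x hx hx1.1 hx1.2
  have hinv : ∀ a, a * a = z → a⁻¹ = a * z := fun a h =>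
    inv_eq_of_mul_eq_one_right (by rw [← mul_assoc, h, hzz])
  have hzx : z ∈ zpowers x := hxx ▸ mul_mem (mem_zpowers x) (mem_zpowers x)
  have hout : ∀ c ∈ (S : Subgroup G), c ∉ zpowers x → c * x * c⁻¹ = x⁻¹ := fun c hc hc' => by
    have h5 : ∀ d ∈ (S : Subgroup G), d ∉ zpowers x → d * d = z := fun d hd hd' =>
      (hsq d hd (fun e => hd' (e ▸ one_mem _)) fun e => hd' (e ▸ hzx)).1
    have := (h5 _ (mul_mem hc hx) (mt (mul_mem_cancel_right (mem_zpowers x)).1 hc')).trans
      (h5 c hc hc').symm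
    calc _ = x⁻¹ * c⁻¹ * (c * x * (c * x)) * c⁻¹ := by group
      _ = _ := by rw [this]; group
  refine false_of_eight hz hu hk S hle ?_ (fun a ha p q => ⟨(hsq a ha p q).1, ?_⟩) ?_ hn
  · rw [← card_mul_relIndex (zpowers_le.2 hx), Nat.card_zpowers, hx4,
      show (zpowers x).relIndex S = 2 from index_eq_two_iff.2 ⟨⟨y, hy⟩, fun b => ?_⟩]
    by_cases hb : (b : G) ∈ zpowers x
    · exact .inr ⟨hb, fun h => hy' ((mul_mem_cancel_left hb).1 h)⟩
    · refine .inl ⟨by_contra fun h => ne_one_of_two hz ?_, hb⟩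
      have h5 := hout _ (mul_mem b.2 hy) h
      have h6 : (b : G) * y * x * ((b : G) * y)⁻¹ = x := by
        calc _ = b * (y * x * y⁻¹) * (b : G)⁻¹ := by group
          _ = x := by rw [hyx, ← conj_inv, hout b b.2 hb, inv_inv]
      rw [← hxx]; nth_rw 1 [h6.symm.trans h5]; simp
  · obtain ⟨b, hb, -, e⟩ := exists_inv S.isPGroup' hS ha
      (fun c hc => (hsq a ha p q).2 ▸ (hm c hc).trans h4) (hnc a ha)
    exact ⟨b, hb, e.trans (hinv a (hsq a ha p q).1)⟩
  · have : ⁅x, y⁆ = z :=
      calc _ = x * (y * x * y⁻¹)⁻¹ := by rw [commutatorElement_def]; group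
        _ = z := by rw [hyx, inv_inv, hxx]
    exact this ▸ commutator_mem_commutator (mem_top _) (mem_top _)

/-- Glauberman's `Z*`-theorem. -/
theorem zstar {G : Type u} [Group G] [Finite G] {u : G} (hu : IsIsolInv u) (g : G) :
    u * (g * u * g⁻¹) ∈ pPrimeCore 2 G :=
  zstar_of_class (fun _ _ => True) (fun _ _ _ _ h => h) (fun _ _ _ _ _ h => h)
    (fun G _ _ _ hO _ => brauerSuzuki G hO) G trivial hu g

end Cfsg
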