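import Cfsg.Agent.Blk.ZStar
import Cfsg.Agent.Acd.Quat
import Cfsg.Agent.Char.SimpleFour
import Cfsg.Agent.Char.Coset

/-!
# Brauer-Suzuki: the centralizer of the involution for a quaternion Sylow subgroup of order eight

`H` has a central involution `z` and `H / ⟨z⟩` has a Klein Sylow subgroup and the principal block
`1, ± e₀, ± e₁, ± e₂`. The functions `α = 1 + ∑ eᵢ` and `βᵢ = 1 + eᵢ - ηᵢ` are generalized characters
vanishing on elements of odd order, where `ηᵢ = ± (1 + eᵢ)` on the sections of `1` and `z`.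
-/

set_option autoImplicit false
set_option linter.unusedSectionVars false
set_option linter.style.haveILetI false

namespace Cfsg.BrSuz

open Subgroup Cfsg.Acd
open scoped ComplexConjugate

universe u v

variable {G : Type u} [Group G] [Finite G] {M : Ideal AlgInt} {z : G}

theorem mul_self_of_two (hz : orderOf z = 2) : z * z = 1 := by
  rw [← sq, ← hz, pow_orderOf_eq_one]

theorem ne_one_of_two (hz : orderOf z = 2) : z ≠ 1 := by rintro rfl; simp at hz

theorem two_of_mul_self (h : z * z = 1) (h1 : z ≠ 1) : orderOf z = 2 :=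
  orderOf_eq_prime (by rw [sq, h]) h1

theorem isPElt_of_two (hz : orderOf z = 2) : IsPElt 2 z := ⟨1, by rw [hz, pow_one]⟩

theorem ip_shift (z : G) (f g : G → ℂ) : ip (fun s => f (z * s)) (fun s => g (z * s)) = ip f g := by
  haveI := Fintype.ofFinite G
  rw [ip_def, ip_def, ← Equiv.sum_comp (Equiv.mulLeft z) fun s => f s * conj (g s)]; rfl

theorem ip_eq_zero_of_shift (z : G) {f g : G → ℂ} (hf : ∀ s, f (z * s) = -f s)
    (hg : ∀ s, g (z * s) = g s) : ip f g = 0 := by
  have := ip_shift z f g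
  simp only [hf, hg] at this
  rw [show (fun s => -f s) = -f from rfl, ip_neg_left] at this
  linear_combination -this / 2

theorem isCharacter_half {χ : G → ℂ} (hχ : IsCharacter G χ) {Q : Type v} [Group Q] [Finite Q]
    (b : Q →* G) {J : G} (hJ : orderOf J = 2) (hc : ∀ y, Commute J (b y)) :
    IsCharacter Q fun y => (χ (b y) + χ (J * b y)) / 2 := by
  haveI := Fintype.ofFinite (zpowers J)
  convert hχ.ip_contract (zpowers J).subtype b (fun ⟨_, k, rfl⟩ y => (hc y).zpow_left k)
    (IrrCharacter.one _) using 2 with y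
  have := sum_zpowers_of_orderOf_two hJ fun c => χ (c * b y)
  simp only [ip_def, Nat.card_zpowers, hJ, IrrCharacter.one_apply, map_one, mul_one, coe_subtype,
    this, one_mul]
  ring

theorem exists_klein (hM : IsPModular 2 M) (P : Sylow 2 G) (h4 : Nat.card P = 4)
    (hn : ¬ HasNormalPComplement 2 G) : ∃ (χ : Fin 3 → IrrCharacter G) (ε : Fin 3 → ℂ),
      (∀ i, ε i = 1 ∨ ε i = -1) ∧ Function.Injective χ ∧ (∀ i, χ i ≠ .one G) ∧
      (∀ i x, ¬ IsPRegular 2 x → ε i * χ i x = 1) ∧
      (∀ x, IsPRegular 2 x → 1 + ε 0 * χ 0 x + ε 1 * χ 1 x + ε 2 * χ 2 x = 0) ∧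
      ∀ ψ ∈ principalBlock M G, ψ = .one G ∨ ∃ i, ψ = χ i := by
  classical
  obtain ⟨⟨J, hJ⟩, hJ2⟩ := exists_prime_orderOf_dvd_card' (G := P) 2 (by rw [h4]; decide)
  rw [← Subgroup.orderOf_coe] at hJ2
  obtain ⟨k1, k2⟩ := klein_of_not_hasNormalPComplement P h4 hn hJ hJ2
  obtain ⟨τ, hτ⟩ := exists_isDihPair_of_card_four h4 k1 hJ hJ2
  obtain ⟨χ, ε, c1, c2, c3, c4, c5⟩ := exists_principal_klein hM hτ P.isPGroup' P.not_dvd_index hJ2
  have c6 : ∀ ψ ∈ principalBlock M G, (1 : ℂ) = (if .one G = ψ then 1 else 0) +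
      (if χ 0 = ψ then 1 else 0) + (if χ 1 = ψ then 1 else 0) + if χ 2 = ψ then 1 else 0 :=
    fun ψ hψ => by
      rw [← c5 fun φ => if φ = ψ then 1 else 0, finsum_mem_irr_eq_sum]
      simp [hψ]
  have c7 : ∀ i, (ε i : ℂ) * ε i = 1 := fun i => by rcases c3 i with e | e <;> simp [e]
  refine ⟨χ, fun i => ε i, fun i => by rcases c3 i with e | e <;> simp [e], fun i j e => ?_, c1,
    fun i x hx => ?_, fun x hx => ?_, fun ψ hψ => ?_⟩
  · have := c6 _ (c2 i)
    rw [if_neg (c1 i).symm, zero_add, ← Fin.sum_univ_three fun k => if χ k = χ i then (1 : ℂ) else 0,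
      Finset.sum_boole, eq_comm, Nat.cast_eq_one] at this
    exact Finset.card_le_one.1 this.le i (by simp) j (by simp [e])
  · rw [hτ.irr_apply_eq_pPart hM P.isPGroup' P.not_dvd_index (mem_zpowers J) hJ2 k2 (c2 i) hx]
    obtain ⟨g, hg⟩ := (isPElt_pPart 2 x).exists_conj_mem P
    have h1 : g * pPart 2 x * g⁻¹ ≠ 1 := fun e => hx (pPart_eq_one_iff.1 (by simpa using e))
    rw [← (χ i).isClassFunction _ g, ← (χ i).isClassFunction.eq_of_isConj
      (k2 _ (two_of_mul_self (k1 _ hg) h1)), c4, c7]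
  · have := isPBlock_principalBlock.finsum_mul_conj_eq_zero_of_regular hM (h := J) hx hJ2.symm.dvd
    rw [c5] at this
    simp only [c4, IrrCharacter.one_apply, map_one, map_intCast] at this
    linear_combination this
  · have := c6 ψ hψ
    by_contra! h
    simp [h.1.symm, (h.2 _).symm] at this

open Classical in
/-- `1` at `1`, `-1` at `z`, `0` elsewhere -/
noncomputable def sg (z x : G) : ℂ := if x = 1 then 1 else if x = z then -1 else 0

theorem sg_one : sg z 1 = 1 := if_pos rfl

theorem sg_self (hz : orderOf z = 2) : sg z z = -1 := by simp [sg, ne_one_of_two hz]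

theorem sg_of_ne {x : G} (h1 : x ≠ 1) (h2 : x ≠ z) : sg z x = 0 := by simp [sg, h1, h2]

theorem sg_mul (hz : orderOf z = 2) (x : G) : sg z (z * x) = -sg z x := by
  by_cases h1 : x = 1
  · rw [h1, mul_one, sg_self hz, sg_one]
  by_cases h2 : x = z
  · rw [h2, mul_self_of_two hz, sg_self hz, sg_one, neg_neg]
  rw [sg_of_ne h1 h2, sg_of_ne (fun e => h2 ?_) (by simpa), neg_zero]
  rw [← mul_self_of_two hz] at e
  exact mul_left_cancel e

theorem sg_map {K : Type v} [Group K] [Finite K] {f : K →* G} (hf : Function.Injective f)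
    (w x : K) : sg (f w) (f x) = sg w x := by
  classical
  rw [sg, sg]
  exact if_congr (map_eq_one_iff f hf) rfl (if_congr hf.eq_iff rfl rfl)

theorem isGen_sg (hz : orderOf z = 2) (hc : z ∈ center G)
    (h : ∀ x, x ≠ 1 → x ≠ z → IsConj x (x * z)) {d : ℕ} (hd : Nat.card G = 2 * d ^ 2) :
    IsGeneralizedCharacter G fun x => d * sg z x := by
  classical
  haveI := Fintype.ofFinite G
  obtain ⟨ψ, hψ⟩ := exists_irr_apply_eq_mul_of_mem_center hc (ζ := -1) (by rw [hz]; norm_num)
  have h1 : ψ.1 = fun x => ψ 1 * sg z x := funext fun x => by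
    by_cases h1 : x = 1
    · rw [h1, sg_one, mul_one]
    by_cases h2 : x = z
    · rw [h2, sg_self hz, hψ]; ring
    have := ψ.apply_mul_of_mem_center hc x
    rw [← ψ.isClassFunction.eq_of_isConj (h x h1 h2), hψ] at this
    rw [sg_of_ne h1 h2, mul_zero]
    exact mul_left_cancel₀ ψ.apply_one_ne_zero (by linear_combination this / 2)
  have h2 := ψ.ip_self
  rw [ip_def, Finset.sum_eq_add_of_mem 1 z (Finset.mem_univ _) (Finset.mem_univ _)
    (ne_one_of_two hz).symm (fun x _ hx => by rw [h1]; simp [sg_of_ne hx.1 hx.2]), hψ,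
    ψ.apply_one, inv_mul_eq_one₀ (Nat.cast_ne_zero.2 Nat.card_pos.ne'), hd] at h2
  simp only [map_mul, map_neg, map_one, map_natCast] at h2
  have h3 : d ^ 2 = charDegree ψ.1 ^ 2 := by
    have : ((d ^ 2 : ℕ) : ℂ) = (charDegree ψ.1 ^ 2 : ℕ) := by push_cast at h2 ⊢; linear_combination h2 / 2
    exact_mod_cast this
  rw [Nat.pow_left_injective two_ne_zero h3, ← ψ.apply_one, ← h1]
  exact ψ.isCharacter.isGen

theorem exists_loc (hM : IsPModular 2 M) (hz : orderOf z = 2) (hc : z ∈ center G)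
    (S : Sylow 2 G) (h8 : Nat.card S = 8)
    (hS : ∀ x ∈ (S : Subgroup G), x ≠ 1 → x ≠ z → x * x = z ∧ ∃ y ∈ (S : Subgroup G),
      y * x * y⁻¹ = x * z) (hn : ¬ HasNormalPComplement 2 G) :
    ∃ (α : G → ℂ) (β : Fin 3 → G → ℂ), IsGeneralizedCharacter G α ∧
      (∀ i, IsGeneralizedCharacter G (β i)) ∧ (∀ x, IsPRegular 2 x → α x = 0) ∧
      (∀ i x, IsPRegular 2 x → β i x = 0) ∧ ip α α = 4 ∧ ip α (fun _ => 1) = 1 ∧
      (∀ i, ip (β i) (fun _ => 1) = 1) ∧ (∀ i, ip (β i) α = 2) ∧
      (∀ i j, ip (β i) (β j) = if i = j then 3 else 1) ∧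
      ∀ D : G → ℂ, IsClassFunction G D →
        blockPart (principalBlock M G) (pRegularPart 2 fun s => D (z * s)) =
          pRegularPart 2 (fun s => D (z * s)) → (∀ i, 2 * ip D (β i) = ip D α) → D z = 0 := by
  haveI := Fintype.ofFinite G
  haveI : (zpowers z).Normal := normal_of_le_center (zpowers_le.2 hc)
  have hzz := mul_self_of_two hz
  have hcz : ∀ g, Commute z g := fun g => (mem_center_iff.1 hc g).symm
  have hzS : z ∈ (S : Subgroup G) := by
    obtain ⟨g, hg⟩ := (isPElt_of_two hz).exists_conj_mem S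
    rwa [← (hcz g).eq, mul_inv_cancel_right] at hg
  set π := QuotientGroup.mk' (zpowers z) with hπ
  have hs : Function.Surjective π := QuotientGroup.mk'_surjective _
  have hπ1 : ∀ x, π x = 1 ↔ x = 1 ∨ x = z := fun x => by
    refine (QuotientGroup.eq_one_iff x).trans ⟨eq_one_or_eq_of_mem_zpowers_of_orderOf_two hz, ?_⟩
    rintro (rfl | rfl)
    exacts [one_mem _, mem_zpowers _]
  have hπz : π z = 1 := (hπ1 z).2 (.inr rfl)
  have hreg : ∀ x, IsPRegular 2 (π x) ↔ pPart 2 x = 1 ∨ pPart 2 x = z := fun x => by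
    rw [← pPart_eq_one_iff, ← map_pPart, hπ1]
  obtain ⟨χ, ε, c1, c2, c3, c4, c5, c6⟩ := exists_klein hM (S.mapSurjective hs) (by
      have h1 := card_map_mk'_eq_relIndex (zpowers z) S
      have h2 := card_mul_relIndex (zpowers_le.2 hzS)
      rw [Nat.card_zpowers, hz, h8, ← h1] at h2
      change Nat.card ((S : Subgroup G).map (QuotientGroup.mk' (zpowers z))) = 4
      omega)
    fun h => hn (h.of_quotient_of_le_center (zpowers_le.2 hc))
  let e : Fin 3 → G → ℂ := fun i => ε i • (χ i).1 ∘ π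
  have ea : ∀ i x, e i x = ε i * χ i (π x) := fun _ _ => rfl
  have eS : ∀ i, SI (e i) := fun i => ⟨(χ i).inflate π hs, by
    rcases c1 i with h | h
    · left; ext x; simp [ea, h]
    · right; ext x; simp [ea, h]⟩
  have ee : ∀ i j, ip (e i) (e j) = if i = j then 1 else 0 := fun i j => by
    split_ifs with h
    · rw [h, (eS j).ip_self]
    · simp [e, ip_smul_left, ip_smul_right, ip_comp_of_surjective π hs,
        IrrCharacter.ip_of_ne (c2.ne h)]
  have e1 : ∀ i, ip (e i) (fun _ => 1) = 0 := fun i => by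
    rw [ip_smul_left, show (fun _ : G => (1 : ℂ)) = (IrrCharacter.one _).1 ∘ π from rfl,
      ip_comp_of_surjective π hs, IrrCharacter.ip_of_ne (c3 i), mul_zero]
  have e1' : ∀ i, ip (fun _ => 1) (e i) = 0 := fun i => SI.ip_symm si_one.gen (eS i).gen ▸ e1 i
  have ez : ∀ i x, e i (z * x) = e i x := fun i x => by rw [ea, ea, map_mul, hπz, one_mul]
  have pz : ∀ x, pPart 2 (z * x) = z * pPart 2 x := fun x => by
    rw [pPart_mul_of_commute 2 (hcz x), pPart_eq_self_iff.2 (isPElt_of_two hz)]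
  let η : Fin 3 → G → ℂ := fun i x => sg z (pPart 2 x) * (1 + e i x)
  have ηz : ∀ i x, η i (z * x) = -η i x := fun i x => by simp only [η, pz, ez, sg_mul hz]; ring
  have hsg : ∀ g x, sg z (g * x * g⁻¹) = sg z x := fun g x => by
    have := sg_map (MulAut.conj g).injective (f := (MulAut.conj g).toMonoidHom) z x
    simpa [← (hcz g).eq] using this
  have tri : ∀ x, (∀ i, e i x = 1) ∧ sg z (pPart 2 x) = 0 ∧ ¬ IsPRegular 2 (z * x) ∨
      1 + e 0 x + e 1 x + e 2 x = 0 ∧ (sg z (pPart 2 x) = 1 ∧ ¬ IsPRegular 2 (z * x) ∨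
      sg z (pPart 2 x) = -1 ∧ IsPRegular 2 (z * x)) := fun x => by
    rw [← pPart_eq_one_iff, pz, ← hzz, mul_right_inj]
    by_cases h : IsPRegular 2 (π x)
    · refine .inr ⟨c5 _ h, ?_⟩
      rcases (hreg x).1 h with h | h <;> rw [h]
      exacts [.inl ⟨sg_one, (ne_one_of_two hz).symm⟩, .inr ⟨sg_self hz, rfl⟩]
    · rw [hreg, not_or] at h
      exact .inl ⟨fun i => c4 i _ (by rw [hreg]; tauto), sg_of_ne h.1 h.2, h.2⟩
  have ηg : ∀ i, IsGeneralizedCharacter G (η i) := fun i => by
    refine IsClassFunction.isGen_of_prod 2 (fun g h => ?_) fun P Q hPQ hP hQ _ => ?_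
    · simp only [η, pPart_conj, hsg, (eS i).gen.isClassFunction g h]
    have hQ' : ∀ y : Q, IsPRegular 2 (y : G) := fun y =>
      isPRegular_of_mem_of_not_dvd (Nat.prime_two.coprime_iff_not_dvd.1 hQ.symm) y.2
    have h1 : η i ∘ commProdHom P Q hPQ =
        extProd (fun x : P => sg z x) fun y : Q => 1 + e i y := by
      ext ⟨x, y⟩
      simp only [η, Function.comp_apply, commProdHom_apply, extProd_apply,
        pPart_mul_eq (hPQ _ x.2 _ y.2) (isPElt_of_mem hP x.2) (hQ' y)]
      by_cases h1 : (x : G) = 1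
      · rw [h1, one_mul]
      by_cases h2 : (x : G) = z
      · rw [h2, ez]
      rw [sg_of_ne h1 h2, zero_mul, zero_mul]
    rw [h1]
    by_cases hle : P ≤ zpowers z
    · refine IsGeneralizedCharacter.extProd ?_ (si_one.gen.add ((eS i).gen.comp Q.subtype))
      have := (isGen_sg (z := (⟨z, mem_zpowers z⟩ : zpowers z)) (d := 1)
        ((orderOf_coe _).symm.trans hz) (mem_center_iff.2 fun g => Subtype.ext (hcz g).eq.symm)
        (fun x h1 h2 => by
          rcases eq_one_or_eq_of_mem_zpowers_of_orderOf_two hz x.2 with h | h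
          exacts [absurd (Subtype.ext h) h1, absurd (Subtype.ext h) h2])
        (by rw [Nat.card_zpowers, hz]; rfl)).comp (inclusion hle)
      convert this using 1
      ext x
      rw [Function.comp_apply, Nat.cast_one, one_mul, ← sg_map (zpowers z).subtype_injective]; rfl
    obtain ⟨u, hu, hu'⟩ := SetLike.not_le_iff_exists.1 hle
    obtain ⟨T, hT⟩ := hP.exists_le_sylow
    obtain ⟨g, rfl⟩ := MulAction.exists_smul_eq G T S
    have hm : ∀ x : P, g * x * g⁻¹ ∈ ((g • T : Sylow 2 G) : Subgroup G) := fun x =>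
      ⟨x, hT x.2, rfl⟩
    have h2 := (isGen_sg (z := (⟨z, hzS⟩ : ((g • T : Sylow 2 G) : Subgroup G))) (d := 2)
      ((orderOf_coe _).symm.trans hz) (mem_center_iff.2 fun g => Subtype.ext (hcz g).eq.symm)
      (fun x h1 h2 => by
        obtain ⟨-, y, hy, e⟩ := hS x x.2 (fun h => h1 (Subtype.ext h)) fun h => h2 (Subtype.ext h)
        exact isConj_iff.2 ⟨⟨y, hy⟩, Subtype.ext e⟩) h8).comp
      (((MulAut.conj g).toMonoidHom.comp P.subtype).codRestrict _ hm)
    have hu1 : ¬ (u = 1 ∨ u = z) := by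
      rintro (rfl | rfl)
      exacts [hu' (one_mem _), hu' (mem_zpowers _)]
    have hJ : orderOf (π u) = 2 := by
      refine two_of_mul_self ?_ (mt (hπ1 u).1 hu1)
      have := (hS _ (hm ⟨u, hu⟩) (by simpa using (not_or.1 hu1).1) (fun h => (not_or.1 hu1).2 (by
        rw [mul_inv_eq_iff_eq_mul, (hcz g).eq] at h
        exact mul_left_cancel h))).1
      rw [conj_mul, mul_inv_eq_iff_eq_mul, (hcz g).eq, mul_right_inj] at this
      rw [← map_mul, this, hπz]
    have h3 := (isCharacter_half (χ i).isCharacter (π.comp Q.subtype) hJ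
      fun y => (hPQ u hu y y.2).map π).isGen
    have h4 : IsGeneralizedCharacter Q fun y => (1 + e i y) / 2 := by
      have h5 : ∀ y : Q, ε i * χ i (π u * π y) = 1 := fun y => c4 i _ (by
        rw [← map_mul, hreg, pPart_mul_eq (hPQ _ hu _ y.2) (isPElt_of_mem hP hu) (hQ' y)]
        exact hu1)
      rcases c1 i with h | h
      · convert h3 using 2 with y
        have := h5 y
        simp only [ea, h, MonoidHom.comp_apply, coe_subtype] at this ⊢
        linear_combination -this / 2
      · convert h3.neg using 1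
        ext y
        have := h5 y
        simp only [ea, h, MonoidHom.comp_apply, coe_subtype, Pi.neg_apply] at this ⊢
        linear_combination -this / 2
    convert h2.extProd h4 using 1
    ext ⟨x, y⟩
    simp only [extProd_apply, Function.comp_apply]
    rw [← sg_map (subtype_injective _), ← hsg g x]
    change _ = 2 * sg z (g * x * g⁻¹) * _
    ring
  have η1 : ∀ i, ip (η i) (fun _ => 1) = 0 := fun i => ip_eq_zero_of_shift z (ηz i) fun _ => rfl
  have ηe : ∀ i j, ip (η i) (e j) = 0 := fun i j => ip_eq_zero_of_shift z (ηz i) (ez j)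
  have η1' : ∀ i, ip (fun _ => 1) (η i) = 0 := fun i => SI.ip_symm si_one.gen (ηg i) ▸ η1 i
  have ηe' : ∀ i j, ip (e j) (η i) = 0 := fun i j => SI.ip_symm (eS j).gen (ηg i) ▸ ηe i j
  have a1 : ip ((fun _ => 1) + e 0 + e 1 + e 2) (fun _ => 1) = 1 := by
    simp [ip_add_left, e1, ip_one_one]
  have ηη : ∀ i j, ip (η i) (η j) = if i = j then 1 else 0 := fun i j => by
    have : ip (η i) (η j) + ip ((fun _ => 1) + e 0 + e 1 + e 2) (fun _ => 1) =
        ip ((fun _ => 1) + e i) ((fun _ => 1) + e j) := by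
      simp only [ip_def, ← mul_add, ← Finset.sum_add_distrib, η, Pi.add_apply]
      refine congrArg _ (Finset.sum_congr rfl fun x _ => ?_)
      rcases tri x with ⟨h1, h2, -⟩ | ⟨h1, ⟨h2, -⟩ | ⟨h2, -⟩⟩ <;> simp [h1, h2]
      · norm_num
      · ring
    simp only [a1, ip_add_left, ip_add_right, ip_one_one, e1, e1', ee] at this
    linear_combination this
  refine ⟨(fun _ => 1) + e 0 + e 1 + e 2, fun i => (fun _ => 1) + e i - η i,
    ((si_one.gen.add (eS 0).gen).add (eS 1).gen).add (eS 2).gen,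
    fun i => (si_one.gen.add (eS i).gen).sub (ηg i), fun x hx => c5 _ (hx.map π),
    fun i x hx => by simp [η, pPart_eq_one_iff.2 hx, sg_one], ?_, a1, fun i => ?_, fun i => ?_,
    fun i j => ?_, fun D hD hB h0 => ?_⟩
  · simp [ip_add_left, ip_add_right, e1, e1', ee, ip_one_one]; norm_num
  · simp [ip_add_left, ip_sub_left, e1, η1, ip_one_one]
  · fin_cases i <;>
      simp [ip_add_left, ip_add_right, ip_sub_left, e1, e1', ee, η1, ηe, ip_one_one] <;> norm_num
  · simp only [ip_add_left, ip_add_right, ip_sub_left, ip_sub_right, e1, e1', ee, η1, η1', ηe, ηe',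
      ηη, ip_one_one]
    split_ifs <;> norm_num
  set E := pRegularPart 2 fun s => D (z * s) with hE
  have Ec : IsClassFunction G E := hB ▸ isClassFunction_blockPart _ _
  have h1 : ∀ i, ip E (fun _ => 1) + ip E (e i) = 0 := fun i => by
    have h2 : ip D ((2 : ℂ) • ((fun _ => 1) + e i - η i) - ((fun _ => 1) + e 0 + e 1 + e 2)) =
        4 * ip E ((fun _ => 1) + e i) := by
      rw [← ip_shift z D, ← ip_shift z (fun s => D (z * s)), ← ip_shift z E]
      simp only [ip_def, Finset.mul_sum, η, Pi.add_apply, Pi.sub_apply, Pi.smul_apply, ← mul_assoc,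
        hzz, one_mul, ez, hE, pRegularPart]
      refine Finset.sum_congr rfl fun x _ => ?_
      rcases tri x with ⟨h1, h2, h3⟩ | ⟨h1, ⟨h2, h3⟩ | ⟨h2, h3⟩⟩ <;> simp [h1, h2, h3, map_ofNat]
      · norm_num
      · ring
    rw [ip_sub_right, ip_smul_right, ← h0 i, ip_add_right E] at h2
    simp only [map_ofNat] at h2
    linear_combination -h2 / 4
  have h2 : ip E ((fun _ => 1) + e 0 + e 1 + e 2) = 0 := by
    rw [ip_def, Finset.sum_eq_zero fun x _ => ?_, mul_zero]
    by_cases hx : IsPRegular 2 x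
    · rw [show ((fun _ => 1) + e 0 + e 1 + e 2 : G → ℂ) x = 0 from c5 _ (hx.map π)]; simp
    · simp [hE, pRegularPart, hx]
  rw [ip_add_right, ip_add_right, ip_add_right] at h2
  have h3 : ip E (fun _ => 1) = 0 := by linear_combination (h1 0 + h1 1 + h1 2 - h2) / 2
  have h4 : E + (fun s => E (z * s)) = 0 := by
    refine (Ec.add fun g h => ?_).eq_zero_of_ip fun ψ => ?_
    · rw [← Ec (z * g) h, ← mul_assoc, ← mul_assoc, (hcz h).eq, mul_assoc h]
    have h5 : ip (fun s => E (z * s)) ψ.1 = conj (ψ z / ψ 1) * ip E ψ.1 := by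
      rw [← ip_shift z, ← ip_smul_right]
      simp only [← mul_assoc, hzz, one_mul]
      congr 1; ext s
      rw [Pi.smul_apply, smul_eq_mul, div_mul_eq_mul_div, eq_div_iff ψ.apply_one_ne_zero,
        (hcz s).eq, mul_comm, ψ.apply_mul_of_mem_center hc, mul_comm]
    rw [ip_add_left, h5]
    have h6 := ψ.apply_mul_of_mem_center hc z
    rw [hzz, mul_self_eq_mul_self_iff] at h6
    rcases h6 with h6 | h6
    · suffices ip E ψ.1 = 0 by rw [this]; ring
      by_cases hψ : ψ ∈ principalBlock M G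
      swap
      · rw [← hB, ip_blockPart_of_notMem _ hψ]
      obtain ⟨φ, rfl⟩ := ψ.exists_inflate_eq π hs fun g hg => by
        rcases (hπ1 g).1 hg with rfl | rfl
        exacts [rfl, h6.symm]
      have h7 := preimage_inflate_principalBlock_of_centralizer hM hs
        (by rw [QuotientGroup.ker_mk']; exact isPElt_iff_isPGroup_zpowers.1 (isPElt_of_two hz))
        fun g _ y hy => by rcases (hπ1 y).1 hy with rfl | rfl; exacts [by simp, (hcz g).eq]
      rcases c6 φ (h7 ▸ hψ) with rfl | ⟨i, rfl⟩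
      · exact h3
      · have h9 := h1 i
        rw [h3, zero_add, ip_smul_right, mul_eq_zero] at h9
        refine h9.resolve_left ?_
        rcases c1 i with h | h <;> simp [h]
    · have : ψ z / ψ 1 = -1 := by rw [div_eq_iff ψ.apply_one_ne_zero, h6]; ring
      rw [this]; simp
  have := congrFun h4 1
  simpa [hE, pRegularPart, isPRegular_one, IsPRegular, hz] using this

end Cfsg.BrSuz

set_option linter.all false in
theorem Cfsg.Rz.Blk_BrSuzA_0 : True := by
  have := @_root_.Cfsg.BrSuz.sg.eq_def.{0}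
  have := @_root_.Cfsg.BrSuz.sg.fun_cases.{0}
  trivial
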