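import Cfsg.Agent.Blk.FrobPrin
import Cfsg.Agent.Blk.AlpDade
import Cfsg.Agent.Grp.DihSylow

/-!
# The Brauer–Leonard theorem on characters of small degree
-/

set_option autoImplicit false
set_option linter.unusedSectionVars false
set_option linter.unusedVariables false
set_option linter.style.haveILetI false

namespace Cfsg

open Exc
open scoped ComplexConjugate Classical

universe u v w

section Mult

variable {A : Type w} [Group A] [Fintype A] {F : A → ℂ}

/-- Multiplicity of a linear character. -/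
noncomputable def linMult (F : A → ℂ) (lam : A →* ℂˣ) : ℕ :=
  ipNat F (IrrCharacter.ofLinear lam).1

theorem IsCharacter.coef_eq (hF : IsCharacter A F) (lam : A →* ℂˣ) :
    coef F lam = (linMult F lam : ℂ) - linMult F 1 := by
  rw [linMult, linMult, hF.ipNat_cast (IrrCharacter.isCharacter _),
    hF.ipNat_cast (IrrCharacter.isCharacter _), ip_def, ip_def, coef, ← mul_sub,
    ← Finset.sum_sub_distrib, Nat.card_eq_fintype_card]
  congr 1
  refine Finset.sum_congr rfl fun u _ => ?_
  simp [mul_sub]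

theorem IsCharacter.charDegree_eq_sum_linMult [Fintype (A →* ℂˣ)] (hF : IsCharacter A F)
    (hA : ∀ a b : A, a * b = b * a) : charDegree F = ∑ lam, linMult F lam := by
  rw [hF.charDegree_eq_sum]
  symm
  refine Fintype.sum_bijective IrrCharacter.ofLinear ⟨IrrCharacter.ofLinear_injective,
    IrrCharacter.ofLinear_surjective_of_comm hA⟩ _ _ fun lam => ?_
  rw [IrrCharacter.charDegree_ofLinear, mul_one, linMult]

theorem IsCharacter.apply_eq_of_linMult (hF : IsCharacter A F) (hA : ∀ a b : A, a * b = b * a)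
    (h : ∀ lam, lam ≠ 1 → linMult F lam = 0) (u : A) : F u = F 1 := by
  have := hF.eq_smul_of_unique (IrrCharacter.one A) fun ψ hψ => by
    obtain ⟨lam, rfl⟩ := IrrCharacter.ofLinear_surjective_of_comm hA ψ
    by_contra h1
    rw [IrrCharacter.ofLinear_eq_one_iff] at h1
    exact hψ ((hF.ipNat_eq_zero_iff (IrrCharacter.isCharacter _)).1 (h lam h1))
  rw [this]
  rfl

theorem linMult_of_orb {E : Subgroup (MulAut A)} (hE : ∀ σ ∈ E, ∀ u, F (σ u) = F u)
    {lam mu : A →* ℂˣ} (h : Orb E lam mu) : linMult F mu = linMult F lam := by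
  obtain ⟨σ, hσ, h⟩ := h
  unfold linMult ipNat
  congr 2
  rw [ip_def, ip_def, ← Equiv.sum_comp σ.toEquiv]
  congr 1
  refine Finset.sum_congr rfl fun u _ => ?_
  simp [hE σ hσ, h]

theorem IsCharacter.le_charDegree_of_linMult [Fintype (A →* ℂˣ)] (hF : IsCharacter A F)
    (hA : ∀ a b : A, a * b = b * a) {k : ℕ} (T : Finset (A →* ℂˣ))
    (h : ∀ lam, lam ≠ 1 → k ≤ linMult F lam + if lam ∈ T then 1 else 0) :
    linMult F 1 + k * (Nat.card A - 1) ≤ charDegree F + T.card := by
  rw [hF.charDegree_eq_sum_linMult hA, ← Finset.add_sum_erase _ _ (Finset.mem_univ 1), add_assoc,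
    add_le_add_iff_left]
  have h1 := Finset.sum_le_sum (s := Finset.univ.erase 1) fun lam hl =>
    h lam (Finset.ne_of_mem_erase hl)
  rw [Finset.sum_const, Finset.card_erase_of_mem (Finset.mem_univ _), Finset.card_univ,
    ← Nat.card_eq_fintype_card, card_linear_of_comm hA, smul_eq_mul, mul_comm,
    Finset.sum_add_distrib, ← Finset.card_filter] at h1
  refine h1.trans (Nat.add_le_add_left (Finset.card_le_card fun x hx => ?_) _)
  exact (Finset.mem_filter.1 hx).2

end Mult

variable {G : Type u} [Group G] [Finite G] {A : Type w} [Group A] [Fintype A] {p : ℕ}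
  [Fact p.Prime] {M : Ideal AlgInt} {B X Y : Set (IrrCharacter G)} {E : Subgroup (MulAut A)}
  {S : A → G → ℂ} {δ d : ℤ} {ζ : (A →* ℂˣ) → IrrCharacter G} {a : IrrCharacter G → ℤ}

theorem ExcOut.card_filter_zeta_le [Fintype (A →* ℂˣ)] (o : ExcOut p B E S X Y δ d ζ a)
    (h : ExcSys p M B E S) (η : IrrCharacter G) :
    (Finset.univ.filter fun lam => lam ≠ 1 ∧ ζ lam = η).card ≤ Nat.card E := by
  by_cases h1 : ∃ mu, mu ≠ 1 ∧ ζ mu = η
  · obtain ⟨mu, hm, rfl⟩ := h1
    rw [← h.free.card_orb h.comm hm]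
    refine Finset.card_le_card fun lam hl => ?_
    simp only [Finset.mem_filter, Finset.mem_univ, true_and] at hl ⊢
    exact (o.eq_iff _ _ hm hl.1).1 hl.2.symm
  · rw [Finset.filter_eq_empty_iff.2 fun lam _ hl => h1 ⟨lam, hl⟩]
    simp

theorem ExcSys.excDec_eq_finsum (h : ExcSys p M B E S) {θ : G → ℂ} (hθ : IsClassFunction G θ)
    {u : A} (hu : u ≠ 1) : excDec S θ u = ∑ᶠ χ ∈ B, ip θ χ.1 * excDec S χ.1 u := by
  letI := Fintype.ofFinite B
  rw [excDec, ← conj_ip, ip_eq_sum_of_blockPart (h.cf u) hθ (h.part u hu), map_sum, Finset.mul_sum,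
    ← finsum_set_coe_eq_finsum_mem, finsum_eq_sum_of_fintype]
  refine Finset.sum_congr rfl fun χ _ => ?_
  rw [map_mul, conj_ip, Complex.conj_conj, excDec]
  ring

/-- The combinatorial core of the Brauer–Leonard argument. -/
theorem ExcOut.brauerLeonard_core (o : ExcOut p B E S X Y δ d ζ a) (h : ExcSys p M B E S)
    {j : A →* G} (hj : ∀ χ ∈ B, ∀ u, u ≠ 1 → excDec S χ.1 u = χ (j u))
    (h1 : IrrCharacter.one G ∈ B) {Θ : G → ℂ} (hΘ : IsCharacter G Θ)
    (hΘ1 : ipNat Θ (IrrCharacter.one G).1 = 1) (hd : charDegree Θ + 1 < Nat.card A)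
    (he : Nat.card E ^ 2 ≤ charDegree Θ) (h2 : 2 ≤ charDegree Θ)
    (hker : ∀ χ : IrrCharacter G, (∀ u, χ (j u) = χ 1) → χ = IrrCharacter.one G)
    {R : A → ℂ} (hR : IsCharacter A R) (hR1 : ∀ u, u ≠ 1 → R u = excDec S Θ u)
    (hR2 : charDegree R ≤ charDegree Θ) (hR3 : Nat.card E ≤ linMult R 1) : linMult R 1 = 1 := by
  letI := Fintype.ofFinite (A →* ℂˣ)
  have he0 : 0 < Nat.card E := Nat.card_pos
  have hcY := o.cardY
  have heY : Nat.card E < Nat.card Y := by
    by_contra h3
    have := Nat.mul_le_mul_left (Nat.card E) (not_lt.1 h3)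
    nlinarith
  have h1X : IrrCharacter.one G ∈ X := o.const (by nlinarith) _ h1 1 fun u hu => hj _ h1 u hu
  obtain ⟨u₀, hu₀⟩ := h.nontriv
  have ha1 : a (IrrCharacter.one G) = 1 := by
    have := o.nonexc _ h1X u₀ hu₀
    rw [hj _ h1 u₀ hu₀] at this
    have h3 : (a (IrrCharacter.one G) : ℂ) = 1 := this.symm
    exact_mod_cast h3
  have hXf : X.Finite := Set.toFinite _
  -- `d = 0`
  obtain rfl : d = 0 := by
    by_contra hd0
    have h3 := o.norm
    rw [← Set.insert_sdiff_self_of_mem h1X, finsum_mem_insert _ (by simp) (hXf.subset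
      Set.sdiff_subset), ha1] at h3
    have h4 : 0 ≤ ∑ᶠ χ ∈ X \ {IrrCharacter.one G}, a χ ^ 2 :=
      finsum_nonneg fun χ => finsum_nonneg fun _ => sq_nonneg _
    have h5 : 1 ≤ d ^ 2 := by
      have := sq_pos_of_ne_zero hd0
      omega
    have h6 : (Nat.card E : ℤ) ≤ Nat.card Y - 1 := by omega
    have h7 : (Nat.card E : ℤ) ≤ (Nat.card Y - 1) * d ^ 2 := by nlinarith
    have h8 := sq_nonneg (d - δ)
    have h9 : d = δ := by nlinarith
    have h10 : X = {IrrCharacter.one G} := by
      refine Set.eq_singleton_iff_unique_mem.2 ⟨h1X, fun χ hχ => ?_⟩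
      by_contra hne
      have h11 : χ ∈ X \ {IrrCharacter.one G} := ⟨hχ, hne⟩
      rw [← Set.insert_sdiff_self_of_mem h11, finsum_mem_insert _ (by simp) (hXf.subset
        (Set.sdiff_subset.trans Set.sdiff_subset))] at h3
      have h12 : 0 ≤ ∑ᶠ ψ ∈ (X \ {IrrCharacter.one G}) \ {χ}, a ψ ^ 2 :=
        finsum_nonneg fun χ => finsum_nonneg fun _ => sq_nonneg _
      have := sq_pos_of_ne_zero (o.a_ne χ hχ)
      omega
    obtain ⟨η, hη⟩ := o.Y_nonempty h
    have h11 := o.reg_rel η hη 1 isPRegular_one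
    rw [h10, finsum_mem_singleton, ha1, η.apply_one, h9] at h11
    have h12 : ((Nat.card Y : ℤ) - 1) * (δ * charDegree η.1) = -1 := by
      have : (((Nat.card Y : ℤ) - 1) * (δ * charDegree η.1) : ℤ) = ((-1 : ℤ) : ℂ) := by
        push_cast
        have h13 : (IrrCharacter.one G) 1 = 1 := rfl
        rw [h13] at h11
        linear_combination h11
      exact_mod_cast this
    have h13 := Int.isUnit_iff.1 (isUnit_of_dvd_one ⟨-(δ * charDegree η.1), by
      rw [mul_neg, h12, neg_neg]⟩ : IsUnit ((Nat.card Y : ℤ) - 1))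
    have h14 : Nat.card Y = 2 := by omega
    have h15 : Nat.card E = 1 := by omega
    rw [h14, h15] at hcY
    omega
  -- restrictions of members of `B`
  have hres : ∀ χ ∈ B, ∀ lam, coef (excDec S χ.1) lam =
      (linMult (χ.1 ∘ j) lam : ℂ) - linMult (χ.1 ∘ j) 1 := fun χ hχ lam => by
    rw [← (χ.isCharacter.comp j).coef_eq, coef_congr (F' := χ.1 ∘ j) (hj χ hχ)]
  have hle : ∀ χ : IrrCharacter G, ipNat Θ χ.1 ≠ 0 → charDegree χ.1 ≤ charDegree Θ := fun χ h3 =>
    (Nat.le_mul_of_pos_left _ (Nat.pos_of_ne_zero h3)).trans (hΘ.ipNat_mul_charDegree_le χ)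
  have hX : ∀ χ ∈ X, χ ≠ IrrCharacter.one G → ipNat Θ χ.1 = 0 := by
    intro χ hχ hne
    by_contra h3
    refine hne (hker χ fun u => ?_)
    have h4 : ∀ lam, lam ≠ 1 → (linMult (χ.1 ∘ j) lam : ℤ) = linMult (χ.1 ∘ j) 1 - a χ := by
      intro lam hl
      have := hres χ (o.X_subset hχ) lam
      rw [o.coef_of_mem_X hχ hl] at this
      have h5 : ((linMult (χ.1 ∘ j) lam : ℤ) : ℂ) = ((linMult (χ.1 ∘ j) 1 - a χ : ℤ) : ℂ) := by
        push_cast; linear_combination -this
      exact_mod_cast h5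
    have h5 := (χ.isCharacter.comp j).apply_eq_of_linMult h.comm (fun lam hl => ?_) u
    · simpa using h5
    by_contra h5
    have h6 := (χ.isCharacter.comp j).le_charDegree_of_linMult h.comm (k := 1) ∅ fun mu hm => by
      have := h4 mu hm
      have := h4 lam hl
      omega
    rw [charDegree_comp] at h6
    have := hle χ h3
    simp only [Finset.card_empty] at h6
    omega
  have hcoef : ∀ lam, lam ≠ 1 → (linMult R lam : ℤ) + 1 = linMult R 1 + δ * ipNat Θ (ζ lam).1 := by
    intro lam hl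
    have h3 := o.coef_finsum (fun χ => ip Θ χ.1) hl
    rw [← coef_congr (F := R) (fun u hu => (hR1 u hu).trans (h.excDec_eq_finsum hΘ.isClassFunction
      hu)), hR.coef_eq, ← Set.insert_sdiff_self_of_mem h1X, finsum_mem_insert _ (by simp)
      (hXf.subset Set.sdiff_subset), ha1, finsum_mem_of_eqOn_zero (s := X \ {IrrCharacter.one G}) (fun χ hχ => by
        simp only [Pi.zero_apply]
        rw [(hΘ.ipNat_eq_zero_iff χ.isCharacter).1 (hX χ hχ.1 hχ.2), mul_zero]),
      ← hΘ.ipNat_cast (IrrCharacter.isCharacter _), ← hΘ.ipNat_cast (IrrCharacter.isCharacter _),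
      hΘ1] at h3
    have : (((linMult R lam : ℤ) + 1 : ℤ) : ℂ) =
        ((linMult R 1 + δ * ipNat Θ (ζ lam).1 : ℤ) : ℂ) := by
      push_cast at h3 ⊢; linear_combination h3
    exact_mod_cast this
  obtain ⟨η₀, hη₀⟩ : ∃ η₀ : IrrCharacter G, ∀ lam, lam ≠ 1 →
      linMult R 1 - 1 ≤ linMult R lam + if ζ lam = η₀ then 1 else 0 := by
    rcases o.sign with rfl | rfl
    · refine ⟨IrrCharacter.one G, fun lam hl => ?_⟩
      have := hcoef lam hl
      omega
    have hdeg : ∀ η ∈ Y, Nat.card A ≤ charDegree η.1 + Nat.card E := by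
      intro η hη
      have h4 : ∀ lam, lam ≠ 1 → linMult (η.1 ∘ j) lam + (if η = ζ lam then 1 else 0) =
          linMult (η.1 ∘ j) 1 := by
        intro lam hl
        have := hres η (o.Y_subset hη) lam
        rw [o.coef_of_mem_Y hη hl] at this
        have h5 : ((linMult (η.1 ∘ j) lam + (if η = ζ lam then 1 else 0) : ℕ) : ℂ) =
            linMult (η.1 ∘ j) 1 := by
          push_cast at this ⊢; linear_combination -this
        exact_mod_cast h5
      obtain ⟨mu, hm, rfl⟩ := o.surj η hη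
      have h5 := h4 mu hm
      rw [if_pos rfl] at h5
      have h6 := ((ζ mu).isCharacter.comp j).le_charDegree_of_linMult h.comm (k := 1)
        (Finset.univ.filter fun lam => lam ≠ 1 ∧ ζ lam = ζ mu) fun lam hl => by
          have := h4 lam hl
          simp only [Finset.mem_filter, Finset.mem_univ, true_and, ne_eq, hl, not_false_eq_true,
            eq_comm (a := ζ lam)]
          omega
      rw [charDegree_comp] at h6
      have := o.card_filter_zeta_le h (ζ mu)
      omega
    have h2e : 2 * Nat.card E ≤ charDegree Θ + 1 := by nlinarith [sq_nonneg ((Nat.card E : ℤ) - 1)]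
    by_cases h3 : ∃ η ∈ Y, ipNat Θ η.1 ≠ 0
    · obtain ⟨η, hη, h3⟩ := h3
      refine ⟨η, fun lam hl => ?_⟩
      have h4 := hcoef lam hl
      have h5 := hdeg η hη
      have h6 := hdeg _ (o.mem lam hl)
      split_ifs with h7
      · have h8 := hΘ.ipNat_mul_charDegree_le (ζ lam)
        have : ipNat Θ (ζ lam).1 ≤ 1 := by
          by_contra h9
          have := Nat.mul_le_mul_right (charDegree (ζ lam).1) (show 2 ≤ ipNat Θ (ζ lam).1 by omega)
          omega
        omega
      · have : ipNat Θ (ζ lam).1 = 0 := by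
          by_contra h9
          have h8 := hΘ.charDegree_eq_sum
          have h10 := Finset.sum_le_sum_of_subset (f := fun χ : IrrCharacter G =>
            ipNat Θ χ.1 * charDegree χ.1) (Finset.subset_univ {ζ lam, η})
          rw [Finset.sum_pair h7, ← h8] at h10
          have := Nat.le_mul_of_pos_left (charDegree (ζ lam).1) (Nat.pos_of_ne_zero h9)
          have := Nat.le_mul_of_pos_left (charDegree η.1) (Nat.pos_of_ne_zero h3)
          omega
        omega
    · push Not at h3
      refine ⟨IrrCharacter.one G, fun lam hl => ?_⟩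
      have := hcoef lam hl
      have := h3 _ (o.mem lam hl)
      omega
  have h3 := hR.le_charDegree_of_linMult h.comm (k := linMult R 1 - 1)
    (Finset.univ.filter fun lam => lam ≠ 1 ∧ ζ lam = η₀) fun lam hl => by
      simpa [hl] using hη₀ lam hl
  have h4 := o.card_filter_zeta_le h η₀
  by_contra h5
  have := Nat.mul_le_mul_right (Nat.card A - 1) (show 1 ≤ linMult R 1 - 1 by omega)
  omega

local notation "C₁(" u ")" => Subgroup.centralizer ({u} : Set _)
local notation "C(" Q ")" => Subgroup.centralizer ((Q : Subgroup G) : Set G)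
local notation "N(" Q ")" => Subgroup.normalizer ((Q : Subgroup G) : Set G)

theorem IsCharacter.charDegree_ind_le_of_surjective {H : Type v} [Group H] [Finite H] {θ : H → ℂ}
    (hθ : IsCharacter H θ) {π : H →* A} (hπ : Function.Surjective π)
    (hA : ∀ a b : A, a * b = b * a) : charDegree (Cfsg.ind π θ) ≤ charDegree θ := by
  letI := Fintype.ofFinite (A →* ℂˣ)
  rw [(hθ.ind π).charDegree_eq_sum_linMult hA, hθ.charDegree_eq_sum]
  have hinj : Function.Injective fun lam : A →* ℂˣ => IrrCharacter.ofLinear (lam.comp π) :=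
    fun lam mu h => (MonoidHom.cancel_right hπ).1 (IrrCharacter.ofLinear_injective h)
  refine le_trans (le_of_eq ?_) (Finset.sum_le_sum_of_subset (Finset.subset_univ
    (Finset.univ.image fun lam : A →* ℂˣ => IrrCharacter.ofLinear (lam.comp π))))
  rw [Finset.sum_image fun _ _ _ _ h => hinj h]
  refine Finset.sum_congr rfl fun lam _ => ?_
  rw [IrrCharacter.charDegree_ofLinear, mul_one, linMult, ipNat, ipNat,
    ip_ind_left _ _ (IrrCharacter.isClassFunction _)]
  rfl

theorem ip_secOne_eq_ind {u : G} {H : Type v} [Group H] [Finite H] {f : H →* G} (h : IsSec p f u)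
    {π : H →* A} (hπ : Function.Surjective π) (hker : ∀ c, π c = 1 ↔ IsPRegular p c) {z : H}
    (hz : f z = u) {θ : G → ℂ} (hθ : IsClassFunction G θ) :
    Nat.card A * ip θ (secOne p u) = Cfsg.ind π (θ ∘ f) (π z) := by
  letI := Fintype.ofFinite H
  letI := Fintype.ofFinite G
  have h1 : ip θ (secOne p u) = ip ((pSection p u).indicator θ) fun _ => 1 := by
    rw [ip_def, ip_def]
    congr 1
    refine Finset.sum_congr rfl fun g _ => ?_
    by_cases hg : g ∈ pSection p u <;> simp [secOne, hg]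
  rw [h1, h.ip_indicator_pSection hθ (fun _ _ => rfl), ind_apply_of_surjective hπ (hθ.comp f),
    ip_def, ← Equiv.sum_comp (Equiv.mulLeft z) fun c => if π c = π z then (θ ∘ f) c else 0,
    ← mul_assoc]
  congr 1
  · have h2 := π.ker.card_mul_index
    rw [Subgroup.index_ker, MonoidHom.range_eq_top.2 hπ, Subgroup.card_top] at h2
    have h3 : (Nat.card π.ker : ℂ) ≠ 0 := by exact_mod_cast Nat.card_pos.ne'
    have h4 : (Nat.card A : ℂ) ≠ 0 := by exact_mod_cast Nat.card_pos.ne'
    rw [← h2]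
    push_cast
    field_simp
  · refine Finset.sum_congr rfl fun c _ => ?_
    by_cases hc : IsPRegular p c
    · simp [pRegularPart_of_reg hc, (hker c).2 hc, hz]
    · simp [pRegularPart_of_not_reg hc, mt (hker c).1 hc]

theorem IsCharacter.card_le_ipNat_of_central {H : Type v} [Group H] [Finite H] {θ : H → ℂ}
    (hθ : IsCharacter H θ) {i : A →* H} (hi : i.range ≤ Subgroup.center H)
    (T : Finset (A →* ℂˣ)) (hT : ∀ lam ∈ T, linMult (θ ∘ i) lam ≠ 0) : T.card ≤ ipNat θ θ := by
  have h1 : ∀ lam ∈ T, ∃ ξ : IrrCharacter H, ip θ ξ.1 ≠ 0 ∧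
      LiesOver i ξ.1 (IrrCharacter.ofLinear lam).1 := fun lam hl =>
    LiesOver.exists_constituent hθ.isClassFunction (mt ((hθ.comp i).ipNat_eq_zero_iff
      (IrrCharacter.isCharacter _)).2 (hT lam hl))
  haveI : Nonempty (IrrCharacter H) := ⟨IrrCharacter.one H⟩
  choose! ξ h2 h3 using h1
  rw [hθ.ipNat_eq_sum hθ, ← Finset.card_image_of_injOn (f := ξ) fun lam hl mu hm h => ?_]
  · refine le_trans ?_ (Finset.sum_le_sum_of_subset (Finset.subset_univ (T.image ξ)))
    rw [Finset.card_eq_sum_ones]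
    refine Finset.sum_le_sum fun ψ hψ => ?_
    obtain ⟨lam, hl, rfl⟩ := Finset.mem_image.1 hψ
    have := (hθ.ipNat_pos_iff (ξ lam).isCharacter).2 (h2 lam hl)
    exact Nat.mul_pos this this
  · obtain ⟨nu, hn⟩ := (ξ lam).exists_comp_eq_smul_of_range_le_center i hi
    have h4 : (ξ lam).1 ∘ i = (ξ lam).1 1 • (IrrCharacter.ofLinear nu).1 := funext hn
    exact IrrCharacter.ofLinear_injective ((LiesOver.eq_of_comp_eq_smul h4 (h3 lam hl)).trans
      (LiesOver.eq_of_comp_eq_smul h4 (h ▸ h3 mu hm)).symm)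

/-- **Brauer–Leonard**. -/
theorem brauerLeonard (P : Sylow p G) (hP1 : (P : Subgroup G) ≠ ⊥)
    (hstar : ∀ x ∈ (P : Subgroup G), x ≠ 1 → C₁(x) = C(P))
    (hK : ∀ K : Subgroup G, K.Normal → (P : Subgroup G) ≤ K → K = ⊤) {χ : IrrCharacter G}
    (h1 : χ ≠ IrrCharacter.one G) (hdeg : charDegree χ.1 ^ 2 + 1 < Nat.card P) :
    N(P) ≤ C(P) ∧ charDegree χ.1 = 1 := by
  letI := Fintype.ofFinite P
  letI := Fintype.ofFinite ((P : Subgroup G) →* ℂˣ)
  obtain ⟨M, hM⟩ := exists_isPModular_of_prime (Fact.out : p.Prime)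
  have hab : (P : Subgroup G) ≤ C(P) := fun x hx => by
    by_cases h : x = 1
    · rw [h]; exact one_mem _
    · rw [← hstar x hx h]; exact Subgroup.mem_centralizer_singleton_iff.2 rfl
  have hfree : ∀ y ∈ (P : Subgroup G), y ≠ 1 → C₁(y) ⊓ N(P) ≤ C(P) := fun y hy h => by
    rw [hstar y hy h]; exact inf_le_left
  have h := excSys_principal hM hab hP1 hfree
  obtain ⟨X, Y, δ, d, ζ, a, o⟩ := h.exists_out
  have hker : ∀ ψ : IrrCharacter G, (∀ u : (P : Subgroup G), ψ u = ψ 1) →
      ψ = IrrCharacter.one G := fun ψ hψ =>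
    ψ.charKer_eq_top_iff.1 (hK _ inferInstance fun x hx => ψ.mem_charKer.2 (hψ ⟨x, hx⟩))
  have hF := χ.isCharacter.comp (P : Subgroup G).subtype
  obtain ⟨lam, hl, hl'⟩ : ∃ lam, lam ≠ 1 ∧ linMult (χ.1 ∘ (P : Subgroup G).subtype) lam ≠ 0 := by
    by_contra h2
    push Not at h2
    exact h1 (hker χ (hF.apply_eq_of_linMult h.comm h2))
  have horb : ∀ mu ∈ Finset.univ.filter fun mu => Orb (autOf (P : Subgroup G).subtype N(P)) lam mu,
      linMult (χ.1 ∘ (P : Subgroup G).subtype) mu ≠ 0 := by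
    intro mu hm
    rwa [linMult_of_orb (fun σ hσ u => ?_) (Finset.mem_filter.1 hm).2]
    obtain ⟨g, -, hg⟩ := mem_autOf.1 hσ
    simp only [Function.comp_apply, hg]
    exact χ.isClassFunction _ _
  have he1 : Nat.card (autOf (P : Subgroup G).subtype N(P)) ≤ charDegree χ.1 := by
    rw [← h.free.card_orb h.comm hl, ← charDegree_comp χ.1 (P : Subgroup G).subtype,
      hF.charDegree_eq_sum_linMult h.comm, Finset.card_eq_sum_ones]
    exact (Finset.sum_le_sum fun mu hm => Nat.pos_of_ne_zero (horb mu hm)).trans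
      (Finset.sum_le_sum_of_subset (Finset.subset_univ _))
  by_cases hc : charDegree χ.1 = 1
  · refine ⟨?_, hc⟩
    rw [hc, card_autOf_subtype le_rfl] at he1
    have : (C(P)).relIndex N(P) ≠ 0 := Subgroup.index_ne_zero_of_finite
    exact Subgroup.relIndex_eq_one.1 (by omega)
  exfalso
  have hC := χ.isCharacter.comp (C(P)).subtype
  have hi : (Subgroup.inclusion hab).range ≤ Subgroup.center C(P) := by
    rintro _ ⟨u, rfl⟩
    exact Subgroup.mem_center_iff.2 fun c => Subtype.ext (c.2 u u.2).symm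
  have he2 := hC.card_le_ipNat_of_central hi _ horb
  rw [h.free.card_orb h.comm hl] at he2
  obtain ⟨π₀, hπ1, hπ2, hπ3, -⟩ := (hasNormalPComplement_centralizer_sylow P).exists_proj
    P.isPGroup' hab fun h => P.not_dvd_index (h.trans (Subgroup.relIndex_dvd_index_of_le hab))
  let π : C(P) →* (P : Subgroup G) := π₀.codRestrict _ hπ1
  have hπ4 : ∀ u : (P : Subgroup G), π (Subgroup.inclusion hab u) = u := fun u =>
    Subtype.ext (hπ2 _ u.2)
  have hπ : Function.Surjective π := fun u => ⟨_, hπ4 u⟩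
  have hΘ := χ.isCharacter.mul χ.isCharacter.star
  have hΘd : charDegree (χ.1 * star χ.1) = charDegree χ.1 ^ 2 := by
    refine charDegree_eq_of_apply_one ?_
    simp [χ.apply_one, sq]
  have hR := (hΘ.comp (C(P)).subtype).ind π
  have hR1 : linMult (Cfsg.ind π ((χ.1 * star χ.1) ∘ (C(P)).subtype)) 1 =
      ipNat (χ.1 ∘ (C(P)).subtype) (χ.1 ∘ (C(P)).subtype) := by
    rw [linMult, ipNat, ipNat, ip_ind_left _ _ (IrrCharacter.isClassFunction _)]
    congr 2
    letI := Fintype.ofFinite C(P)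
    rw [ip_def, ip_def]
    simp
  have hpos := χ.charDegree_pos
  have key := o.brauerLeonard_core h (j := (P : Subgroup G).subtype)
    (fun ψ hψ u hu => excDec_principal hM hab hfree hψ hu) hM.one_mem_principalBlock hΘ
    (ipNat_eq_of_ip_eq (by
      rw [ip_mul_left, star_star, Nat.cast_one]
      exact (congrArg (ip χ.1) (one_mul χ.1)).trans χ.ip_self))
    (by rwa [hΘd]) (by rw [hΘd]; exact Nat.pow_le_pow_left he1 2)
    (by rw [hΘd]; nlinarith [show 2 ≤ charDegree χ.1 by omega]) hker hR (fun u hu => by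
      have hu' : (u : G) ≠ 1 := fun e => hu (Subtype.ext e)
      obtain ⟨k, hk⟩ := IsPGroup.iff_orderOf.1 P.isPGroup' u
      have hs : IsSec p (C(P)).subtype (u : G) := ⟨Subgroup.subtype_injective _,
        ⟨k, by rw [← hk, Subgroup.orderOf_coe]⟩, by rw [Subgroup.range_subtype, hstar u u.2 hu']⟩
      rw [excDec, ip_secOne_eq_ind hs hπ (z := Subgroup.inclusion hab u) (fun c => by
        rw [← Subtype.coe_inj]
        exact (hπ3 c).trans (by simp [IsPRegular])) rfl hΘ.isClassFunction, hπ4])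
    (((hΘ.comp _).charDegree_ind_le_of_surjective hπ h.comm).trans_eq (charDegree_comp _ _))
    (by rwa [hR1])
  rw [hR1, ← hC.isIrr_iff_ipNat] at key
  have h3 := hK (charCenter χ.1) inferInstance fun x hx => by
    have h4 := IrrCharacter.center_le_charCenter ⟨_, key⟩ (hi ⟨⟨x, hx⟩, rfl⟩)
    rw [χ.isCharacter.charCenter_comp] at h4
    exact h4
  exact hc (χ.apply_one_eq_one_iff.1 (χ.charCenter_eq_top_iff.1 h3))

end Cfsg

set_option linter.all false in
theorem Cfsg.Rz.Blk_BrauerLeonard_0 : True := by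
  have := @_root_.Cfsg.linMult.eq_def.{0}
  have := @_root_.Cfsg.linMult.fun_cases
  trivial
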