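import Cfsg.Agent.Blk.PrimeSimple
import Cfsg.Agent.Char.BrauerDeg
import Cfsg.Agent.Grp.Misc

/-!
# Brauer's theorem on perfect groups whose order is divisible by a prime to the first power
-/

set_option autoImplicit false
set_option linter.unusedSectionVars false
set_option linter.unusedVariables false
set_option linter.style.haveILetI false

namespace Cfsg

open Exc Subgroup
open scoped ComplexConjugate Classical MatrixGroups

universe u v w

variable {G : Type u} [Group G] [Finite G] {p : ℕ} [hp : Fact p.Prime] {x : G}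

local notation "C(" Q ")" => Subgroup.centralizer ((Q : Subgroup G) : Set G)
local notation "C₁(" u ")" => Subgroup.centralizer ({u} : Set G)
local notation "N(" Q ")" => Subgroup.normalizer ((Q : Subgroup G) : Set G)

theorem brauer_numeric_aux {p n : ℕ} (hp : 1 < p)
    (h3 : ¬ ∃ h u : ℕ, 0 < h ∧ 0 < u ∧ n * (u + 1) = h * u * p + u ^ 2 + u + h) {m k : ℕ}
    (h : m * k = (p - 1) * (1 + n * p)) (hm : (m : ℤ) ≡ 1 [ZMOD p] ∨ (k : ℤ) ≡ -1 [ZMOD p]) :
    (m = 1 ∧ k = (p - 1) * (1 + n * p)) ∨ (m = 1 + n * p ∧ k = p - 1) := by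
  have h1 : (m : ℤ) * k = (p - 1) * (1 + n * p) := by
    have := congrArg (Nat.cast : ℕ → ℤ) h
    rwa [Nat.cast_mul, Nat.cast_mul, Nat.cast_pred (by omega), Nat.cast_add, Nat.cast_mul,
      Nat.cast_one] at this
  have h0 : 0 < m * k := h ▸ Nat.mul_pos (by omega) (by omega)
  have hm0 : 0 < m := Nat.pos_of_mul_pos_right h0
  have hk0 : 0 < k := Nat.pos_of_mul_pos_left h0
  obtain ⟨u, w, hu, hw⟩ : ∃ u w : ℤ, (m : ℤ) = u * p + 1 ∧ (k : ℤ) = w * p - 1 := by
    rcases hm with hm | hm
    · obtain ⟨u, hu⟩ := hm.symm.dvd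
      exact ⟨u, 1 + n * p - n - u * k, by linarith, by linear_combination h1 - k * hu⟩
    · obtain ⟨w, hw⟩ := hm.symm.dvd
      exact ⟨w * m - 1 - n * p + n, w, by linear_combination -h1 + m * hw, by linarith⟩
  have hp' : (1 : ℤ) < p := by exact_mod_cast hp
  have hu0 : 0 ≤ u := by
    by_contra hn
    nlinarith
  have hw0 : 1 ≤ w := by
    by_contra hn
    nlinarith
  have h4 : (n - u * w) * p = n - u + (w - 1) := by
    refine mul_left_cancel₀ (show (p : ℤ) ≠ 0 by omega) ?_
    rw [hu, hw] at h1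
    linear_combination -h1
  have h5 : u ≤ n := by
    by_contra hn
    rw [hu, hw] at h1
    have : (n * p + 1) * ((p : ℤ) - 1) < (u * p + 1) * (w * p - 1) :=
      mul_lt_mul (by nlinarith) (by nlinarith) (by omega) (by positivity)
    linarith
  have h6 : 0 ≤ n - u * w := nonneg_of_mul_nonneg_left (by omega : 0 ≤ (n - u * w) * p) (by omega)
  have h7 : m = 1 ∨ m = 1 + n * p := by
    by_contra hn
    rw [not_or] at hn
    have hu1 : u ≠ 0 := by
      rintro rfl
      exact hn.1 (by omega)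
    have hu2 : u ≠ n := by
      rintro rfl
      exact hn.2 (by exact_mod_cast hu.trans (add_comm _ _))
    have h8 : n - u * w ≠ 0 := fun e => by
      rw [e] at h4
      omega
    obtain ⟨u, rfl⟩ := Int.eq_ofNat_of_zero_le hu0
    obtain ⟨l, hl⟩ := Int.eq_ofNat_of_zero_le h6
    refine h3 ⟨l, u, by omega, by omega, ?_⟩
    have : (n : ℤ) * (u + 1) = l * u * p + u ^ 2 + u + l := by
      rw [← hl]
      linear_combination -u * h4
    exact_mod_cast this
  rcases h7 with rfl | rfl
  · exact Or.inl ⟨rfl, by omega⟩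
  · exact Or.inr ⟨rfl, Nat.eq_of_mul_eq_mul_left hm0 (h.trans (mul_comm _ _))⟩

theorem not_dvd_card_of_notMem (hx : orderOf x = p) (hsq : ¬ p ^ 2 ∣ Nat.card G) {K : Subgroup G}
    [K.Normal] (h : x ∉ K) : ¬ p ∣ Nat.card K :=
  (normalizer_zpowers_quot hx hsq (orderOf_eq_prime (by
    rw [← QuotientGroup.mk_pow, ← hx, pow_orderOf_eq_one, QuotientGroup.mk_one])
    (by rwa [Ne, QuotientGroup.eq_one_iff]))).1

theorem Sylow.not_sq_dvd_of_card (P : Sylow p G) (hP : Nat.card P = p) : ¬ p ^ 2 ∣ Nat.card G := by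
  rw [← (P : Subgroup G).card_mul_index, hP, pow_two, Nat.mul_dvd_mul_iff_left hp.out.pos]
  exact P.not_dvd_index

theorem two_le_relIndex_of_perfect (hperf : commutator G = ⊤) (P : Sylow p G)
    (hP : Nat.card P = p) : 2 ≤ (C(P)).relIndex N(P) ∧ ¬ (P : Subgroup G).Normal := by
  have h1 : ¬ N(P) ≤ C(P) := fun h => by
    have h2 := HasNormalPComplement.index_pPrimeCore
      (hasNormalPComplement_of_normalizer_le_centralizer P h)
    rw [← P.card_eq_multiplicity, hP] at h2
    have h3 := commutator_le_of_prime_index (M := pPrimeCore p G) (by rw [h2]; exact hp.out)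
    rw [hperf, top_le_iff] at h3
    rw [h3, index_top] at h2
    exact hp.out.one_lt.ne h2
  refine ⟨?_, fun hn => h1 ?_⟩
  · have := relIndex_eq_one.not.2 h1
    have := relIndex_pos (C(P)) N(P)
    omega
  · have : IsCyclic P := isCyclic_of_prime_card hP
    have h2 := commutator_normalizer_le_centralizer (P : Subgroup G)
    rw [normalizer_eq_top_iff.2 hn, ← _root_.commutator_def, hperf] at h2
    exact le_top.trans h2

namespace PBlk

variable {P : Subgroup G} [Fintype P] {Q : (G → ℂ) → Prop} {X Y : Finset (IrrCharacter G)}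
  {ζ : (P →* ℂˣ) → IrrCharacter G} {δ : ℤ} {a : IrrCharacter G → ℤ}

theorem selfCent (b : PBlk p P Q X Y ζ δ a) (hsq : ¬ p ^ 2 ∣ Nat.card G)
    (hO : pPrimeCore p G = ⊥) {χ : IrrCharacter G} (hs : SecConst p P χ.1)
    (hv : ∀ u : P, u ≠ 1 → χ u = -1) (hd : charDegree χ.1 = p - 1) {u : P} (hu : u ≠ 1) :
    SelfCent p (u : G) := by
  have hx := b.orderOf_eq hu
  have hu' : (u : G) ≠ 1 := fun e => hu (Subtype.ext e)
  have hPu := zpowers_eq_of_card_eq_prime b.card u.2 hu'
  have hsum : ∀ {F : G → ℂ}, (∀ u : P, u ≠ 1 → F u = -1) → ∑ u : P, F u = F 1 - χ 1 := fun hF => by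
    rw [← Finset.add_sum_erase _ _ (Finset.mem_univ 1), Finset.sum_congr rfl fun u hu =>
      hF u (Finset.ne_of_mem_erase hu), Finset.sum_const, Finset.card_erase_of_mem
      (Finset.mem_univ _), Finset.card_univ, ← Nat.card_eq_fintype_card, b.card,
      OneMemClass.coe_one, χ.apply_one, hd]
    simp [sub_eq_add_neg]
  have hker : charKer χ.1 = ⊥ := eq_bot_iff.2 (hO ▸ le_pPrimeCore_of_not_dvd
    (not_dvd_card_of_notMem hx hsq fun e => by
      have := χ.mem_charKer.1 e
      rw [hv u hu, χ.apply_one] at this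
      have : (-1 : ℤ) = charDegree χ.1 := by exact_mod_cast this
      omega))
  refine ⟨hx, le_antisymm (fun y hy => ?_) (zpowers_le.2 (mem_centralizer_singleton_iff.2 rfl))⟩
  have hC : C₁((u : G)) = C(zpowers (u : G)) := by rw [zpowers_eq_closure, centralizer_closure]
  have h1 := mem_zpowers_of_isPElt_of_mem_normalizer hx hsq (isPElt_pPart p y)
    (centralizer_le_normalizer _ (hC ▸ pPart_mem p hy))
  have h2 : pPrimePart p y ∈ C(P) := by
    rw [← hPu, ← hC]
    exact pPrimePart_mem p hy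
  have h3 := χ.isCharacter.norm_sum_mul_le P (centralizer_le_normalizer _ h2)
  rw [hsum hv, sub_self, Complex.zero_re, norm_le_zero_iff, hsum (F := fun g => χ (pPrimePart p y * g))
    fun v hv' => by
      rw [hs v v.2 (fun e => hv' (Subtype.ext e)) _ (mem_pSection_of_isPPart ⟨pPrimePart p y,
        h2 v v.2, h2 v v.2, ⟨1, by rw [b.orderOf_eq hv', pow_one]⟩, isPRegular_pPrimePart p y⟩),
        hv v hv'], mul_one, sub_eq_zero, ← χ.mem_charKer, hker, mem_bot] at h3
  rwa [← pPart_mul_pPrimePart p y, h3, mul_one]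

end PBlk

theorem brauerReynolds_core (hperf : commutator G = ⊤) (P : Sylow p G) (hP : Nat.card P = p)
    {n : ℕ} (hn : Nat.card (Sylow p G) = 1 + n * p) (hO : pPrimeCore p G = ⊥)
    (h3 : ¬ ∃ h u : ℕ, 0 < h ∧ 0 < u ∧ n * (u + 1) = h * u * p + u ^ 2 + u + h) :
    3 < p ∧ (Nonempty (G ≃* Matrix.ProjectiveSpecialLinearGroup (Fin 2) (ZMod p)) ∨
      ∃ (a : ℕ) (F : Type) (_ : Field F) (_ : Fintype F),
        p = 2 ^ a + 1 ∧ Fintype.card F = 2 ^ a ∧ Nonempty (G ≃* SL(2, F))) := by
  let _ := Fintype.ofFinite P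
  obtain ⟨X, Y, ζ, δ, a, b, -⟩ := exists_pBlk_principal P hP
  obtain ⟨he, hnn⟩ := two_le_relIndex_of_perfect hperf P hP
  have hsq := Sylow.not_sq_dvd_of_card P hP
  have hp1 := hp.out.one_lt
  have het := b.cardY
  rw [← b.cardX] at he
  have ht0 := b.Y_nonempty.card_pos
  have he1 : X.card * 1 ≤ X.card * Y.card := Nat.mul_le_mul_left _ ht0
  have hp2 : p ≠ 2 := by omega
  have hn0 : 0 < n := Nat.pos_of_ne_zero (by
    rintro rfl
    have : Subsingleton (Sylow p G) := Finite.card_le_one_iff_subsingleton.1 (by omega)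
    exact hnn P.normal_of_subsingleton)
  have hn1 : p ≤ n * p := Nat.le_mul_of_pos_left _ hn0
  obtain ⟨u, hu⟩ := b.exists_ne_one
  have hx := b.orderOf_eq hu
  have hPu := zpowers_eq_of_card_eq_prime b.card u.2 fun e => hu (Subtype.ext e)
  have hi : (C₁((u : G))).index = X.card * (1 + n * p) := by
    rw [← centralizer_closure, ← zpowers_eq_closure, hPu, b.cardX, ← hn,
      P.card_eq_index_normalizer]
    exact (relIndex_mul_index (centralizer_le_normalizer _)).symm
  have hdv : X.card * (1 + n * p) ∣ (p - 1) * (1 + n * p) :=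
    mul_dvd_mul_right (Dvd.intro _ (by omega : X.card * Y.card = p - 1)) _
  have hnum : ∀ {m : ℕ} {s : ℤ}, m ∣ (p - 1) * (1 + n * p) → (m : ℤ) ≡ s [ZMOD p] →
      (s = 1 → m = 1 ∨ m = 1 + n * p) ∧ (s = -1 → m = p - 1 ∨ m = (p - 1) * (1 + n * p)) := by
    rintro m s ⟨k, hk⟩ hm
    constructor <;> rintro rfl
    · exact (brauer_numeric_aux hp1 h3 hk.symm (Or.inl hm)).imp And.left And.left
    · exact (brauer_numeric_aux hp1 h3 ((mul_comm _ _).trans hk.symm) (Or.inr hm)).symm.imp
        And.right And.right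
  have hlin : ∀ χ : IrrCharacter G, charDegree χ.1 = 1 → χ = IrrCharacter.one G := fun χ e => by
    obtain ⟨lam, rfl⟩ := IrrCharacter.exists_ofLinear_eq_of_charDegree e
    exact IrrCharacter.ofLinear_eq_one_iff.2 (commutator_eq_top_iff_forall_linear.1 hperf lam)
  have hX : ∀ χ ∈ X, χ ≠ IrrCharacter.one G → (a χ = 1 ∧ charDegree χ.1 = 1 + n * p) ∨
      (a χ = -1 ∧ (charDegree χ.1 = p - 1 ∨ charDegree χ.1 = (p - 1) * (1 + n * p))) := by
    intro χ hχ hne
    have := hnum ((hi ▸ b.dvd_X hχ hu).trans hdv) (b.modEq_X hχ)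
    exact (b.asign χ hχ).imp (fun e => ⟨e, (this.1 e).resolve_left fun e' => hne (hlin χ e')⟩)
      fun e => ⟨e, this.2 e⟩
  obtain ⟨η, hη⟩ := b.Y_nonempty
  have hY := hnum (m := Y.card * charDegree η.1) (s := -δ) (by
      rw [show p - 1 = Y.card * X.card by rw [mul_comm]; omega, mul_assoc]
      exact mul_dvd_mul_left _ (hi ▸ b.dvd_Y hη hu)) (by
      have := (b.modEq_Y hη).mul_left Y.card
      rw [Nat.cast_mul]
      refine this.trans (Int.modEq_iff_dvd.2 ⟨-δ, ?_⟩)
      have : (X.card : ℤ) * Y.card + 1 = p := by exact_mod_cast het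
      linear_combination -δ * this)
  have hrel := b.deg_rel hη
  have hone : SecConst p P (IrrCharacter.one G).1 := fun _ _ _ _ _ => rfl
  have hSC : ∀ {s : SelfCent p (u : G)} (φ : IrrCharacter G), SecConst p P φ.1 := fun {s} φ =>
    s.secConst hP φ.isClassFunction
  rcases (show Y.card = 1 ∨ 2 ≤ Y.card by omega) with ht | ht
  · exfalso
    rw [ht] at hY het
    rw [one_mul] at hY
    obtain ⟨η', rfl⟩ := Finset.card_eq_one.1 ht
    obtain rfl := Finset.mem_singleton.1 hη
    have hηv : ∀ u : P, u ≠ 1 → η u = -δ := fun u hu => by simpa using b.sumY u hu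
    have h1 : IrrCharacter.one G ∈ X ∨ (η = IrrCharacter.one G ∧ δ = -1) :=
      (b.mem_of_ne_zero hone hu one_ne_zero).imp_right fun e => by
        obtain rfl := Finset.mem_singleton.1 e
        have : (1 : ℂ) = -δ := hηv u hu
        have : (1 : ℤ) = -δ := by exact_mod_cast this
        exact ⟨rfl, by omega⟩
    have hη' : η ≠ IrrCharacter.one G → (δ = -1 ∧ charDegree η.1 = 1 + n * p) ∨
        (δ = 1 ∧ (charDegree η.1 = p - 1 ∨ charDegree η.1 = (p - 1) * (1 + n * p))) := fun hne =>
      b.sign.symm.imp (fun e => ⟨e, (hY.1 (by omega)).resolve_left fun e' => hne (hlin _ e')⟩)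
        fun e => ⟨e, hY.2 (by omega)⟩
    have hns : ¬ SelfCent p (u : G) := fun s => by
      have hG := s.card_eq hP u.2
      rw [← b.cardX, hn, show X.card = p - 1 by omega] at hG
      obtain ⟨z, hz⟩ := exists_prime_orderOf_dvd_card' (G := G) 2
        (hG ▸ ((hp.out.even_sub_one hp2).two_dvd.mul_left _).mul_right _)
      obtain ⟨h4, h5, -⟩ := b.invol s hp2 u.2 (hSC (s := s)) hG hη h1
        (fun χ hχ hne => (hX χ hχ hne).imp (And.imp_right fun e => dvd_of_eq e.symm) fun e =>
          e.2.elim (fun e => dvd_of_eq e.symm) fun e => e ▸ dvd_mul_right _ _)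
        (fun hne => (hη' hne).imp (And.imp_right fun e => dvd_of_eq e.symm) fun e =>
          e.2.elim (fun e => dvd_of_eq e.symm) fun e => e ▸ dvd_mul_right _ _) hz
      have h6 := h5.trans (Nat.pow_le_pow_left (Nat.le_of_dvd (by omega) h4) 2)
      rw [pow_two] at h6
      have := Nat.le_of_mul_le_mul_left h6 (by omega)
      omega
    have hXd : ∀ χ ∈ X, χ ≠ IrrCharacter.one G → ((1 + n * p : ℕ) : ℤ) ∣ a χ * charDegree χ.1 := by
      intro χ hχ hne
      refine Dvd.dvd.mul_left (Int.natCast_dvd_natCast.2 ?_) _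
      rcases hX χ hχ hne with e | ⟨e, e' | e'⟩
      · rw [e.2]
      · exact (hns (b.selfCent hsq hO (b.prop χ (Or.inl hχ))
          (fun u hu => by rw [b.valX χ hχ u hu, e]; simp) e' hu)).elim
      · exact e' ▸ dvd_mul_left _ _
    have h4 : ((1 + n * p : ℕ) : ℤ) ∣ 1 := by
      by_cases hne : η = IrrCharacter.one G
      · have h5 := Finset.dvd_sum fun χ hχ => hXd χ hχ (hne ▸ ne_of_mem_of_not_mem hχ
          (Finset.disjoint_right.1 b.disj hη))
        rw [← hrel, hne, IrrCharacter.charDegree_one, Nat.cast_one, mul_one] at h5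
        rcases b.sign with e | e <;> simpa [e] using h5
      have h5 := h1.resolve_right fun e => hne e.1
      rw [← Finset.add_sum_erase _ _ h5, b.a_one h5, IrrCharacter.charDegree_one] at hrel
      refine (dvd_add_left (Finset.dvd_sum fun χ hχ => hXd χ (Finset.mem_of_mem_erase hχ)
        (Finset.ne_of_mem_erase hχ))).1 (Dvd.dvd.trans (Dvd.dvd.mul_left
        (Int.natCast_dvd_natCast.2 ?_) δ) (dvd_of_eq hrel))
      rcases hη' hne with e | ⟨e, e' | e'⟩
      · rw [e.2]
      · exact (hns (b.selfCent hsq hO (b.prop η (Or.inr hη))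
          (fun u hu => by rw [hηv u hu, e]; simp) e' hu)).elim
      · exact e' ▸ dvd_mul_left _ _
    have := Int.le_of_dvd one_pos h4
    omega
  have he2 : X.card * 2 ≤ X.card * Y.card := Nat.mul_le_mul_left _ ht
  refine ⟨by omega, ?_⟩
  have h1 := b.mem_X_of_const ht hone one_ne_zero fun _ _ => rfl
  rcases b.sign with hδ | hδ
  · rcases hY.2 (by omega) with h4 | h4
    · have h5 : charDegree η.1 = X.card :=
        Nat.eq_of_mul_eq_mul_left ht0 (by rw [h4, mul_comm]; omega)
      have hf : ∀ g, η g = η 1 → g = 1 := fun g hg => mem_bot.1 (hO ▸ le_pPrimeCore_of_not_dvd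
        (not_dvd_card_of_notMem hx hsq fun e => Finset.disjoint_right.1 b.disj hη
          (b.mem_X_of_const ht (b.prop η (Or.inr hη)) η.apply_one_ne_zero fun v _ =>
            η.mem_charKer.1 ((hPu.ge.trans (zpowers_le.2 e)) v.2))) (η.mem_charKer.2 hg))
      have hnn' : ¬ (zpowers (u : G)).Normal := by rwa [hPu]
      have h6 := η.isCharacter.le_two_mul_charDegree_add_one hf hx hsq hnn'
      obtain ⟨-, ⟨φ⟩⟩ := η.isCharacter.nonempty_quotient_center_equiv_psl hf hx hsq hnn'
        (by omega)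
      have h7 : center G = ⊥ := eq_bot_iff.2 (hO ▸ le_pPrimeCore_of_not_dvd
        (not_dvd_card_of_notMem hx hsq fun e => hnn'
          (normal_of_le_center (zpowers_le.2 e))))
      exact Or.inl ⟨(QuotientGroup.quotientBot.symm.trans
        (QuotientGroup.quotientMulEquivOfEq h7.symm)).trans φ⟩
    · exfalso
      have h5 : charDegree η.1 = X.card * (1 + n * p) :=
        Nat.eq_of_mul_eq_mul_left ht0 (by
          rw [h4, show p - 1 = Y.card * X.card by rw [mul_comm]; omega, mul_assoc])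
      have h6 := Finset.sum_lt_sum (s := X) (f := fun χ => a χ * (charDegree χ.1 : ℤ))
        (g := fun _ => ((1 + n * p : ℕ) : ℤ)) (fun χ hχ => by
          by_cases hne : χ = IrrCharacter.one G
          · rw [hne, b.a_one h1, IrrCharacter.charDegree_one]
            omega
          rcases hX χ hχ hne with e | e
          · rw [e.1, e.2, one_mul]
          · rw [e.1]
            omega) ⟨_, h1, by rw [b.a_one h1, IrrCharacter.charDegree_one]; omega⟩
      rw [← hrel, hδ, h5, Finset.sum_const, nsmul_eq_mul, one_mul, Nat.cast_mul] at h6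
      exact lt_irrefl _ h6
  have h4 := (hY.1 (by omega)).resolve_left fun e => by
    have := Nat.eq_one_of_mul_eq_one_right e
    omega
  have hX' : ∀ χ ∈ X, a χ = -1 → charDegree χ.1 = p - 1 := fun χ hχ e => by
    have hne : χ ≠ IrrCharacter.one G := by
      rintro rfl
      rw [b.a_one h1] at e
      omega
    refine ((hX χ hχ hne).resolve_left fun e' => by omega).2.resolve_right fun e' => ?_
    have := Nat.le_of_dvd (by positivity) (hi ▸ b.dvd_X hχ hu)
    rw [e'] at this
    have := Nat.le_of_mul_le_mul_right this (by omega)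
    omega
  obtain ⟨χ, hχ, ha⟩ : ∃ χ ∈ X, a χ = -1 := by
    by_contra hne
    have := Finset.sum_nonneg (s := X) (f := fun χ => a χ * (charDegree χ.1 : ℤ)) fun χ hχ => by
      rw [(b.asign χ hχ).resolve_right fun e => hne ⟨χ, hχ, e⟩]
      omega
    have := η.charDegree_pos
    rw [hδ] at hrel
    omega
  have s := b.selfCent hsq hO (b.prop χ (Or.inl hχ))
    (fun u hu => by rw [b.valX χ hχ u hu, ha]; simp) (hX' χ hχ ha) hu
  obtain ⟨h5, h6⟩ := b.geo s hp2 u.2 (hSC (s := s)) ht hδ hη (hn.trans h4.symm) fun χ hχ hne =>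
    (hX χ hχ hne).imp (And.imp_right fun e => by rw [e, ← h4]; exact dvd_mul_left _ _)
      fun e => dvd_of_eq (hX' χ hχ e.1).symm
  have hG := s.card_eq hP u.2
  rw [← b.cardX] at hG
  refine s.psl_or_sl2 hp2 het ht hG h5 h6 ?_ hperf hO
  rw [hG, hn, ← h4, mul_assoc, ← mul_assoc X.card, show X.card * Y.card = p - 1 by omega]
  exact ((hp.out.even_sub_one hp2).two_dvd.mul_right _).mul_left _

theorem brauerReynolds (hperf : commutator G = ⊤) (P : Sylow p G) (hP : Nat.card P = p)
    {n : ℕ} (hn : Nat.card (Sylow p G) = 1 + n * p)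
    (h3 : ¬ ∃ h u : ℕ, 0 < h ∧ 0 < u ∧ n * (u + 1) = h * u * p + u ^ 2 + u + h) :
    3 < p ∧ (Nonempty (G ⧸ pPrimeCore p G ≃* Matrix.ProjectiveSpecialLinearGroup (Fin 2) (ZMod p)) ∨
      ∃ (a : ℕ) (F : Type) (_ : Field F) (_ : Fintype F),
        p = 2 ^ a + 1 ∧ Fintype.card F = 2 ^ a ∧ Nonempty (G ⧸ pPrimeCore p G ≃* SL(2, F))) := by
  have hs := QuotientGroup.mk'_surjective (pPrimeCore p G)
  have hperf' : commutator (G ⧸ pPrimeCore p G) = ⊤ := by
    rw [_root_.commutator_def, ← map_top_of_surjective _ hs, ← map_commutator,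
      ← _root_.commutator_def, hperf]
  have hP' : Nat.card (P.mapSurjective hs) = p := by
    rw [Sylow.card_eq_multiplicity, ← Subgroup.index_eq_card]
    have := congrArg (fun n => n.factorization p) (pPrimeCore p G).card_mul_index
    simp only [Nat.factorization_mul Nat.card_pos.ne' FiniteIndex.index_ne_zero, Finsupp.add_apply,
      Nat.factorization_eq_zero_of_not_dvd (not_dvd_card_pPrimeCore p G), zero_add] at this
    rw [this, ← P.card_eq_multiplicity, hP]
  have h1 : Nat.card (Sylow p (G ⧸ pPrimeCore p G)) ∣ 1 + n * p := by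
    rw [← hn, P.card_eq_index_normalizer, (P.mapSurjective hs).card_eq_index_normalizer]
    exact (index_dvd_of_le (le_normalizer_map _)).trans (index_map_dvd _ hs)
  obtain ⟨k, hk⟩ := h1.mul_left (p - 1)
  refine brauerReynolds_core hperf' _ hP' ((brauer_numeric_aux hp.out.one_lt h3 hk.symm (Or.inl
    (by exact_mod_cast card_sylow_modEq_one p (G ⧸ pPrimeCore p G)))).resolve_left fun e => ?_).1
    (pPrimeCore_quotient_pPrimeCore p G) h3
  have : Subsingleton (Sylow p (G ⧸ pPrimeCore p G)) :=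
    Finite.card_le_one_iff_subsingleton.1 e.1.le
  exact (two_le_relIndex_of_perfect hperf' _ hP').2 (Sylow.normal_of_subsingleton _)

end Cfsg
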