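import Cfsg.Agent.Blk.Second
import Cfsg.Agent.Blk.Local
import Cfsg.Agent.Char.Prod

/-!
# Blocks with defect group `D` of a group `G = D C_G(D)`
-/

set_option autoImplicit false
set_option linter.unusedSectionVars false
set_option linter.unusedVariables false

namespace Cfsg

open MonoidAlgebra GA
open scoped ComplexConjugate

universe u v w

variable {G : Type u} [Group G] [Finite G] {p : ℕ} [Fact p.Prime] {M : Ideal AlgInt}
  {D : Subgroup G} {B : Set (IrrCharacter G)}

theorem normal_of_sup_centralizer (hG : D ⊔ Subgroup.centralizer (D : Set G) = ⊤) : D.Normal := by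
  rw [← Subgroup.normalizer_eq_top_iff, eq_top_iff, ← hG]
  exact sup_le Subgroup.le_normalizer (centralizer_le_normalizer' D)

theorem mem_centralizer_of_isPRegular (hD : IsPGroup p D)
    (hG : D ⊔ Subgroup.centralizer (D : Set G) = ⊤) {x : G} (hx : IsPRegular p x) :
    x ∈ Subgroup.centralizer (D : Set G) := by
  obtain ⟨u, c, rfl⟩ := exists_mul_eq_of_sup_eq_top_of_commute (U := D)
    (V := Subgroup.centralizer (D : Set G)) (fun u hu v hv => hv u hu) hG x
  rw [← pPrimePart_eq_self_iff.2 hx, pPrimePart_mul_of_commute p (c.2 u u.2),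
    pPrimePart_eq_one_iff.2 (isPElt_of_mem hD u.2), one_mul]
  exact pPrimePart_mem p c.2

/-- Summation over the elements with `p`-part in `D`. -/
theorem sum_eq_sum_sum_of_central [Fintype G] [Fintype D] (hD : IsPGroup p D)
    (hC : ∀ x, IsPRegular p x → x ∈ Subgroup.centralizer (D : Set G)) {F : G → ℂ}
    (hF : ∀ g, pPart p g ∉ D → F g = 0) [DecidablePred (IsPRegular p : G → Prop)] :
    ∑ g, F g = ∑ u : D, ∑ x with IsPRegular p x, F (u * x) := by
  classical
  rw [← Finset.sum_product', ← Finset.sum_filter_of_ne (p := fun g => pPart p g ∈ D)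
    (fun g _ h => by_contra fun h' => h (hF g h'))]
  symm
  refine Finset.sum_bij (fun a _ => (a.1 : G) * a.2) (fun a ha => ?_) (fun a ha b hb h => ?_)
    (fun g hg => ?_) fun _ _ => rfl
  · have hx := (Finset.mem_filter.1 (Finset.mem_product.1 ha).2).2
    rw [Finset.mem_filter, pPart_mul_eq (hC _ hx _ a.1.2) (isPElt_of_mem hD a.1.2) hx]
    exact ⟨Finset.mem_univ _, a.1.2⟩
  · have hx := (Finset.mem_filter.1 (Finset.mem_product.1 ha).2).2
    have hy := (Finset.mem_filter.1 (Finset.mem_product.1 hb).2).2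
    have h1 := congrArg (pPart p) h
    rw [pPart_mul_eq (hC _ hx _ a.1.2) (isPElt_of_mem hD a.1.2) hx,
      pPart_mul_eq (hC _ hy _ b.1.2) (isPElt_of_mem hD b.1.2) hy] at h1
    rw [h1, mul_right_inj] at h
    exact Prod.ext (Subtype.ext h1) h
  · exact ⟨(⟨_, (Finset.mem_filter.1 hg).2⟩, pPrimePart p g), Finset.mem_product.2
      ⟨Finset.mem_univ _, Finset.mem_filter.2 ⟨Finset.mem_univ _, isPRegular_pPrimePart p g⟩⟩,
      pPart_mul_pPrimePart p g⟩

/-- `θ (u x) = ζ u * α x` for `u ∈ D` and `x` `p`-regular, and `θ` vanishes on the elements whose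
`p`-part is outside `D`. -/
structure IsCentralForm (p : ℕ) (D : Subgroup G) (θ : G → ℂ) (ζ : D → ℂ) (α : G → ℂ) : Prop where
  mul : ∀ (u : D) (x : G), IsPRegular p x → θ (u * x) = ζ u * α x
  zero : ∀ g, pPart p g ∉ D → θ g = 0

namespace IsCentralForm

variable {θ θ' α α' : G → ℂ} {ζ ζ' : D → ℂ}

theorem apply_reg (h : IsCentralForm p D θ ζ α) {x : G} (hx : IsPRegular p x) :
    θ x = ζ 1 * α x := by simpa using h.mul 1 x hx

theorem apply_mem (h : IsCentralForm p D θ ζ α) (u : D) : θ u = ζ u * α 1 := by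
  simpa using h.mul u 1 isPRegular_one

theorem pRegularPart_eq (h : IsCentralForm p D θ ζ α) :
    pRegularPart p θ = ζ 1 • pRegularPart p α := by
  rw [← pRegularPart_smul, pRegularPart_eq_iff]
  exact fun g hg => h.apply_reg hg

theorem congr (h : IsCentralForm p D θ ζ α) (e : ∀ x, IsPRegular p x → α x = α' x) :
    IsCentralForm p D θ ζ α' :=
  ⟨fun u x hx => by rw [h.mul u x hx, e x hx], h.zero⟩

theorem ext (h : IsCentralForm p D θ ζ α) (h' : IsCentralForm p D θ' ζ α) : θ = θ' := by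
  funext g
  by_cases hg : pPart p g ∈ D
  · rw [← pPart_mul_pPrimePart p g]
    exact (h.mul ⟨_, hg⟩ _ (isPRegular_pPrimePart p g)).trans
      (h'.mul ⟨_, hg⟩ _ (isPRegular_pPrimePart p g)).symm
  · rw [h.zero g hg, h'.zero g hg]

theorem ip_eq (hD : IsPGroup p D)
    (hC : ∀ x, IsPRegular p x → x ∈ Subgroup.centralizer (D : Set G))
    (h : IsCentralForm p D θ ζ α) (h' : IsCentralForm p D θ' ζ' α') :
    ip θ θ' = Nat.card D * ip ζ ζ' * ip (pRegularPart p α) α' := by
  classical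
  cases nonempty_fintype G
  have := Fintype.ofFinite D
  rw [ip_def, ip_def, ip_def, sum_eq_sum_sum_of_central hD hC
    (fun g hg => by rw [h.zero g hg, zero_mul]), mul_inv_cancel_left₀ (natCard_cast_ne_zero D),
    mul_left_comm, Finset.sum_mul_sum]
  congr 1
  refine Finset.sum_congr rfl fun u _ => ?_
  rw [Finset.sum_filter]
  refine Finset.sum_congr rfl fun x _ => ?_
  split_ifs with hx
  · rw [h.mul u x hx, h'.mul u x hx, pRegularPart_of_reg hx, map_mul]; ring
  · rw [pRegularPart_of_not_reg hx]; ring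

end IsCentralForm

section
variable (hM : IsPModular p M) (hB : IsPBlock M B) (hD : IsDefectGroup p M B D)
  (hG : D ⊔ Subgroup.centralizer (D : Set G) = ⊤)
include hM hB hD hG

theorem IsDefectGroup.apply_eq_zero_of_central {θ : IrrCharacter G} (hθ : θ ∈ B) {g : G}
    (hg : pPart p g ∉ D) : θ g = 0 := by
  have := normal_of_sup_centralizer hG
  refine hD.apply_eq_zero hB hM hθ fun d hd h => hg ?_
  obtain ⟨c, hc⟩ := isConj_iff.1 h.symm
  rw [← hc]
  exact this.conj_mem d hd c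

theorem IsDefectGroup.exists_form_aux {θ : IrrCharacter G} (hθ : θ ∈ B) :
    ∃ (ζ : IrrCharacter D) (α : G → ℂ), IsCentralForm p D θ.1 ζ.1 α ∧
      Nat.card D * ip (pRegularPart p α) α = 1 ∧
      (charDegree ζ.1).factorization p ≤ blockHeight p B θ.1 := by
  obtain ⟨ζ, φ, h⟩ := θ.exists_eq_mul_of_sup_eq_top (U := D)
    (V := Subgroup.centralizer (D : Set G)) (fun u hu v hv => hv u hu) hG
  have hC := fun x => mem_centralizer_of_isPRegular hD.isPGroup hG (x := x)
  have hf : IsCentralForm p D θ.1 ζ.1 (extendByZero _ φ.1) :=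
    ⟨fun u x hx => by rw [extendByZero_of_mem _ _ (hC x hx)]; exact h u ⟨x, hC x hx⟩,
      fun g hg => hD.apply_eq_zero_of_central hM hB hG hθ hg⟩
  refine ⟨ζ, _, hf, ?_, ?_⟩
  · have := hf.ip_eq hD.isPGroup hC hf
    rw [θ.ip_self, ζ.ip_self, mul_one] at this
    exact this.symm
  · obtain ⟨x, hx⟩ := hB.exists_isDefectClass hM
    have hx' : IsPRegular p x := hx.not_dvd_orderOf hB hM
    have h1 := hx.vM_apply hB hM hθ
    rw [hf.apply_reg hx', map_mul, extendByZero_of_mem _ _ (hC x hx'), hM.vM_apply_one] at h1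
    rw [← hM.vM_prime_pow_le_iff, ← h1]
    exact mul_le_of_le_one_right' (mem_locO_iff.1 (φ.mem_locO _))

theorem IsDefectGroup.charDegree_eq_pow (ζ : IrrCharacter D) :
    charDegree ζ.1 = p ^ (charDegree ζ.1).factorization p := by
  obtain ⟨k, hk⟩ := IsPGroup.iff_card.1 hD.isPGroup
  obtain ⟨j, -, hj⟩ := (Nat.dvd_prime_pow hM.prime).1 (hk ▸ ζ.charDegree_dvd_card)
  rw [hj, hM.prime.factorization_pow, Finsupp.single_eq_same]

theorem IsDefectGroup.card_mul_ip_of_height_zero {χ : IrrCharacter G} (hχ : χ ∈ B)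
    (h0 : blockHeight p B χ.1 = 0) : Nat.card D * ip (pRegularPart p χ.1) χ.1 = 1 := by
  obtain ⟨ζ, α, hf, h1, h2⟩ := hD.exists_form_aux hM hB hG hχ
  have h3 : ζ.1 1 = 1 := by
    rw [ζ.apply_one, hD.charDegree_eq_pow hM hB hG ζ, Nat.le_zero.1 (h2.trans h0.le)]; simp
  have h4 := hf.pRegularPart_eq
  rw [h3, one_smul] at h4
  rwa [ip_pRegularPart_eq_both_left, h4, ← ip_pRegularPart_eq_both_left]

/-- Every member of `B` has the form `ζ * χ`, for `χ ∈ B` of height zero. -/
theorem IsDefectGroup.exists_isCentralForm {χ θ : IrrCharacter G} (hχ : χ ∈ B)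
    (h0 : blockHeight p B χ.1 = 0) (hθ : θ ∈ B) :
    ∃ ζ : IrrCharacter D, IsCentralForm p D θ.1 ζ.1 χ.1 := by
  obtain ⟨ζ, α, hf, h1, h2⟩ := hD.exists_form_aux hM hB hG hθ
  refine ⟨ζ, hf.congr ?_⟩
  have h3 := hD.card_mul_ip_of_height_zero hM hB hG hχ h0
  obtain ⟨n, hn⟩ := exists_int_contrib (p := p) hχ θ
  have hv := hB.vM_contrib_of_height_zero hM hχ hθ h0
  rw [hn] at hv
  have hn0 : n ≠ 0 := by
    rintro rfl
    rw [Int.cast_zero, map_zero] at hv
    exact (pow_ne_zero _ hM.vM_prime_pos.ne') hv.symm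
  rw [hM.vM_intCast hn0, hM.vM_prime_pow_inj] at hv
  have hdvd : charDegree ζ.1 ∣ n.natAbs := by
    rw [hD.charDegree_eq_pow hM hB hG ζ]
    exact (hM.prime.pow_dvd_iff_le_factorization (Int.natAbs_ne_zero.2 hn0)).2 (hv ▸ h2)
  obtain ⟨m, rfl⟩ : (charDegree ζ.1 : ℤ) ∣ n := Int.natCast_dvd.2 hdvd
  have hc : ((p : ℂ) ^ blockDefect p B) = Nat.card D := by rw [hD.card_eq hB hM, Nat.cast_pow]
  have hζ0 : (charDegree ζ.1 : ℂ) ≠ 0 := Nat.cast_ne_zero.2 ζ.charDegree_pos.ne'
  have h5 : Nat.card D * ip (pRegularPart p χ.1) (pRegularPart p α) = m := by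
    rw [hc, ip_pRegularPart_eq_both_left, hf.pRegularPart_eq, ip_smul_right, ζ.apply_one,
      Complex.conj_natCast] at hn
    push_cast at hn
    exact mul_left_cancel₀ hζ0 (by linear_combination hn)
  have h6 : Nat.card D * ip (pRegularPart p α) (pRegularPart p χ.1) = m := by
    have := congrArg conj h5
    rwa [map_mul, conj_ip, Complex.conj_natCast, map_intCast] at this
  rw [ip_pRegularPart_eq_both_left] at h1 h3
  have h7 : Nat.card D * ip (pRegularPart p α - (m : ℂ) • pRegularPart p χ.1)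
      (pRegularPart p α - (m : ℂ) • pRegularPart p χ.1) = ((1 - m ^ 2 : ℤ) : ℂ) := by
    simp only [ip_sub_left, ip_sub_right, ip_smul_left, ip_smul_right, map_intCast]
    push_cast
    linear_combination h1 - m * h5 - m * h6 + m ^ 2 * h3
  have hm0 : m ≠ 0 := right_ne_zero_of_mul hn0
  have h8 := congrArg Complex.re h7
  rw [← Complex.ofReal_natCast, Complex.re_ofReal_mul, Complex.intCast_re] at h8
  have h9 := ip_self_re_nonneg (pRegularPart p α - (m : ℂ) • pRegularPart p χ.1)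
  have hD0 : (0 : ℝ) < Nat.card D := Nat.cast_pos.2 Nat.card_pos
  have h10 : (1 : ℤ) ≤ m ^ 2 := by have := sq_pos_of_ne_zero hm0; omega
  have h11 : ((1 - m ^ 2 : ℤ) : ℝ) ≤ 0 := by exact_mod_cast sub_nonpos.2 h10
  have h12 := eq_zero_of_ip_self_re (le_antisymm (by nlinarith) h9)
  rw [sub_eq_zero] at h12
  have h13 : (charDegree θ.1 : ℤ) = charDegree ζ.1 * (m * charDegree χ.1) := by
    have e1 := hf.apply_reg isPRegular_one
    have e2 := congrFun h12 1
    rw [Pi.smul_apply, pRegularPart_apply_one, pRegularPart_apply_one, smul_eq_mul] at e2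
    rw [e2, θ.apply_one, ζ.apply_one, χ.apply_one] at e1
    exact_mod_cast e1
  have h14 : m = 1 := by
    have e1 : (0 : ℤ) < charDegree θ.1 := by exact_mod_cast θ.charDegree_pos
    have e2 : (0 : ℤ) < charDegree ζ.1 := by exact_mod_cast ζ.charDegree_pos
    have e3 : (0 : ℤ) < charDegree χ.1 := by exact_mod_cast χ.charDegree_pos
    have e4 : 0 < m := by
      rw [h13] at e1
      exact (pos_iff_pos_of_mul_pos ((pos_iff_pos_of_mul_pos e1).1 e2)).2 e3
    have e5 : ((1 - m ^ 2 : ℤ) : ℝ) ≥ 0 := by rw [← h8]; positivity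
    have e6 : 0 ≤ 1 - m ^ 2 := by exact_mod_cast e5
    nlinarith
  rw [h14, Int.cast_one, one_smul] at h12
  exact pRegularPart_eq_iff.1 h12

/-- For every irreducible `ζ` of `D` the function `ζ * χ` is a member of `B`. -/
theorem IsDefectGroup.exists_mem_isCentralForm {χ : IrrCharacter G} (hχ : χ ∈ B)
    (h0 : blockHeight p B χ.1 = 0) (ζ : IrrCharacter D) :
    ∃ θ ∈ B, IsCentralForm p D θ.1 ζ.1 χ.1 := by
  classical
  by_contra hcon
  push Not at hcon
  set F : D → ℂ := ∑ θ : IrrCharacter G with θ ∈ B, conj (θ 1) • θ.1 ∘ D.subtype with hF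
  have h1 : ip F ζ.1 = 0 := by
    rw [ip_sum_left]
    refine Finset.sum_eq_zero fun θ hθ => ?_
    obtain ⟨ζ', hf⟩ := hD.exists_isCentralForm hM hB hG hχ h0 (Finset.mem_filter.1 hθ).2
    have : θ.1 ∘ D.subtype = χ 1 • ζ'.1 := funext fun u => by
      simp only [Function.comp_apply, Pi.smul_apply, smul_eq_mul, Subgroup.subtype_apply,
        hf.apply_mem u]
      ring
    rw [this, ip_smul_left, ip_smul_left, IrrCharacter.ip_of_ne, mul_zero, mul_zero]
    rintro rfl
    exact hcon θ (Finset.mem_filter.1 hθ).2 hf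
  have h2 : ∀ u : D, u ≠ 1 → F u = 0 := fun u hu => by
    have hu' : p ∣ orderOf (u : G) := by_contra fun h =>
      hu (Subtype.ext ((isPElt_of_mem hD.isPGroup u.2).eq_one_of_isPRegular h))
    have := congrArg conj (hB.finsum_mul_conj_eq_zero_of_regular hM
      (isPRegular_one (G := G) (p := p)) hu')
    rw [finsum_mem_irr_eq_sum, map_sum, map_zero] at this
    rw [hF, Finset.sum_apply, ← this]
    simp
  have h3 : F 1 = ((∑ θ : IrrCharacter G with θ ∈ B, charDegree θ.1 ^ 2 : ℕ) : ℂ) := by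
    rw [hF, Finset.sum_apply, Nat.cast_sum]
    refine Finset.sum_congr rfl fun θ _ => ?_
    simp [θ.apply_one, pow_two]
  rw [eq_smul_regChar h2, ip_smul_left, ip_regChar_left, h3] at h1
  simp only [mul_eq_zero, div_eq_zero_iff, Nat.cast_eq_zero, Finset.sum_eq_zero_iff,
    map_eq_zero, ζ.apply_one_ne_zero, Nat.card_pos.ne', or_false] at h1
  exact (pow_pos χ.charDegree_pos 2).ne' (h1 χ (Finset.mem_filter.2 ⟨Finset.mem_univ _, hχ⟩))

theorem IsDefectGroup.isCentralForm_inj {χ : IrrCharacter G} {θ : G → ℂ} {ζ ζ' : D → ℂ}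
    (h : IsCentralForm p D θ ζ χ.1) (h' : IsCentralForm p D θ ζ' χ.1) : ζ = ζ' :=
  funext fun u => mul_right_cancel₀ χ.apply_one_ne_zero
    ((h.apply_mem u).symm.trans (h'.apply_mem u))

/-- The canonical character: the member of `B` with `D` in its kernel. -/
theorem IsDefectGroup.exists_canonical :
    ∃ χ ∈ B, blockHeight p B χ.1 = 0 ∧ ∀ u ∈ D, χ u = χ 1 := by
  obtain ⟨χ, hχ, h0⟩ := exists_blockHeight_eq_zero (p := p) (hB.nonempty hM)
  obtain ⟨θ, hθ, hf⟩ := hD.exists_mem_isCentralForm hM hB hG hχ h0 (IrrCharacter.one D)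
  have h1 : θ 1 = χ 1 := by simpa using hf.apply_mem 1
  refine ⟨θ, hθ, ?_, fun u hu => by simpa [h1] using hf.apply_mem ⟨u, hu⟩⟩
  rw [← h0, blockHeight_def, blockHeight_def, charDegree, charDegree, h1]

/-- A member of `B` that is linear on `D` has height zero. -/
theorem IsDefectGroup.blockHeight_eq_of_isCentralForm {χ θ : IrrCharacter G} (hχ : χ ∈ B)
    (h0 : blockHeight p B χ.1 = 0) (hθ : θ ∈ B) {ζ : IrrCharacter D}
    (hf : IsCentralForm p D θ.1 ζ.1 χ.1) :
    blockHeight p B θ.1 = (charDegree ζ.1).factorization p := by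
  have h1 : charDegree θ.1 = charDegree ζ.1 * charDegree χ.1 := by
    have := hf.apply_reg isPRegular_one
    rw [θ.apply_one, ζ.apply_one, χ.apply_one] at this
    exact_mod_cast this
  have h2 := minExp_add_blockHeight (p := p) hθ
  rw [h1, Nat.factorization_mul ζ.charDegree_pos.ne' χ.charDegree_pos.ne', Finsupp.add_apply,
    (blockHeight_eq_zero_iff hχ).1 h0] at h2
  omega

theorem IsDefectGroup.blockHeight_eq_zero_of_ker {χ : IrrCharacter G} (hχ : χ ∈ B)
    (hker : ∀ u ∈ D, χ u = χ 1) : blockHeight p B χ.1 = 0 := by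
  obtain ⟨χ₀, hχ₀, h0⟩ := exists_blockHeight_eq_zero (p := p) (hB.nonempty hM)
  obtain ⟨ζ, hf⟩ := hD.exists_isCentralForm hM hB hG hχ₀ h0 hχ
  rw [hD.blockHeight_eq_of_isCentralForm hM hB hG hχ₀ h0 hχ hf]
  have h1 : ζ.1 = ζ 1 • (IrrCharacter.one D).1 := funext fun u => by
    have := hker u u.2
    rw [hf.apply_mem u, hf.apply_reg isPRegular_one] at this
    simpa using mul_right_cancel₀ χ₀.apply_one_ne_zero this
  have h2 : ζ = IrrCharacter.one D := by
    by_contra hne
    have := ζ.ip_self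
    nth_rewrite 1 [h1] at this
    rw [ip_smul_left, IrrCharacter.ip_of_ne (Ne.symm hne), mul_zero] at this
    exact zero_ne_one this
  rw [h2, charDegree_one_irr]
  simp

/-- The canonical character is unique. -/
theorem IsDefectGroup.canonical_unique {χ χ' : IrrCharacter G} (hχ : χ ∈ B) (hχ' : χ' ∈ B)
    (hker : ∀ u ∈ D, χ u = χ 1) (hker' : ∀ u ∈ D, χ' u = χ' 1) : χ = χ' := by
  have h0 := hD.blockHeight_eq_zero_of_ker hM hB hG hχ hker
  have key : ∀ θ ∈ B, (∀ u ∈ D, θ u = θ 1) → IsCentralForm p D θ.1 (fun _ => 1) χ.1 := by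
    intro θ hθ hk
    obtain ⟨ζ, hf⟩ := hD.exists_isCentralForm hM hB hG hχ h0 hθ
    have h1 := hD.blockHeight_eq_of_isCentralForm hM hB hG hχ h0 hθ hf
    rw [hD.blockHeight_eq_zero_of_ker hM hB hG hθ hk] at h1
    have h2 : ζ 1 = 1 := by
      rw [ζ.apply_one, hD.charDegree_eq_pow hM hB hG ζ, ← h1]; simp
    have h3 : ζ.1 = fun _ => 1 := funext fun u => by
      have := hk u u.2
      rw [hf.apply_mem u, hf.apply_reg isPRegular_one, h2] at this
      exact mul_right_cancel₀ χ.apply_one_ne_zero this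
    rwa [h3] at hf
  exact Subtype.ext ((key χ hχ hker).ext (key χ' hχ' hker'))

/-- The bijection `Irr D ≃ B`. -/
theorem IsDefectGroup.exists_equiv_isCentralForm {χ : IrrCharacter G} (hχ : χ ∈ B)
    (h0 : blockHeight p B χ.1 = 0) :
    ∃ e : IrrCharacter D ≃ B, ∀ ζ, IsCentralForm p D (e ζ).1.1 ζ.1 χ.1 := by
  choose F hF hF' using hD.exists_mem_isCentralForm hM hB hG hχ h0
  refine ⟨Equiv.ofBijective (fun ζ => ⟨F ζ, hF ζ⟩) ⟨fun ζ ζ' h => ?_, fun θ => ?_⟩, hF'⟩
  · have h' : F ζ = F ζ' := congrArg Subtype.val h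
    exact Subtype.ext (hD.isCentralForm_inj hM hB hG (hF' ζ) (h' ▸ hF' ζ'))
  · obtain ⟨ζ, hf⟩ := hD.exists_isCentralForm hM hB hG hχ h0 θ.2
    exact ⟨ζ, Subtype.ext (Subtype.ext ((hF' ζ).ext hf))⟩

theorem IsDefectGroup.card_eq_card_irr : Nat.card B = Nat.card (IrrCharacter D) := by
  obtain ⟨χ, hχ, h0⟩ := exists_blockHeight_eq_zero (p := p) (hB.nonempty hM)
  obtain ⟨e, -⟩ := hD.exists_equiv_isCentralForm hM hB hG hχ h0
  exact (Nat.card_congr e).symm

theorem IsDefectGroup.blockRank_eq_one : blockRank p B = 1 := by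
  obtain ⟨χ, hχ, h0⟩ := exists_blockHeight_eq_zero (p := p) (hB.nonempty hM)
  refine le_antisymm ?_ (hB.blockRank_pos hM)
  refine le_trans (Submodule.finrank_mono (t := Submodule.span ℂ {pRegularPart p χ.1})
    (Submodule.span_le.2 ?_)) ((finrank_span_le_card _).trans (by simp))
  rintro _ ⟨θ, hθ, rfl⟩
  obtain ⟨ζ, hf⟩ := hD.exists_isCentralForm hM hB hG hχ h0 hθ
  exact Submodule.mem_span_singleton.2 ⟨_, hf.pRegularPart_eq.symm⟩

end

end Cfsg

set_option linter.all false in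
theorem Cfsg.Rz.Blk_Central_0 : True := by
  have := @_root_.Cfsg.IsCentralForm.mk.congr_simp.{0}
  trivial
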