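import Cfsg.Agent.Blk.CycTwo

/-!
# A bound for the number of characters of height zero from an inverted subsection of rank one
-/

set_option autoImplicit false
set_option linter.unusedSectionVars false
set_option linter.style.haveILetI false

namespace Cfsg

open MonoidAlgebra GA Subgroup Exc
open scoped ComplexConjugate

universe u

variable {G : Type u} [Group G] [Finite G] {P : Subgroup G} {M : Ideal AlgInt}
  {B : Set (IrrCharacter G)} [CharP (ResK M) 2] {e : (ResK M)[G]} {x y : G} {n r : ℕ}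

set_option hygiene false in
local notation "C(" Q ")" => Subgroup.centralizer ((Q : Subgroup G) : Set G)

theorem IsPModular.kz_mul_le (hM : IsPModular 2 M) (hB : IsPBlock M B)
    (hP : IsMaxPair 2 (blockIdem M B) P e) (hxP : x ∈ P) (ho : orderOf x = 2 ^ (n + 2)) (hy : y ∈ P)
    (hc : y * x * y⁻¹ = x ^ r) (hr : r % 4 = 3) (hyy : y * y * x = x * (y * y)) (hF : FC 2 P e x)
    (hl : lrk 2 M P e (zpowers x) = 1)
    (hf : ∀ u v : P, zpowers (u : G) = zpowers x → v ∈ fClass 2 P e u → v = u ∨ v = u ^ r) :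
    kz 2 B * orderOf x ≤ 4 * Nat.card (P ⊓ C(zpowers x) : Subgroup G) := by
  classical
  letI := Fintype.ofFinite B
  letI := Fintype.ofFinite (zpowers x)
  letI := Fintype.ofFinite (zpowers x →* ℂˣ)
  have hle := zpowers_le.2 hxP
  have hcard : Nat.card (zpowers x) = 2 ^ (n + 1 + 1) := (Nat.card_zpowers x).trans ho
  have hcj : ∀ a ∈ zpowers x, y * a * y⁻¹ = a ^ r := fun a ha => by
    obtain ⟨k, rfl⟩ := mem_zpowers_iff.1 ha
    rw [← conj_zpow, hc, ← zpow_natCast, ← zpow_natCast, ← zpow_mul, ← zpow_mul, mul_comm]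
  let x' : zpowers x := ⟨x, mem_zpowers x⟩
  have hx : ∀ a, a ∈ zpowers x' := fun a => by
    obtain ⟨k, hk⟩ := mem_zpowers_iff.1 a.2
    exact ⟨k, Subtype.ext hk⟩
  obtain ⟨s, hs⟩ := exists_sgn hx hcard
  have hgen : ∀ u : zpowers x, s u ≠ 1 → zpowers (u : G) = zpowers x ∧ u ≠ u ^ r := by
    intro u hu
    obtain ⟨k, rfl⟩ := (Submonoid.mem_powers_iff _ _).1 ((mem_powers_iff_mem_zpowers).2 (hx u))
    have h1 : orderOf (x ^ k) = orderOf x := Nat.Coprime.orderOf_pow (ho ▸ .pow_left _
      (Nat.coprime_two_left.2 (Nat.not_even_iff_odd.1 fun e => hu (by simp [hs, e.neg_one_pow]))))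
    refine ⟨eq_of_le_of_card_ge (zpowers_le.2 (Subtype.prop _)) (by
      rw [Nat.card_zpowers, Nat.card_zpowers, coe_pow, h1]), fun e => ?_⟩
    have h2 := pow_eq_pow_iff_modEq.1 ((pow_one _).trans (congrArg Subtype.val e))
    rw [coe_pow, h1, ho, pow_add] at h2
    have := h2.of_mul_left _
    simp [Nat.ModEq, hr] at this
  obtain ⟨c, hc⟩ := hM.exists_isLoc_subtype hP.pair hle
  obtain ⟨φ, hφ⟩ := hc.block.exists_ibrOf_eq_singleton hM (hc.lrk_eq hM hP.pair ▸ hl)
  obtain ⟨D, hD⟩ : ∃ D : B → zpowers x → ℂ, ∀ χ u, D χ u = genDec (C(zpowers x)).subtype (u : G) χ.1.1 φ :=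
    ⟨_, fun _ _ => rfl⟩
  have hq := hc.pow_blockDefect_eq hM ((hP.isDefGrp_centralizer_iff hc.le).2 hF)
  obtain ⟨q, hq'⟩ : ∃ q, q = Nat.card (P ⊓ C(zpowers x) : Subgroup G) := ⟨_, rfl⟩
  rw [← hq'] at hq ⊢
  have hcol : ∀ u : zpowers x, s u ≠ 1 → IsCol 2 M B e (inclusion hle u) (fun χ => D χ u) q :=
    fun u hu => by
    simp only [hD, ← hq]
    exact IsLoc.isCol_genDec (u := inclusion hle u) (by rwa [coe_inclusion, (hgen u hu).1]) hM hP hφ
  have hcen : ∀ u, inclusion (zpowers_le_centralizer_zpowers x) u ∈ center C(zpowers x) := fun u =>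
    mem_center_iff.2 fun g => Subtype.ext (g.2 u u.2).symm
  have hG : ∀ χ, IsGeneralizedCharacter (zpowers x) (D χ) := fun χ => by
    choose lam hlam _ using fun ψ : IrrCharacter C(zpowers x) => ψ.exists_monoidHom_center
    choose a ha using fun ψ : IrrCharacter C(zpowers x) =>
      (χ.1.isCharacter.isGen.comp (Subgroup.subtype _)).exists_ip_eq_int ψ.isCharacter.isGen
    convert IsGeneralizedCharacter.sum (s := Finset.univ) fun ψ _ =>
      (isCharacter_linear ((lam ψ).comp ((inclusion _).codRestrict _ hcen))).isGen.zsmul (a ψ * decNum ψ.1 φ) using 1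
    funext u
    rw [hD, ← coe_inclusion (zpowers_le_centralizer_zpowers x) u, ← subtype_apply,
      genDec_eq_sum _ (hcen u) χ.1.isClassFunction, Finset.sum_apply]
    refine Finset.sum_congr rfl fun ψ _ => ?_
    rw [ha, ← mul_one (inclusion _ u), hlam ψ ⟨_, hcen u⟩, mul_div_cancel_right₀ _ ψ.apply_one_ne_zero]
    simp
    ring
  have hrr : ∀ u : zpowers x, (u ^ r) ^ r = u := fun u => Subtype.ext (by
    rw [coe_pow, coe_pow, ← hcj _ (pow_mem u.2 r), ← hcj _ u.2]
    simpa [mul_assoc] using conj_eq_iff_comm.2 (comm_of_mem_zpowers hyy u.2))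
  have hDr : ∀ χ u, D χ (u ^ r) = D χ u := fun χ u => by
    have h1 := hc.conj hM hP.pair (bFus_of_mem hP.pair hle hy)
    rw [cjS_eq_self_iff.2 (mem_normalizer_of_forall_conj_mem fun a ha =>
      hcj a ha ▸ pow_mem ha r)] at h1
    obtain ⟨ε, h2, h3⟩ := hc.exists_equiv h1 hM hP.pair
    have h4 := fun u : zpowers x => congrFun (hc.block.pRegularPart_blockPart_eq hM hφ
      (IsClassFunction.mul_comp_of_comm (C(zpowers x)).subtype (u := u) (fun g => g.2 u u.2)
        χ.1.isClassFunction)) 1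
    simp only [pRegularPart_of_reg isPRegular_one, Pi.smul_apply, smul_eq_mul] at h4
    refine mul_right_cancel₀ (b := φ.1 1) (by
      rw [IBr.apply_one hM]; exact Nat.cast_ne_zero.2 (IBr.deg_pos φ).ne') ?_
    rw [hD, hD, genDec, genDec, ← h4, ← h4, ← map_one ε, ← blockPart_image_comapEquiv, ← h3, map_one]
    congr 1
    funext g
    rw [Function.comp_apply, ← χ.1.isClassFunction (u * _) y, coe_pow, ← hcj _ u.2,
      show (C(zpowers x)).subtype (ε g) = y * g * y⁻¹ from DFunLike.congr_fun h2 g, conj_mul]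
    rfl
  choose N hN using fun χ => exists_int_coef (hG χ)
  have hsr : s ^ r = s := linear_ext hx (by
    rw [MonoidHom.pow_apply, hs, Odd.neg_one_pow (Nat.odd_iff.2 (by omega))])
  have hq0 : (q : ℂ) ≠ 0 := Nat.cast_ne_zero.2 (hq' ▸ Nat.card_pos.ne')
  have h5 : (∑ χ, N χ s * N χ s) * orderOf x = 4 * q := by
    obtain ⟨t, ht, ht'⟩ : ∃ t : ℂ, conj t = t ∧ t * t * q = Nat.card (zpowers x) :=
      ⟨(√(Nat.card (zpowers x) / q) : ℝ), Complex.conj_ofReal _, by
        rw [← Complex.ofReal_mul, Real.mul_self_sqrt (by positivity)]; push_cast; field_simp⟩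
    have := gram_pow (D := fun χ u => t * D χ u) (r := r) (sgn_ne_one hs) (sgn_ne_one hs)
      (hsr.symm ▸ sgn_ne_one hs) fun u v hu hv => by
        simp only [map_mul, ht, mul_mul_mul_comm t, ← Finset.mul_sum, ← ht', mul_assoc _ (q : ℂ)]
        congr 1
        by_cases h1 : v = u ∨ v = u ^ r
        · rw [show ∑ χ, D χ u * conj (D χ v) = ∑ χ, D χ u * conj (D χ u) by
            rcases h1 with rfl | rfl <;> simp only [hDr], (hcol u hu).sum_eq hM hB hP]
          rcases h1 with rfl | rfl <;> simp [(hgen _ hu).2, (hgen _ hu).2.symm]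
        · rw [(hcol u hu).sum_mul_conj_eq_zero hM hB hP (hcol v hv) fun h2 => h1
            ((hf _ _ (hgen u hu).1 h2).imp (fun e => inclusion_injective _ e)
              fun e => inclusion_injective _ (e.trans (map_pow _ _ _).symm))]
          rw [not_or] at h1
          simp [h1.1, h1.2]
    have h6 : ∀ χ, coef (fun u => t * D χ u) s = t * N χ s := fun χ => by
      simp only [← hN, coef, mul_assoc, ← Finset.mul_sum]; ring
    simp only [h6, map_mul, ht, map_intCast, hsr, if_true, mul_mul_mul_comm t, ← Finset.mul_sum] at this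
    rw [← Nat.card_zpowers]
    exact_mod_cast (by rw [← ht']; linear_combination q * this :
      (∑ χ, (N χ s : ℂ) * N χ s) * Nat.card (zpowers x) = 4 * q)
  have h7 : ∀ χ : B, blockHeight 2 B χ.1.1 = 0 → 1 ≤ N χ s * N χ s := fun χ h0 => by
    have h1 := (hcol x' (by simp [hs])).red_ne_zero_iff hM hB hP hc hq χ χ
    have h2 : ∀ u : zpowers x, u ≠ 1 → red M (D χ u) = N χ s := fun u hu => by
      obtain ⟨k, hk⟩ := even_sum_sub hx hcard hs hr hrr (N := N χ) fun lam => by
        have := coef_pow hrr (hDr χ) lam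
        rw [hN, hN] at this
        exact_mod_cast this
      have h3 : ∀ lam : zpowers x →* ℂˣ, (lam u : ℂ) ^ 2 ^ (n + 2) = 1 := fun lam => by
        rw [← Units.val_pow_eq_pow_val, ← map_pow, ← hcard, pow_card_eq_one', map_one, Units.val_one]
      have h4 := fun lam => mem_locO_of_pow_eq_one (M := M) (by positivity) (h3 lam)
      have h5 : N χ 1 = 0 := by exact_mod_cast (hN χ 1).symm.trans (coef_one _)
      rw [eq_sum_coef (comm_of_gen hx) (D χ) hu]
      simp only [hN]
      rw [red_sum fun lam _ => mul_mem (intCast_mem _ _) (h4 lam), Finset.sum_congr rfl fun lam _ => by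
        rw [red_mul (intCast_mem _ _) (h4 lam), hM.red_eq_one_of_pow (h3 lam), red_intCast, mul_one],
        ← Int.cast_sum, show ∑ lam, N χ lam = N χ s + 2 * k by omega]
      simp [CharTwo.two_eq_zero]
    have h3 : x' ≠ 1 := fun e => (hgen x' (by simp [hs])).2 (by simp [e])
    rw [← (hG χ).apply_inv, red_mul ((hG χ).mem_locO _) ((hG χ).mem_locO _), h2 _ h3,
      h2 _ (inv_ne_one.2 h3), ← Int.cast_mul, and_self] at h1
    exact (mul_self_nonneg _).lt_of_ne' fun e => h1.2 h0 (by rw [e, Int.cast_zero])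
  have h8 : (kz 2 B : ℤ) ≤ ∑ χ, N χ s * N χ s := by
    rw [kz, ← Nat.card_congr (Equiv.subtypeSubtypeEquivSubtypeInter (· ∈ B) _), Nat.card_eq_fintype_card,
      Fintype.card_subtype, Finset.card_eq_sum_ones]
    push_cast
    exact (Finset.sum_le_sum fun χ hχ => h7 χ (Finset.mem_filter.1 hχ).2).trans
      (Finset.sum_le_sum_of_subset_of_nonneg (Finset.subset_univ _) fun _ _ _ => mul_self_nonneg _)
  exact_mod_cast h5 ▸ mul_le_mul_of_nonneg_right h8 (Int.natCast_nonneg (orderOf x))

end Cfsg
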