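import Cfsg.Agent.Blk.FrobGen
import Cfsg.Agent.Blk.RankOne
import Cfsg.Agent.Blk.Quot
import Cfsg.Agent.Blk.Local

/-!
# Bounds from subsections whose dominated block has cyclic defect groups
-/

set_option autoImplicit false
set_option linter.unusedSectionVars false
set_option linter.unusedVariables false
set_option linter.style.haveILetI false

namespace Cfsg

open GA
open scoped ComplexConjugate

universe u v w

variable {G : Type u} [Group G] [Finite G] {H : Type v} [Group H] [Finite H]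
  {p : ℕ} {M : Ideal AlgInt}

theorem card_le_cyc_quad {ι : Type*} (X : Finset ι) (c : ι → ℤ) {m : ℕ} (hm : 0 < m)
    (h0 : ∃ i ∈ X, c i ≠ 0) :
    (X.card : ℤ) ≤ (X.card * m + 1) * ∑ i ∈ X, c i ^ 2 - m * (∑ i ∈ X, c i) ^ 2 := by
  classical
  have h1 := sq_sum_le_card_mul_sum_sq (s := X.filter (c · ≠ 0)) (f := c)
  have h2 := Finset.card_nsmul_le_sum (X.filter (c · ≠ 0)) (c · ^ 2) 1 fun i hi =>
    (one_le_sq_iff_one_le_abs _).2 (Int.one_le_abs (Finset.mem_filter.1 hi).2)
  rw [Finset.sum_filter_of_ne fun i _ h => by simpa using h] at h2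
  rw [Finset.sum_filter_ne_zero, Finset.sum_filter_of_ne fun i _ h => by simpa using h] at h1
  have h3 : ((X.filter (c · ≠ 0)).card : ℤ) ≤ X.card := by exact_mod_cast Finset.card_filter_le _ _
  have h4 : (1 : ℤ) ≤ (X.filter (c · ≠ 0)).card := by
    obtain ⟨i, hi, hi'⟩ := h0
    exact_mod_cast Finset.card_pos.2 ⟨i, Finset.mem_filter.2 ⟨hi, hi'⟩⟩
  have h5 : (1 : ℤ) ≤ m := by exact_mod_cast hm
  rw [nsmul_eq_mul, mul_one] at h2
  generalize ((X.filter (c · ≠ 0)).card : ℤ) = s at *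
  generalize ∑ i ∈ X, c i ^ 2 = Q at *
  have h6 : 1 ≤ m * Q := by nlinarith
  nlinarith [mul_le_mul_of_nonneg_left h1 (by omega : (0 : ℤ) ≤ m),
    mul_le_mul_of_nonneg_left h6 (sub_nonneg.2 h3)]

theorem ip_sum_smul_irr_sum (S T : Finset (IrrCharacter G)) [DecidablePred (· ∈ T)]
    (a b : IrrCharacter G → ℂ) : ip (∑ χ ∈ S, a χ • χ.1) (∑ χ ∈ T, b χ • χ.1) =
      ∑ χ ∈ S with χ ∈ T, a χ * conj (b χ) := by
  classical
  simp only [ip_sum_left, Finset.sum_filter]
  simp only [ip_sum_right, ip_smul_left, ip_smul_right, IrrCharacter.ip_eq]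
  exact Finset.sum_congr rfl fun χ _ => by simp [mul_comm]

theorem ExcOut.blockRank_le_ip {A : Type w} [Group A] [Fintype A] {B X Y : Set (IrrCharacter G)}
    {E : Subgroup (MulAut A)} {S : A → G → ℂ} {δ : ℤ} {ζ : (A →* ℂˣ) → IrrCharacter G}
    {a : IrrCharacter G → ℤ} (o : ExcOut p B E S X Y δ 0 ζ a) (h : ExcSys p M B E S)
    (hX : Nat.card X = Nat.card E) (ha : ∀ χ ∈ X, a χ = 1 ∨ a χ = -1) {η : G → ℂ}
    (hη : η ∈ regLat p B) (h0 : η ≠ 0) : (blockRank p B : ℝ) ≤ (Nat.card A * ip η η).re := by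
  classical
  have ha2 : ∀ χ ∈ Finset.univ.filter (· ∈ X), (a χ : ℂ) * a χ = 1 := fun χ hχ => by
    rcases ha χ (Finset.mem_filter.1 hχ).2 with h | h <;> simp [h]
  have hδ : (δ : ℂ) * δ = 1 := by exact_mod_cast o.sq
  have hY : ∀ ψ ∈ Y, pRegularPart p ψ.1 =
      pRegularPart p (∑ χ with χ ∈ X, ((δ : ℂ) * a χ) • χ.1) := fun ψ hψ =>
    pRegularPart_eq_iff.2 fun g hg => by
      have := o.reg_rel ψ hψ g hg
      rw [finsum_mem_irr_eq_sum] at this
      simp only [Finset.sum_apply, Pi.smul_apply, smul_eq_mul, mul_assoc, ← Finset.mul_sum]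
      push_cast at this
      linear_combination -δ * this - ψ g * hδ
  obtain ⟨c, rfl⟩ : ∃ c : IrrCharacter G → ℤ,
      η = pRegularPart p (∑ χ with χ ∈ X, ((c χ : ℂ) * a χ) • χ.1) := by
    clear h0
    induction hη using Submodule.span_induction with
    | mem _ h =>
      obtain ⟨ψ, hψ, rfl⟩ := h
      rcases o.union ▸ hψ with h | h
      · refine ⟨Pi.single ψ (a ψ), congrArg _ ?_⟩
        rw [Finset.sum_eq_single_of_mem ψ (by simpa) fun χ _ h => by simp [h], Pi.single_eq_same,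
          ha2 ψ (by simpa), one_smul]
      · exact ⟨fun _ => δ, hY ψ h⟩
    | zero => exact ⟨0, by simp [pRegularPart_zero]⟩
    | add _ _ _ _ h1 h2 =>
      obtain ⟨c, rfl⟩ := h1
      obtain ⟨c', rfl⟩ := h2
      exact ⟨c + c', by simp [← pRegularPart_add, ← Finset.sum_add_distrib, add_mul, add_smul]⟩
    | smul n _ _ h1 =>
      obtain ⟨c, rfl⟩ := h1
      exact ⟨n • c, by
        rw [← Int.cast_smul_eq_zsmul ℂ, ← pRegularPart_smul, Finset.smul_sum]
        simp [smul_smul, mul_assoc]⟩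
  have hA := natCard_cast_ne_zero A
  have hc : (Nat.card A : ℂ) = Nat.card X * Nat.card Y + 1 := by rw [hX]; exact_mod_cast o.cardY.symm
  set s : ℂ := ∑ χ with χ ∈ X, c χ with hs
  set θ : G → ℂ := ∑ χ with χ ∈ X, ((c χ : ℂ) * a χ) • χ.1 with hθ
  set W : G → ℂ := ∑ χ with χ ∈ X, ((Nat.card Y : ℂ) * a χ) • χ.1 -
    ∑ χ with χ ∈ Y, (δ : ℂ) • χ.1 with hW
  have hcf : ∀ (Z : Set (IrrCharacter G)) (k : IrrCharacter G → ℂ),
      IsClassFunction G (∑ χ with χ ∈ Z, k χ • χ.1) := fun Z k =>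
    IsClassFunction.sum fun χ _ => χ.isClassFunction.smul _
  have hbp : ∀ Z ⊆ B, ∀ k : IrrCharacter G → ℂ, blockPart B (∑ χ with χ ∈ Z, k χ • χ.1) =
      ∑ χ with χ ∈ Z, k χ • χ.1 := fun Z hZ k => by
    rw [blockPart_sum]
    exact Finset.sum_congr rfl fun χ hχ => by
      rw [blockPart_smul, blockPart_irr_of_mem (hZ (Finset.mem_filter.1 hχ).2)]
  have hd : ∀ (k : IrrCharacter G → ℂ) (u : A), u ≠ 1 →
      excDec S (∑ χ with χ ∈ X, (k χ * a χ) • χ.1) u = ∑ χ with χ ∈ X, k χ := fun k u hu => by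
    rw [excDec_sum]
    exact Finset.sum_congr rfl fun χ hχ => by
      rw [excDec_smul, o.nonexc χ (Finset.mem_filter.1 hχ).2 u hu, mul_assoc, ha2 χ hχ, mul_one]
  have h1 : pRegularPart p θ = θ - (s / Nat.card A) • W := by
    refine Eq.trans ?_ (pRegularPart_eq_self_iff.2 fun g hg => h.vanish_of_dec ((hcf _ _).sub
      (((hcf _ _).sub (hcf _ _)).smul (s / Nat.card A))) (by
        rw [blockPart_sub, blockPart_smul, blockPart_sub, hbp _ o.X_subset, hbp _ o.X_subset,
          hbp _ o.Y_subset]) (fun u hu => ?_) hg)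
    · refine pRegularPart_eq_iff.2 fun g hg => ?_
      have := Finset.sum_congr rfl fun ψ (hψ : ψ ∈ Finset.univ.filter (· ∈ Y)) =>
        congrFun (hY ψ (Finset.mem_filter.1 hψ).2) g
      simp only [pRegularPart_of_reg hg, Finset.sum_const, ← natCard_eq_card_filter,
        nsmul_eq_mul, Finset.sum_apply, Pi.smul_apply, smul_eq_mul, mul_assoc,
        ← Finset.mul_sum] at this
      simp only [Pi.sub_apply, Finset.sum_apply, Pi.smul_apply, smul_eq_mul, mul_assoc,
        ← Finset.mul_sum, this, hW]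
      linear_combination (-(s / Nat.card A) * Nat.card Y * ∑ χ with χ ∈ X, a χ * χ g) * hδ
    · have := o.sumY u hu
      rw [finsum_mem_irr_eq_sum] at this
      simp only [excDec_sub, excDec_smul, hd _ u hu, excDec_sum, ← Finset.mul_sum, this,
        Finset.sum_const, ← natCard_eq_card_filter, nsmul_eq_mul, ← hs]
      field_simp
      push_cast
      linear_combination s * hc - s * hδ
  have h3 : ∀ χ ∈ Finset.univ.filter (· ∈ X), (c χ : ℂ) * a χ * conj ((c χ : ℂ) * a χ) =
      (c χ : ℂ) ^ 2 := fun χ hχ => by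
    simp only [map_mul, map_intCast]; linear_combination (c χ : ℂ) ^ 2 * ha2 χ hχ
  have h4 : ∀ χ ∈ Finset.univ.filter (· ∈ X), (Nat.card Y : ℂ) * a χ * conj ((c χ : ℂ) * a χ) =
      (Nat.card Y : ℂ) * c χ := fun χ hχ => by
    simp only [map_mul, map_intCast]; linear_combination (Nat.card Y * c χ : ℂ) * ha2 χ hχ
  have h2 : Nat.card A * ip (pRegularPart p θ) (pRegularPart p θ) =
      (((Nat.card X * Nat.card Y + 1) * ∑ χ with χ ∈ X, c χ ^ 2 -
        Nat.card Y * (∑ χ with χ ∈ X, c χ) ^ 2 : ℤ) : ℂ) := by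
    rw [← ip_pRegularPart_eq_both_left, h1, ip_sub_left, ip_smul_left, ip_sub_left,
      ip_sum_smul_irr_sum, ip_sum_smul_irr_sum, ip_sum_smul_irr_sum, Finset.filter_mem_eq_inter,
      Finset.inter_self, Finset.filter_false_of_mem fun χ h h' => Set.disjoint_left.1 o.disj
        (Finset.mem_filter.1 h').2 (Finset.mem_filter.1 h).2,
      Finset.sum_congr rfl h3, Finset.sum_congr rfl h4, ← Finset.mul_sum]
    push_cast
    rw [← hc, ← hs]
    rw [Finset.sum_empty, sub_zero]
    field_simp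
  rw [h2, Complex.intCast_re, o.rank, natCard_eq_card_filter X]
  refine mod_cast card_le_cyc_quad _ c (Nat.card_pos_iff.2 ⟨(o.Y_nonempty h).to_subtype,
    inferInstance⟩) (by_contra fun h3 => h0 ?_)
  push Not at h3
  rw [hθ, Finset.sum_eq_zero fun χ hχ => by simp [h3 χ hχ], pRegularPart_zero]

/-- The minimum of the lattice of a block with cyclic defect groups is at least `l(B)`. -/
theorem IsDefectGroup.blockRank_le_of_isCyclic (hM : IsPModular p M) {B : Set (IrrCharacter G)}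
    (hB : IsPBlock M B) {D : Subgroup G} (hD : IsDefectGroup p M B D) [IsCyclic D] {η : G → ℂ}
    (hη : η ∈ regLat p B) (h0 : η ≠ 0) :
    (blockRank p B : ℝ) ≤ ((p : ℂ) ^ blockDefect p B * ip η η).re := by
  haveI := hM.fact
  by_cases hD1 : D = ⊥
  · have h1 := hD.card_eq hB hM
    rw [hD1, Subgroup.card_bot, eq_comm, Nat.pow_eq_one, or_iff_right hM.prime.ne_one] at h1
    obtain ⟨n, hn, hn'⟩ := regLat_exists_nat hη
    rw [hB.blockRank_eq_one_of_defect_zero hM h1, hn, Complex.natCast_re]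
    exact_mod_cast hn' h0
  haveI := Fintype.ofFinite D
  haveI := hM.charP
  obtain ⟨e, he⟩ := (hB.isBlockIdem hM).exists_isMaxPair ((hB.isDefectGroup_iff hM D).1 hD)
  obtain ⟨S, X, Y, δ, ζ, a, h, -, o, hX, ha⟩ := he.exists_out_cyclic hM hB hD1 (j := D.subtype)
    (MulEquiv.refl D) fun _ => rfl
  have := o.blockRank_le_ip h hX ha hη h0
  rwa [hD.card_eq hB hM, Nat.cast_pow] at this

section Quot

variable {π : G →* H}

theorem card_ker_mul_ip_pRegularPart [Fact p.Prime] (hπ : Function.Surjective π)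
    (hk : IsPGroup p π.ker) (hc : π.ker ≤ Subgroup.center G) (θ φ : H → ℂ) :
    Nat.card π.ker * ip (pRegularPart p (θ ∘ π)) (φ ∘ π) = ip (pRegularPart p θ) φ := by
  classical
  have := Fintype.ofFinite G
  have := Fintype.ofFinite H
  have h1 : (Nat.card G : ℂ) = Nat.card π.ker * Nat.card H := by
    rw [← π.ker.card_mul_index, Subgroup.index_ker, π.range_eq_top_of_surjective hπ,
      Subgroup.card_top, Nat.cast_mul]
  have h2 := natCard_cast_ne_zero π.ker
  rw [ip_def, ip_def, h1, mul_inv, ← mul_assoc, ← mul_assoc, mul_inv_cancel₀ h2, one_mul,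
    ← Finset.sum_filter_of_ne (p := IsPRegular p) fun g _ h => by_contra fun hg => h (by
      rw [pRegularPart_of_not_reg hg, zero_mul])]
  congr 1
  refine Finset.sum_of_injOn π (fun a ha b hb h => eq_of_isPRegular_of_map_eq hk
    (by simpa using hb) (by simpa using ha)
    (fun z hz => (Subgroup.mem_center_iff.1 (hc hz) b).symm) h) (by simp) (fun y _ hy => ?_)
    fun g hg => ?_
  · rw [pRegularPart_of_not_reg fun h => ?_, zero_mul]
    obtain ⟨g, hg, rfl⟩ := h.exists_lift hπ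
    exact hy ⟨g, by simpa using hg, rfl⟩
  · have hg := (Finset.mem_filter.1 hg).2
    rw [pRegularPart_of_reg hg, pRegularPart_of_reg (hg.map π)]
    rfl

theorem IsPBlock.exists_regLat_preimage_inflate (hM : IsPModular p M)
    (hπ : Function.Surjective π) (hk : IsPGroup p π.ker) {B : Set (IrrCharacter G)}
    (hB : IsPBlock M B) (hb : IsPBlock M (IrrCharacter.inflate π hπ ⁻¹' B)) {η : G → ℂ}
    (hη : η ∈ regLat p B) :
    ∃ η' ∈ regLat p (IrrCharacter.inflate π hπ ⁻¹' B), η = pRegularPart p (η' ∘ π) := by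
  induction hη using Submodule.span_induction with
  | mem _ h =>
    obtain ⟨ψ, hψ, rfl⟩ := h
    refine ⟨∑ φ : IBr p M H, (decNum ψ.1 (φ.inflate π hπ) : ℂ) • φ.1, sum_mem fun φ _ => ?_, ?_⟩
    · by_cases h : decNum ψ.1 (φ.inflate π hπ) = 0
      · simp [h]
      · rw [← Int.cast_natCast]
        exact intCast_smul_mem_regLat (hb.ibr_mem_regLat hM
          ((mem_ibrOf_preimage_inflate hM hπ hB φ).2 (mem_ibrOf.2 ⟨ψ, hψ, h⟩))) _
    · simp only
      rw [ψ.isCharacter.pRegularPart_eq_sum hM, ← (IBr.inflate_bijective hM π hπ hk).sum_comp]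
      simp only [IBr.inflate, ← pRegularPart_smul, ← pRegularPart_sum]
      congr 1
      ext g
      simp
  | zero => exact ⟨0, zero_mem _, by simp [pRegularPart_zero]⟩
  | add _ _ _ _ h1 h2 =>
    obtain ⟨a, ha, rfl⟩ := h1
    obtain ⟨b, hb, rfl⟩ := h2
    exact ⟨a + b, add_mem ha hb, (pRegularPart_add _ _).symm⟩
  | smul n _ _ h1 =>
    obtain ⟨a, ha, rfl⟩ := h1
    exact ⟨(n : ℂ) • a, intCast_smul_mem_regLat ha n, by
      rw [← Int.cast_smul_eq_zsmul ℂ, ← pRegularPart_smul]; rfl⟩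

theorem IsDefectGroup.preimage_inflate (hM : IsPModular p M) (hπ : Function.Surjective π)
    (hk : IsPGroup p π.ker) {B : Set (IrrCharacter G)} (hB : IsPBlock M B)
    (hb : IsPBlock M (IrrCharacter.inflate π hπ ⁻¹' B)) {D : Subgroup G}
    (hD : IsDefectGroup p M B D) :
    IsDefectGroup p M (IrrCharacter.inflate π hπ ⁻¹' B) (D.map π) ∧ p ^ blockDefect p B =
      Nat.card π.ker * p ^ blockDefect p (IrrCharacter.inflate π hπ ⁻¹' B) := by
  haveI := hM.fact
  obtain ⟨b, h1, h2, h3⟩ := hD.exists_block_quotient hM hπ hk hB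
  obtain ⟨χ, hχ⟩ := h1.nonempty hM
  rw [h1.eq_of_mem hb hM hχ (h2 hχ)] at h3
  refine ⟨h3, ?_⟩
  rw [← h3.card_eq hb hM, ← hD.card_eq hB hM, ← Subgroup.relIndex_ker,
    card_mul_relIndex (hD.le_of_normal hB hM hk)]

theorem IsDefectGroup.blockRank_le_of_isCyclic_map (hM : IsPModular p M)
    (hπ : Function.Surjective π) (hk : IsPGroup p π.ker) (hc : π.ker ≤ Subgroup.center G)
    {B : Set (IrrCharacter G)} (hB : IsPBlock M B) {D : Subgroup G} (hD : IsDefectGroup p M B D)
    [IsCyclic (D.map π)] {η : G → ℂ} (hη : η ∈ regLat p B) (h0 : η ≠ 0) :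
    (blockRank p B : ℝ) ≤ ((p : ℂ) ^ blockDefect p B * ip η η).re := by
  haveI := hM.fact
  have hb := hB.preimage_inflate_of_centralizer hM hπ hk fun g _ =>
    fun z hz => (Subgroup.mem_center_iff.1 (hc hz) g).symm
  obtain ⟨h1, h2⟩ := hD.preimage_inflate hM hπ hk hB hb
  obtain ⟨η', h3, rfl⟩ := hB.exists_regLat_preimage_inflate hM hπ hk hb hη
  rw [← hB.blockRank_preimage_inflate hM hπ hk hb, ← ip_pRegularPart_eq_both_left,
    ← Nat.cast_pow, h2, Nat.cast_mul, mul_right_comm, card_ker_mul_ip_pRegularPart hπ hk hc,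
    regLat_pRegularPart h3, mul_comm, Nat.cast_pow]
  exact h1.blockRank_le_of_isCyclic hM hb h3 (by rintro rfl; exact h0 pRegularPart_zero)

end Quot

theorem IsSec.card_mul_le (hM : IsPModular p M) {f : H →* G} {x : G} (h : IsSec p f x)
    {b : Set (IrrCharacter H)} {B : Set (IrrCharacter G)} (hi : Induces M f b B)
    {U : Set (IrrCharacter G)} (hU : ∀ χ ∈ U, χ ∈ B ∧ subPart p f x b χ.1 ≠ 0) {m : ℕ}
    (hm : ∀ η ∈ regLat p b, η ≠ 0 → (m : ℝ) ≤ ((p : ℂ) ^ blockDefect p b * ip η η).re) :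
    Nat.card U * m ≤ p ^ blockDefect p b * blockRank p b := by
  classical
  obtain ⟨n, hx⟩ := h.pElt.exists_pow_succ_eq_one
  have h1 := (Finset.card_nsmul_le_sum (Finset.univ.filter (· ∈ U))
    (fun χ => avgC p n f x b χ.1) m fun χ hχ => h.le_avgC hM hx hi.left χ.isCharacter.isGen
      (hU χ (Finset.mem_filter.1 hχ).2).2 hm).trans (Finset.sum_le_sum_of_subset_of_nonneg
        (t := Finset.univ.filter (· ∈ B)) (fun χ hχ => by
          simpa using (hU χ (Finset.mem_filter.1 hχ).2).1)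
        fun χ _ _ => h.avgC_nonneg hM hi.left χ.isClassFunction)
  rw [← natCard_eq_card_filter, h.sum_avgC hM hi, nsmul_eq_mul] at h1
  exact_mod_cast h1

theorem IsSec.card_le_mul_blockRank (hM : IsPModular p M) {f : H →* G} {x : G} (h : IsSec p f x)
    {b : Set (IrrCharacter H)} {B : Set (IrrCharacter G)} (hi : Induces M f b B)
    (hd : blockDefect p b = blockDefect p B) :
    Nat.card B ≤ p ^ blockDefect p B * blockRank p b := by
  haveI := hM.fact
  simpa only [mul_one, hd] using h.card_mul_le hM hi (U := B) (m := 1)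
    (fun χ hχ => ⟨hχ, h.subPart_ne_zero_of_major hM hi hd hχ⟩) fun η hη h0 => by
      obtain ⟨n, hn, hn'⟩ := regLat_exists_nat hη
      rw [hn, Complex.natCast_re]
      exact_mod_cast hn' h0

theorem IsSec.card_le_of_isCyclic_map (hM : IsPModular p M) {f : H →* G} {x : G}
    (h : IsSec p f x) {b : Set (IrrCharacter H)} {B : Set (IrrCharacter G)} (hi : Induces M f b B)
    {U : Set (IrrCharacter G)} (hU : ∀ χ ∈ U, χ ∈ B ∧ subPart p f x b χ.1 ≠ 0) {Q : Type w}
    [Group Q] [Finite Q] {π : H →* Q} (hπ : Function.Surjective π) (hk : IsPGroup p π.ker)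
    (hc : π.ker ≤ Subgroup.center H) {D : Subgroup H} (hD : IsDefectGroup p M b D)
    [IsCyclic (D.map π)] : Nat.card U ≤ p ^ blockDefect p b :=
  Nat.le_of_mul_le_mul_right (h.card_mul_le hM hi hU fun η hη h0 =>
    hD.blockRank_le_of_isCyclic_map hM hπ hk hc hi.left hη h0)
    (haveI := hM.fact; hi.left.blockRank_pos hM)

/-- The block dominated by a major subsection. -/
theorem IsDefectGroup.exists_dominated (hM : IsPModular p M) {B : Set (IrrCharacter G)}
    (hB : IsPBlock M B) {D : Subgroup G} (hD : IsDefectGroup p M B D) {x : G} (hx : x ∈ D)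
    (hc : D ≤ Subgroup.centralizer {x}) :
    ∃ (Q : Type u) (_ : Group Q) (_ : Finite Q) (π : D →* Q) (c : Set (IrrCharacter Q))
      (b : Set (IrrCharacter (Subgroup.centralizer ({x} : Set G)))),
      π ⟨x, hx⟩ = 1 ∧ IsPBlock M c ∧ IsDefectGroup p M c π.range ∧
      p ^ blockDefect p B = orderOf x * p ^ blockDefect p c ∧ blockRank p c = blockRank p b ∧
      Induces M (Subgroup.centralizer ({x} : Set G)).subtype b B ∧
      blockDefect p b = blockDefect p B ∧
      (IsCyclic π.range → Nat.card B ≤ p ^ blockDefect p B) := by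
  haveI := hM.fact
  obtain ⟨b, hi, hb, hd⟩ := hD.exists_induces_centralizer hM hB hx hc
  have hs := isSec_centralizer (isPElt_of_mem hD.isPGroup hx)
  let z : Subgroup.centralizer ({x} : Set G) := ⟨x, hc hx⟩
  have hz : Subgroup.zpowers z ≤ Subgroup.center _ := Subgroup.zpowers_le.2 (hs.mem_center rfl)
  haveI : (Subgroup.zpowers z).Normal := normal_of_le_center hz
  have hπ := QuotientGroup.mk'_surjective (Subgroup.zpowers z)
  have hk : IsPGroup p (QuotientGroup.mk' (Subgroup.zpowers z)).ker := by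
    rw [QuotientGroup.ker_mk']; exact isPElt_iff_isPGroup_zpowers.1 (hs.isPElt_of_eq rfl)
  rw [← QuotientGroup.ker_mk' (Subgroup.zpowers z)] at hz
  have hq := hi.left.preimage_inflate_of_centralizer hM hπ hk fun g _ =>
    fun z h => (Subgroup.mem_center_iff.1 (hz h) g).symm
  obtain ⟨h1, h2⟩ := hb.preimage_inflate hM hπ hk hi.left hq
  have h3 : ((QuotientGroup.mk' (Subgroup.zpowers z)).comp (Subgroup.inclusion hc)).range =
      (D.subgroupOf _).map (QuotientGroup.mk' (Subgroup.zpowers z)) := by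
    rw [MonoidHom.range_comp, Subgroup.inclusion_range]
  refine ⟨_, _, inferInstance, (QuotientGroup.mk' _).comp (Subgroup.inclusion hc), _, b,
    (QuotientGroup.eq_one_iff _).2 (Subgroup.mem_zpowers z), hq, h3 ▸ h1, ?_,
    hi.left.blockRank_preimage_inflate hM hπ hk hq, hi, hd, fun h => ?_⟩
  · rw [← hd, h2, QuotientGroup.ker_mk', Nat.card_zpowers, ← Subgroup.orderOf_coe]
  · rw [h3] at h
    exact hd ▸ hs.card_le_of_isCyclic_map hM hi
      (fun χ hχ => ⟨hχ, hs.subPart_ne_zero_of_major hM hi hd hχ⟩) hπ hk hz hb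

/-- `k(B) ≤ |D|` if the defect group is generated by two commuting elements. -/
theorem IsDefectGroup.card_le_of_two_gen (hM : IsPModular p M) {B : Set (IrrCharacter G)}
    (hB : IsPBlock M B) {D : Subgroup G} (hD : IsDefectGroup p M B D) {x y : D}
    (hxy : ∀ d : D, d * x = x * d) (h : Subgroup.zpowers x ⊔ Subgroup.zpowers y = ⊤) :
    Nat.card B ≤ p ^ blockDefect p B := by
  obtain ⟨Q, _, _, π, c, b, h1, -, -, -, -, -, -, h2⟩ := hD.exists_dominated hM hB x.2
    fun d hd => Subgroup.mem_centralizer_singleton_iff.2 (congrArg Subtype.val (hxy ⟨d, hd⟩))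
  refine h2 ?_
  rw [MonoidHom.range_eq_map, ← h, Subgroup.map_sup, MonoidHom.map_zpowers, MonoidHom.map_zpowers,
    h1, Subgroup.zpowers_one_eq_bot, bot_sup_eq]
  infer_instance

theorem IsDefectGroup.exists_center (hM : IsPModular p M) {B : Set (IrrCharacter G)}
    (hB : IsPBlock M B) {D : Subgroup G} (hD : IsDefectGroup p M B D) (hd : blockDefect p B ≠ 0) :
    ∃ x ∈ D, p ∣ orderOf x ∧ D ≤ Subgroup.centralizer {x} := by
  haveI := hM.fact
  haveI : Nontrivial D := Finite.one_lt_card_iff_nontrivial.1 (by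
    rw [hD.card_eq hB hM]; exact Nat.one_lt_pow hd hM.prime.one_lt)
  haveI := hD.isPGroup.center_nontrivial
  obtain ⟨⟨⟨x, hx⟩, h⟩, h1⟩ := exists_ne (1 : Subgroup.center D)
  exact ⟨x, hx, prime_dvd_orderOf_of_mem hD.isPGroup hx fun h => h1 (Subtype.ext (Subtype.ext h)),
    fun s hs => Subgroup.mem_centralizer_singleton_iff.2
      (congrArg Subtype.val (Subgroup.mem_center_iff.1 h ⟨s, hs⟩))⟩

theorem IsPBlock.card_le_of_defect_le_two (hM : IsPModular p M) {B : Set (IrrCharacter G)}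
    (hB : IsPBlock M B) (hd : blockDefect p B ≤ 2) : Nat.card B ≤ p ^ blockDefect p B := by
  haveI := hM.fact
  by_cases h0 : blockDefect p B = 0
  · rw [(hB.blockDefect_eq_zero_iff_card hM).1 h0, h0, pow_zero]
  obtain ⟨D, hD⟩ := hB.exists_isDefectGroup hM
  obtain ⟨x, hx, ⟨k, hk⟩, hc⟩ := hD.exists_center hM hB h0
  obtain ⟨Q, _, _, π, c, b, -, h1, h2, h3, -, -, -, h4⟩ := hD.exists_dominated hM hB hx hc
  refine h4 (isCyclic_of_card_dvd_prime (p := p) ?_)
  have h5 : p ^ (blockDefect p c + 1) ∣ p ^ blockDefect p B := ⟨k, by rw [h3, hk]; ring⟩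
  rw [Nat.pow_dvd_pow_iff_le_right hM.prime.one_lt] at h5
  rw [h2.card_eq h1 hM]
  exact (pow_dvd_pow p (by omega)).trans (pow_one p).dvd

end Cfsg
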