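import Cfsg.Agent.Blk.Quat
import Cfsg.Agent.Blk.FongInd

/-!
# Tame blocks with three simple modules
-/

set_option autoImplicit false
set_option linter.unusedSectionVars false
set_option linter.style.haveILetI false

namespace Cfsg

open MonoidAlgebra GA Subgroup

universe u v w

variable {G : Type u} [Group G] [Finite G] {H : Type v} [Group H] [Finite H]
  {p : ℕ} {M : Ideal AlgInt} {P : Subgroup G} {B : Set (IrrCharacter G)}

theorem pRegularPart_ind {f : H →* G} (hf : Function.Injective f) (θ : H → ℂ) :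
    pRegularPart p (ind f θ) = ind f (pRegularPart p θ) :=
  (ind_isClassFunction f θ).pRegPart.ext_ip (ind_isClassFunction _ _) fun χ => by
    rw [ip_pRegularPart_left, ip_ind_left _ _ χ.isClassFunction.pRegPart, ip_ind_left _ _
      χ.isClassFunction, pRegularPart_comp_of_injective f hf, ip_pRegularPart_left]

theorem blockRank_le_of_ind {f : H →* G} (hf : Function.Injective f) {b : Set (IrrCharacter H)}
    (h : ∀ χ ∈ B, ∃ ψ ∈ b, χ.1 = ind f ψ.1) : blockRank p B ≤ blockRank p b := by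
  let L : (H → ℂ) →ₗ[ℂ] (G → ℂ) := ⟨⟨ind f, ind_add f⟩, ind_smul f⟩
  refine (Submodule.finrank_mono ?_).trans (Submodule.finrank_map_le L _)
  rw [Submodule.map_span]
  refine Submodule.span_mono ?_
  rintro _ ⟨χ, hχ, rfl⟩
  obtain ⟨ψ, hψ, e⟩ := h χ hχ
  exact ⟨_, ⟨ψ, hψ, rfl⟩, (pRegularPart_ind hf _).symm.trans (congrArg _ e.symm)⟩

namespace IsTame

variable {n r : ℕ} {x y z : G} (h : IsTame (n + 1) r P x y z) (hy : y * y = 1)
include h hy

theorem isDihPair (hxy : x * y * (x * y) = 1) : IsDihPair P x y :=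
  ⟨h.mem_x, h.mem_y, hy, by
    rw [inv_eq_of_mul_eq_one_right hy, eq_inv_iff_mul_eq_one, ← conj_eq_one_iff (a := x)]
    simpa [mul_assoc] using hxy, h.notMem, fun g hg => inv_eq_of_mul_eq_one_right hy ▸ h.cases g hg⟩

theorem isConj_of_rank (hM : IsPModular 2 M) (hB : IsPBlock M B) (hD : IsDefectGroup 2 M B P)
    (hl : 3 ≤ blockRank 2 B) : z ∉ center G ∧ IsConj z y ∧ (IsConj z (x * y) ∨ 1 ≤ n) := by
  haveI := hM.charP
  classical
  letI := Fintype.ofFinite B
  letI := Fintype.ofFinite P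
  obtain ⟨e, hP⟩ := (hB.isBlockIdem hM).exists_isMaxPair ((hB.isDefectGroup_iff hM P).1 hD)
  have h1 : ∀ v : P, v ∈ fClass 2 P e ⟨z, h.z_mem'⟩ → IsConj z v := fun v ⟨g, _, e⟩ =>
    isConj_iff.2 ⟨g, e.symm⟩
  suffices IsConj z y ∧ (IsConj z (x * y) ∨ 1 ≤ n) from ⟨fun hz => h.notMem (by
    obtain ⟨g, rfl⟩ := isConj_iff.1 this.1
    rw [mem_center_iff.1 hz, mul_inv_cancel_right]
    exact h.z_mem), this⟩
  by_cases hxy : x * y * (x * y) = 1
  · have h2 := (h.dihedral hM hB hP (h.isDihPair hy hxy)).1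
    have h3 := hM.lrk_pos hP.pair (zpowers_le.2 h.z_mem')
    have h4 : ∀ v : P, (v : G) * v = 1 → (v : G) ∉ zpowers x → IsConj z v := fun v hv hn =>
      h1 v (of_not_not fun e => by
        have := h.le_card' hM hB hP hv (fun e => hn (by simp [e])) e
        omega)
    exact ⟨h4 ⟨y, h.mem_y⟩ hy h.notMem, .inl (h4 ⟨_, mul_mem h.mem_x h.mem_y⟩ hxy
      (h.mul_notMem (mem_zpowers x) h.notMem))⟩
  · obtain ⟨j, -, -, h2, -, h3, -⟩ := h.quaternion hM hB hP hxy
    refine ⟨h1 ⟨y, h.mem_y⟩ (of_not_not fun e => by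
      have := h3 fun e' => e e'.2
      have := h2 hy
      omega), .inr (Nat.pos_of_ne_zero fun e => hxy ?_)⟩
    subst e
    have := h.conj.trans (h.pow_r_of_pow_four (orderOf_dvd_iff_pow_eq_one.1 h.ord.dvd))
    rw [inv_eq_of_mul_eq_one_right hy] at this
    rw [mul_assoc, ← mul_assoc y, this, mul_inv_cancel]

end IsTame

/-- Tame blocks of `2`-solvable groups with non-quaternion defect groups have at most two simple
modules. -/
theorem IsPSolvable.blockRank_le_two (hG : IsPSolvable 2 G) (hM : IsPModular 2 M)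
    (hB : IsPBlock M B) : ∀ P, IsDefectGroup 2 M B P → ∀ n r x y z, IsTame (n + 1) r P x y z →
      y * y = 1 → blockRank 2 B ≤ 2 := by
  refine fong_induction hM (fun G _ _ B => ∀ P, IsDefectGroup 2 M B P → ∀ n r x y z,
    IsTame (n + 1) r P x y z → y * y = 1 → blockRank 2 B ≤ 2) ?_ ?_ G hG B hB
  · intro G _ _ hG θ hθ P hP n r x y z h hy
    have hK := not_dvd_card_pPrimeCore 2 G
    have hB := hG.isPBlock_irrOver hM (range_subtype _) hθ
    by_contra! hl
    obtain ⟨-, h1, h2⟩ := h.isConj_of_rank hy hM hB hP hl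
    obtain ⟨S, rfl⟩ := (isDefectGroup_irrOver_singleton_iff hM hK hθ hB P).1 hP
    let π := QuotientGroup.mk' (pPrimeCore 2 G)
    obtain ⟨W, hW⟩ : ∃ W, W = centralizer (pCore 2 (G ⧸ pPrimeCore 2 G) : Set (G ⧸ pPrimeCore 2 G)) :=
      ⟨_, rfl⟩
    haveI hn : W.Normal := hW ▸ inferInstance
    have hC := (hG.to_quotient _).centralizer_pCore_le (pPrimeCore_quotient_pPrimeCore 2 G)
    have h3 : π z ∈ W := hW ▸ fun v hv => by
      obtain ⟨s, hs, rfl⟩ := pCore_le_sylow (S.mapSurjective (QuotientGroup.mk'_surjective _)) hv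
      rw [← map_mul, h.z_comm hs, map_mul]
    have h4 : ∀ v, IsConj z v → π v ∈ W := fun v hv => by
      obtain ⟨g, rfl⟩ := isConj_iff.1 hv
      simpa using hn.conj_mem _ h3 (π g)
    have h5 : ∀ a ∈ zpowers x, π a ∈ W → a * a = 1 := fun a ha h6 => by
      have h7 : y * a * y⁻¹ * a⁻¹ ∈ (S : Subgroup G) ⊓ pPrimeCore 2 G :=
        mem_inf.2 ⟨mul_mem (mul_mem (mul_mem h.mem_y (h.le ha)) (inv_mem h.mem_y))
          (inv_mem (h.le ha)), by
          rw [← QuotientGroup.ker_mk' (pPrimeCore 2 G), MonoidHom.mem_ker]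
          simp only [map_mul, map_inv]
          rw [mem_centralizer_iff.1 (hW.le h6) _ (hC (hW.le (h4 y h1)))]
          simp [π]⟩
      rwa [inf_eq_bot_of_isPGroup_of_not_dvd S.2 hK, mem_bot, mul_inv_eq_one,
        h.conj_of_notMem h.mem_y h.notMem ha, h.pow_r_eq_iff (h.le ha)] at h7
    have h6 : ∀ k, x ^ 2 ^ k = 1 → n + 2 ≤ k := fun k e => (Nat.pow_dvd_pow_iff_le_right
      one_lt_two).1 (h.ord ▸ orderOf_dvd_of_pow_eq_one e)
    rcases h2 with h2 | h2
    · have := h6 1 ((sq x).trans (h5 x (mem_zpowers x) ((mul_mem_cancel_right (h4 y h1)).1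
        (map_mul π x y ▸ h4 _ h2))))
      omega
    · have h7 := h5 (x ^ r * x⁻¹) (mul_mem (pow_mem (mem_zpowers x) r) (inv_mem (mem_zpowers x))) (by
        rw [← h.conj]
        simpa [mul_assoc] using mul_mem (h4 y h1) (hn.conj_mem _ (inv_mem (h4 y h1)) (π x)))
      have h8 : (x * x) ^ r = x * x := by
        rw [← mul_inv_eq_one, ← h7, (Commute.refl x).mul_pow, mul_inv_rev, mul_assoc, mul_assoc,
          ← mul_assoc x⁻¹ (x ^ r), ((Commute.refl x).inv_left.pow_right r).eq, mul_assoc]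
      have := h6 2 (by
        rw [← (h.pow_r_eq_iff (mul_mem h.mem_x h.mem_x)).1 h8]; simp [pow_succ, mul_assoc])
      omega
  · intro G T N _ _ _ _ _ _ f _ i j b _ hi hfac hb hT B' hB' hcov ih P hP n r x y z h hy
    haveI : IsNormalEmb j := IsNormalEmb.of_factor hi hfac
    have hA := hcov.subset_irrOver hM hB' (hb.isBlockUnion hM)
    obtain ⟨D, hD⟩ := hB'.exists_isDefectGroup (p := 2) hM
    obtain ⟨g, rfl⟩ := (fr_isDefectGroup hM hi hfac hb hT hB' hcov hD).exists_conj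
      (fr_isPBlock hM hi hfac hb hT hB' hcov) hM hP
    rw [Subgroup.map_map] at h
    have h1 : Function.Injective ((MulAut.conj g).toMonoidHom.comp i) :=
      (MulAut.conj g).injective.comp hi
    obtain ⟨x, -, rfl⟩ := h.mem_x
    obtain ⟨y, -, rfl⟩ := h.mem_y
    obtain ⟨z, -, rfl⟩ := h.z_mem'
    exact (blockRank_le_of_ind hi fun χ => (fr_mem_irrOver_iff hM hi hfac hb hT hA).1).trans
      (ih D hD n r x y z (comap_map_eq_self_of_injective h1 D ▸ h.comap h1 rfl rfl rfl)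
        (h1 (by rw [map_mul, hy, map_one])))

end Cfsg
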