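import Cfsg.Agent.Blk.FusTools
import Cfsg.Agent.Blk.TameThree

/-!
# `2`-blocks whose defect group has a cyclic subgroup of index two; local rank bounds
-/

set_option autoImplicit false
set_option linter.unusedSectionVars false
set_option linter.style.haveILetI false

namespace Cfsg

open MonoidAlgebra GA Subgroup

universe u v w

local notation "C(" Q ")" => Subgroup.centralizer ((Q : Subgroup _) : Set _)
local notation "N(" Q ")" => Subgroup.normalizer ((Q : Subgroup _) : Set _)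

variable {G : Type u} [Group G] [Finite G] {H : Type v} [Group H] [Finite H] {P Q : Subgroup G}
  {u v w x y z : G}

section Field

variable {k : Type w} [Field k] [CharP k 2] {b e f : k[G]}

theorem IsD2.eq_of_series (h : IsD2 P z) (hP : IsBPair 2 P e) (hQ : IsCrit 2 P e Q f) {S : Set G}
    (hS : S ⊆ Q) (hS' : ∀ g ∈ N(Q) ⊓ cjStab f, ∀ s ∈ S, g * s * g⁻¹ ∈ S) (h1 : ∀ s ∈ S, s ∈ C(P)) (h2 : 1 ∈ S)
    (h3 : z ∈ S) : Q = P :=
  hQ.le.le.antisymm fun t ht => hQ.mem_of_series hP hS hS' ht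
    (fun _ hs => conj_eq_of_mem_cent (h1 _ hs) ht) fun q hq => by
      rcases h.conj t ht q (hQ.le.le hq) with e | e <;> simpa [e]

theorem IsD2.eq_of_sq (h : IsD2 P z) (hP : IsBPair 2 P e) (hQ : IsCrit 2 P e Q f) (hv : v ∈ Q)
    (h1 : v * v = z) : Q = P :=
  h.eq_of_series hP hQ (S := {s | ∃ q ∈ Q, q * q = s}) (by rintro _ ⟨q, hq, rfl⟩; exact mul_mem hq hq)
    (by rintro g hg _ ⟨q, hq, rfl⟩; exact ⟨_, conj_mem_of_mem_normalizer hg.1 hq, conj_mul⟩)
    (by rintro _ ⟨q, hq, rfl⟩; exact h.sq_cent (hQ.le.le hq)) ⟨1, one_mem _, mul_one _⟩ ⟨v, hv, h1⟩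

theorem IsD2.eq_of_inv (h : IsD2 P z) (hP : IsBPair 2 P e) (hQ : IsCrit 2 P e Q f)
    (h1 : ∀ v ∈ Q, v * v = 1 → v ∈ C(P)) : Q = P :=
  h.eq_of_series hP hQ (S := {s | s ∈ Q ∧ s * s = 1}) (fun _ h => h.1)
    (fun g hg s hs => ⟨conj_mem_of_mem_normalizer hg.1 hs.1, by rw [conj_mul, hs.2]; simp⟩)
    (fun s hs => h1 s hs.1 hs.2) ⟨one_mem _, mul_one _⟩ ⟨hQ.mem_of_cent h.mem h.cent, h.sq⟩

end Field

variable {M : Ideal AlgInt} {B : Set (IrrCharacter G)} [CharP (ResK M) 2] {e : (ResK M)[G]}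

namespace IsTame

variable {n r : ℕ}

theorem rank_le (h : IsTame (n + 1) r P x y z) (hM : IsPModular 2 M) (hB : IsPBlock M B)
    (hP : IsMaxPair 2 (blockIdem M B) P e) : blockRank 2 B ≤ 3 ∧ kz 2 B = 4 := by
  letI := Fintype.ofFinite B
  have h1 := Nat.card_congr (Equiv.subtypeSubtypeEquivSubtypeInter (· ∈ B)
    fun χ : IrrCharacter G => blockHeight 2 B χ.1 = 0)
  have key : ∀ y, IsTame (n + 1) r P x y z → x * y * (x * y) ≠ 1 → blockRank 2 B ≤ 3 ∧ kz 2 B = 4 :=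
    fun y h hxy => by
    obtain ⟨j, h2, -, h3, h4, h5, h6, -⟩ := h.quaternion hM hB hP hxy
    refine ⟨?_, h1.symm.trans h6⟩
    by_cases c : y * y = 1 ∧ ⟨y, h.mem_y⟩ ∈ fClass 2 P e ⟨z, h.z_mem'⟩
    · have := h3 c.1; have := h4 c; omega
    · have := h5 c; omega
  refine (em _).elim (fun c => ?_) (key y h)
  have h' := h.of_notMem (mul_mem h.mem_x h.mem_y) (h.mul_notMem (mem_zpowers x) h.notMem)
  refine (em _).elim (fun c' => ?_) (key _ h')
  obtain ⟨-, h2, -, u, v, t, h3⟩ := h'.dihedral hM hB hP (h'.isDihPair c c')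
  exact ⟨h3.blockRank_le, h1.symm.trans h2⟩

theorem le_rank (h : IsTame n r P x y z) (hD : IsDihPair P x y) (hM : IsPModular 2 M)
    (hB : IsPBlock M B) (hP : IsMaxPair 2 (blockIdem M B) P e)
    (hy : ⟨y, h.mem_y⟩ ∈ fClass 2 P e ⟨z, h.z_mem'⟩) : 2 ≤ blockRank 2 B ∧
      (⟨x * y, mul_mem h.mem_x h.mem_y⟩ ∈ fClass 2 P e ⟨z, h.z_mem'⟩ → 3 ≤ blockRank 2 B) := by
  classical
  letI := Fintype.ofFinite B
  letI := Fintype.ofFinite P
  obtain ⟨c, hc⟩ := hM.exists_isLoc_subtype hP.pair (zpowers_le.2 h.z_mem')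
  have h1 : lrk 2 M P e (zpowers z) = 1 := (hc.lrk_eq hM hP.pair).trans
    (hc.block.blockRank_eq_one_of_nilp hM (h.isNilpIn_of_dih hM hP hD hc))
  have h2 := (h.dihedral hM hB hP hD).1
  have h3 : ∀ u : P, (u : G) * u ≠ 1 → (u : G) ∈ zpowers x := fun u hu =>
    by_contra fun e => hu (hD.mul_self_of_notMem u.2 e)
  have h4 : ∑ u : P with u.1 * u.1 ≠ 1, fw 2 M P e u + 1 = 2 ^ n := by
    rw [Finset.sum_congr rfl fun u hu => h.fw_eq_half hM hP (h3 u (Finset.mem_filter.1 hu).2)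
      (Finset.mem_filter.1 hu).2 fun v hv => h3 v (mt (mul_self_eq_one_iff_of_mem_fClass hv).1
        (Finset.mem_filter.1 hu).2), Finset.sum_const, nsmul_eq_mul]
    have h5 := Finset.card_filter_add_card_filter_not (s := Finset.univ.filter fun u : P =>
      (u : G) ∈ zpowers x) fun u => (u : G) * u = 1
    rw [h.card_filter_mem, Finset.filter_filter, Finset.filter_filter, Finset.filter_congr
      (q := fun u : P => u.1 * u.1 ≠ 1) fun u _ => and_iff_right_of_imp (h3 u),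
      show Finset.univ.filter _ = {(1 : P), ⟨z, h.z_mem'⟩} from Finset.ext fun u => by
        simp only [Finset.mem_filter, Finset.mem_univ, true_and, Finset.mem_insert, Finset.mem_singleton]
        exact ⟨fun e => (h.eq_one_or_z e.1 e.2).imp Subtype.ext Subtype.ext, fun e => by
          rcases e with e | e <;> simp [e, h.z_mem, h.z_mul_z]⟩,
      Finset.card_pair fun e => h.z_ne (congrArg Subtype.val e).symm] at h5
    rify at h5
    linarith [pow_succ (2 : ℝ) n]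
  have key : ∀ L : List P, (∀ v ∈ fClass 2 P e ⟨x * y, mul_mem h.mem_x h.mem_y⟩,
      ∃ u ∈ ⟨z, h.z_mem'⟩ :: L, v ∈ fClass 2 P e u) →
      3 ≤ blockRank 2 B + (L.map fun u : P => (lrk 2 M P e (zpowers (u : G)) : ℝ)).sum := fun L hL => by
    have := hM.le_sum_lrk_add hB hP (1 :: ⟨z, h.z_mem'⟩ :: L)
      (Finset.univ.filter fun u : P => u.1 * u.1 ≠ 1) fun v hv => by
      by_cases c : (v : G) ∈ zpowers x
      · exact ⟨v, List.mem_cons.2 ((h.eq_one_or_z c (by simpa using hv)).imp Subtype.ext fun e =>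
          List.mem_cons.2 (.inl (Subtype.ext e))), hP.pair.mem_fClass_self _⟩
      obtain ⟨a, ha, e | e⟩ := h.exists_conj_eq v.2 c
      · exact ⟨_, by simp, hP.pair.mem_fClass_trans hy (hP.pair.mem_fClass_of_conj (h.le ha) e)⟩
      · obtain ⟨u, hu, e⟩ := hL v (hP.pair.mem_fClass_of_conj (h.le ha) e)
        exact ⟨u, List.mem_cons_of_mem _ hu, e⟩
    simp only [List.map_cons, List.sum_cons, coe_one, hM.lrk_one hB hP, h1, h2] at this
    push_cast at this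
    linarith
  have h6 := fun c : ⟨x * y, mul_mem h.mem_x h.mem_y⟩ ∈ fClass 2 P e ⟨z, h.z_mem'⟩ =>
    key [] fun v hv => ⟨_, by simp, hP.pair.mem_fClass_trans c hv⟩
  simp only [List.map_nil, List.sum_nil, add_zero, Nat.ofNat_le_cast] at h6
  refine ⟨(em _).elim (fun c => by have := h6 c; omega) fun c => ?_, h6⟩
  have h7 := h.mul_notMem (mem_zpowers x) h.notMem
  have := key [⟨x * y, mul_mem h.mem_x h.mem_y⟩] fun v hv => ⟨_, by simp, hv⟩
  rw [List.map_singleton, List.sum_singleton, h.lrk_of_notMem hM hP (h.notMem_of_notMem_fClass hM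
    hP.pair (hD.mul_self_of_notMem (mul_mem h.mem_x h.mem_y) h7)
    (fun e => h7 (by rw [show x * y = 1 from congrArg Subtype.val e]; exact one_mem _)) c)] at this
  exact_mod_cast (by push_cast at this; linarith : (2 : ℝ) ≤ blockRank 2 B)

end IsTame

namespace IsPModular

variable (hM : IsPModular 2 M)
include hM

theorem rank_le_of_cyc (hB : IsPBlock M B) (hP : IsMaxPair 2 (blockIdem M B) P e) (hx : x ∈ P)
    (h : Nat.card P ≤ 2 * orderOf x) : blockRank 2 B ≤ 3 := by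
  rcases cyc_cases hP.pair.isPGroup hx h with hab | ⟨n, r, y, z, h1⟩ | ⟨n, y, h1, h2, h3⟩
  · letI : CommGroup P := { (inferInstance : Group P) with
      mul_comm := fun a b => Subtype.ext (hab b.2 a a.2) }
    have h1 := (zpowers (⟨x, hx⟩ : P)).card_mul_index
    rw [Nat.card_zpowers, ← orderOf_coe] at h1
    have h2 := Nat.le_of_mul_le_mul_left (h1.trans_le (h.trans_eq (mul_comm _ _))) (orderOf_pos _)
    have h3 := Nat.le_of_dvd three_pos ((faith_ker hP.pair.isPGroup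
      (hP.not_dvd_card_iAut hM hab)).dvd_three ((card_ker_le ⟨x, hx⟩).trans (by omega)))
    exact hP.blockRank_eq_card_iAut hM hB hab h3 ▸ h3
  · exact (h1.rank_le hM hB hP).1
  · obtain ⟨D, h4, h5⟩ := modular hP.pair.isPGroup hx h h1 h2 h3
    refine (hB.blockRank_eq_one_of_nilp hM (hP.isNilpIn_of_crit fun Q f hQ g hg hr => ?_)).trans_le
      (by norm_num)
    obtain rfl := D.eq_of_sq hP.pair hQ (hQ.mem_of_cent (pow_mem hx _) h4)
      (by rw [← pow_add, ← two_mul, ← pow_succ'])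
    exact h5 g hg.1 hr

theorem rank_le_of_card (hB : IsPBlock M B) (hP : IsMaxPair 2 (blockIdem M B) P e)
    (h : Nat.card P ≤ 4) : blockRank 2 B ≤ 3 := by
  rcases P.bot_or_exists_ne_one with h1 | ⟨x, hx, h1⟩
  · exact (hP.blockRank_of_bot hM hB h1).trans_le (by norm_num)
  · exact hM.rank_le_of_cyc hB hP hx (by have := two_le_orderOf h1; omega)

theorem rank_le_of_comm (hB : IsPBlock M B) (hP : IsMaxPair 2 (blockIdem M B) P e) (hab : P ≤ C(P))
    (h : Nat.card P ≤ 16) (hx : x ∈ P) (h1 : x * x ≠ 1) : blockRank 2 B ≤ 3 := by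
  letI : CommGroup P := { (inferInstance : Group P) with
    mul_comm := fun a b => Subtype.ext (hab b.2 a a.2) }
  have h3 := Nat.le_of_dvd three_pos (card_dvd_three_of_ne_one hP.pair.isPGroup
    (hP.not_dvd_card_iAut hM hab) h (x := ⟨x, hx⟩) fun e => h1 (sq x ▸ congrArg Subtype.val e))
  exact hP.blockRank_eq_card_iAut hM hB hab h3 ▸ h3

variable {b₀ : (ResK M)[G]}

theorem lrk_le_of_card (hP : IsMaxPair 2 b₀ P e) (hu : u ∈ P) (hF : FC 2 P e u)
    (h : Nat.card (P ⊓ C(zpowers u) : Subgroup G) ≤ 4 * orderOf u) : lrk 2 M P e (zpowers u) ≤ 3 := by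
  obtain ⟨H, _, _, f, b, s, hb, hs⟩ := hM.exists_loc hP hu hF
  obtain ⟨u', rfl⟩ : u ∈ f.range := hb.range_eq ▸ mem_cent_zpowers.2 rfl
  have hz := (hb.isSec hP.pair).mem_center rfl
  obtain ⟨H', _, _, Q, _, _, f', π, b', s', P', ρ, c, e', hR⟩ := hM.exists_red hb.block hs (u := u') hu
    (le_cent_zpowers (center_le_centralizer _ hz))
  have h1 := hR.card_mul
  rw [hb.card_comap, ← orderOf_injective f hb.inj] at h1
  rw [hb.lrk_eq hM hP.pair, ← (hM.isLoc_of_central hb.block hs (z := ⟨u', hu⟩) hz).lrk_eq hM hs.pair,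
    ← hR.rank]
  exact hM.rank_le_of_card hR.block hR.max (Nat.le_of_mul_le_mul_right (h1 ▸ h) (orderOf_pos _))

theorem lrk_le_of_comm (hP : IsMaxPair 2 b₀ P e) (hu : u ∈ P) (hF : FC 2 P e u)
    (hab : P ⊓ C(zpowers u) ≤ C(P ⊓ C(zpowers u))) (h : Nat.card (P ⊓ C(zpowers u) : Subgroup G) ≤ 16)
    (hx : x ∈ P ⊓ C(zpowers u)) (h1 : x * x ≠ 1) : lrk 2 M P e (zpowers u) ≤ 3 := by
  obtain ⟨H, _, _, f, b, s, hb, hs⟩ := hM.exists_loc hP hu hF
  rw [← hb.map_comap] at hab hx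
  obtain ⟨x, hx, rfl⟩ := hx
  exact hb.lrk_eq hM hP.pair ▸ hM.rank_le_of_comm hb.block hs (fun a ha c hc => hb.inj (by
    simpa using hab (mem_map_of_mem f ha) _ (mem_map_of_mem f hc))) (hb.card_comap P ▸ h) hx
    fun e => h1 (by rw [← map_mul, e, map_one])

theorem lrk_eq_one_of_card (hP : IsMaxPair 2 b₀ P e) (hu : u ∈ P) (hF : FC 2 P e u)
    (h : Nat.card (P ⊓ C(zpowers u) : Subgroup G) ≤ 2 * orderOf u) : lrk 2 M P e (zpowers u) = 1 :=
  hM.lrk_eq_one_of_forall hP (zpowers_le.2 hu) (zpowers_le_centralizer_zpowers u) hF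
    fun _ h1 h2 _ hx hx' hr _ => (idx2_of_card h1 ((card_le_of_le h2).trans
      (Nat.card_zpowers u ▸ h))).mem_cent_of_regular (hP.pair.isPGroup.to_le (h2.trans inf_le_left))
      hr hx (mem_centralizer_sub_conj'.1 hx')

theorem lrk_eq_one_of_cent (hP : IsMaxPair 2 b₀ P e) (hu : u ∈ P) (hc : u ∈ C(P))
    (H : ∀ Q ≤ P, P ⊓ C(P) ≤ Q → ∀ x ∈ N(Q), x * u = u * x → IsPRegular 2 x → BFus 2 P e Q x →
      x ∈ C(Q)) : lrk 2 M P e (zpowers u) = 1 := by
  obtain ⟨c, h⟩ := hM.exists_isLoc_subtype hP.pair (zpowers_le.2 hu)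
  obtain ⟨s, hs, hs'⟩ := h.exists_isMaxPair hM hP.pair (zpowers_le_centralizer_zpowers u)
    (h.isDefGrp_of_le hM hP (le_cent_zpowers hc))
  have hE := h.isCentEmb_zpowers hP.pair
  refine (h.lrk_eq hM hP.pair).trans (h.block.blockRank_eq_one_of_nilp hM
    (hs.isNilpIn_of_crit fun Q f hQ x hx hr => ?_))
  have := H _ (sup_le ((map_mono hQ.le.le).trans (map_comap_le _ _)) h.le') (fun a ha =>
    mem_sup_left ⟨⟨a, le_cent_zpowers hc ha.1⟩, hQ.mem_of_cent ha.1 fun b hb =>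
      Subtype.ext (ha.2 b hb), rfl⟩) x
    (by rw [← cjS_eq_self_iff]; exact (hE.cjS_map_sup Q x).trans (by rw [cjS_of_mem_normalizer hx.1]))
    (mem_cent_zpowers.1 x.2) (isPRegular_coe_iff.2 hr)
    ((hE.bFus_iff hP.pair h.le' hs').2 (hQ.bFus hs.pair hx))
  rw [← hE.map_centralizer] at this
  obtain ⟨y, hy, e⟩ := this
  exact Subtype.ext e ▸ hy

variable (hB : IsPBlock M B) (hP : IsMaxPair 2 (blockIdem M B) P e)
include hB hP

theorem kz_le_of_forall {u : P} {N : ℕ} (hN : N ≤ 4 * orderOf (u : G))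
    (h : ∀ v ∈ fClass 2 P e u, Nat.card (P ⊓ C(zpowers (v : G)) : Subgroup G) ≤ N) : kz 2 B ≤ N := by
  obtain ⟨v, hv, hF⟩ := exists_fc hP.pair u
  exact (hM.kz_le hB hP v.2 (hM.lrk_le_of_card hP v.2 hF
    ((h v hv).trans (orderOf_eq_of_mem_fClass hv ▸ hN))) hF).trans (h v hv)

theorem lrk_le_of_idx2 {A : Subgroup G} (hu : u ∈ P) (hc : u ∈ C(P)) (I : Idx2 A P) (hw : w ∈ P)
    (h : A ≤ zpowers w ⊔ zpowers u) : lrk 2 M P e (zpowers u) ≤ 3 := by
  obtain ⟨H', _, _, Q, _, _, f', π, b', s', P', ρ, c, e', hR⟩ := hM.exists_red hB hP hu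
    (le_cent_zpowers hc)
  refine hR.rank ▸ hM.rank_le_of_cyc hR.block hR.max (ρ ⟨w, hw⟩).2 ?_
  rw [← Nat.card_zpowers]
  refine Idx2.card_le ⟨zpowers_le.2 (ρ _).2, fun a ha b hb ha' hb' => ?_⟩
  have h1 : ∀ a : P, (a : G) ∈ A → (ρ a : Q) ∈ zpowers (ρ ⟨w, hw⟩ : Q) := fun a ha => by
    obtain ⟨_, ⟨k, rfl⟩, c, hc', e⟩ := (mem_sup_of_le_normalizer (zpowers_le.2
      (centralizer_le_normalizer' _ (le_cent_zpowers hc hw)))).1 (h ha)
    rw [show a = ⟨w, hw⟩ ^ k * ⟨c, zpowers_le.2 hu hc'⟩ from Subtype.ext e.symm, map_mul,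
      hR.eq_one_iff (x := ⟨c, _⟩).2 hc', mul_one, map_zpow]
    exact zpow_mem (mem_zpowers _) k
  obtain ⟨a, e1⟩ := hR.surj ⟨a, ha⟩
  obtain ⟨b, e2⟩ := hR.surj ⟨b, hb⟩
  have := h1 (a * b) (I.mul _ a.2 _ b.2 (fun e => ha' (by simpa [e1] using h1 a e))
    fun e => hb' (by simpa [e2] using h1 b e))
  rwa [map_mul, e1, e2] at this

theorem four_mul_card_le_of_two (hu : u ∈ P) (hc : u ∈ C(P)) (hl : lrk 2 M P e (zpowers u) ≤ 2)
    (hk : 2 * kz 2 B ≤ Nat.card P) : 8 * Nat.card B ≤ 5 * Nat.card P := by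
  obtain ⟨c, ⟨c, rfl⟩, h1, h2⟩ := hM.exists_odd_bound hB hP hu (le_cent_zpowers hc)
  have h4 := Nat.mul_le_mul_left (Nat.card P) hl
  rcases c with _ | c
  · omega
  · have := Nat.mul_le_mul_right (kz 2 B) (by omega : 3 ≤ 2 * (c + 1) + 1)
    omega

theorem four_mul_card_le_of_one (hu : u ∈ P) (hc : u ∈ C(P)) (hl : lrk 2 M P e (zpowers u) = 1) :
    4 * Nat.card B ≤ Nat.card P + 3 * kz 2 B := by
  obtain ⟨c, ⟨c, rfl⟩, -, h2⟩ := hM.exists_odd_bound hB hP hu (le_cent_zpowers hc)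
  have := Nat.mul_le_mul_right (kz 2 B) (by omega : 1 ≤ 2 * c + 1)
  rw [hl] at h2
  omega

end IsPModular

end Cfsg
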