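import Cfsg.Agent.Blk.Col
import Cfsg.Agent.Grp.Dbl

/-!
# `2`-blocks whose defect group is a central extension of a tame group by an involution
-/

set_option autoImplicit false
set_option linter.unusedSectionVars false
set_option linter.style.haveILetI false

namespace Cfsg

open MonoidAlgebra GA Subgroup

universe u v w

local notation "C(" Q ")" => Subgroup.centralizer ((Q : Subgroup _) : Set _)
local notation "N(" Q ")" => Subgroup.normalizer ((Q : Subgroup _) : Set _)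

variable {G : Type u} [Group G] [Finite G] {A P Q : Subgroup G} {a g t w x y z : G} {n : ℕ}

theorem card_filter_mem [Fintype P] [DecidablePred fun v : P => (v : G) ∈ A] (h : A ≤ P) :
    (Finset.univ.filter fun v : P => (v : G) ∈ A).card = Nat.card A := by
  rw [← Fintype.card_subtype, ← Nat.card_eq_fintype_card]
  exact Nat.card_congr (subgroupOfEquivOfLe h).toEquiv

section Field

variable {k : Type w} [Field k] [IsAlgClosed k] {p : ℕ} [Fact p.Prime] [CharP k p] {b e f : k[G]}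

theorem GA.IsMaxPair.exists_conj_of_mem_fClass (hP : IsMaxPair p b P e)
    (hr : ∀ g ∈ N(P) ⊓ cjStab e, IsPRegular p g → g ∈ C(P)) {u v : P}
    (H : ∀ Q f, IsCrit p P e Q f → Q ≠ P → ∀ c ∈ P, c * u * c⁻¹ ∉ Q) (h : v ∈ fClass p P e u) :
    ∃ c ∈ P, (v : G) = c * u * c⁻¹ :=
  hP.of_mem_fClass (T := fun v => ∃ c ∈ P, v = c * u * c⁻¹)
    (by rintro s hs _ - ⟨c, hc, rfl⟩; exact ⟨s * c, mul_mem hs hc, by group⟩)
    (fun g hg h1 x hx h2 => by rwa [conj_eq_iff_comm.2 (hr g hg h1 x hx).symm])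
    (by rintro Q f hQ h1 g - _ h2 ⟨c, hc, rfl⟩; exact absurd h2 (H Q f hQ h1 c hc)) h
    ⟨1, one_mem _, by simp⟩

end Field

namespace IsDbl

variable (h : IsDbl n P A x t z)
include h

section Field

variable {k : Type w} [Field k] [IsAlgClosed k] [CharP k 2] {b e f : k[G]} (hP : IsMaxPair 2 b P e)
include hP

theorem eq_of_cent {u v : P} (hu : (u : G) ∈ C(P)) (hv : (v : G) ∈ C(P)) (H : v ∈ fClass 2 P e u) :
    v = u :=
  hP.eq_of_cent hu hv H fun g hg hr => conj_eq_iff_comm.2 (h.reg hg.1 hr u u.2).symm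

theorem conj_eq (hg : BFus 2 P e Q g) (ha : a ∈ Q) (ha' : a ∈ P ⊓ C(P)) (H : g * a * g⁻¹ ∈ A) :
    g * a * g⁻¹ = a :=
  congrArg Subtype.val (h.eq_of_cent hP (u := ⟨a, ha'.1⟩) (v := ⟨_, h.idx.le H⟩) ha'.2
    (h.mem_cent_iff.2 ⟨H, by rw [conj_mul, (h.mem_cent_iff.1 ha').2]; simp⟩).2
    (hg.mem_fClass hP.pair ha rfl))

theorem fix_t (hg : BFus 2 P e Q g) (ht : t ∈ Q) (hz : z ∈ Q) (H : g * z * g⁻¹ = z) :
    g * t * g⁻¹ = t := by
  refine h.conj_eq hP hg ht h.t_mem' (by_contra fun e => h.z_ne ?_)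
  have h1 := hg.cjS_le (conj_mem_cjS.2 ht)
  have h2 := mul_mem h.t_mem' h.z_mem'
  simpa using h.eq_of_cent hP (u := ⟨t, h.t_mem'.1⟩) (v := ⟨_, h2.1⟩) h.t_cent h2.2
    (hP.pair.mem_fClass_trans (hP.pair.mem_fClass_trans
      (hg.mem_fClass hP.pair (v := ⟨_, h1⟩) ht rfl) (hP.pair.mem_fClass_of_conj
        (v := ⟨_, mul_mem h1 h.z_mem'.1⟩) (h.idx.le h.x1_mem) (h.conj_x1 h1 e)))
      (mem_fClass_symm (hg.mem_fClass hP.pair (mul_mem ht hz) (by rw [← conj_mul, H]))))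

theorem crit (hQ : IsCrit 2 P e Q f) (hne : Q ≠ P) : ∃ g, BFus 2 P e Q g ∧ g * z * g⁻¹ ∉ A ∧
    Q ≤ C(zpowers (g * z * g⁻¹)) ∧ (g ∈ C(zpowers t) ∨ g ∈ C(zpowers (t * z))) := by
  obtain ⟨g, hg, hr, hn⟩ : ∃ g ∈ N(Q) ⊓ cjStab f, IsPRegular 2 g ∧ g ∉ C(Q) := by
    by_contra! H
    exact hne (hQ.eq_of_forall hP.pair H)
  have hz := hQ.mem_of_cent h.z_mem'.1 h.z_cent
  have ht := hQ.mem_of_cent h.t_mem'.1 h.t_cent
  have hF := hQ.bFus hP.pair hg
  have h1 : g * z * g⁻¹ ∉ A := fun e =>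
    have := h.conj_eq hP hF hz h.z_mem' e
    hn (h.cent hQ.le.le hg.1 hr this (h.fix_t hP hF ht hz this) ht)
  refine ⟨g, hF, h1, fun q hq => mem_cent_zpowers.2 ?_, (em _).imp (fun e => mem_cent_zpowers.2
    (conj_eq_iff_comm.1 (h.conj_eq hP hF ht h.t_mem' e))) fun e => mem_cent_zpowers.2
    (conj_eq_iff_comm.1 (h.conj_eq hP hF (mul_mem ht hz) (mul_mem h.t_mem' h.z_mem') ?_))⟩
  · have := h.z_cent _ (hQ.le.le (conj_mem_of_mem_normalizer (inv_mem hg.1) hq))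
    rw [← mul_right_inj g⁻¹, ← mul_left_inj g]
    simpa [mul_assoc] using this
  · rw [← conj_mul]
    exact h.idx.mul _ (hF.cjS_le (conj_mem_cjS.2 ht)) _ (hF.cjS_le (conj_mem_cjS.2 hz)) e h1

theorem exists_conj {u v : P} (hu : (u : G) ∈ A) (h2 : (u : G) * u ≠ 1) (H : v ∈ fClass 2 P e u) :
    ∃ c ∈ P, (v : G) = c * u * c⁻¹ :=
  hP.exists_conj_of_mem_fClass (fun g hg => h.reg hg.1) (fun Q f hQ hne c hc e => by
    obtain ⟨g, h1, h3, h4, -⟩ := h.crit hP hQ hne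
    exact h.not_comm (h.idx.conj_mem hc hu) (by simpa [conj_mul] using h2) (h1.cjS_le (conj_mem_cjS.2
      (hQ.mem_of_cent h.z_mem'.1 h.z_cent))) h3 (mem_cent_zpowers.1 (h4 e))) H

theorem eq_or_eq {u v : P} (hu : (u : G) ∈ A) (h2 : (u : G) * u ≠ 1) (H : v ∈ fClass 2 P e u)
    (hy : y ∈ P) (hy' : y ∉ A) : (v : G) = u ∨ (v : G) = y * u * y⁻¹ :=
  let ⟨c, hc, e⟩ := h.exists_conj hP hu h2 H
  (em _).imp (fun e' => e.trans (conj_eq_of_mem_cent (h.comm hu) e'))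
    fun e' => e.trans (h.idx.conj_eq h.comm hc hy e' hy' hu)

end Field

variable {M : Ideal AlgInt} {B : Set (IrrCharacter G)} [CharP (ResK M) 2] {e : (ResK M)[G]}
  (hM : IsPModular 2 M) (hB : IsPBlock M B) (hP : IsMaxPair 2 (blockIdem M B) P e)
include hM hB hP

theorem count (hk : kz 2 B ≤ 8) (L : List P) (hL : L.Pairwise fun u v => v ∉ fClass 2 P e u)
    (hL' : ∀ u ∈ L, ∀ v ∈ fClass 2 P e u, (v : G) ∉ A) :
    blockRank 2 B + lrk 2 M P e (zpowers t) + lrk 2 M P e (zpowers (t * z)) + L.length ≤ 7 := by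
  classical
  letI := Fintype.ofFinite P
  have h1 : lrk 2 M P e (zpowers z) = 1 := hM.lrk_eq_one_of_cent hP h.z_mem'.1 h.z_cent
    fun Q hQ hZ g hg e hr hF => h.cent hQ hg hr (conj_eq_iff_comm.2 e)
      (h.fix_t hP hF (hZ h.t_mem') (hZ h.z_mem') (conj_eq_iff_comm.2 e)) (hZ h.t_mem')
  have h2 := hM.four_mul_card_le_of_one hB hP h.z_mem'.1 h.z_cent h1
  have h3 := mul_mem h.t_mem' h.z_mem'
  have h4 : ∀ u ∈ [(1 : P), ⟨z, h.z_mem'.1⟩, ⟨t, h.t_mem'.1⟩, ⟨_, h3.1⟩], (u : G) ∈ P ⊓ C(P) := by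
    simpa using ⟨h.z_cent, h.t_cent, h3.2⟩
  have h5 := hM.sum_lrk_add_le hB hP ([1, ⟨z, h.z_mem'.1⟩, ⟨t, h.t_mem'.1⟩, ⟨_, h3.1⟩] ++ L)
    (List.pairwise_append.2 ⟨List.Pairwise.imp_of_mem (R := fun u v : P => (u : G) ≠ v)
      (fun hu hv e e' => e (congrArg _ (h.eq_of_cent hP (h4 _ hu).2 (h4 _ hv).2 e').symm)) (by
        simp [-SetLike.coe_eq_coe, h.z_ne.symm, h.t_ne.symm, h.tz_ne.symm, h.t_ne_z.symm, h.z_ne,
          h.t_ne]), hL,
      fun u hu v hv e => hL' v hv u (mem_fClass_symm e) (h.mem_cent_iff.1 (h4 u hu)).1⟩)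
    (Finset.univ.filter fun v => (v : G) ∈ A ∧ (v : G) * v ≠ 1) fun u hu v hv e => by
      rw [Finset.mem_filter] at hv
      exact (List.mem_append.1 hu).elim (fun hu => hv.2.2 ((mul_self_eq_one_iff_of_mem_fClass e).2
        (h.mem_cent_iff.1 (h4 u hu)).2)) (hL' u · v e hv.2.1)
  have h6 := Finset.card_nsmul_le_sum (Finset.univ.filter fun v : P => (v : G) ∈ A ∧ (v : G) * v ≠ 1)
    _ _ fun v hv => let ⟨y, hy, hy'⟩ := h.ex; hM.half_le_fw hP (u := v)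
      (w := ⟨y, hy⟩ * v * (⟨y, hy⟩ : P)⁻¹) fun u hu => (h.eq_or_eq hP (Finset.mem_filter.1 hv).2.1
        (Finset.mem_filter.1 hv).2.2 hu hy hy').imp Subtype.ext Subtype.ext
  have h7 := Finset.card_filter_add_card_filter_not (s := Finset.univ.filter fun v : P => (v : G) ∈ A)
    fun v => (v : G) * v = 1
  rw [card_filter_mem h.idx.le, Finset.filter_filter, Finset.filter_filter, Finset.filter_congr
    fun v _ => h.mem_cent_iff.symm, card_filter_mem inf_le_left, h.card_Z] at h7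
  have h8 := List.card_nsmul_le_sum (L.map fun u : P => (lrk 2 M P e (zpowers (u : G)) : ℝ)) 1
    fun a ha => by
      obtain ⟨u, -, rfl⟩ := List.mem_map.1 ha
      exact_mod_cast hM.lrk_pos hP.pair (zpowers_le.2 u.2)
  simp only [List.map_append, List.sum_append, List.map_cons, List.sum_cons, coe_one,
    hM.lrk_one hB hP, h1, List.map_nil, List.sum_nil] at h5
  rw [h.card_eq] at h2
  simp only [nsmul_eq_mul, List.length_map] at h6 h8
  rify at h2 h7 hk ⊢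
  push_cast at h5
  linarith

theorem le_lrk (H : ∀ w ∈ P, w ∉ A → w * w = 1) (hy : y ∈ P) (hy' : y ∉ A) {F : G → Prop}
    (hF : ∀ w, F w → ∃ c ∈ P, ∃ Q f g, IsCrit 2 P e Q f ∧ c * w * c⁻¹ ∈ Q ∧ BFus 2 P e Q g ∧
      g * z * g⁻¹ ∉ A ∧ Q ≤ C(zpowers (g * z * g⁻¹)) ∧ g ∈ C(zpowers t)) (h1 : F y) :
    2 ≤ lrk 2 M P e (zpowers t) ∧ (F (x * y) → 3 ≤ lrk 2 M P e (zpowers t)) := by
  obtain ⟨H', _, _, Q, _, _, f', π, b', s', P', ρ, c, e', hR⟩ := hM.exists_red hB hP h.t_mem'.1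
    (le_cent_zpowers h.t_cent)
  have hx := h.idx.le h.x_mem
  have ht : ρ ⟨t, h.t_mem'.1⟩ = 1 := hR.eq_one_iff.2 (mem_zpowers t)
  have h2 : ∀ a : P, (a : G) ∈ A ↔ (ρ a : Q) ∈ zpowers (ρ ⟨x, hx⟩ : Q) := fun a => by
    have key : ∀ a : P, (a : G) ∈ zpowers x → (ρ a : Q) ∈ zpowers (ρ ⟨x, hx⟩ : Q) := fun a ⟨k, e⟩ =>
      ⟨k, by rw [show a = ⟨x, hx⟩ ^ k from Subtype.ext e.symm, map_zpow, coe_zpow]⟩
    refine ⟨fun ha => (h.mem a ha).elim (key a) fun e => by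
      simpa [ht] using key (⟨t, h.t_mem'.1⟩ * a) e, fun ⟨k, e⟩ => ?_⟩
    exact (mul_mem_cancel_left (inv_mem (zpow_mem h.x_mem k))).1 (zpowers_le.2 h.t_mem
      (hR.eq_one_iff (x := (⟨x, hx⟩ ^ k)⁻¹ * a).1 (Subtype.ext (by simpa [inv_mul_eq_one] using e))))
  have D : IsDihPair P' (ρ ⟨x, hx⟩) (ρ ⟨y, hy⟩) := ⟨(ρ _).2, (ρ _).2,
    by rw [← coe_mul, ← map_mul, show (⟨y, hy⟩ * ⟨y, hy⟩ : P) = 1 from Subtype.ext (H y hy hy')]; simp,
    by rw [← coe_mul, ← coe_inv, ← coe_mul, ← coe_inv, ← map_mul, ← map_inv, ← map_mul, ← map_inv]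
       exact congrArg (fun a => (ρ a : Q)) (Subtype.ext (h.conj_eq_inv H hy hy' h.x_mem)),
    mt (h2 _).2 hy', fun a ha => by
      obtain ⟨a, e⟩ := hR.surj ⟨a, ha⟩
      obtain rfl := congrArg Subtype.val e
      exact (em _).imp (h2 a).1 fun e => by
        simpa using (h2 (a * ⟨y, hy⟩)).1 (h.idx.mul _ a.2 _ hy e hy')⟩
  have T := D.isTame (n := n + 1) (h.ord ▸ orderOf_eq_orderOf_iff.2 fun k => by
    rw [← coe_pow, OneMemClass.coe_eq_one, ← map_pow, hR.eq_one_iff]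
    exact ⟨fun e => (eq_one_or_eq_of_mem_zpowers_of_orderOf_two (orderOf_eq_two_of_mul_self h.t_sq
      h.t_ne) e).resolve_right fun e => h.t_not (e ▸ pow_mem (mem_zpowers x) k), fun e => by
      rw [coe_pow, e]; exact one_mem _⟩)
  have h3 : ∀ w : P, (w : G) ∉ A → F w → ρ w ∈ fClass 2 P' e' ⟨_, T.z_mem'⟩ := fun w hw hw' => by
    obtain ⟨c, hc, R, f, g, h4, h5, h6, h7, h8, h9⟩ := hF w hw'
    have hz := h4.mem_of_cent h.z_mem'.1 h.z_cent
    have h10 := h6.cjS_le (conj_mem_cjS.2 hz)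
    have h11 := hR.mem_fClass (x := ⟨z, h.z_mem'.1⟩) (y := ⟨_, h10⟩) h9 hz
      (h4.mem_of_cent h.t_mem'.1 h.t_cent) h6 rfl
    rw [show ρ ⟨z, h.z_mem'.1⟩ = ⟨_, T.z_mem'⟩ from
      (congrArg ρ (Subtype.ext h.z_eq)).trans (map_pow ρ ⟨x, hx⟩ _)] at h11
    have key : ∀ d : P, ρ (d * ⟨_, h10⟩ * d⁻¹) = ρ w → ρ w ∈ fClass 2 P' e' ⟨_, T.z_mem'⟩ :=
      fun d e => hR.max.pair.mem_fClass_trans h11 (e ▸ by
        simpa only [map_mul, map_inv] using hR.max.pair.conj_mem_fClass _ (ρ d))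
    have h12 := h.idx.conj_notMem hc hw
    have h13 := h.conj_x1 h10 h7
    generalize g * z * g⁻¹ = v at *
    have key' : ∀ s ∈ zpowers t, v⁻¹ * (c * w * c⁻¹) = s ∨ v⁻¹ * (c * w * c⁻¹) = s * z →
        ρ w ∈ fClass 2 P' e' ⟨_, T.z_mem'⟩ := fun s hs e => by
      have h14 := zpowers_le.2 h.t_mem' hs
      have h15 : ∀ d ∈ P, c * w * c⁻¹ = d * v * d⁻¹ * s → ρ w ∈ fClass 2 P' e' ⟨_, T.z_mem'⟩ :=
        fun d hd e => key ⟨c⁻¹ * d, mul_mem (inv_mem hc) hd⟩ (by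
          rw [← mul_one (ρ _), ← hR.eq_one_iff (x := ⟨s, h14.1⟩).2 hs, ← map_mul]
          refine congrArg ρ (Subtype.ext ?_)
          simp only [coe_mul, coe_inv]
          rw [← conj_eq_of_mem_cent h14.2 (inv_mem hc), ← mul_right_inj c, ← mul_left_inj c⁻¹, e]
          group)
      rcases e with e | e
      · exact h15 1 (one_mem _) (by simpa [inv_mul_eq_iff_eq_mul] using e)
      · exact h15 _ (h.idx.le h.x1_mem) (by
          rw [h13, mul_assoc v, h14.2 z h.z_mem'.1, ← e, mul_inv_cancel_left])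
    rcases h.cent_cases (h.cent_of_comm h10 h7 (h.idx.inv_mul h10 (h4.le.le h5) h7 h12) (by
      rw [mul_assoc, mem_cent_zpowers.1 (h8 h5)]; group)) with e | e | e | e
    exacts [key' 1 (one_mem _) (.inl e), key' 1 (one_mem _) (.inr (by simpa using e)),
      key' t (mem_zpowers t) (.inl e), key' t (mem_zpowers t) (.inr e)]
  have := T.le_rank D hM hR.block hR.max (h3 ⟨y, hy⟩ hy' h1)
  rw [hR.rank] at this
  exact ⟨this.1, fun e => this.2 (by
    have := h3 (⟨x, hx⟩ * ⟨y, hy⟩) (mt (mul_mem_cancel_left h.x_mem).1 hy') e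
    rwa [map_mul] at this)⟩

theorem rank_le_three (H : ∀ w ∈ P, w ∉ A → w * w = 1) : blockRank 2 B ≤ 3 := by
  obtain ⟨y, hy, hy'⟩ := h.ex
  have hx := h.idx.le h.x_mem
  have h0 : ∀ a, zpowers a = zpowers x → a * a ≠ 1 := fun a e e' => by
    have := Nat.le_of_dvd two_pos (orderOf_dvd_of_pow_eq_one ((sq a).trans e'))
    rw [← Nat.card_zpowers, e, Nat.card_zpowers, h.ord, pow_add] at this
    have := Nat.one_le_two_pow (n := n)
    omega
  have h1 : ∀ a ∈ zpowers x, y * a * y⁻¹ = a ^ (2 ^ (n + 2) - 1) := fun a ha => by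
    rw [h.conj_eq_inv H hy hy' (h.le ha), inv_eq_iff_mul_eq_one, ← pow_succ',
      Nat.sub_add_cancel Nat.one_le_two_pow, ← h.ord]
    exact orderOf_dvd_iff_pow_eq_one.1 (orderOf_dvd_of_mem_zpowers ha)
  have h2 := h.inf_cent h.x_mem (h0 x rfl)
  have hF : FC 2 P e x := fc_of_forall (u := ⟨x, hx⟩) fun v hv => by
    obtain ⟨c, hc, e⟩ := h.exists_conj hP h.x_mem (h0 x rfl) hv
    rw [h2, h.inf_cent (e ▸ h.idx.conj_mem hc h.x_mem)
      (mt (mul_self_eq_one_iff_of_mem_fClass hv).1 (h0 x rfl))]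
  have h3 := hM.kz_mul_le hB hP hx h.ord hy (h1 x (mem_zpowers x)) (by
    have := Nat.one_le_two_pow (n := n); rw [pow_add]; omega) (by simp [H y hy hy']) hF
    (hM.lrk_eq_one_of_card hP hx hF (by rw [h2, h.card_A, h.ord])) fun u v hu hv =>
      have := hu ▸ mem_zpowers (u : G)
      (h.eq_or_eq hP (h.le this) (h0 u hu) hv hy hy').imp Subtype.ext fun e =>
        Subtype.ext (e.trans (h1 u this))
  rw [h2, h.card_A, h.ord, ← mul_assoc] at h3
  have hk := Nat.le_of_mul_le_mul_right h3 (by positivity)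
  have h4 := hM.lrk_pos hP.pair (zpowers_le.2 h.t_mem'.1)
  have h5 := hM.lrk_pos hP.pair (zpowers_le.2 h.swap.t_mem'.1)
  let F := fun s w : G => ∃ c ∈ P, ∃ Q f g, IsCrit 2 P e Q f ∧ c * w * c⁻¹ ∈ Q ∧ BFus 2 P e Q g ∧
    g * z * g⁻¹ ∉ A ∧ Q ≤ C(zpowers (g * z * g⁻¹)) ∧ g ∈ C(zpowers s)
  have key : ∀ w ∈ P, w ∉ A → blockRank 2 B ≤ 3 ∨ F t w ∨ F (t * z) w := fun w hw hw' => by
    refine or_iff_not_imp_right.2 fun hn => ?_
    have h6 : ∀ u : P, (u : G) = w ∨ (u : G) = w * t → ∀ v ∈ fClass 2 P e u,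
        ∃ c ∈ P, (v : G) = c * u * c⁻¹ := fun u hu v =>
      hP.exists_conj_of_mem_fClass (fun g hg => h.reg hg.1) fun Q f hQ hne c hc e => hn (by
        obtain ⟨g, h7, h8, h9, h10⟩ := h.crit hP hQ hne
        have h11 : c * w * c⁻¹ ∈ Q := hu.elim (· ▸ e) fun e' => by
          rwa [e', ← conj_mul, conj_eq_of_mem_cent h.t_cent hc,
            mul_mem_cancel_right (hQ.mem_of_cent h.t_mem'.1 h.t_cent)] at e
        exact h10.imp (⟨c, hc, Q, f, g, hQ, h11, h7, h8, h9, ·⟩) (⟨c, hc, Q, f, g, hQ, h11, h7, h8, h9, ·⟩))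
    have := h.count hM hB hP hk [⟨w, hw⟩, ⟨w * t, mul_mem hw h.t_mem'.1⟩] (List.pairwise_pair.2 fun e =>
      let ⟨c, hc, e⟩ := h6 _ (.inl rfl) _ e; h.conj_ne H hw hw' hc e.symm) fun u hu v hv => by
        have h7 : (u : G) = w ∨ (u : G) = w * t := by simpa [Subtype.ext_iff] using hu
        obtain ⟨c, hc, e⟩ := h6 u h7 v hv
        exact e ▸ h.idx.conj_notMem hc (h7.elim (· ▸ hw') (· ▸ mt (mul_mem_cancel_right h.t_mem).1 hw'))
    simp only [List.length_cons, List.length_nil] at this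
    omega
  have h6 := h.count hM hB hP hk [] .nil (by simp)
  have h7 := mul_mem hx hy
  have h8 := mt (mul_mem_cancel_left h.x_mem).1 hy'
  rcases key y hy hy' with e | e | e
  · exact e
  · rcases key _ h7 h8 with e' | e' | e'
    · exact e'
    · have := (h.le_lrk hM hB hP H hy hy' (F := F t) (fun _ => id) e).2 e'
      omega
    · have := (h.le_lrk hM hB hP H hy hy' (F := F t) (fun _ => id) e).1
      have := (h.swap.le_lrk hM hB hP H h7 h8 (F := F _) (fun _ => id) e').1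
      omega
  · rcases key _ h7 h8 with e' | e' | e'
    · exact e'
    · have := (h.swap.le_lrk hM hB hP H hy hy' (F := F _) (fun _ => id) e).1
      have := (h.le_lrk hM hB hP H h7 h8 (F := F t) (fun _ => id) e').1
      omega
    · have := (h.swap.le_lrk hM hB hP H hy hy' (F := F _) (fun _ => id) e).2 e'
      omega

theorem rank_le_four : blockRank 2 B ≤ 4 := by
  by_cases H : ∀ w ∈ P, w ∉ A → w * w = 1
  · exact (h.rank_le_three hM hB hP H).trans (by norm_num)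
  push Not at H
  obtain ⟨w, hw, hw', h1⟩ := H
  have h2 : ∀ v ∈ fClass 2 P e ⟨w, hw⟩, (v : G) ∉ A := fun v hv e => by
    obtain ⟨c, hc, e'⟩ := h.exists_conj hP e (mt (mul_self_eq_one_iff_of_mem_fClass hv).1 h1)
      (mem_fClass_symm hv)
    exact hw' (e' ▸ h.idx.conj_mem hc e :)
  have := h.count hM hB hP (hM.kz_le_of_forall hB hP (u := ⟨w, hw⟩) (by
    have := two_le_orderOf (g := w) fun e => h1 (by simp [e]); simp only; omega)
    fun v hv => h.card_cent v.2 (h2 v hv)) [⟨w, hw⟩] (by simp) (by simpa using h2)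
  have h4 := hM.lrk_pos hP.pair (zpowers_le.2 h.t_mem'.1)
  have h5 := hM.lrk_pos hP.pair (zpowers_le.2 h.swap.t_mem'.1)
  simp only [List.length_cons, List.length_nil] at this
  omega

end IsDbl

end Cfsg
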