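import Cfsg.Agent.Blk.Five
import Cfsg.Agent.Char.DualCyc
import Cfsg.Agent.Alg.TameNum

/-!
# Blocks with dihedral defect groups (Brauer)
-/

set_option autoImplicit false
set_option linter.unusedSectionVars false
set_option linter.style.haveILetI false

namespace Cfsg

open MonoidAlgebra GA Subgroup
open scoped ComplexConjugate

universe u v w

variable {G : Type u} [Group G] [Finite G] {H : Type v} [Group H] [Finite H]
  {p : ℕ} {M : Ideal AlgInt} {P U : Subgroup G} {B : Set (IrrCharacter G)}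

local notation "C(" Q ")" => Subgroup.centralizer ((Q : Subgroup G) : Set G)
local notation "N(" Q ")" => Subgroup.normalizer ((Q : Subgroup G) : Set G)

theorem card_centralizer_coe (u : P) : Nat.card (centralizer ({u} : Set P)) =
    Nat.card (P ⊓ C(zpowers (u : G)) : Subgroup G) := by
  rw [← card_map_of_injective P.subtype_injective, centralizer_zpowers]
  congr 2
  ext g
  simp only [mem_map, mem_centralizer_singleton_iff, mem_inf]
  exact ⟨by rintro ⟨g, h, rfl⟩; exact ⟨g.2, congrArg Subtype.val h⟩,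
    fun h => ⟨⟨g, h.1⟩, Subtype.ext h.2, rfl⟩⟩

theorem card_mul_ip_indicator (g : G) :
    Nat.card (centralizer ({g} : Set G)) * ip ({x | IsConj g x}.indicator 1) (1 : G → ℂ) = 1 := by
  classical
  letI := Fintype.ofFinite G
  have h := card_filter_isConj_mul_card_centralizer g
  have h0 := natCard_cast_ne_zero G
  simp only [ip_def, Set.indicator_apply, Set.mem_setOf_eq, Pi.one_apply, map_one, mul_one,
    Finset.sum_boole]
  field_simp
  exact_mod_cast (mul_comm _ _).trans h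

/-- The generalized decomposition numbers attached to a nilpotent local block. -/
theorem IsLoc.exists_isCol_of_nilp [Fact p.Prime] [CharP (ResK M) p] {e : (ResK M)[G]} {f : H →* G}
    {b : Set (IrrCharacter H)} (h : IsLoc p M P e U f b) (hM : IsPModular p M)
    (hP : IsMaxPair p (blockIdem M B) P e) (hU : P ≤ C(U)) (hn : IsNilpIn p ⊤ (blockIdem M b)) :
    ∃ η : B → P → ℂ, (∀ χ, IsGeneralizedCharacter P (η χ)) ∧ ∀ u : P, U ≤ zpowers (u : G) →
      IsCol p M B e u (fun χ => η χ u) (Nat.card (P ⊓ C(zpowers (u : G)) : Subgroup G)) := by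
  classical
  have hU' : U ≤ C(U) := h.le'.trans hU
  obtain ⟨s, hs, hs'⟩ := h.exists_isMaxPair hM hP.pair hU' (h.isDefGrp_of_le hM hP hU)
  obtain ⟨ψ, hψ, h0⟩ := exists_blockHeight_eq_zero (p := p) (h.block.nonempty hM)
  obtain ⟨Φ, hΦ⟩ := hM.exists_equiv_starC h.block hs hn hψ h0
  let ε := ((equivMapOfInjective (P.comap f) f h.inj).trans
    (MulEquiv.subgroupCongr ((h.map_comap P).trans (inf_eq_left.2 hU)))).symm
  have hε : ∀ u : P, f (ε u) = u := fun u => congrArg Subtype.val (ε.symm_apply_apply u)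
  letI := Fintype.ofFinite b
  choose a ha using fun (χ : B) (l : IrrCharacter (P.comap f)) =>
    (χ.1.isCharacter.isGen.comp f).exists_ip_eq_int (Φ l).1.isCharacter.isGen
  have hg := fun χ => isGeneralizedCharacter_sum_int_smul_irr (a χ)
  refine ⟨fun χ => (∑ l, (a χ l : ℂ) • l.1) ∘ ε.toMonoidHom, fun χ => (hg χ).comp _, fun u hu => ?_⟩
  obtain ⟨c, hc⟩ := hM.exists_isLoc_subtype hs.pair (zpowers_le.2 (ε u).2)
  have hc' := ((h.isCentEmb hP.pair hU').isLoc_iff hM hP.pair h.le' hs').2 hc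
  rw [MonoidHom.map_zpowers, hε, sup_eq_left.2 hu] at hc'
  have hS := hc.isSec hs.pair
  refine hc'.isCol hM hP (φ := subPart p (Subgroup.subtype _) (ε u : H) c ψ.1) ?_ fun χ => ?_
  · rw [← hS.contrib_eq_ip_subPart hM hc.block _ ψ.isClassFunction,
      ← hc.ip_prj hM hs ψ.isClassFunction ψ.isClassFunction, prj, hM.ip_starC_of_nilp h.block hs hn
        hψ h0 ((hs.pair.isFStable_indicator _).isClassFunction hs.pair), ← card_centralizer_coe,
      ← ip_comp_of_surjective ε.toMonoidHom ε.surjective, ← card_mul_ip_indicator u]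
    congr 2
    funext v
    simp only [Function.comp_apply, Set.indicator_apply, hs.mem_fClass_iff_of_nilp hn,
      Set.mem_setOf_eq, Pi.one_apply]
    exact if_congr ⟨fun h => by simpa using ε.symm.toMonoidHom.map_isConj h,
      ε.toMonoidHom.map_isConj⟩ rfl rfl
  · change _ = (∑ l, (a χ l : ℂ) • l.1) (ε u) • _
    rw [← hM.subPart_starC_of_bpLe hS hc.block
      (hs.isFStable_of_nilp hn (hg χ).isClassFunction) ψ.isClassFunction hc.le, starC_sum_right]
    simp only [starC_smul_right, ← hΦ, ← ha]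
    rw [Φ.sum_comp fun l : b => ip (χ.1.1 ∘ f) l.1.1 • l.1.1, ← vch, ← blockPart_eq_vch,
      hS.subPart_blockPart_of_induces hM (hM.induces_of_bpLe h.block hs hS hc.block hc.le)
        (χ.1.isClassFunction.comp f), ← hε u]
    simp only [subPart]
    congr 2
    funext g
    simp

theorem IsCol.prj_vch_self [Fact p.Prime] [CharP (ResK M) p] {e : (ResK M)[G]} {u : P} {d : B → ℤ}
    {q : ℕ} (h : IsCol p M B e u (fun χ => d χ) q) [Fintype B] (hM : IsPModular p M)
    (hB : IsPBlock M B) (hP : IsMaxPair p (blockIdem M B) P e) :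
    prj p M e u (vch fun χ => (d χ : ℂ)) = vch fun χ => (d χ : ℂ) := by
  rw [← hM.blockPart_prj hB hP u (isClassFunction_vch _), blockPart_eq_vch]
  congr 1
  funext χ
  refine mul_left_cancel₀ (Nat.cast_ne_zero.2 h.pos) ?_
  rw [h.mul_ip_prj hM hB hP (isClassFunction_vch _), ← h.sum_eq hM hB hP]
  simp only [ip_vch_irr, map_intCast]

theorem IsCol.sum_eq_int [Fact p.Prime] [CharP (ResK M) p] {e : (ResK M)[G]} {u : P} {d : B → ℤ}
    {q : ℕ} (h : IsCol p M B e u (fun χ => d χ) q) [Fintype B] (hM : IsPModular p M)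
    (hB : IsPBlock M B) (hP : IsMaxPair p (blockIdem M B) P e) : ∑ χ, d χ * d χ = q := by
  have := h.sum_eq hM hB hP
  simp only [map_intCast] at this
  exact_mod_cast this

/-- The integral column of a fully centralized involution of rank one. -/
theorem IsPModular.exists_isCol_int [CharP (ResK M) 2] {e : (ResK M)[G]} (hM : IsPModular 2 M)
    (hB : IsPBlock M B) (hP : IsMaxPair 2 (blockIdem M B) P e) {u : P} (h2 : (u : G) * u = 1)
    (hl : lrk 2 M P e (zpowers (u : G)) = 1) (hD : ∀ g, BFus 2 P e (zpowers (u : G)) g →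
      Nat.card (P ⊓ C(cjS g (zpowers (u : G))) : Subgroup G) ≤
        Nat.card (P ⊓ C(zpowers (u : G)) : Subgroup G)) :
    ∃ d : B → ℤ, IsCol 2 M B e u (fun χ => d χ) (Nat.card (P ⊓ C(zpowers (u : G)) : Subgroup G)) ∧
      ∀ χ, Odd (d χ) ↔ blockHeight 2 B χ.1.1 = 0 := by
  letI := Fintype.ofFinite B
  obtain ⟨c, hc⟩ := hM.exists_isLoc_subtype hP.pair (zpowers_le.2 u.2)
  obtain ⟨φ, hφ⟩ := hc.block.exists_ibrOf_eq_singleton hM (hc.lrk_eq hM hP.pair ▸ hl)
  have h1 := hc.isCol_genDec hM hP hφ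
  choose d hd using fun χ : B => (hc.isSec hP.pair).exists_int_genDec h2 χ.1.isCharacter.isGen φ
  have h3 := hc.pow_blockDefect_eq hM ((hP.isDefGrp_centralizer_iff hc.le).2 hD)
  simp only [hd, h3] at h1
  refine ⟨d, h1, fun χ => ?_⟩
  have := h1.red_ne_zero_iff hM hB hP hc h3 χ χ
  rw [map_intCast, ← Int.cast_mul, red_intCast, Ne, CharP.intCast_eq_zero_iff _ 2, and_self] at this
  rw [← this, Nat.cast_two, ← even_iff_two_dvd, Int.not_even_iff_odd, Int.odd_mul, and_self]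

namespace IsTame

variable [CharP (ResK M) 2] {e : (ResK M)[G]} {n r : ℕ} {x y z : G} (h : IsTame n r P x y z)
  (hM : IsPModular 2 M) (hB : IsPBlock M B) (hP : IsMaxPair 2 (blockIdem M B) P e)
include h hM hB hP

theorem le_card'' {v v' : P} (h2 : (v : G) * v = 1) (h1 : v ≠ 1)
    (hv : v ∉ fClass 2 P e ⟨z, h.z_mem'⟩) (h2' : (v' : G) * v' = 1) (h1' : v' ≠ 1)
    (hv' : v' ∉ fClass 2 P e ⟨z, h.z_mem'⟩) (hne : v ∉ fClass 2 P e v') :
    blockRank 2 B + lrk 2 M P e (zpowers z) + 2 ^ n + 1 ≤ Nat.card B := by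
  classical
  letI := Fintype.ofFinite P
  have h3 := h.card_eq_add hM hB hP
  have h4 := h.le_sum_fw_sq hM hP
  rw [h.sum_fw_invol hM hP.pair, h.sum_fw_eq_add_one hM hP h2 h1 hv,
    hM.sum_fw_eq_add hP.pair (u := v') fun u hu => by
      have := pow_eq_one_iff_of_mem_fClass hu 1
      simp only [pow_one, OneMemClass.coe_eq_one, h1', iff_false] at this
      simpa [mul_self_eq_one_iff_of_mem_fClass hu, h2', this] using
        ⟨fun e => hv' (hP.pair.mem_fClass_trans e (mem_fClass_symm hu)),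
          fun e => hne (hP.pair.mem_fClass_trans hu (mem_fClass_symm e))⟩,
    h.lrk_of_notMem hM hP (h.notMem_of_notMem_fClass hM hP.pair h2' h1' hv'), Nat.cast_one] at h3
  have h5 := Finset.sum_nonneg (s := (Finset.univ.filter fun u : P =>
    (((u : G) * u = 1 ∧ u ≠ 1) ∧ u ∉ fClass 2 P e ⟨z, h.z_mem'⟩) ∧ u ∉ fClass 2 P e v).filter
      (· ∉ fClass 2 P e v')) fun u _ => fw_nonneg (p := 2) (e := e) u
  exact_mod_cast (by linarith :
    (blockRank 2 B + lrk 2 M P e (zpowers z) + 2 ^ n + 1 : ℝ) ≤ Nat.card B)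

/-- Orthogonality of the columns belonging to elements of `⟨x⟩`. -/
theorem sum_mul_conj_eq [Fintype B] [DecidableEq (zpowers x)] {d : B → zpowers x → ℂ}
    {u v : zpowers x} (hd : ∀ χ, d χ (u ^ r) = d χ u)
    (hu : IsCol 2 M B e (inclusion h.le u) (fun χ => d χ u)
      (Nat.card (P ⊓ C(zpowers (u : G)) : Subgroup G))) (hu1 : u ≠ 1) {q : ℕ}
    (hv : IsCol 2 M B e (inclusion h.le v) (fun χ => d χ v) q) :
    ∑ χ, d χ u * conj (d χ v) =
      Nat.card (zpowers x) * ((if v = u then 1 else 0) + if v = u ^ r then 1 else 0) := by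
  by_cases h1 : v = u ∨ v = u ^ r
  · rw [show ∑ χ, d χ u * conj (d χ v) = ∑ χ, d χ u * conj (d χ u) by
      rcases h1 with rfl | rfl <;> simp only [hd], hu.sum_eq hM hB hP]
    by_cases h2 : (u : G) * u = 1
    · have h3 : u ^ r = u := Subtype.ext ((h.pow_r_eq_iff (h.le u.2)).2 h2)
      rw [h3, or_self] at h1
      rw [(h.eq_one_or_z u.2 h2).resolve_left (by simpa using hu1), inf_eq_left.2 h.le_centralizer_z,
        h.card_eq, h.card_zpowers, h3, if_pos h1]
      push_cast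
      ring
    · have h3 : u ≠ u ^ r := fun e => h2 ((h.pow_r_eq_iff (h.le u.2)).1 (congrArg Subtype.val e.symm))
      rw [h.inf_centralizer_of_mem u.2 h2]
      rcases h1 with rfl | rfl <;> simp [h3, h3.symm]
  · rw [hu.sum_mul_conj_eq_zero hM hB hP hv fun h2 => h1
      ((h.eq_or_eq_of_mem_fClass hM hP u.2 v.2 h2).imp (fun e => inclusion_injective _ e)
        fun e => inclusion_injective _ (e.trans (map_pow _ _ _).symm))]
    rw [not_or] at h1
    simp [h1.1, h1.2]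

end IsTame

variable (M B) in
/-- An orthogonal basis of the space spanned by the projective characters of a block with dihedral
defect group of order `N`. -/
structure DihFrame [Fintype B] (N : ℤ) (u v t : B → ℤ) : Prop where
  ru : pRegularPart 2 (vch fun χ => (u χ : ℂ)) = vch fun χ => (u χ : ℂ)
  rv : pRegularPart 2 (vch fun χ => (v χ : ℂ)) = vch fun χ => (v χ : ℂ)
  rt : pRegularPart 2 (vch fun χ => (t χ : ℂ)) = vch fun χ => (t χ : ℂ)
  tt : ∑ χ, t χ * t χ = N
  uv : ∑ χ, u χ * v χ = 0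
  cases : u = 0 ∧ v = 0 ∧ blockRank 2 B = 1 ∨ TameNum.Pair N u t ∧
    (v = 0 ∧ blockRank 2 B = 2 ∨ TameNum.Pair N v t ∧ blockRank 2 B = 3)

theorem DihFrame.blockRank_le [Fintype B] {N : ℤ} {u v t : B → ℤ} (h : DihFrame B N u v t) :
    blockRank 2 B ≤ 3 := by
  rcases h.cases with h | ⟨-, h | h⟩ <;> omega

omit [Finite G] in
theorem exists_isDihPair_of_mulEquiv {m : ℕ} (ε : P ≃* DihedralGroup m) :
    ∃ x y, IsDihPair P x y ∧ orderOf x = m := by
  have key : ∀ g : P, (g : G) ∈ zpowers (ε.symm (.r 1) : G) ↔ ∃ i, ε g = .r i := fun g => by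
    simp only [mem_zpowers_iff, ← coe_zpow, Subtype.val_inj, ← map_zpow, ε.symm_apply_eq,
      DihedralGroup.r_one_zpow]
    exact ⟨fun ⟨k, h⟩ => ⟨_, h.symm⟩, fun ⟨i, h⟩ => ⟨i.cast, by simp [h]⟩⟩
  refine ⟨ε.symm (.r 1), ε.symm (.sr 0), ⟨Subtype.prop _, Subtype.prop _, ?_, ?_, by simp [key],
    fun g hg => ?_⟩, by rw [orderOf_coe, MulEquiv.orderOf_eq, DihedralGroup.orderOf_r_one]⟩
  · rw [← coe_mul, ← map_mul]; simp
  · rw [← coe_inv, ← coe_inv, ← coe_mul, ← coe_mul, ← map_inv, ← map_inv, ← map_mul, ← map_mul]; simp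
  · have h1 := key ⟨g, hg⟩
    have h2 := key (⟨g, hg⟩ * ε.symm (.sr 0))
    rw [map_mul, ε.apply_symm_apply] at h2
    cases h : ε ⟨g, hg⟩ with
    | r i => exact .inl (h1.2 ⟨i, h⟩)
    | sr i => exact .inr (h2.2 ⟨_, by rw [h, DihedralGroup.sr_mul_sr]⟩)

namespace IsTame

open Exc TameNum

variable [CharP (ResK M) 2] {e : (ResK M)[G]} {n r : ℕ} {x y z : G} (h : IsTame n r P x y z)
  (hM : IsPModular 2 M) (hB : IsPBlock M B) (hP : IsMaxPair 2 (blockIdem M B) P e)
  (hD : IsDihPair P x y)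
include h hM hB hP hD

omit hB in
theorem isNilpIn_of_dih {f : H →* G} {b : Set (IrrCharacter H)}
    (hb : IsLoc 2 M P e (zpowers z) f b) : IsNilpIn 2 ⊤ (blockIdem M b) :=
  hb.isNilpIn_of_forall hM hP.pair (zpowers_le_centralizer_zpowers z)
    (hb.isDefGrp_of_le hM hP h.le_centralizer_z) fun _ _ hQ _ hg hc hr _ =>
    mem_centralizer_sub_conj'.2 fun _ ha => hD.conj_eq_of_odd h.isPGroup h.z_mem h.orderOf_z
      (hQ.trans inf_le_left) hr (centralizer_zpowers z ▸ hc)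
      (fun _ hy => conj_mem_of_mem_normalizer hg hy) ha

omit hD in
theorem le_blockRank [Fintype B] {κ : Type*} [Fintype κ] [DecidableEq κ] {w : κ → B → ℤ}
    (h1 : ∀ i, prj 2 M e (1 : P) (vch fun χ => (w i χ : ℂ)) = vch fun χ => (w i χ : ℂ))
    (h2 : ∀ i j, i ≠ j → ∑ χ, w i χ * w j χ = 0) (h3 : ∀ i, ∑ χ, w i χ * w i χ ≠ 0) :
    Fintype.card κ ≤ blockRank 2 B := by
  have h4 : ∀ i, (((∑ χ, w i χ * w i χ : ℤ) : ℝ)⁻¹ : ℝ) *
      ip (vch fun χ => (w i χ : ℂ)) (vch fun χ => (w i χ : ℂ)) = 1 := fun i => by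
    rw [ip_vch_vch_int, Complex.ofReal_inv, Complex.ofReal_intCast, inv_mul_cancel₀ (Int.cast_ne_zero.2 (h3 i))]
  have := hM.le_lrk_of_orth hB hP (fun i => isClassFunction_vch _) h1
    (fun i j hij => by rw [ip_vch_vch_int, h2 i j hij, Int.cast_zero]) (fun i => .inr (h4 i))
    (N := Fintype.card κ) (by simp only [h4]; simp)
  rwa [coe_one, zpowers_one_eq_bot, hM.lrk_bot hB hP.toIsPairOf] at this

theorem dihedral [Fintype B] :
    Nat.card B = 2 ^ n + 3 ∧ Nat.card {χ : B // blockHeight 2 B χ.1.1 = 0} = 4 ∧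
      (∀ χ ∈ B, blockHeight 2 B χ.1 ≤ 1) ∧ ∃ u v t, DihFrame B (2 ^ (n + 2)) u v t := by
  classical
  obtain ⟨b, hb⟩ := hM.exists_isLoc_subtype hP.pair (zpowers_le.2 h.z_mem')
  obtain ⟨η, hη, hc⟩ := hb.exists_isCol_of_nilp hM hP h.le_centralizer_z (h.isNilpIn_of_dih hM hP hD hb)
  letI := Fintype.ofFinite P
  letI := Fintype.ofFinite (zpowers x)
  letI := Fintype.ofFinite (zpowers x →* ℂˣ)
  let x' : zpowers x := ⟨x, mem_zpowers x⟩
  let z' : zpowers x := ⟨z, h.z_mem⟩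
  have hx : ∀ a, a ∈ zpowers x' := fun a => by
    obtain ⟨k, hk⟩ := mem_zpowers_iff.1 a.2
    exact ⟨k, Subtype.ext hk⟩
  have hr : ∀ u : zpowers x, u ^ r = u⁻¹ := fun u => Subtype.ext
    ((h.conj_of_notMem h.mem_y h.notMem u.2).symm.trans (hD.τ_conj u.2))
  have hr' : ∀ lam : zpowers x →* ℂˣ, lam ^ r = lam⁻¹ := fun lam => MonoidHom.ext fun u => by
    rw [MonoidHom.pow_apply, ← map_pow, hr, map_inv, MonoidHom.inv_apply]
  obtain ⟨D, hD'⟩ : ∃ D : B → zpowers x → ℂ, ∀ χ u, D χ u = η χ (inclusion h.le u) := ⟨_, fun _ _ => rfl⟩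
  have hDr : ∀ χ u, D χ (u ^ r) = D χ u := fun χ u => by
    rw [hD', hD', ← (hη χ).isClassFunction (inclusion h.le u) ⟨y, h.mem_y⟩]
    exact congrArg _ (Subtype.ext (h.conj_of_notMem h.mem_y h.notMem u.2).symm)
  replace hc : ∀ u : zpowers x, u ≠ 1 → IsCol 2 M B e (inclusion h.le u) (fun χ => D χ u)
      (Nat.card (P ⊓ C(zpowers (u : G)) : Subgroup G)) := fun u hu => by
    simp only [hD']
    exact hc _ (zpowers_le.2 (h.z_mem_zpowers u.2 (by simpa using hu)))
  choose N hN using fun χ => exists_int_coef (F := D χ) (funext (hD' χ) ▸ (hη χ).comp (inclusion h.le))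
  have hG : ∀ lam mu, lam ≠ 1 → mu ≠ 1 → ∑ χ, N χ lam * N χ mu =
      2 + (if mu = lam then 1 else 0) + if mu⁻¹ = lam then 1 else 0 := fun lam mu hl hm => by
    have := gram_pow (D := D) (r := r) hl hm (fun e => hm (linear_ext hx (by
      simpa [hr'] using DFunLike.congr_fun e x'))) fun u v hu hv => by
      convert h.sum_mul_conj_eq hM hB hP (fun χ => hDr χ u) (hc u fun e => hu (by simp [e]))
        (fun e => hu (by simp [e])) (hc v fun e => hv (by simp [e]))
    simp only [hN, map_intCast, hr'] at this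
    exact_mod_cast this
  obtain ⟨s, hs⟩ := exists_sgn hx h.card_zpowers
  have hs1 := sgn_ne_one hs
  have hs2 : s⁻¹ = s := linear_ext hx (by simp [hs])
  have hJ : ∀ j : {lam : zpowers x →* ℂˣ // 0 < (lam x' : ℂ).im}, j.1 ≠ 1 ∧ j.1 ≠ s ∧
      ∀ l : {lam : zpowers x →* ℂˣ // 0 < (lam x' : ℂ).im}, l.1⁻¹ ≠ j := fun j =>
    ⟨fun e => by simpa [e] using j.2, fun e => by simpa [e, hs] using j.2, fun l e => by
      have h1 := j.2
      rw [← e, MonoidHom.inv_apply, Units.val_inv_eq_inv_val, ← linear_conj_apply,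
        Complex.conj_im] at h1
      linarith [l.2]⟩
  have hD2 : ∀ χ u, u ≠ 1 → D χ u = (s u : ℂ) * N χ s + ∑ j : {lam : zpowers x →* ℂˣ //
      0 < (lam x' : ℂ).im}, ((j.1 u : ℂ) + (j.1⁻¹ u : ℂˣ)) * N χ j := fun χ u hu => by
    rw [eq_sum_coef (comm_of_gen hx) (D χ) hu, sum_dual_eq hx hs, coef_one, zero_mul, zero_add, hN, mul_comm]
    refine congrArg _ (Finset.sum_congr rfl fun j _ => ?_)
    rw [← hr', coef_pow (by simp [hr]) (hDr χ), hN]
    ring
  have hz1 : z' ≠ 1 := fun e => h.z_ne (congrArg Subtype.val e)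
  have hz2 : ∀ lam : zpowers x →* ℂˣ, ∃ ε : ℤ, ε * ε = 1 ∧ (lam z' : ℂ) = ε := fun lam => by
    rcases units_mul_self (show lam z' * lam z' = 1 by
      rw [← map_mul, show z' * z' = 1 from Subtype.ext h.z_mul_z, map_one]) with e | e
    exacts [⟨1, rfl, by simp [e]⟩, ⟨-1, rfl, by simp [e]⟩]
  choose ε hε hε' using hz2
  obtain ⟨T, hT⟩ : ∃ T : B → ℤ, ∀ χ, T χ = ε s * N χ s + 2 * ∑ j : {lam : zpowers x →* ℂˣ //
    0 < (lam x' : ℂ).im}, ε j * N χ j := ⟨_, fun _ => rfl⟩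
  have hT' : ∀ χ, D χ z' = T χ := fun χ => by
    rw [hD2 χ z' hz1, hT, hε']
    push_cast
    rw [Finset.mul_sum]
    refine congrArg _ (Finset.sum_congr rfl fun j _ => ?_)
    rw [MonoidHom.inv_apply, ← map_inv, show z'⁻¹ = z' from Subtype.ext h.z_inv, hε']
    ring
  obtain ⟨χ₀, hχ₀, h0⟩ := exists_blockHeight_eq_zero (p := 2) (hB.nonempty hM)
  have hv : ∀ (χ : B) j, 2 ^ j ∣ T χ * T ⟨χ₀, hχ₀⟩ ↔ j ≤ blockHeight 2 B χ.1.1 := fun χ => by
    have h1 := hM.vM_ip_prj hB hP (u := inclusion h.le z') h.le_centralizer_z χ.2 hχ₀ h0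
    have h2 := (hc z' hz1).eq χ ⟨χ₀, hχ₀⟩
    rw [inf_eq_left.2 h.le_centralizer_z, hT', hT', map_intCast, ← Int.cast_mul] at h2
    exact hM.pow_dvd_iff_of_vM (h2 ▸ h1)
  have hT0 : Odd (T ⟨χ₀, hχ₀⟩) := Int.not_even_iff_odd.1 fun e => by
    simpa [h0] using (hv ⟨χ₀, hχ₀⟩ 1).1 (e.mul_right _).two_dvd
  have hodd : ∀ χ : B, Odd (N χ s) ↔ blockHeight 2 B χ.1.1 = 0 := fun χ => by
    have h1 := hv χ 1
    rw [pow_one, ← even_iff_two_dvd, Int.even_mul, or_iff_left (Int.not_even_iff_odd.2 hT0), hT] at h1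
    rcases mul_self_eq_one_iff.1 (hε s) with e | e <;>
      simp only [e, Int.even_iff, Int.odd_iff] at h1 ⊢ <;> omega
  have hA : ∑ χ, N χ s * N χ s = 4 := by simp [hG s s hs1 hs1, hs2]
  have hk := card_pos_im hx h.card_zpowers
  have hle := h.le_card hM hB hP
  have hl1 := hB.blockRank_pos hM
  have hl2 := hM.lrk_pos hP.pair (zpowers_le.2 h.z_mem')
  rcases TameNum.dihedral (α := fun (j : {lam : zpowers x →* ℂˣ // 0 < (lam x' : ℂ).im}) χ => N χ j)
    (ε := fun j => ε j) (fun j => hε j) hT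
    (fun χ e => by have := (hv χ (blockHeight 2 B χ.1.1 + 1)).1 (by rw [e]; simp); omega) hA
    ⟨_, (hodd ⟨χ₀, hχ₀⟩).2 h0⟩
    (fun j => by simp [hG _ s (hJ j).1 hs1, hs2, (hJ j).2.1.symm])
    (fun j l => by simp [hG _ _ (hJ j).1 (hJ l).1, (hJ j).2.2 l, Subtype.ext_iff, eq_comm]) with
    ⟨h6, h7⟩ | ⟨h6, h7, ⟨u, v, t, p1, p2, p3, p4, p5, p6⟩, h8⟩
  · rw [← Nat.card_eq_fintype_card] at h6 h7
    have h8 : 2 ≤ n := by
      by_contra! h8
      interval_cases n <;> omega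
    have := Nat.pow_le_pow_right two_pos h8
    have h9 := hB.pow_eq_of_card_eq_five hM (by omega) h6
    rw [← ((hB.isDefectGroup_iff hM _).2 hP.defect).card_eq hB hM, h.card_eq, pow_add] at h9
    omega
  rw [← Nat.card_eq_fintype_card, ← Nat.card_eq_fintype_card] at h6
  rw [show (4 + 4 * Fintype.card {lam : zpowers x →* ℂˣ // 0 < (lam x' : ℂ).im} : ℤ) = 2 ^ (n + 2) by
    rw [← Nat.card_eq_fintype_card, pow_add]; zify at hk; omega] at p1 p2 h8
  refine ⟨by omega, ?_, fun χ hχ => by_contra fun h9 => ?_, ?_⟩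
  · rw [← (norm_four hA ⟨_, (hodd ⟨χ₀, hχ₀⟩).2 h0⟩).1, Nat.card_eq_fintype_card, Fintype.card_subtype]
    simp only [hodd]
  · have h10 := (hv ⟨χ, hχ⟩ 2).2 (by simp only; omega)
    have h11 := h7 ⟨χ, hχ⟩ (by rw [hodd]; simp only; omega)
    obtain ⟨k, hk⟩ := hT0
    rcases mul_self_eq_mul_self_iff.1 (h11.trans (by norm_num : (4 : ℤ) = 2 * 2)) with e | e <;>
      rw [e, hk] at h10 <;> omega
  have hreg : ∀ w : B → ℤ, Perp (fun χ => N χ s) (fun (j : {lam : zpowers x →* ℂˣ //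
      0 < (lam x' : ℂ).im}) χ => N χ j) w → (∀ a : P, (a : G) ∉ zpowers x →
      a ∉ fClass 2 P e ⟨z, h.z_mem'⟩ → prj 2 M e a (vch fun χ => (w χ : ℂ)) = 0) →
      prj 2 M e (1 : P) (vch fun χ => (w χ : ℂ)) = vch fun χ => (w χ : ℂ) := fun w hw hw' => by
    have h1 : ∀ u : zpowers x, u ≠ 1 → prj 2 M e (inclusion h.le u) (vch fun χ => (w χ : ℂ)) = 0 :=
      fun u hu => (hc u hu).prj_vch_eq_zero hM hB hP (by
        have h2 : ∀ lam, ∑ χ, w χ * N χ lam = 0 → ∀ c : ℂ, ∑ χ, (w χ : ℂ) * (c * N χ lam) = 0 :=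
          fun lam e c => by
            simp only [mul_left_comm _ c, ← Finset.mul_sum, ← Int.cast_mul, ← Int.cast_sum, e]; simp
        simp only [hD2 _ u hu, mul_add, Finset.sum_add_distrib, h2 s hw.1, Finset.mul_sum]
        rw [Finset.sum_comm]
        simp only [fun j => h2 _ (hw.2 j), Finset.sum_const_zero, add_zero])
    refine hM.prj_one_eq_self hB hP (blockPart_vch _) fun a ha => ?_
    by_cases h2 : (a : G) ∈ zpowers x
    · exact h1 ⟨a, h2⟩ fun e => ha (inclusion_injective le_top (congrArg (inclusion le_top) e :))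
    by_cases h3 : a ∈ fClass 2 P e ⟨z, h.z_mem'⟩
    · rw [hP.pair.prj_eq h3]; exact h1 z' hz1
    · exact hw' a h2 h3
  have hreg' : ∀ w : B → ℤ, prj 2 M e (1 : P) (vch fun χ => (w χ : ℂ)) = (vch fun χ => (w χ : ℂ)) →
      pRegularPart 2 (vch fun χ => (w χ : ℂ)) = vch fun χ => (w χ : ℂ) := fun w hw => by
    rwa [hM.prj_one hB hP (isClassFunction_vch _), blockPart_vch] at hw
  have h00 := hreg 0 (by simp [Perp]) fun a _ _ => by simp [vch, prj, starC_zero_left]
  have hne : ∀ a : P, (a : G) ∉ zpowers x → (a : G) * a = 1 ∧ a ≠ 1 := fun a ha =>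
    ⟨hD.mul_self_of_notMem a.2 ha, fun e => ha (by rw [e]; exact one_mem _)⟩
  have h2n : (2 : ℤ) ^ (n + 2) ≠ 0 := by positivity
  by_cases c1 : ∀ a : P, (a : G) ∉ zpowers x → a ∈ fClass 2 P e ⟨z, h.z_mem'⟩
  · have h1 := fun w hw => hreg w hw fun a ha ha' => absurd (c1 a ha) ha'
    have := h.le_blockRank hM hB hP (w := ![u, v, t])
      (fun i => by fin_cases i; exacts [h1 u p4, h1 v p5, h1 t p6])
      (fun i j hij => by fin_cases i <;> fin_cases j <;>
        simp [p3, p1.ut, p2.ut, mul_comm (v _) (u _), mul_comm (t _) (u _), mul_comm (t _) (v _)]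
          at hij ⊢)
      (fun i => by fin_cases i <;> simp [p1.uu, p2.uu, p1.tt])
    exact ⟨u, v, t, hreg' _ (h1 u p4), hreg' _ (h1 v p5), hreg' _ (h1 t p6), p1.tt,
      p3, .inr ⟨p1, .inr ⟨p2, by simp at this; omega⟩⟩⟩
  push Not at c1
  obtain ⟨a, ha, ha'⟩ := c1
  by_cases c2 : ∀ a' : P, (a' : G) ∉ zpowers x → a' ∉ fClass 2 P e ⟨z, h.z_mem'⟩ → a' ∈ fClass 2 P e a
  · have hcl := h.notMem_of_notMem_fClass hM hP.pair (hne a ha).1 (hne a ha).2 ha'
    obtain ⟨Y, hY, hY'⟩ := hM.exists_isCol_int hB hP (hne a ha).1 (h.lrk_of_notMem hM hP hcl)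
      fun g => h.card_le_of_notMem hM hP.pair hcl
    have h1 : ∀ lam, ∑ χ, Y χ * N χ lam = 0 := fun lam => by
      have : ∑ χ, (Y χ : ℂ) * N χ lam = 0 := by
        simp only [← hN, coef, Finset.mul_sum]
        rw [Finset.sum_comm]
        refine Finset.sum_eq_zero fun u _ => ?_
        by_cases hu : u = 1
        · simp [hu]
        have := (hc u hu).sum_mul_conj_eq_zero hM hB hP hY fun e => hcl _ (mem_fClass_symm e) u.2
        simp only [map_intCast] at this
        simp only [mul_left_comm (Y _ : ℂ) (Nat.card (zpowers x) : ℂ)⁻¹, ← mul_assoc (Y _ : ℂ),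
          mul_comm (Y _ : ℂ), ← Finset.mul_sum, ← Finset.sum_mul, this, zero_mul, mul_zero]
      exact_mod_cast this
    obtain ⟨u, t, p1, p2, p3, p4, p5⟩ := h8 Y (by
      rw [hY.sum_eq_int hM hB hP, h.card_inf_centralizer_of_notMem a.2 ha]; rfl)
      (fun χ => by rw [hodd, hY']; exact id) ⟨h1 s, fun j => h1 j⟩
    have h2 := fun w hw (hw' : ∑ χ, w χ * Y χ = 0) => hreg w hw fun a' h3 h4 =>
      (hY.of_mem_fClass hP.pair (c2 a' h3 h4)).prj_vch_eq_zero hM hB hP (by exact_mod_cast hw')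
    have := h.le_blockRank hM hB hP (w := ![u, t])
      (fun i => by fin_cases i; exacts [h2 u p2 p4, h2 t p3 p5])
      (fun i j hij => by fin_cases i <;> fin_cases j <;> simp [p1.ut, mul_comm (t _)] at hij ⊢)
      (fun i => by fin_cases i <;> simp [p1.uu, p1.tt])
    have h3 := h.le_card' hM hB hP (hne a ha).1 (hne a ha).2 ha'
    exact ⟨u, 0, t, hreg' _ (h2 u p2 p4), hreg' _ h00, hreg' _ (h2 t p3 p5), p1.tt,
      by simp, .inr ⟨p1, .inl ⟨rfl, by simp at this; omega⟩⟩⟩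
  · push Not at c2
    obtain ⟨a', c2, c3, c4⟩ := c2
    have h3 := h.le_card'' hM hB hP (hne a' c2).1 (hne a' c2).2 c3 (hne a ha).1 (hne a ha).2 ha' c4
    have hl : blockRank 2 B = 1 := by omega
    obtain ⟨t, ht, -⟩ := hM.exists_isCol_int hB hP (u := 1) (by simp) (by
      rwa [coe_one, zpowers_one_eq_bot, hM.lrk_bot hB hP.toIsPairOf]) fun g _ => by simp
    refine ⟨0, 0, t, hreg' _ h00, hreg' _ h00, hreg' _ (ht.prj_vch_self hM hB hP), ?_, by simp,
      .inl ⟨rfl, rfl, hl⟩⟩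
    rw [ht.sum_eq_int hM hB hP, inf_eq_left.2 fun g _ => by simp [mem_centralizer_iff], h.card_eq]
    simp

end IsTame

end Cfsg

set_option linter.all false in
theorem Cfsg.Rz.Blk_Dih_0 : True := by
  have := @_root_.Cfsg.DihFrame.mk.congr_simp.{0}
  trivial
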