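import Cfsg.Agent.Mod.Nilp
import Cfsg.Agent.Blk.RankOne

/-!
# Blocks whose characters all have the same degree (Okuyama–Tsushima)
-/

set_option autoImplicit false
set_option linter.unusedSectionVars false
set_option linter.style.haveILetI false

namespace Cfsg

open MonoidAlgebra GA Module
open scoped ComplexConjugate

universe u v w

section LinAlg

variable {K : Type*} [Field K] {V : Type w} [AddCommGroup V] [Module K V] [FiniteDimensional K V]

/-- A nonzero endomorphism generates the endomorphism ring as a two-sided ideal. -/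
theorem exists_sum_mul_mul_eq_one {E : Module.End K V} (hE : E ≠ 0) :
    ∃ A B : Fin (finrank K V) → Module.End K V, ∑ r, A r * E * B r = 1 := by
  obtain ⟨v, hv⟩ : ∃ v, E v ≠ 0 := by
    by_contra! h
    exact hE (LinearMap.ext h)
  obtain ⟨f, hf⟩ := Module.Projective.exists_dual_eq_one K hv
  let b := Module.finBasis K V
  refine ⟨fun r => f.smulRight (b r), fun r => (b.coord r).smulRight v, LinearMap.ext fun w => ?_⟩
  simp only [LinearMap.sum_apply, Module.End.mul_apply, LinearMap.smulRight_apply, map_smul, hf,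
    one_smul, Module.End.one_apply, Basis.coord_apply]
  exact b.sum_repr w

theorem trace_mul_of_rank_one {E : Module.End K V} (hE : E * E = E)
    (h1 : finrank K (LinearMap.range E) = 1) (X Y : Module.End K V) :
    LinearMap.trace K V (E * X * (E * Y)) =
      LinearMap.trace K V (E * X) * LinearMap.trace K V (E * Y) := by
  obtain ⟨v, -, hv⟩ := finrank_eq_one_iff'.1 h1
  have htr : LinearMap.trace K V E = 1 := by
    have := (LinearMap.IsIdempotentElem.isProj_range E hE).trace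
    rw [this, h1, Nat.cast_one]
  obtain ⟨c, hc⟩ := hv ⟨E (X v), LinearMap.mem_range_self _ _⟩
  have h2 : E * X * E = c • E := by
    ext w
    obtain ⟨t, ht⟩ := hv ⟨E w, LinearMap.mem_range_self _ _⟩
    have ht' : E w = t • (v : V) := (congrArg Subtype.val ht).symm
    have hc' : E (X v) = c • (v : V) := (congrArg Subtype.val hc).symm
    simp only [Module.End.mul_apply, LinearMap.smul_apply, ht', map_smul, hc', smul_comm t c]
  have h3 : LinearMap.trace K V (E * X) = c := by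
    calc LinearMap.trace K V (E * X) = LinearMap.trace K V (E * (E * X)) := by
          rw [← mul_assoc, hE]
      _ = c := by rw [LinearMap.trace_mul_comm, h2, map_smul, htr, smul_eq_mul, mul_one]
  rw [← mul_assoc, h2, smul_mul_assoc, map_smul, h3, smul_eq_mul]

end LinAlg

variable {G : Type u} [Group G] [Finite G] {H : Type v} [Group H] [Finite H] {p : ℕ}
  {M : Ideal AlgInt} {B : Set (IrrCharacter G)}

/-- A character of value one at the idempotent `i` is multiplicative on `i ℂ[G] i`. -/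
theorem IsCharacter.charExt_mul_of_idem {χ : G → ℂ} (hχ : IsCharacter G χ) {i : ℂ[G]}
    (hi : i * i = i) (h1 : charExt χ i = 1) (a b : ℂ[G]) :
    charExt χ (i * a * (i * b)) = charExt χ (i * a) * charExt χ (i * b) := by
  obtain ⟨n, ρ, rfl⟩ := hχ
  have hE : ρ.asAlgebraHom i * ρ.asAlgebraHom i = ρ.asAlgebraHom i := by rw [← map_mul, hi]
  simp only [charExt_character, map_mul] at h1 ⊢
  refine trace_mul_of_rank_one hE ?_ _ _
  rw [(LinearMap.IsIdempotentElem.isProj_range _ hE).trace] at h1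
  exact_mod_cast h1

theorem IBr.isNilpotent_of_forall_rep (hM : IsPModular p M) {z : (ResK M)[G]}
    (h : ∀ φ : IBr p M G, φ.rep.asAlgebraHom z = 0) : IsNilpotent z := by
  let ρ := Representation.ofMulAction (ResK M) G G
  have h1 := charpoly_eq_prod_ibr hM ρ z
  simp only [h, LinearMap.charpoly_zero, ← pow_mul, Finset.prod_pow_eq_pow_sum] at h1
  have h2 := LinearMap.aeval_self_charpoly (ρ.asAlgebraHom z)
  rw [h1, map_pow, Polynomial.aeval_X, ← map_pow] at h2
  have := LinearMap.congr_fun h2 1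
  rw [Representation.asAlgebraHom_ofMulAction_smul_eq_mul, mul_one] at this
  exact ⟨_, this⟩

/-- A block with a unique simple module lies in the ideal generated by any idempotent affording
the projective indecomposable character. -/
theorem IsPBlock.exists_sum_mul_mul (hB : IsPBlock M B) (hM : IsPModular p M) {φ : IBr p M G}
    (hφ : ibrOf p M B = {φ}) {i : ℂ[G]} (hi : i ∈ intGA G M)
    (h0 : φ.rep.asAlgebraHom (redGA M i) ≠ 0) :
    ∃ (n : ℕ) (a b : Fin n → ℂ[G]), (∀ r, a r ∈ intGA G M) ∧ (∀ r, b r ∈ intGA G M) ∧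
      blockIdemC B = blockIdemC B * ∑ r, a r * i * b r := by
  obtain ⟨A, A', hA⟩ := exists_sum_mul_mul_eq_one h0
  choose a ha using fun r => asAlgebraHom_surjective φ.rep_isIrreducible (A r)
  choose b hb using fun r => asAlgebraHom_surjective φ.rep_isIrreducible (A' r)
  have he := hB.blockIdemC_mem_intGA hM
  have hs : ∀ r, liftGA M (a r) * i * liftGA M (b r) ∈ intGA G M := fun r =>
    mul_mem (mul_mem (liftGA_mem _) hi) (liftGA_mem _)
  set s := ∑ r, liftGA M (a r) * i * liftGA M (b r) with hsdef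
  have hs' : s ∈ intGA G M := sum_mem fun r _ => hs r
  have hz : blockIdemC B - blockIdemC B * s ∈ intGA G M := sub_mem he (mul_mem he hs')
  have hn : IsNilpotent (redGA M (blockIdemC B - blockIdemC B * s)) := by
    refine IBr.isNilpotent_of_forall_rep hM fun ψ => ?_
    rw [redGA_sub he (mul_mem he hs'), redGA_mul he hs', map_sub, map_mul]
    change ψ.rep.asAlgebraHom (blockIdem M B) - ψ.rep.asAlgebraHom (blockIdem M B) * _ = 0
    by_cases hψ : ψ ∈ ibrOf p M B
    · rw [hB.rep_blockIdem_of_mem hM hψ, one_mul]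
      rw [hφ, Set.mem_singleton_iff] at hψ
      subst hψ
      rw [hsdef, redGA_sum fun r _ => hs r, map_sum, ← hA, sub_eq_zero]
      refine Finset.sum_congr rfl fun r _ => ?_
      rw [redGA_mul (mul_mem (liftGA_mem _) hi) (liftGA_mem _), redGA_mul (liftGA_mem _) hi,
        redGA_liftGA, redGA_liftGA, map_mul, map_mul, ha, hb]
    · rw [hB.rep_blockIdem_of_not_mem hM hψ, zero_mul, sub_zero]
  obtain ⟨v, hv, hv1, -⟩ := exists_inv_intGA (sub_mem (one_mem _) hz) (by
    rw [redGA_sub (one_mem _) hz, redGA_one]; exact hn.isUnit_one_sub)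
  refine ⟨_, fun r => liftGA M (a r), fun r => liftGA M (b r) * v, fun r => liftGA_mem _,
    fun r => mul_mem (liftGA_mem _) hv, ?_⟩
  have hee : blockIdemC B * blockIdemC B = blockIdemC B := by rw [blockIdemC_mul, Set.inter_self]
  have h1 : ∑ r, liftGA M (a r) * i * (liftGA M (b r) * v) = s * v := by
    rw [hsdef, Finset.sum_mul]
    exact Finset.sum_congr rfl fun r _ => by simp only [mul_assoc]
  rw [h1]
  calc blockIdemC B = blockIdemC B * ((1 - (blockIdemC B - blockIdemC B * s)) * v) := by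
        rw [hv1, mul_one]
    _ = _ := by
        rw [← mul_assoc, mul_sub, mul_sub, mul_one, hee, ← mul_assoc, hee, sub_sub_cancel,
          mul_assoc]

theorem sum_block_charExt_mem (hM : IsPModular p M) (hB : IsPBlock M B) [DecidablePred (· ∈ B)]
    {a : ℂ[G]} (ha : a ∈ intGA G M) :
    ∑ χ : IrrCharacter G with χ ∈ B, χ 1 / Nat.card G * charExt χ.1 a ∈ locO M := by
  have h := mul_mem (hB.blockIdemC_mem_intGA hM) ha 1
  rw [coeff_eq_sum_charExt, Finset.mul_sum] at h
  convert h using 1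
  rw [Finset.sum_filter]
  refine Finset.sum_congr rfl fun χ _ => ?_
  rw [inv_one, map_one, mul_one, charExt_central_mul χ (blockIdemC_mem B)]
  split_ifs with hχ
  · rw [omega_blockIdemC_of_mem hχ]; ring
  · rw [omega_blockIdemC_of_notMem hχ]; ring

/-- If all characters of the block reduce to the same irreducible Brauer character, the
values of the characters span a ring. -/
theorem IsPBlock.exists_charExt_mul (hB : IsPBlock M B) (hM : IsPModular p M) {φ : IBr p M G}
    (hφ : ibrOf p M B = {φ}) (h1 : ∀ χ ∈ B, decNum χ.1 φ = 1) {x y : ℂ[G]} (hx : x ∈ intGA G M)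
    (hy : y ∈ intGA G M) :
    ∃ z ∈ intGA G M, ∀ χ ∈ B, charExt χ.1 z = charExt χ.1 x * charExt χ.1 y := by
  obtain ⟨i, hi, hii, hrk, h0⟩ := φ.exists_idem_rk
  have hχi : ∀ χ ∈ B, charExt χ.1 i = 1 := fun χ hχ => by
    rw [χ.isCharacter.charExt_idem hM hi hii, Finset.sum_eq_single φ, hrk, h1 χ hχ]
    · simp
    · intro ψ _ hψ; simp [IBr.rk, h0 ψ hψ]
    · simp
  obtain ⟨n, a, b, ha, hb, he⟩ := hB.exists_sum_mul_mul hM hφ hi fun h => by
    rw [IBr.rk, h, show LinearMap.range (0 : Module.End (ResK M) (Fin φ.deg → ResK M)) = ⊥ from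
      LinearMap.range_zero, finrank_bot] at hrk
    exact zero_ne_one hrk
  have key : ∀ χ ∈ B, ∀ x : ℂ[G], charExt χ.1 x = charExt χ.1 (i * ∑ r, b r * x * a r) := by
    intro χ hχ x
    calc charExt χ.1 x = charExt χ.1 (blockIdemC B * x) := by
          rw [charExt_central_mul χ (blockIdemC_mem B), omega_blockIdemC_of_mem hχ, one_mul]
      _ = charExt χ.1 ((∑ r, a r * i * b r) * x) := by
          rw [he, mul_assoc, charExt_central_mul χ (blockIdemC_mem B), omega_blockIdemC_of_mem hχ,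
            one_mul]
      _ = _ := by
          rw [Finset.sum_mul, Finset.mul_sum, map_sum, map_sum]
          refine Finset.sum_congr rfl fun r _ => ?_
          rw [mul_assoc, mul_assoc, charExt_mul_comm χ.isClassFunction]
          simp only [mul_assoc]
  have hm : ∀ x ∈ intGA G M, i * ∑ r, b r * x * a r ∈ intGA G M := fun x hx =>
    mul_mem hi (sum_mem fun r _ => mul_mem (mul_mem (hb r) hx) (ha r))
  refine ⟨_, mul_mem (hm x hx) (hm y hy), fun χ hχ => ?_⟩
  rw [χ.isCharacter.charExt_mul_of_idem hii (hχi χ hχ), ← key χ hχ, ← key χ hχ]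

/-- If all characters of a block have the same degree, they all reduce to one irreducible
Brauer character. -/
theorem IsPBlock.exists_ibr_of_charDegree_eq (hB : IsPBlock M B) (hM : IsPModular p M) {d : ℕ}
    (hd : ∀ χ ∈ B, charDegree χ.1 = d) :
    ∃ φ : IBr p M G, ibrOf p M B = {φ} ∧ ∀ χ ∈ B, decNum χ.1 φ = 1 := by
  classical
  haveI := hM.fact
  have h1 : ∀ χ ∈ B, ∀ φ : IBr p M G, decNum χ.1 φ ≠ 0 →
      ∀ ψ : IBr p M G, decNum χ.1 ψ = if φ = ψ then 1 else 0 := by
    intro χ hχ φ h ψ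
    have h2 : d ∣ φ.deg := hB.dvd_deg hM (fun ψ hψ => (hd ψ hψ).symm.dvd) ⟨χ, hχ, h⟩
    have h3 : φ.deg ≤ d := by
      rw [← hd χ hχ, χ.isCharacter.charDegree_eq_sum_decNum hM]
      exact (Nat.le_mul_of_pos_left _ (Nat.pos_of_ne_zero h)).trans
        (Finset.single_le_sum (f := fun φ : IBr p M G => decNum χ.1 φ * φ.deg)
          (fun _ _ => Nat.zero_le _) (Finset.mem_univ φ))
    have h4 : pRegularPart p χ.1 = φ.1 := by
      refine (χ.isCharacter.isBrauerChar hM).eq_of_apply_one_eq hM (by simpa using h) ?_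
      rw [φ.apply_one hM, h3.antisymm (Nat.le_of_dvd φ.deg_pos h2), ← hd χ hχ,
        ← χ.isCharacter.apply_one, pRegularPart_apply_one]
    rw [← decNum_pRegularPart, h4, decNum_ibr hM]
  obtain ⟨χ₀, hχ₀⟩ := hB.nonempty hM
  obtain ⟨φ, hφ⟩ := χ₀.exists_decNum_ne_zero hM
  have h2 : {χ ∈ B | decNum χ.1 φ ≠ 0} = B := by
    refine hB.eq_of_closed hM (fun χ h => h.1) ⟨χ₀, hχ₀, hφ⟩ fun χ hχ ψ μ h h' => ?_
    have h3 := h1 χ hχ.1 φ hχ.2 μ
    split_ifs at h3 with h4
    · subst h4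
      exact ⟨hB.mem_of_decNum_ne_zero hM ⟨χ₀, hχ₀, hφ⟩ h', h'⟩
    · exact absurd h3 h
  have h3 : ∀ χ ∈ B, decNum χ.1 φ ≠ 0 := fun χ hχ => (h2.ge hχ).2
  refine ⟨φ, Set.eq_singleton_iff_unique_mem.2 ⟨⟨χ₀, hχ₀, hφ⟩, ?_⟩, fun χ hχ => ?_⟩
  · rintro ψ ⟨χ, hχ, h⟩
    have := h1 χ hχ φ (h3 χ hχ) ψ
    split_ifs at this with h4
    · exact h4.symm
    · exact absurd this h
  · rw [h1 χ hχ φ (h3 χ hχ) φ, if_pos rfl]

theorem blockHeight_eq_zero_of_charDegree_eq [Fact p.Prime] {d : ℕ}
    (hd : ∀ χ ∈ B, charDegree χ.1 = d) {χ : IrrCharacter G} (hχ : χ ∈ B) :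
    blockHeight p B χ.1 = 0 := by
  obtain ⟨ψ, hψ, h⟩ := exists_eq_minExp (p := p) ⟨χ, hχ⟩
  rw [blockHeight_eq_zero_iff hχ, ← h, hd χ hχ, hd ψ hψ]

theorem IsPBlock.card_eq_of_charDegree_eq (hB : IsPBlock M B) (hM : IsPModular p M) {d : ℕ}
    (hd : ∀ χ ∈ B, charDegree χ.1 = d) : Nat.card B = p ^ blockDefect p B := by
  classical
  obtain ⟨φ, hφ, h1⟩ := hB.exists_ibr_of_charDegree_eq hM hd
  rw [← hB.sum_decNum_sq_of_ibrOf_eq_singleton hM hφ, finsum_mem_congr rfl
    (g := fun _ => 1) fun χ hχ => by rw [h1 χ hχ, one_pow], finsum_mem_irr_eq_sum,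
    natCard_eq_card_filter, Finset.card_eq_sum_ones]

theorem IsPBlock.sum_charExt_mul_div_mem (hB : IsPBlock M B) (hM : IsPModular p M) {d : ℕ}
    (hd : ∀ χ ∈ B, charDegree χ.1 = d) [DecidablePred (· ∈ B)] {x y : ℂ[G]} (hx : x ∈ intGA G M)
    (hy : y ∈ intGA G M) : (∑ χ : IrrCharacter G with χ ∈ B, charExt χ.1 x * charExt χ.1 y) /
      (p : ℂ) ^ blockDefect p B ∈ locO M := by
  haveI := hM.fact
  obtain ⟨φ, hφ, h1⟩ := hB.exists_ibr_of_charDegree_eq hM hd
  obtain ⟨z, hz, h2⟩ := hB.exists_charExt_mul hM hφ h1 hx hy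
  obtain ⟨χ₀, hχ₀⟩ := hB.nonempty hM
  obtain ⟨P, hP⟩ := hB.exists_isDefectGroup hM
  have h3 := hM.vM_mul_card_div hB hP hχ₀ (blockHeight_eq_zero_of_charDegree_eq hd hχ₀)
  rw [hP.card_eq hB hM, Nat.cast_pow] at h3
  have h4 := sum_block_charExt_mem hM hB hz
  have h5 : ∑ χ : IrrCharacter G with χ ∈ B, χ 1 / Nat.card G * charExt χ.1 z =
      χ₀ 1 * (p : ℂ) ^ blockDefect p B / Nat.card G *
        ((∑ χ : IrrCharacter G with χ ∈ B, charExt χ.1 x * charExt χ.1 y) /
          (p : ℂ) ^ blockDefect p B) := by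
    have hp : (p : ℂ) ^ blockDefect p B ≠ 0 := pow_ne_zero _ (Nat.cast_ne_zero.2 hM.prime.ne_zero)
    rw [Finset.sum_div, Finset.mul_sum]
    refine Finset.sum_congr rfl fun χ hχ => ?_
    have hχ := (Finset.mem_filter.1 hχ).2
    rw [h2 χ hχ, χ.isCharacter.apply_one, χ₀.isCharacter.apply_one, hd χ hχ, hd χ₀ hχ₀]
    field_simp
  rwa [h5, mem_locO_iff, map_mul, h3, one_mul, ← mem_locO_iff] at h4

theorem IsSec.genDec_eq_zero (hM : IsPModular p M) {f : H →* G} {u : G} (h : IsSec p f u)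
    {b : Set (IrrCharacter H)} (hi : Induces M f b B) {φ : IBr p M H} (hφ : φ ∈ ibrOf p M b)
    {χ : IrrCharacter G} (hχ : χ ∉ B) : genDec f u χ.1 φ = 0 := by
  have h1 := h.subPart_irr_eq_zero_of_notMem hM hi hχ
  change ip (secFun f u χ.1) (Phi φ) = 0
  rw [← hi.left.blockPart_Phi_of_mem hM hφ, ← ip_blockPart_left b
    (h.isClassFunction_secFun χ.isClassFunction) (Phi_isClassFunction φ), ← pRegularPart_Phi hM,
    ← ip_pRegularPart_left]
  change ip (subPart p f u b χ.1) _ = 0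
  rw [h1, ip_zero_left]

theorem IsSec.exists_genDec_eq (hM : IsPModular p M) {f : H →* G} {u : G} (h : IsSec p f u)
    (φ : IBr p M H) : ∃ x ∈ intGA G M, ∀ χ : IrrCharacter G, genDec f u χ.1 φ = charExt χ.1 x := by
  obtain ⟨j, hj, hjj, hrk, h0⟩ := φ.exists_idem_rk
  refine ⟨single u 1 * emb f j, mul_mem (single_one_mem_intGA u) (emb_mem_intGA f hj), fun χ => ?_⟩
  rw [← charExt_secFun, (h.isClassFunction_secFun χ.isClassFunction).charExt_idem hM hj hjj,
    Finset.sum_eq_single φ, hrk, Nat.cast_one, mul_one]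
  · rfl
  · intro ψ _ hψ; simp [IBr.rk, h0 ψ hψ]
  · simp

/-- If the Cartan matrix of a block is divisible by `p ^ d`, then `l(b) = 1`. -/
theorem IsPBlock.blockRank_eq_one_of_cartan (hB : IsPBlock M B) (hM : IsPModular p M)
    (h : ∀ φ ∈ ibrOf p M B, ∀ ψ ∈ ibrOf p M B,
      (cartan φ ψ : ℂ) / (p : ℂ) ^ blockDefect p B ∈ locO M) : blockRank p B = 1 := by
  classical
  haveI := hM.fact
  have hp : (p : ℂ) ^ blockDefect p B ≠ 0 := pow_ne_zero _ (Nat.cast_ne_zero.2 hM.prime.ne_zero)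
  have key : ∀ φ ∈ ibrOf p M B, ∀ ψ ∈ ibrOf p M B, ∑ μ : IBr p M G with μ ∈ ibrOf p M B,
      red M ((cartan φ μ : ℂ) / (p : ℂ) ^ blockDefect p B) *
        red M ((p : ℂ) ^ blockDefect p B * ip μ.1 ψ.1) = if φ = ψ then 1 else 0 := by
    intro φ hφ ψ hψ
    have hm : ∀ μ ∈ ibrOf p M B, (p : ℂ) ^ blockDefect p B * ip μ.1 ψ.1 ∈ locO M := fun μ hμ =>
      regLat_mem_locO (hB.ibr_mem_regLat hM hμ) (hB.ibr_mem_regLat hM hψ)
    have h1 := congrArg (red M) (sum_cartan_mul_ip hM φ ψ)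
    rw [← Finset.sum_subset (Finset.filter_subset (· ∈ ibrOf p M B) _) fun μ _ hμ => by
      rw [hB.cartan_eq_zero hM hφ (by simpa using hμ), Nat.cast_zero, zero_mul],
      Finset.sum_congr rfl (g := fun μ => (cartan φ μ : ℂ) / (p : ℂ) ^ blockDefect p B *
        ((p : ℂ) ^ blockDefect p B * ip μ.1 ψ.1)) fun μ _ => by field_simp,
      red_sum fun μ hμ => mul_mem (h φ hφ μ (Finset.mem_filter.1 hμ).2)
        (hm μ (Finset.mem_filter.1 hμ).2),
      Finset.sum_congr rfl fun μ hμ => red_mul (h φ hφ μ (Finset.mem_filter.1 hμ).2)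
        (hm μ (Finset.mem_filter.1 hμ).2)] at h1
    rw [h1]
    split_ifs <;> simp
  obtain ⟨φ, hφ⟩ := hB.ibrOf_nonempty hM
  have : ibrOf p M B = {φ} := by
    refine Set.eq_singleton_iff_unique_mem.2 ⟨hφ, fun ψ hψ => by_contra fun hne => ?_⟩
    have h1 := congrArg₂ (· * ·) (key φ hφ φ hφ) (key ψ hψ ψ hψ)
    have h2 := congrArg₂ (· * ·) (key φ hφ ψ hψ) (key ψ hψ φ hφ)
    simp only [if_pos, if_neg hne, mul_zero, mul_one, Finset.sum_mul_sum] at h1 h2
    refine one_ne_zero (h1.symm.trans (Eq.trans ?_ h2))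
    refine Finset.sum_congr rfl fun μ hμ => Finset.sum_congr rfl fun ν hν => ?_
    have := hB.regLat_rank_one hM (hB.ibr_mem_regLat hM (Finset.mem_filter.1 hμ).2)
      (hB.ibr_mem_regLat hM (Finset.mem_filter.1 hν).2) (hB.ibr_mem_regLat hM hφ)
      (hB.ibr_mem_regLat hM hψ)
    rw [mul_mul_mul_comm, this, mul_mul_mul_comm]
  rw [hB.blockRank_eq_card hM, this, Nat.card_unique]

theorem IsSec.blockRank_eq_one_of_charDegree_eq (hM : IsPModular p M) {f : H →* G} {u : G}
    (h : IsSec p f u) {b : Set (IrrCharacter H)} (hi : Induces M f b B) {d : ℕ}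
    (hd : ∀ χ ∈ B, charDegree χ.1 = d) : blockRank p b = 1 := by
  classical
  haveI := hM.fact
  refine hi.left.blockRank_eq_one_of_cartan hM fun φ hφ ψ hψ => ?_
  obtain ⟨x, hx, hx'⟩ := h.exists_genDec_eq hM φ
  obtain ⟨y, hy, hy'⟩ := h.inv.exists_genDec_eq hM ψ
  obtain ⟨z, rfl⟩ := h.exists_eq
  obtain ⟨n, hn⟩ := h.pElt.exists_pow_succ_eq_one
  have h1 := hi.right.sum_charExt_mul_div_mem hM hd hx hy
  have h2 : ∑ χ : IrrCharacter G with χ ∈ B, charExt χ.1 x * charExt χ.1 y = cartan φ ψ := by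
    rw [← sum_genDec_mul_conj hM f h.inj ⟨_, hn⟩ (fun g => h.mem_range_iff),
      Finset.sum_filter]
    refine Finset.sum_congr rfl fun χ _ => ?_
    split_ifs with hχ
    · rw [← hx', ← hy', genDec_inv hM f (h.mem_center rfl) χ.isCharacter.isGen]
    · rw [h.genDec_eq_zero hM hi hφ hχ, zero_mul]
  obtain ⟨k, hk⟩ := Nat.exists_eq_add_of_le (hi.blockDefect_le hM h.inj)
  have hp : (p : ℂ) ≠ 0 := Nat.cast_ne_zero.2 hM.prime.ne_zero
  have h3 := mul_mem h1 (natCast_mem (locO M) (p ^ k))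
  rw [h2, hk] at h3
  convert h3 using 1
  push_cast
  field_simp
  ring

/-- **Okuyama–Tsushima**: if all characters of a block have the same degree, its fusion is
trivial. -/
theorem IsPModular.fClass_eq_of_charDegree_eq [Fact p.Prime] (hM : IsPModular p M)
    (hB : IsPBlock M B) {P : Subgroup G} {e : (ResK M)[G]}
    (hP : haveI := hM.charP; IsMaxPair p (blockIdem M B) P e) {d : ℕ}
    (hd : ∀ χ ∈ B, charDegree χ.1 = d) (u : P) : fClass p P e u = {u} := by
  classical
  haveI := hM.charP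
  letI := Fintype.ofFinite P
  obtain ⟨b, hb⟩ := hM.exists_localBlocks hP
  have hsec := fun u : P => isSec_centralizer (G := G) (isPElt_of_mem hP.pair.isPGroup u.2)
  have h1 : ∀ χ ∈ B, (1 : ℂ) = ∑ u : P, 1 / (fClass p P e u).ncard *
      contrib p (Subgroup.centralizer {(u : G)}).subtype u (b u) χ.1 χ.1 := fun χ hχ => by
    have := hM.ip_starC_eq_sum hP hb isFStable_one χ.isClassFunction χ.isClassFunction
    rwa [hM.starC_one hB hP χ.isClassFunction, blockPart_irr_of_mem hχ, χ.ip_self] at this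
  have h2 : (Nat.card P : ℂ) = ∑ u : P, 1 / ((fClass p P e u).ncard : ℂ) := by
    have hD : IsDefectGroup p M B P := (hB.isDefectGroup_iff hM P).2 hP.defect
    rw [hD.card_eq hB hM, ← hB.card_eq_of_charDegree_eq hM hd, natCard_eq_card_filter,
      Finset.card_eq_sum_ones, Nat.cast_sum, Nat.cast_one,
      Finset.sum_congr rfl fun χ hχ => h1 χ (Finset.mem_filter.1 hχ).2, Finset.sum_comm]
    refine Finset.sum_congr rfl fun u _ => ?_
    have hi := hM.induces_of_bpLe hB hP (hsec u) (hb u).1 (hb u).2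
    have := (hsec u).finsum_contrib_self hM hi
    rw [finsum_mem_irr_eq_sum, (hsec u).blockRank_eq_one_of_charDegree_eq hM hi hd] at this
    rw [← Finset.mul_sum, this, Nat.cast_one, mul_one]
  have h3 : ∀ u : P, (1 : ℝ) ≤ (fClass p P e u).ncard := fun u => by
    exact_mod_cast Nat.pos_of_ne_zero (Set.ncard_ne_zero_of_mem (hP.pair.mem_fClass_self u))
  have h4 : ∑ u : P, (1 - 1 / ((fClass p P e u).ncard : ℝ)) = 0 := by
    rw [Finset.sum_sub_distrib, sub_eq_zero, Finset.sum_const, Finset.card_univ, nsmul_one,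
      ← Nat.card_eq_fintype_card]
    apply Complex.ofReal_injective
    push_cast
    exact h2
  have h5 := (Finset.sum_eq_zero_iff_of_nonneg fun u _ => sub_nonneg.2
    ((div_le_one (zero_lt_one.trans_le (h3 u))).2 (h3 u))).1 h4 u (Finset.mem_univ u)
  have h6 : (fClass p P e u).ncard = 1 := by
    rw [sub_eq_zero, eq_comm, div_eq_one_iff_eq (zero_lt_one.trans_le (h3 u)).ne'] at h5
    exact_mod_cast h5.symm
  obtain ⟨v, hv⟩ := Set.ncard_eq_one.1 h6
  have h7 := hP.pair.mem_fClass_self u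
  rw [hv] at h7 ⊢
  rw [Set.mem_singleton_iff.1 h7]

/-- **Okuyama–Tsushima**: a block whose characters all have the same degree is nilpotent with
abelian defect groups. -/
theorem IsPBlock.isNilpIn_of_charDegree_eq [Fact p.Prime] (hB : IsPBlock M B)
    (hM : IsPModular p M) {d : ℕ} (hd : ∀ χ ∈ B, charDegree χ.1 = d) :
    IsNilpIn p ⊤ (blockIdem M B) ∧ ∀ P, IsDefectGroup p M B P → IsMulCommutative P := by
  haveI := hM.charP
  have key : ∀ P e, IsMaxPair p (blockIdem M B) P e → ∀ g ∈ Subgroup.normalizer (P : Set G) ⊓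
      cjStab e, g ∈ Subgroup.centralizer (P : Set G) := by
    intro P e he g hg
    refine Subgroup.mem_centralizer_iff.2 fun u hu => ?_
    have hv : g * u * g⁻¹ ∈ P := (Subgroup.mem_normalizer_iff.1 hg.1 u).1 hu
    have := he.pair.mem_fClass_of_mem_stab (u := ⟨u, hu⟩) (v := ⟨_, hv⟩) hg rfl
    rw [hM.fClass_eq_of_charDegree_eq hB he hd, Set.mem_singleton_iff, Subtype.mk.injEq,
      mul_inv_eq_iff_eq_mul] at this
    exact this.symm
  have key2 : ∀ P e, IsMaxPair p (blockIdem M B) P e → P ≤ Subgroup.centralizer (P : Set G) := by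
    intro P e he g hg
    refine Subgroup.mem_centralizer_iff.2 fun u hu => ?_
    have := he.pair.conj_mem_fClass ⟨u, hu⟩ ⟨g, hg⟩
    rw [hM.fClass_eq_of_charDegree_eq hB he hd, Set.mem_singleton_iff,
      mul_inv_eq_iff_eq_mul] at this
    exact (congrArg Subtype.val this).symm
  constructor
  · obtain ⟨P, hP⟩ := hB.exists_isDefectGroup hM
    obtain ⟨e, he⟩ := (hB.isBlockIdem hM).exists_isMaxPair ((hB.isDefectGroup_iff hM P).1 hP)
    exact (he.isNilpIn_iff_of_comm (key2 P e he)).2 (key P e he)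
  · intro P hP
    obtain ⟨e, he⟩ := (hB.isBlockIdem hM).exists_isMaxPair ((hB.isDefectGroup_iff hM P).1 hP)
    exact ⟨⟨fun a b => Subtype.ext (key2 P e he b.2 a a.2)⟩⟩

end Cfsg
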