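import Cfsg.Agent.Blk.FrobGen

/-!
# Correspondent blocks have the same inertial quotient
-/

set_option autoImplicit false
set_option linter.unusedSectionVars false
set_option linter.unusedVariables false
set_option linter.style.haveILetI false

namespace Cfsg

open MonoidAlgebra GA Exc
open scoped ComplexConjugate Classical

universe u v w

variable {G : Type u} [Group G] [Finite G] {p : ℕ} [Fact p.Prime] {M : Ideal AlgInt}
  {B : Set (IrrCharacter G)} {P K : Subgroup G}

local notation "C(" Q ")" => Subgroup.centralizer ((Q : Subgroup _) : Set _)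
local notation "N(" Q ")" => Subgroup.normalizer ((Q : Subgroup _) : Set _)

theorem Induces.exists_isMaxPair_both (hM : IsPModular p M) {c : Set (IrrCharacter K)}
    (hc : Induces M K.subtype c B) (hK : N(P) ≤ K) (hcD : IsDefectGroup p M c (P.subgroupOf K))
    (hP : IsDefectGroup p M B P) :
    ∃ e' e, IsMaxPair p (blockIdem M c) (P.subgroupOf K) e' ∧ IsMaxPair p (blockIdem M B) P e ∧
      ∀ {A : Type w} [Group A] (j : A →* K), autOf j (N(P.subgroupOf K) ⊓ cjStab e') =
        autOf (K.subtype.comp j) (N(P) ⊓ cjStab e) := by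
  haveI := hM.charP
  have hPK : P ≤ K := Subgroup.le_normalizer.trans hK
  have hmap : (P.subgroupOf K).map K.subtype = P := Subgroup.map_subgroupOf_eq_of_le hPK
  obtain ⟨e', he'⟩ := (hc.left.isBlockIdem hM).exists_isMaxPair
    ((hc.left.isDefectGroup_iff hM _).1 hcD)
  have h1 := hc.isMaxPair_emb hM K.subtype_injective he' (by
    rw [hmap, K.range_subtype]; exact (Subgroup.centralizer_le_normalizer _).trans hK)
    (by rw [hmap]; exact hP)
  have h2 := map_normalizer_inf_cjStab K.subtype_injective (Q := P.subgroupOf K) e' (by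
    rw [hmap, K.range_subtype]; exact inf_le_left.trans hK)
  rw [hmap] at h1 h2
  refine ⟨e', _, he', h1, fun j => ?_⟩
  rw [← h2, autOf_comp _ _ K.subtype_injective]

/-- Brauer's first main theorem, from the group down. -/
theorem IsDefectGroup.exists_correspondent (hM : IsPModular p M) (hB : IsPBlock M B)
    (hP : IsDefectGroup p M B P) (hK : N(P) ≤ K) :
    ∃ c, Induces M K.subtype c B ∧ IsDefectGroup p M c (P.subgroupOf K) := by
  haveI := hM.charP
  have hPK : P ≤ K := Subgroup.le_normalizer.trans hK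
  have hD := (hB.isDefectGroup_iff hM _).1 hP
  obtain ⟨e, he, heD, h⟩ := (hB.isBlockIdem hM).exists_Br_eq_of_le hD (inf_le_right.trans hK) le_top
  obtain ⟨c, hc, rfl⟩ := hM.exists_block_of_isBlockIdem_sub he
  refine ⟨c, (induces_subtype_iff_Br hM hP.isPGroup hPK
    ((Subgroup.centralizer_le_normalizer _).trans hK) hc heD.br_ne_zero hB).2 ?_,
    (hc.isDefectGroup_subgroupOf_iff hM hPK).2 heD⟩
  rw [h, ← Br_mul hP.isPGroup (fixedBy_anti le_top (hB.isBlockIdem hM).mem.2)
    (fixedBy_anti le_top (hB.isBlockIdem hM).mem.2), hB.blockIdem_mul_self hM]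

/-- Brauer's first main theorem, from the subgroup up. -/
theorem IsDefectGroup.exists_induced (hM : IsPModular p M) {c : Set (IrrCharacter K)}
    (hc : IsPBlock M c) (hP : IsDefectGroup p M c (P.subgroupOf K)) (hK : N(P) ≤ K) :
    ∃ B, Induces M K.subtype c B ∧ IsDefectGroup p M B P := by
  haveI := hM.charP
  have hPK : P ≤ K := Subgroup.le_normalizer.trans hK
  have hD := (hc.isDefectGroup_subgroupOf_iff hM hPK).1 hP
  obtain ⟨e, he, heD, h⟩ := (hc.isBlockIdem_subIdem hM).exists_Br_eq_of_ge hD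
    (inf_le_right.trans hK) le_top
  obtain ⟨B, hB, rfl⟩ := hM.exists_block_of_isBlockIdem he
  refine ⟨B, (induces_subtype_iff_Br hM hD.isPGroup hPK
    ((Subgroup.centralizer_le_normalizer _).trans hK) hc hD.br_ne_zero hB).2 ?_,
    (hB.isDefectGroup_iff hM P).2 heD⟩
  rw [← h, ← Br_mul hD.isPGroup (fixedBy_anti le_top (hB.isBlockIdem hM).mem.2)
    (fixedBy_anti le_top (hB.isBlockIdem hM).mem.2), hB.blockIdem_mul_self hM]

/-- Uniqueness of the Brauer correspondent. -/
theorem Induces.correspondent_unique (hM : IsPModular p M) {c c' : Set (IrrCharacter K)}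
    (hc : Induces M K.subtype c B) (hc' : Induces M K.subtype c' B) (hK : N(P) ≤ K)
    (hP : IsDefectGroup p M B P) (hD : IsDefectGroup p M c (P.subgroupOf K))
    (hD' : IsDefectGroup p M c' (P.subgroupOf K)) : c = c' := by
  haveI := hM.charP
  have hPK : P ≤ K := Subgroup.le_normalizer.trans hK
  have key : ∀ c : Set (IrrCharacter K), Induces M K.subtype c B →
      IsDefectGroup p M c (P.subgroupOf K) → Br P (subIdem M K c) = Br P (blockIdem M B) := by
    intro c hc hD
    have hD1 := (hc.left.isDefectGroup_subgroupOf_iff hM hPK).1 hD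
    obtain ⟨e, he, heD, h⟩ := (hc.left.isBlockIdem_subIdem hM).exists_Br_eq_of_ge hD1
      (inf_le_right.trans hK) le_top
    have h1 := (induces_subtype_iff_Br hM hP.isPGroup hPK
      ((Subgroup.centralizer_le_normalizer _).trans hK) hc.left hD1.br_ne_zero hc.right).1 hc
    rw [← h] at h1 ⊢
    rw [(hc.right.isBlockIdem hM).eq_of_Br_mul_Br_ne_zero he le_rfl hP.isPGroup
      (fixedBy_anti le_top (hc.right.isBlockIdem hM).mem.2) (fixedBy_anti le_top he.mem.2)
      (by rw [h1]; exact heD.br_ne_zero)]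
  refine hc.left.subIdem_inj hc'.left hM ((hc.left.isBlockIdem_subIdem hM).eq_of_Br_eq
    (hc'.left.isBlockIdem_subIdem hM) le_rfl hP.isPGroup hPK
    ((hc.left.isDefectGroup_subgroupOf_iff hM hPK).1 hD).br_ne_zero ?_)
  rw [key c hc hD, key c' hc' hD']

/-- Blocks with cyclic defect group: invariants agree with those of a correspondent. -/
theorem Induces.card_eq_of_isCyclic (hM : IsPModular p M) {c : Set (IrrCharacter K)}
    (hc : Induces M K.subtype c B) (hK : N(P) ≤ K) (hcD : IsDefectGroup p M c (P.subgroupOf K))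
    (hP : IsDefectGroup p M B P) [IsCyclic P] (hP1 : P ≠ ⊥) :
    Nat.card c = Nat.card B ∧ blockRank p c = blockRank p B ∧
      ∃ I ε, IsPerfectIsometry p M c B I ε := by
  letI := Fintype.ofFinite (P.subgroupOf K)
  obtain ⟨e', e, hP', hP, hE⟩ := hc.exists_isMaxPair_both hM hK hcD hP
  let ι := Subgroup.subgroupOfEquivOfLe (Subgroup.le_normalizer.trans hK)
  have hcyc' : IsCyclic (P.subgroupOf K) := isCyclic_of_injective ι.toMonoidHom ι.injective
  have hP1' : P.subgroupOf K ≠ ⊥ := fun h => hP1 (by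
    rw [← Subgroup.card_eq_one, ← Nat.card_congr ι.toEquiv, h, Subgroup.card_bot])
  obtain ⟨S', X', Y', δ', ζ', a', h', -, o', h1', h2'⟩ := hP'.exists_out_cyclic hM hc.left hP1'
    (j := Subgroup.subtype _) (MulEquiv.refl _) (fun _ => rfl)
  rw [hE] at h' o' h1'
  obtain ⟨S, X, Y, δ, ζ, a, h, -, o, h1, h2⟩ := hP.exists_out_cyclic hM hc.right hP1
    (j := (Subgroup.subtype _).comp (Subgroup.subtype _)) ι (fun _ => rfl)
  obtain ⟨I, ε, h3, -⟩ := o.exists_isPerfectIsometry h h2 o' h' h2' (h1'.trans h1.symm)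
  refine ⟨?_, ?_, I, ε, h3⟩
  · rw [o.card_eq, o'.card_eq, h1, h1', o.cardY_eq, o'.cardY_eq]
  · rw [o.rank, o'.rank, h1, h1']

theorem IsDefectGroup.blockHeight_eq_zero_of_isCyclic (hM : IsPModular p M) (hB : IsPBlock M B)
    (hP : IsDefectGroup p M B P) [IsCyclic P] {χ : IrrCharacter G} (hχ : χ ∈ B) :
    blockHeight p B χ.1 = 0 := by
  letI := Fintype.ofFinite P
  haveI := hM.charP
  by_cases hP1 : P = ⊥
  · have h1 := hP.card_eq hB hM
    rw [hP1, Subgroup.card_bot, eq_comm, Nat.pow_eq_one] at h1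
    have h2 := hB.eq_singleton_of_defect_zero hM
      (h1.resolve_left (Fact.out : p.Prime).one_lt.ne') hχ
    obtain ⟨ψ, hψ, h3⟩ := exists_blockHeight_eq_zero (p := p) (hB.nonempty hM)
    have h4 : ψ = χ := by rwa [h2] at hψ
    rwa [h4] at h3
  obtain ⟨e, he⟩ := (hB.isBlockIdem hM).exists_isMaxPair ((hB.isDefectGroup_iff hM _).1 hP)
  obtain ⟨S, X, Y, δ, ζ, a, h, -, o, h1, h2⟩ := he.exists_out_cyclic hM hB hP1
    (j := P.subtype) (MulEquiv.refl _) (fun _ => rfl)
  exact o.blockHeight_eq_zero h h2 hχ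

/-- The McKay conjecture for cyclic Sylow subgroups. -/
theorem card_not_dvd_charDegree_of_isCyclic (P : Sylow p G) [IsCyclic P]
    (hP1 : (P : Subgroup G) ≠ ⊥) {K : Subgroup G}
    (hK : Subgroup.normalizer ((P : Subgroup G) : Set G) = K) :
    Nat.card {χ : IrrCharacter G // ¬ p ∣ charDegree χ.1} = Nat.card (IrrCharacter K) := by
  have hp : p.Prime := Fact.out
  obtain ⟨M, hM⟩ := exists_isPModular_of_prime hp
  have hPK : (P : Subgroup G) ≤ K := hK ▸ Subgroup.le_normalizer
  haveI : ((P : Subgroup G).subgroupOf K).Normal := by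
    subst hK; exact Subgroup.normal_in_normalizer
  have h1 : ∀ c : Blocks K M, IsDefectGroup p M c.1 ((P : Subgroup G).subgroupOf K) := by
    intro c
    obtain ⟨D, hD⟩ := c.2.exists_isDefectGroup hM
    have h2 := hD.le_of_normal c.2 hM (isPGroup_subgroupOf P.isPGroup' K)
    rwa [(P.subtype hPK).is_maximal' hD.isPGroup h2] at hD
  choose Φ hΦ hΦD using fun c : Blocks K M => (h1 c).exists_induced hM c.2 hK.le
  have h2 := hM.sum_blocks_finsum (G := G) fun χ => if p ∣ charDegree χ.1 then 0 else 1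
  have h3 := hM.sum_blocks_finsum (G := K) fun _ => 1
  rw [Finset.sum_const, smul_eq_mul, mul_one, Finset.card_univ, ← Nat.card_eq_fintype_card] at h3
  rw [← h3, Nat.card_eq_fintype_card, Fintype.card_subtype, Finset.card_filter]
  simp only [ite_not]
  rw [← h2]
  symm
  refine Finset.sum_of_injOn (fun c => ⟨Φ c, (hΦ c).right⟩) (fun c _ c' _ h => ?_)
    (fun _ _ => Finset.mem_univ _) (fun B _ hB => ?_) (fun c _ => ?_)
  · have h4 : Φ c = Φ c' := congrArg Subtype.val h
    exact Subtype.ext ((hΦ c).correspondent_unique hM (h4 ▸ hΦ c') hK.le (hΦD c) (h1 c) (h1 c'))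
  · refine finsum_mem_of_eqOn_zero fun χ hχ => if_pos ?_
    by_contra h4
    obtain ⟨c, hc, -⟩ := ((B.2.isDefectGroup_sylow_iff hM P).2 ⟨χ, hχ, h4⟩).exists_correspondent
      hM B.2 hK.le
    exact hB ⟨⟨c, hc.left⟩, by simp, Subtype.ext ((hΦ _).unique hM hc)⟩
  · rw [finsum_one, ← Nat.card_coe_set_eq,
      ((hΦ c).card_eq_of_isCyclic hM hK.le (h1 c) (hΦD c) hP1).1, Nat.card_coe_set_eq,
      ← finsum_one]
    refine finsum_mem_congr rfl fun χ hχ => (if_neg fun h4 => ?_).symm
    have h5 := factorization_charDegree_add_blockDefect (p := p) hχ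
    rw [(hΦD c).blockHeight_eq_zero_of_isCyclic hM (hΦ c).right hχ,
      ((hΦ c).right.blockDefect_eq_iff hM).2 (((hΦ c).right.isDefectGroup_sylow_iff hM P).1
        (hΦD c))] at h5
    have := hp.factorization_pos_of_dvd χ.charDegree_pos.ne' h4
    omega

end Cfsg
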