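import Cfsg.Agent.Blk.FrobGen
import Cfsg.Agent.Blk.Central

/-!
# Blocks of defect one
-/

set_option autoImplicit false
set_option linter.unusedSectionVars false
set_option linter.unusedVariables false
set_option linter.style.haveILetI false

namespace Cfsg

open MonoidAlgebra GA Exc
open scoped ComplexConjugate Classical

universe u v w

variable {G : Type u} [Group G] [Finite G] {p : ℕ} [Fact p.Prime] {M : Ideal AlgInt}
  {B : Set (IrrCharacter G)} {P : Subgroup G}

local notation "C₁(" u ")" => Subgroup.centralizer ({u} : Set _)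
local notation "C(" Q ")" => Subgroup.centralizer ((Q : Subgroup G) : Set G)
local notation "N(" Q ")" => Subgroup.normalizer ((Q : Subgroup G) : Set G)

theorem zpowers_eq_of_card_eq_prime (hP : Nat.card P = p) {u : G} (hu : u ∈ P) (h1 : u ≠ 1) :
    Subgroup.zpowers u = P := by
  have h2 : Subgroup.zpowers u ≤ P := by simpa using hu
  refine Subgroup.eq_of_le_of_card_ge h2 ?_
  have h3 := Subgroup.card_dvd_of_le h2
  rw [hP] at h3 ⊢
  rcases (Nat.dvd_prime Fact.out).1 h3 with h | h
  · exact absurd (by simpa using h) h1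
  · exact h.ge

theorem mem_normalizer_of_card_eq_prime (hP : Nat.card P = p) {u g : G} (hu : u ∈ P) (h1 : u ≠ 1)
    (hg : g * u * g⁻¹ ∈ P) : g ∈ N(P) := by
  refine Subgroup.mem_normalizer_fintype fun x hx => ?_
  rw [← zpowers_eq_of_card_eq_prime hP hu h1] at hx
  obtain ⟨k, rfl⟩ := hx
  simpa using P.zpow_mem hg k

theorem Exc.isFree_of_card_eq_prime {A : Type w} [Group A] [Finite A] (hA : Nat.card A = p)
    (E : Subgroup (MulAut A)) : IsFree E := by
  intro σ _ u hu h
  ext x
  have hx : x ∈ Subgroup.zpowers u := by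
    rw [zpowers_eq_of_card_eq_prime (P := ⊤) (by simpa using hA) trivial hu]; trivial
  obtain ⟨k, rfl⟩ := hx
  simp [h]

theorem sup_centralizer_subgroupOf_eq_top (P : Subgroup G) :
    P.subgroupOf C(P) ⊔ Subgroup.centralizer (P.subgroupOf C(P) : Set C(P)) = ⊤ := by
  refine eq_top_iff.2 fun x _ => Subgroup.mem_sup_right fun y hy => Subtype.ext ?_
  exact x.2 y hy

theorem Induces.isDefectGroup_centralizer (hM : IsPModular p M) {b : Set (IrrCharacter C(P))}
    (hi : Induces M (C(P)).subtype b B) (hPD : IsDefectGroup p M B P) (hab : P ≤ C(P)) :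
    IsDefectGroup p M b (P.subgroupOf C(P)) := by
  haveI := hM.charP
  have hP := hi.isMaxPair hM hPD
  exact (hi.left.isDefectGroup_subgroupOf_iff hM hab).2 (hP.isDefGrp_of_le_centralizer
    (BPLe.refl _ _) hP.pair.isInertial_centralizer hab)

/-- The inertial group is the stabilizer of the canonical character. -/
theorem Induces.mem_cjStab_iff_canonical (hM : IsPModular p M) {b : Set (IrrCharacter C(P))}
    (hi : Induces M (C(P)).subtype b B) (hPD : IsDefectGroup p M B P) (hab : P ≤ C(P))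
    {θ : IrrCharacter C(P)} (hθ : θ ∈ b) (hker : ∀ x : C(P), (x : G) ∈ P → θ x = θ 1) {g : G}
    (hg : g ∈ N(P)) : g ∈ cjStab (subIdem M _ b) ↔
      ∀ c c' : C(P), (c' : G) = g * c * g⁻¹ → θ c' = θ c := by
  have hg' := normalizer_le_normalizer_centralizer' P hg
  have h1 := cjS_of_mem_normalizer hg'
  rw [mem_cjStab, ← subIdem_conjSet h1]
  constructor
  · intro h
    have h2 := (hi.left.conjSet h1).subIdem_inj hi.left hM h
    have h3 : IrrCharacter.comapEquiv (cjEquivOfEq h1) θ ∈ b := by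
      rw [← h2, conjSet_eq_image h1]; exact ⟨θ, hθ, rfl⟩
    have h4 := (hi.isDefectGroup_centralizer hM hPD hab).canonical_unique hM hi.left
      (sup_centralizer_subgroupOf_eq_top P) h3 hθ (fun u hu => ?_) hker
    · intro c c' hc
      rw [← h4]
      conv_rhs => rw [h4]
      exact congrArg θ.1 (Subtype.ext (by simp [coe_cjEquivOfEq, hc, mul_assoc]))
    · change θ (cjEquivOfEq h1 u) = θ (cjEquivOfEq h1 1)
      rw [map_one]
      refine hker _ ?_
      rw [coe_cjEquivOfEq]
      exact (Subgroup.mem_normalizer_iff''.1 hg _).1 hu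
  · intro h
    rw [(hi.left.conjSet h1).eq_of_mem hi.left hM ⟨θ, hθ, h⟩ hθ]

/-- The exceptional system of a block with defect group of order `p`, with explicit values. -/
theorem Induces.exists_out_prime [Fintype P] (hM : IsPModular p M) {b : Set (IrrCharacter C(P))}
    (hi : Induces M (C(P)).subtype b B) (hPD : IsDefectGroup p M B P) (hP : Nat.card P = p)
    {θ : IrrCharacter C(P)} (hθ : θ ∈ b) (hker : ∀ x : C(P), (x : G) ∈ P → θ x = θ 1) :
    ∃ (S : P → G → ℂ) (ε : ℤ), (ε = 1 ∨ ε = -1) ∧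
      ExcSys p M B (autOf P.subtype (N(P) ⊓ cjStab (subIdem M _ b))) S ∧
      (∀ u : P, u ≠ 1 → ∀ y : C(P), IsPRegular p y → S u (u * y) = ε * θ y) ∧
      (∀ (u : P) (g : G), g ∉ pSection p (u : G) → S u g = 0) ∧
      (∀ σ : ℂ →+* ℂ, (∀ z : ℂ, z ^ ordCompl[p] (Nat.card G) = 1 → σ z = z) →
        ∀ u g, σ (S u g) = S u g) ∧
      ∃ X Y δ ζ a, ExcOut p B (autOf P.subtype (N(P) ⊓ cjStab (subIdem M _ b))) S X Y δ 0 ζ a ∧
        Nat.card X = (C(P)).relIndex (N(P) ⊓ cjStab (subIdem M _ b)) ∧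
        ∀ χ ∈ X, a χ = 1 ∨ a χ = -1 := by
  haveI := hM.charP
  haveI : IsCyclic P := isCyclic_of_prime_card hP
  have hP1 : P ≠ ⊥ := fun h => (Fact.out : p.Prime).one_lt.ne (by
    rw [← hP]; exact (Subgroup.card_eq_one.2 h).symm)
  have hab : P ≤ C(P) := Subgroup.le_centralizer P
  have hmax := hi.isMaxPair hM hPD
  obtain ⟨D⟩ := nonempty_frobData hM hi.right hmax hab (hmax.free_of_isCyclic hM)
  obtain ⟨ε, h1, h2, h⟩ := D.exists_excSys hM hP1 (j := P.subtype) (MulEquiv.refl P) fun _ => rfl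
  obtain ⟨u₀, hu₀⟩ := h.nontriv
  have hz : ∀ u : P, u ≠ 1 → Subgroup.zpowers u = ⊤ := fun u hu =>
    zpowers_eq_of_card_eq_prime (by simpa using hP) trivial hu
  have h0 := (hi.isDefectGroup_centralizer hM hPD hab).blockHeight_eq_zero_of_ker hM hi.left
    (sup_centralizer_subgroupOf_eq_top P) hθ hker
  have key : ∀ (K : Subgroup G) (hK : K = C(P)) (b' : Set (IrrCharacter K)) (φ : IBr p M K),
      IsPBlock M b' → subIdem M K b' = subIdem M _ b → IsNilpIn p ⊤ (blockIdem M b') →
      ibrOf p M b' = {φ} → ∀ y : C(P), IsPRegular p y → φ ⟨y, hK.ge y.2⟩ = θ y := by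
    intro K hK b' φ hb' he hn hφ y hy
    subst hK
    obtain rfl := hb'.subIdem_inj hi.left hM he
    obtain ⟨φ', h3, -, h4⟩ := hb'.exists_ibrOf_eq_of_nilp hM hn
      (hi.isDefectGroup_centralizer hM hPD hab)
    obtain rfl : φ' = φ := Set.singleton_injective (h3.symm.trans hφ)
    have := congrFun (h4 θ hθ h0) y
    rw [pRegularPart_of_reg hy] at this
    exact this.symm
  refine ⟨_, ε u₀, h1 u₀, h, fun u hu y hy => ?_, fun u g hg => ?_, fun σ hσ u g => ?_, ?_⟩
  · have hu' : (u : G) ≠ 1 := fun e => hu (Subtype.ext e)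
    have h3 := zpowers_eq_of_card_eq_prime hP u.2 hu'
    have hK : C₁((u : G)) = C(P) := by rw [← centralizer_zpowers_eq, h3]
    have h4 := D.le u
    rw [h3] at h4
    have h5 := key _ hK _ _ (D.hb u) (h4.eq_of_self hmax.pair) (D.isNilpIn hM hu)
      (D.ibrOf_eq hM hu) y hy
    have h6 := D.sec_mul u (y := ⟨y, hK.ge y.2⟩) (by
      simpa [IsPRegular, ← Subgroup.orderOf_coe] using hy)
    simp only [MulEquiv.refl_apply, Pi.smul_apply, smul_eq_mul]
    rw [h2 u u₀ ((hz u hu).trans (hz u₀ hu₀).symm), ← h5, ← h6]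
  · simp [D.sec_of_notMem u hg]
  · simp only [Pi.smul_apply, smul_eq_mul, map_mul, map_intCast, D.ringHom_sec hM σ hσ]
  · obtain ⟨X, Y, δ, ζ, a, o, h3, h4⟩ := h.exists_out_normal (by
      rw [card_autOf_subtype inf_le_left]; exact hmax.relIndex_le_blockRank hM hi.right hP1)
    exact ⟨X, Y, δ, ζ, a, o, h3.trans (card_autOf_subtype inf_le_left), h4⟩

end Cfsg
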