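import Cfsg.Agent.Blk.FrobGen
import Cfsg.Agent.Blk.AlpDade

/-!
# The principal block for cyclic Sylow subgroups
-/

set_option autoImplicit false
set_option linter.unusedSectionVars false
set_option linter.unusedVariables false
set_option linter.style.haveILetI false

namespace Cfsg

open MonoidAlgebra GA Exc
open scoped ComplexConjugate Classical

universe u v w

variable {G : Type u} [Group G] [Finite G] {p : ℕ} [Fact p.Prime] {M : Ideal AlgInt}

local notation "C₁(" u ")" => Subgroup.centralizer ({u} : Set _)
local notation "C(" Q ")" => Subgroup.centralizer ((Q : Subgroup G) : Set G)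
local notation "N(" Q ")" => Subgroup.normalizer ((Q : Subgroup G) : Set G)

theorem isMaxPair_principal (hM : IsPModular p M) (P : Sylow p G) :
    IsMaxPair p (blockIdem M (principalBlock M G)) (P : Subgroup G)
      (subIdem M _ (principalBlock M C(P))) := by
  have h1 := (isPBlock_principalBlock (M := M) (G := C(P))).isBPair hM P.isPGroup'
  exact ⟨⟨isPBlock_principalBlock.isBlockIdem hM, h1, by
    rw [Br_blockIdem_principalBlock hM P.isPGroup']; exact h1.block.idem⟩,
    (isPBlock_principalBlock.isDefectGroup_iff hM _).1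
      ((isDefectGroup_principalBlock_iff hM _).2 ⟨P, rfl⟩)⟩

theorem normalizer_inf_cjStab_principal (hM : IsPModular p M) {Q : Subgroup G}
    (hQ : IsPGroup p Q) : N(Q) ⊓ cjStab (subIdem M _ (principalBlock M C(Q))) = N(Q) := by
  refine inf_eq_left.2 fun g hg => ?_
  rw [mem_cjStab, ← Br_blockIdem_principalBlock hM hQ, cj_Br_of_mem_normalizer hg,
    (isPBlock_principalBlock.isBlockIdem hM).mem.2 g trivial]

theorem free_of_isCyclic_sylow (hM : IsPModular p M) (P : Sylow p G) [IsCyclic P] :
    ∀ y ∈ (P : Subgroup G), y ≠ 1 → C₁(y) ⊓ N(P) ≤ C(P) := by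
  intro y hy h1 g hg
  have := (isMaxPair_principal hM P).free_of_isCyclic hM
  rw [normalizer_inf_cjStab_principal hM P.isPGroup'] at this
  refine this g hg.2 y hy h1 ?_
  rw [Subgroup.mem_centralizer_singleton_iff.1 hg.1, mul_inv_cancel_right]

theorem excSys_principal_cyclic (hM : IsPModular p M) (P : Sylow p G) [Fintype P] [IsCyclic P]
    (hP1 : (P : Subgroup G) ≠ ⊥) :
    ExcSys p M (principalBlock M G) (autOf (P : Subgroup G).subtype N(P))
      (fun u : (P : Subgroup G) => secOne p (u : G)) :=
  excSys_principal hM (Subgroup.le_centralizer _) hP1 (free_of_isCyclic_sylow hM P)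

theorem exists_out_principal_cyclic (hM : IsPModular p M) (P : Sylow p G) [Fintype P]
    [IsCyclic P] (hP1 : (P : Subgroup G) ≠ ⊥) :
    ∃ X Y δ ζ a, ExcOut p (principalBlock M G) (autOf (P : Subgroup G).subtype N(P))
      (fun u : (P : Subgroup G) => secOne p (u : G)) X Y δ 0 ζ a ∧
      Nat.card X = Nat.card (autOf (P : Subgroup G).subtype N(P)) ∧
      ∀ χ ∈ X, a χ = 1 ∨ a χ = -1 := by
  refine (excSys_principal_cyclic hM P hP1).exists_out_normal ?_
  have := (isMaxPair_principal hM P).relIndex_le_blockRank hM isPBlock_principalBlock hP1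
  rwa [normalizer_inf_cjStab_principal hM P.isPGroup', ← card_autOf_subtype le_rfl] at this

end Cfsg
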