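import Cfsg.Agent.Blk.Quot
import Cfsg.Agent.Blk.Pairs
import Cfsg.Agent.GA.Cover

/-!
# Blocks whose defect group is a normal subgroup centralized by the `p`-regular elements; weights
-/

set_option autoImplicit false
set_option linter.unusedSectionVars false
set_option linter.unusedVariables false

namespace Cfsg

open MonoidAlgebra GA

universe u v w

variable {G : Type u} [Group G] [Finite G] {H : Type v} [Group H] [Finite H]
  {p : ℕ} [Fact p.Prime] {M : Ideal AlgInt}

theorem IsDefectGroup.eq_bot_iff {B : Set (IrrCharacter G)} (hB : IsPBlock M B)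
    (hM : IsPModular p M) {D : Subgroup G} (hD : IsDefectGroup p M B D) :
    D = ⊥ ↔ blockDefect p B = 0 := by
  rw [← Subgroup.card_eq_one, hD.card_eq hB hM, Nat.pow_eq_one]
  exact or_iff_right (Fact.out : p.Prime).ne_one

theorem IsDefectGroup.eq_bot_iff_of_mem {B : Set (IrrCharacter G)} (hB : IsPBlock M B)
    (hM : IsPModular p M) {D : Subgroup G} (hD : IsDefectGroup p M B D) {χ : IrrCharacter G}
    (hχ : χ ∈ B) : D = ⊥ ↔ (charDegree χ.1).factorization p = (Nat.card G).factorization p := by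
  rw [hD.eq_bot_iff hB hM]
  refine ⟨fun h => ?_, fun h => (hB.blockDefect_eq_zero_iff hM).2 ⟨χ, hχ, h⟩⟩
  have h1 := hB.eq_singleton_of_defect_zero hM h hχ
  exact IsPBlock.blockDefect_singleton (h1 ▸ hB) hM

/-- Constituents of the restriction of a defect zero character to a normal subgroup have defect
zero. -/
theorem LiesOver.defect_zero (hM : IsPModular p M) {f : H →* G} [hf : IsNormalEmb f]
    {χ : IrrCharacter G} {θ : IrrCharacter H} (h : LiesOver f χ.1 θ.1)
    (h0 : (charDegree χ.1).factorization p = (Nat.card G).factorization p) :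
    (charDegree θ.1).factorization p = (Nat.card H).factorization p := by
  obtain ⟨Q, hQ⟩ := (isPBlock_blockOf (M := M) θ).exists_isDefectGroup hM
  obtain ⟨P, hP, -, h1⟩ := (h.covers_blockOf hM).exists_isDefectGroup_inf hM (isPBlock_blockOf χ)
    (isPBlock_blockOf θ) hQ
  rw [(hP.eq_bot_iff_of_mem (isPBlock_blockOf χ) hM (hM.mem_blockOf_self χ)).2 h0, bot_inf_eq,
    eq_comm, Subgroup.map_eq_bot_iff_of_injective _ hf.injective] at h1
  exact (hQ.eq_bot_iff_of_mem (isPBlock_blockOf θ) hM (hM.mem_blockOf_self θ)).1 h1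

/-- A group with a character of defect zero has no nontrivial normal `p`-subgroup. -/
theorem IrrCharacter.eq_bot_of_defect_zero (hM : IsPModular p M) (χ : IrrCharacter G)
    (h0 : (charDegree χ.1).factorization p = (Nat.card G).factorization p) {R : Subgroup G}
    [R.Normal] (hR : IsPGroup p R) : R = ⊥ := by
  obtain ⟨D, hD⟩ := (isPBlock_blockOf (M := M) χ).exists_isDefectGroup hM
  have := hD.le_of_normal (isPBlock_blockOf χ) hM hR
  rwa [(hD.eq_bot_iff_of_mem (isPBlock_blockOf χ) hM (hM.mem_blockOf_self χ)).2 h0,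
    le_bot_iff] at this

theorem IsPBlock.isDefectGroup_ker_iff {B : Set (IrrCharacter G)} (hB : IsPBlock M B)
    (hM : IsPModular p M) {π : G →* H} (hπ : Function.Surjective π) (hk : IsPGroup p π.ker)
    (hc : ∀ g, IsPRegular p g → g ∈ Subgroup.centralizer (π.ker : Set G)) :
    IsDefectGroup p M B π.ker ↔ ∃ β : IrrCharacter H, β.inflate π hπ ∈ B ∧
      (charDegree β.1).factorization p = (Nat.card H).factorization p := by
  have hb := hB.preimage_inflate_of_centralizer hM hπ hk hc
  have key : ∀ P, IsDefectGroup p M B P →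
      IsDefectGroup p M (IrrCharacter.inflate π hπ ⁻¹' B) (P.map π) := by
    intro P hP
    obtain ⟨b, h1, h2, h3⟩ := hP.exists_block_quotient hM hπ hk hB
    obtain ⟨β, hβ⟩ := h1.nonempty hM
    rwa [h1.eq_of_mem hb hM hβ (h2 hβ)] at h3
  constructor
  · intro h
    obtain ⟨β, hβ⟩ := hb.nonempty hM
    exact ⟨β, hβ, ((key _ h).eq_bot_iff_of_mem hb hM hβ).1 (by simp)⟩
  · rintro ⟨β, hβ, h⟩
    obtain ⟨P, hP⟩ := hB.exists_isDefectGroup hM
    have h1 := ((key _ hP).eq_bot_iff_of_mem hb hM hβ).2 h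
    rw [Subgroup.map_eq_bot_iff] at h1
    rwa [le_antisymm h1 (hP.le_of_normal hB hM hk)] at hP

theorem IsPBlock.isDefectGroup_iff_exists_char {B : Set (IrrCharacter G)} (hB : IsPBlock M B)
    (hM : IsPModular p M) {Z : Subgroup G} [Z.Normal] (hZ : IsPGroup p Z)
    (hc : ∀ g, IsPRegular p g → g ∈ Subgroup.centralizer (Z : Set G)) :
    IsDefectGroup p M B Z ↔ ∃ θ ∈ B, (∀ z ∈ Z, θ.1 z = θ.1 1) ∧
      (charDegree θ.1).factorization p + (Nat.card Z).factorization p =
        (Nat.card G).factorization p := by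
  have hπ := QuotientGroup.mk'_surjective Z
  have hk := QuotientGroup.ker_mk' Z
  have h := hB.isDefectGroup_ker_iff hM hπ (by rwa [hk]) (by rwa [hk])
  have h2 := factorization_card_of_surjective (p := p) hπ
  rw [hk] at h h2
  rw [h, h2]
  constructor
  · rintro ⟨β, h1, h3⟩
    refine ⟨_, h1, fun z hz => ?_, by rw [← h3, add_comm]; exact congrArg (_ + Nat.factorization · p) (charDegree_comp β.1 _)⟩
    have : (QuotientGroup.mk' Z) z = 1 := by rwa [← MonoidHom.mem_ker, hk]
    change β.1 (QuotientGroup.mk' Z z) = β.1 (QuotientGroup.mk' Z 1)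
    rw [this, map_one]
  · rintro ⟨θ, h1, h3, h4⟩
    obtain ⟨β, rfl⟩ := IrrCharacter.exists_inflate_eq _ hπ θ (by rwa [hk])
    rw [show charDegree (β.inflate _ hπ).1 = charDegree β.1 from charDegree_comp β.1 _] at h4
    exact ⟨β, h1, by omega⟩

theorem GA.mem_of_not_dvd_relIndex {K L : Subgroup G} (hL : L ≤ Subgroup.normalizer (K : Set G))
    (h : ¬ p ∣ K.relIndex L) {x : G} (hx : x ∈ L) {n : ℕ} (hxp : x ^ p ^ n = 1) : x ∈ K := by
  have : (K.subgroupOf L).Normal := (Subgroup.normal_subgroupOf_iff_le_normalizer_inf).2 (by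
    exact (le_inf hL Subgroup.le_normalizer).trans (normalizer_inf_le K L))
  have h1 : x ^ K.relIndex L ∈ K := (K.subgroupOf L).pow_index_mem ⟨x, hx⟩
  have h2 : (K.relIndex L).Coprime (orderOf x) :=
    (Nat.Coprime.pow_right n ((Nat.Prime.coprime_iff_not_dvd Fact.out).2 h).symm).coprime_dvd_right
      (orderOf_dvd_of_pow_eq_one hxp)
  obtain ⟨m, hm⟩ := exists_pow_eq_self_of_coprime h2
  exact hm ▸ K.pow_mem h1 m

/-- The canonical character criterion for `Z(Q)` to be a defect group of a block of `C(Q)`. -/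
theorem IsPBlock.isDefGrp_center_iff {Q : Subgroup G} (hQ : IsPGroup p Q)
    {e : Set (IrrCharacter (Subgroup.centralizer (Q : Set G)))} (he : IsPBlock M e)
    (hM : IsPModular p M) :
    IsDefGrp p (Subgroup.centralizer (Q : Set G)) (subIdem M _ e)
      (Q ⊓ Subgroup.centralizer (Q : Set G)) ↔
    ∃ θ ∈ e, (∀ z : Subgroup.centralizer (Q : Set G), (z : G) ∈ Q → θ.1 z = θ.1 1) ∧
      (charDegree θ.1).factorization p +
        (Nat.card ↥(Q ⊓ Subgroup.centralizer (Q : Set G))).factorization p =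
        (Nat.card (Subgroup.centralizer (Q : Set G))).factorization p := by
  have hc : ∀ g : Subgroup.centralizer (Q : Set G), g ∈ Subgroup.centralizer
      ((Q.subgroupOf (Subgroup.centralizer (Q : Set G)) : Subgroup _) : Set _) :=
    fun g z hz => Subtype.ext (g.2 z hz)
  have : (Q.subgroupOf (Subgroup.centralizer (Q : Set G))).Normal :=
    ⟨fun z hz g => by rw [← hc g z hz, mul_inv_cancel_right]; exact hz⟩
  rw [← he.isDefectGroup_subgroupOf_iff hM inf_le_right, Subgroup.inf_subgroupOf_right,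
    he.isDefectGroup_iff_exists_char hM (isPGroup_subgroupOf hQ _) fun g _ => hc g,
    ← Subgroup.inf_subgroupOf_right,
    Nat.card_congr (Subgroup.subgroupOfEquivOfLe inf_le_right).toEquiv,
    Subgroup.inf_subgroupOf_right]
  rfl

end Cfsg
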