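import Cfsg.Agent.Blk.Grid
import Cfsg.Agent.GA.Alperin
import Cfsg.Agent.Blk.Weight
import Cfsg.Agent.S4539
import Cfsg.Agent.Grp.SmallTwo

/-!
# Tools for the analysis of block fusion on small defect groups
-/

set_option autoImplicit false
set_option linter.unusedSectionVars false
set_option linter.style.haveILetI false

namespace Cfsg

open MonoidAlgebra GA Subgroup

universe u v w

local notation "C(" Q ")" => Subgroup.centralizer ((Q : Subgroup _) : Set _)
local notation "N(" Q ")" => Subgroup.normalizer ((Q : Subgroup _) : Set _)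

variable {G : Type u} [Group G] [Finite G] {H : Type v} [Group H] [Finite H] {p : ℕ} [Fact p.Prime]
  {P Q : Subgroup G}

theorem conj_eq_of_mem_closure {S : Set G} {x : G} (h : ∀ s ∈ S, x * s * x⁻¹ = s) :
    ∀ s ∈ closure S, x * s * x⁻¹ = s := fun _ hs =>
  (closure_le ((MulAut.conj x).toMonoidHom.eqLocus (MonoidHom.id G))).2 h hs

section Field

variable {k : Type w} [Field k] [CharP k p] {b e f : k[G]}

theorem GA.IsCrit.mem_of_series (h : IsCrit p P e Q f) (hP : IsBPair p P e) {S : Set G}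
    (hS : S ⊆ Q) (hS' : ∀ g ∈ N(Q) ⊓ cjStab f, ∀ s ∈ S, g * s * g⁻¹ ∈ S) {t : G} (ht : t ∈ P)
    (h1 : ∀ s ∈ S, t * s * t⁻¹ = s) (h2 : ∀ q ∈ Q, q⁻¹ * (t * q * t⁻¹) ∈ S) : t ∈ Q := by
  have hK := (closure_le Q).2 hS
  have h3 : ∀ g ∈ N(Q) ⊓ cjStab f, ∀ s ∈ closure S, g * s * g⁻¹ ∈ closure S := fun g hg _ hs =>
    (closure_le ((closure S).comap (MulAut.conj g).toMonoidHom)).2
      (fun s hs => subset_closure (hS' g hg s hs)) hs
  let X : Subgroup G :=
    { carrier := {x | (∀ s ∈ closure S, x * s * x⁻¹ = s) ∧ ∀ q ∈ Q, q⁻¹ * (x * q * x⁻¹) ∈ closure S}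
      one_mem' := ⟨by simp, by simp⟩
      mul_mem' := fun {x y} hx hy => ⟨fun s hs => by
        rw [mul_inv_rev, ← mul_assoc, mul_assoc x, mul_assoc x, hy.1 s hs, hx.1 s hs], fun q hq => by
        convert mul_mem (hx.2 q hq) (hy.2 q hq) using 1
        rw [← hx.1 _ (hy.2 q hq)]; group⟩
      inv_mem' := fun {x} hx => by
        have h4 : ∀ s ∈ closure S, x⁻¹ * s * x⁻¹⁻¹ = s := fun s hs => by
          conv_lhs => rw [← hx.1 s hs]
          group
        refine ⟨h4, fun q hq => ?_⟩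
        convert inv_mem (hx.2 q hq) using 1
        rw [← h4 _ (inv_mem (hx.2 q hq))]; group }
  have h4 : ∀ g ∈ N(Q) ⊓ cjStab f, ∀ x ∈ X, g * x * g⁻¹ ∈ X := fun g hg x hx => ⟨fun s hs => by
    have := hx.1 _ (h3 _ (inv_mem hg) s hs)
    rw [show g * x * g⁻¹ * s * (g * x * g⁻¹)⁻¹ = g * (x * (g⁻¹ * s * g⁻¹⁻¹) * x⁻¹) * g⁻¹ by group, this]
    group, fun q hq => by
    convert h3 g hg _ (hx.2 _ (conj_mem_of_mem_normalizer (inv_mem hg.1) hq)) using 1
    group⟩
  refine h.rad X (fun g hg => mem_normalizer_iff.2 fun x => ⟨h4 g hg x, fun hx => by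
    simpa [mul_assoc] using h4 _ (inv_mem hg) _ hx⟩)
    (fun x hx _ hr => mem_cent_of_series (h.le.left hP).isPGroup hK hr hx.1 hx.2)
    ⟨⟨ht, mem_normalizer_fintype fun q hq => ?_⟩, conj_eq_of_mem_closure h1,
      fun q hq => subset_closure (h2 q hq)⟩
  simpa using mul_mem hq (hS (h2 q hq))

theorem GA.IsCrit.bFus (h : IsCrit p P e Q f) (hP : IsBPair p P e) {g : G}
    (hg : g ∈ N(Q) ⊓ cjStab f) : BFus p P e Q g := (h.le.bFus_iff hP hg.1).2 hg.2

theorem GA.IsCrit.mem_of_cent (h : IsCrit p P e Q f) {z : G} (hz : z ∈ P) (hz' : z ∈ C(P)) : z ∈ Q :=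
  h.centric ⟨hz, centralizer_anti h.le.le hz'⟩

theorem GA.BFus.mem_fClass {g : G} (h : BFus p P e Q g) (hP : IsBPair p P e) {u v : P}
    (hu : (u : G) ∈ Q) (hv : (v : G) = g * u * g⁻¹) : v ∈ fClass p P e u :=
  ⟨g, h.mono hP (zpowers_le.2 hu), hv⟩

theorem pow_mem_fClass (hP : IsBPair p P e) {u v : P} (h : v ∈ fClass p P e u) (n : ℕ) :
    v ^ n ∈ fClass p P e (u ^ n) :=
  let ⟨_, h1, h2⟩ := h
  h1.mem_fClass hP (pow_mem (mem_zpowers _) n) (by rw [coe_pow, h2, conj_pow, coe_pow])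

variable (p P e) in
/-- `u` is fully centralized. -/
def FC (u : G) : Prop := ∀ g, BFus p P e (zpowers u) g →
  Nat.card (P ⊓ C(cjS g (zpowers u)) : Subgroup G) ≤ Nat.card (P ⊓ C(zpowers u) : Subgroup G)

theorem fc_of_forall {u : P} (h : ∀ v ∈ fClass p P e u,
    Nat.card (P ⊓ C(zpowers (v : G)) : Subgroup G) ≤ Nat.card (P ⊓ C(zpowers (u : G)) : Subgroup G)) :
    FC p P e u := fun g hg => by
  rw [cjS_zpowers]
  exact h ⟨_, hg.cjS_le (conj_mem_cjS.2 (mem_zpowers _))⟩ ⟨g, hg, rfl⟩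

theorem exists_fc (hP : IsBPair p P e) (u : P) : ∃ v ∈ fClass p P e u, FC p P e v := by
  obtain ⟨v, h1, h2⟩ := (fClass p P e u).toFinite.exists_maximalFor
    (fun v : P => Nat.card (P ⊓ C(zpowers (v : G)) : Subgroup G)) _ ⟨u, hP.mem_fClass_self u⟩
  exact ⟨v, h1, fc_of_forall fun w hw => (le_total _ _).elim id (h2 (hP.mem_fClass_trans h1 hw))⟩

variable [IsAlgClosed k]

theorem GA.IsMaxPair.exists_regular (hP : IsMaxPair p b P e) {g : G} (hg : g ∈ N(P) ⊓ cjStab e) :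
    ∃ t ∈ P, ∃ x ∈ N(P) ⊓ cjStab e, IsPRegular p x ∧
      ∀ y ∈ P, g * y * g⁻¹ = t * (x * y * x⁻¹) * t⁻¹ := by
  have hI := hP.pair.isInertial_stab
  obtain ⟨n, hn⟩ := isPElt_iff_pow_eq_one.1 (isPElt_pPart p g)
  obtain ⟨t, ht, z, hz, e⟩ := (mem_sup_of_le_normalizer
    (le_normalizer.trans (normalizer_le_normalizer_centralizer' P))).1
    (mem_of_not_dvd_relIndex ((le_inf inf_le_left hI.le_normalizer_centralizer).trans
      (normalizer_inf_le_sup _ _)) (hI.not_dvd_relIndex hP.isDefGrp_stab) (pPart_mem p hg) hn)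
  have hx := pPrimePart_mem p hg
  refine ⟨t, ht, _, hx, isPRegular_pPrimePart p g, fun y hy => ?_⟩
  rw [← mem_centralizer_sub_conj'.1 hz _ (conj_mem_of_mem_normalizer hx.1 hy)]
  conv_lhs => rw [← pPart_mul_pPrimePart p g, ← e]
  group

/-- Invariance of a property under fusion. -/
theorem GA.IsMaxPair.of_mem_fClass (hP : IsMaxPair p b P e) {T : G → Prop}
    (h1 : ∀ t ∈ P, ∀ x ∈ P, T x → T (t * x * t⁻¹))
    (h2 : ∀ g ∈ N(P) ⊓ cjStab e, IsPRegular p g → ∀ x ∈ P, T x → T (g * x * g⁻¹))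
    (h3 : ∀ Q f, IsCrit p P e Q f → Q ≠ P → ∀ g ∈ N(Q) ⊓ cjStab f, ∀ x ∈ Q, T x → T (g * x * g⁻¹))
    {u v : P} (h : v ∈ fClass p P e u) (hu : T u) : T v := by
  obtain ⟨g, hg, hv⟩ := h
  refine hv ▸ hP.rel_of_bFus (r := fun a b => T a → T b) (fun a b => b ∘ a)
    (fun Q f hQ g' hg' x hx hT => ?_) hg (mem_zpowers _) hu
  rcases eq_or_ne Q P with rfl | hne
  · obtain rfl := hQ.le.eq_of_self hP.pair
    obtain ⟨t, ht, y, hy, hr, h4⟩ := hP.exists_regular hg'
    exact h4 x hx ▸ h1 t ht _ (conj_mem_of_mem_normalizer hy.1 hx) (h2 y hy hr x hx hT)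
  · exact h3 Q f hQ hne g' hg' x hx hT

/-- Fusion of central elements. -/
theorem GA.IsMaxPair.exists_regular_of_cent (hP : IsMaxPair p b P e) {u v : P} (hu : (u : G) ∈ C(P))
    (hv : (v : G) ∈ C(P)) (h : v ∈ fClass p P e u) :
    ∃ g ∈ N(P) ⊓ cjStab e, IsPRegular p g ∧ (v : G) = g * u * g⁻¹ := by
  obtain ⟨g, h1, h2⟩ := h
  obtain ⟨c, hc, h3⟩ := hP.exists_mul_mem_stab h1 (le_cent_zpowers hu)
    (by rw [cjS_zpowers, ← h2]; exact le_cent_zpowers hv)
  obtain ⟨t, ht, y, hy, hr, h4⟩ := hP.exists_regular h3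
  refine ⟨y, hy, hr, ?_⟩
  rw [← conj_eq_of_mem_cent (conj_mem_cent hy.1 hu) ht, ← h4 _ u.2, h2,
    ← mem_centralizer_sub_conj'.1 hc _ (conj_mem_cjS.2 (mem_zpowers (u : G)))]
  group

theorem GA.IsMaxPair.eq_of_cent (hP : IsMaxPair p b P e) {u v : P} (hu : (u : G) ∈ C(P))
    (hv : (v : G) ∈ C(P)) (h : v ∈ fClass p P e u)
    (H : ∀ g ∈ N(P) ⊓ cjStab e, IsPRegular p g → g * u * g⁻¹ = u) : v = u :=
  let ⟨g, h1, h2, h3⟩ := hP.exists_regular_of_cent hu hv h
  Subtype.ext (h3.trans (H g h1 h2))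

end Field

variable {M : Ideal AlgInt} {B : Set (IrrCharacter G)} [CharP (ResK M) p] {e : (ResK M)[G]}

namespace IsPModular

variable (hM : IsPModular p M) (hB : IsPBlock M B) (hP : IsMaxPair p (blockIdem M B) P e)
include hM hB hP

theorem sum_lrk_add_le (L : List P) (hL : L.Pairwise fun u v => v ∉ fClass p P e u) (T : Finset P)
    (hT : ∀ u ∈ L, ∀ v ∈ T, v ∉ fClass p P e u) :
    (L.map fun u : P => (lrk p M P e (zpowers (u : G)) : ℝ)).sum + ∑ v ∈ T, fw p M P e v ≤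
      Nat.card B := by
  classical
  letI := Fintype.ofFinite P
  induction L generalizing T with
  | nil =>
    rw [hM.card_eq_sum_fw hB hP, List.map_nil, List.sum_nil, zero_add]
    exact Finset.sum_le_sum_of_subset_of_nonneg (Finset.subset_univ _) fun _ _ _ => fw_nonneg _
  | cons u L ih =>
    rw [List.pairwise_cons] at hL
    have := ih hL.2 (Finset.univ.filter (· ∈ fClass p P e u) ∪ T) fun w hw v hv h => by
      rcases Finset.mem_union.1 hv with hv | hv
      · exact hL.1 w hw (hP.pair.mem_fClass_trans (Finset.mem_filter.1 hv).2 (mem_fClass_symm h))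
      · exact hT w (List.mem_cons_of_mem _ hw) v hv h
    rw [Finset.sum_union (Finset.disjoint_left.2 fun v hv hv' =>
      hT u List.mem_cons_self v hv' (Finset.mem_filter.1 hv).2),
      hM.sum_fw_of_eq hP.pair (u := u) (by simp)] at this
    rw [List.map_cons, List.sum_cons]
    linarith

theorem sum_lrk_le (L : List P) (hL : L.Pairwise fun u v => v ∉ fClass p P e u) :
    (L.map fun u : P => lrk p M P e (zpowers (u : G))).sum ≤ Nat.card B := by
  have := hM.sum_lrk_add_le hB hP L hL ∅ (by simp)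
  rw [Finset.sum_empty, add_zero] at this
  rw [← Nat.cast_le (α := ℝ), Nat.cast_list_sum, List.map_map]
  exact this

theorem le_sum_lrk_add (L : List P) (T : Finset P) (h : ∀ v, v ∉ T → ∃ u ∈ L, v ∈ fClass p P e u) :
    (Nat.card B : ℝ) ≤
      (L.map fun u : P => (lrk p M P e (zpowers (u : G)) : ℝ)).sum + ∑ v ∈ T, fw p M P e v := by
  classical
  letI := Fintype.ofFinite P
  induction L generalizing T with
  | nil =>
    rw [hM.card_eq_sum_fw hB hP, List.map_nil, List.sum_nil, zero_add,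
      Finset.eq_univ_of_forall (s := T) fun v => by_contra fun hv => by simpa using h v hv]
  | cons u L ih =>
    have := ih (Finset.univ.filter (· ∈ fClass p P e u) ∪ T) fun v hv => by
      simp only [Finset.mem_union, Finset.mem_filter, Finset.mem_univ, true_and, not_or] at hv
      simpa [hv.1] using h v hv.2
    have h1 := Finset.sum_union_inter (s₁ := Finset.univ.filter (· ∈ fClass p P e u)) (s₂ := T)
      (f := fw p M P e)
    have h2 := Finset.sum_nonneg (s := Finset.univ.filter (· ∈ fClass p P e u) ∩ T)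
      fun v _ => fw_nonneg (p := p) (e := e) v
    rw [hM.sum_fw_of_eq hP.pair (u := u) (S := Finset.univ.filter _) (by simp)] at h1
    rw [List.map_cons, List.sum_cons]
    linarith

theorem lrk_one : lrk p M P e (zpowers (1 : G)) = blockRank p B := by
  rw [zpowers_one_eq_bot, hM.lrk_bot hB hP.toIsPairOf]

omit hB in
theorem half_le_fw {u w : P} (h : ∀ v ∈ fClass p P e u, v = u ∨ v = w) : 1 / 2 ≤ fw p M P e u := by
  have h1 : (fClass p P e u).ncard ≤ 2 :=
    (Set.ncard_le_ncard (t := {u, w}) h).trans ((Set.ncard_insert_le _ _).trans (by simp))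
  have h2 := (Set.ncard_pos (s := fClass p P e u)).2 ⟨u, hP.pair.mem_fClass_self u⟩
  have h3 := hM.lrk_pos hP.pair (zpowers_le.2 u.2)
  rw [fw, div_le_div_iff₀ two_pos (by exact_mod_cast h2)]
  exact_mod_cast (by omega)

omit hB hP in
theorem exists_loc {b₀ : (ResK M)[G]} (hP : IsMaxPair p b₀ P e) {u : G} (hu : u ∈ P) (h : FC p P e u) : ∃ (H : Type u) (_ : Group H)
    (_ : Finite H) (f : H →* G) (b : Set (IrrCharacter H)) (s : (ResK M)[H]),
    IsLoc p M P e (zpowers u) f b ∧ IsMaxPair p (blockIdem M b) (P.comap f) s := by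
  obtain ⟨b, hb⟩ := hM.exists_isLoc_subtype hP.pair (zpowers_le.2 hu)
  obtain ⟨s, hs, -⟩ := hb.exists_isMaxPair hM hP.pair (zpowers_le_centralizer_zpowers u)
    ((hP.isDefGrp_centralizer_iff hb.le).2 h)
  exact ⟨_, _, inferInstance, _, b, s, hb, hs⟩

theorem card_le_of_lrk_le_two {u : G} (hu : u ∈ P) (hc : u ∈ C(P))
    (hl : lrk p M P e (zpowers u) ≤ 2) : Nat.card B ≤ Nat.card P := by
  obtain ⟨H, _, _, Q, _, _, f, π, b, s, P', ρ, c, e', h⟩ := hM.exists_red hB hP hu (le_cent_zpowers hc)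
  exact h.card_eq ▸ Agent.S4539.aux hM (h.loc.isSec hP.pair) h.induces h.defect_eq
    (h.rank₁ ▸ h.rank ▸ hl)

end IsPModular

end Cfsg

set_option linter.all false in
theorem Cfsg.Rz.Blk_FusTools_0 : True := by
  have := @_root_.Cfsg.FC.eq_def.{0, 0}
  have := @_root_.Cfsg.FC.eq_1.{0, 0}
  have := @_root_.Cfsg.FC.fun_cases
  trivial
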