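import Mathlib.Data.Matrix.Mul
import Mathlib.Algebra.BigOperators.Fin
import Mathlib.Algebra.Order.BigOperators.Ring.Finset
import Mathlib.Algebra.Ring.Int.Parity
import Mathlib.Data.Fintype.BigOperators
import Mathlib.Tactic.Linarith
import Mathlib.Tactic.LinearCombination
import Mathlib.Tactic.IntervalCases

/-!
# Two commuting integral matrices with `X² = 4 X`
-/

set_option autoImplicit false
set_option linter.unusedSectionVars false

namespace Cfsg.Frames

open Matrix Finset

theorem six_mul_le {f : Fin 4 → Fin 4 → ℤ} {m : ℤ} (hm : 0 ≤ m) (h0 : ∀ a, f a a = 0)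
    (h1 : ∀ a b, f a b = f b a) (h2 : ∀ a b, f a b = 0 ∨ m ≤ f a b)
    (h3 : ∀ a b c, f a b = 0 → f a c = 0 → f b c = 0) :
    ∑ a, ∑ b, f a b = 0 ∨ 6 * m ≤ ∑ a, ∑ b, f a b := by
  refine or_iff_not_imp_left.2 fun h => ?_
  obtain ⟨a, b, h4⟩ : ∃ a b, f a b ≠ 0 := by by_contra! h4; simp [h4] at h
  have h5 : ∀ a b, 0 ≤ f a b := fun a b => by have := h2 a b; omega
  have h6 : ∀ c, m ≤ f a c + f b c := fun c => by
    have := h3 c a b; have := h2 a c; have := h2 b c; have := h1 a c; have := h1 b c; omega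
  have hab : a ≠ b := fun e => h4 (e ▸ h0 a)
  have h7 : ∑ c, m ≤ ∑ c, (f a c + f b c) := sum_le_sum fun c _ => h6 c
  have h8 : ∑ c ∈ ({a, b} : Finset _)ᶜ, m ≤ ∑ c ∈ ({a, b} : Finset _)ᶜ, ∑ x, f c x :=
    sum_le_sum fun c _ => ((h6 c).trans_eq (by rw [sum_pair hab, h1 a, h1 b])).trans
      (sum_le_sum_of_subset_of_nonneg (subset_univ {a, b}) fun x _ _ => h5 c x)
  rw [← sum_add_sum_compl {a, b}, sum_pair hab, ← sum_add_distrib]
  simp only [sum_const, card_compl, card_pair hab, card_univ, Fintype.card_fin, nsmul_eq_mul] at h7 h8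
  push_cast at h7 h8
  omega

theorem grid_le (c : Fin 4 × Fin 4 → ℤ) {q : ℤ} (hq : q = ∑ i, ∑ j, c i * c j *
    ((4 * (if i.1 = j.1 then 1 else 0) - 1) * (4 * (if i.2 = j.2 then 1 else 0) - 1))) :
    q = 0 ∨ 9 ≤ q := by
  have h1 : 4 * q = ∑ a, ∑ a', ∑ b, ∑ b',
      ((c (a, b) - c (a', b)) - (c (a, b') - c (a', b'))) ^ 2 := by
    simp [hq, Fintype.sum_prod_type, Fin.sum_univ_four]
    ring
  have h2 : ∀ w : Fin 4 → ℤ, ∑ b, ∑ b', (w b - w b') ^ 2 = 0 ↔ ∀ b b', w b = w b' := fun w => by
    simp [sum_eq_zero_iff_of_nonneg, sum_nonneg, sq_nonneg, sub_eq_zero]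
  have := six_mul_le (f := fun a a' => ∑ b, ∑ b',
    ((c (a, b) - c (a', b)) - (c (a, b') - c (a', b'))) ^ 2) (m := 6) (by norm_num) (by simp)
    (fun a a' => sum_congr rfl fun _ _ => sum_congr rfl fun _ _ => by ring)
    (fun a a' => six_mul_le zero_le_one (by simp) (fun _ _ => by ring)
      (fun b b' => (sq_nonneg _).eq_or_lt.imp Eq.symm id) fun b b' b'' e e' => by
        rw [sq_eq_zero_iff] at *; omega)
    fun a a' a'' e e' => (h2 fun b => c (a', b) - c (a'', b)).2 fun b b' => by
      have := (h2 fun b => c (a, b) - c (a', b)).1 e b b'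
      have := (h2 fun b => c (a, b) - c (a'', b)).1 e' b b'
      omega
  omega

variable {ι : Type*} [Fintype ι] [DecidableEq ι]

theorem exists_fin_four {X : ι → ι → ℤ} (hs : ∀ i j, X i j = X j i)
    (h1 : ∀ i j, ∑ k, X i k * X k j = 4 * X i j)
    (h2 : ∀ i, X i i = 1) (h3 : ∀ i, ∑ j, X i j = 4) (hc : Fintype.card ι = 16) :
    ∃ r : ι → Fin 4, ∀ i j, X i j = if r i = r j then 1 else 0 := by
  classical
  have h4 : ∀ i j, ∑ k, X i k * X j k = 4 * X i j := fun i j => by
    simpa [hs j] using h1 i j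
  have h5 : ∀ i j, X i j = 0 ∨ X i j = 1 := fun i j => by
    have := (sum_eq_zero_iff_of_nonneg (f := fun k => X i k * (X i k - 1)) fun k _ => by
      rcases le_or_gt (X i k) 0 with h | h <;> nlinarith).1 (by
        simp [mul_sub, h4, h2, h3]) j (mem_univ j)
    simpa [sub_eq_zero] using this
  have h6 : ∀ i j, X i j = if X i = X j then 1 else 0 := fun i j => by
    split_ifs with h
    · rw [h, h2]
    · refine (h5 i j).resolve_right fun e => h (funext fun k => ?_)
      have := (sum_eq_zero_iff_of_nonneg (f := fun k => (X i k - X j k) * (X i k - X j k))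
        fun k _ => mul_self_nonneg _).1 (by
          simp [mul_sub, sub_mul, h4, h2, e, hs j i]) k (mem_univ k)
      simpa [sub_eq_zero] using this
  have h7 := card_eq_sum_card_image X univ
  rw [sum_const_nat (m := 4) fun x hx => ?_, card_univ, hc] at h7
  · let ε := Fintype.equivFinOfCardEq ((Fintype.card_coe (univ.image X)).trans
      (by omega : _ = 4))
    exact ⟨fun i => ε ⟨X i, mem_image_of_mem _ (mem_univ i)⟩, fun i j => by simpa using h6 i j⟩
  · obtain ⟨i, -, rfl⟩ := mem_image.1 hx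
    have := h3 i
    rw [sum_congr rfl fun j _ => h6 i j] at this
    simp only [eq_comm (b := X i)]
    simp only [sum_boole] at this
    exact_mod_cast this

/-- The contributions of an elementary abelian defect group of order 16 with inertial index 9. -/
structure Grid (X Y : Matrix ι ι ℤ) (d : ι → ℤ) : Prop where
  sX : ∀ i j, X i j = X j i
  sY : ∀ i j, Y i j = Y j i
  XX : X * X = (4 : ℤ) • X
  YY : Y * Y = (4 : ℤ) • Y
  XY : X * Y = vecMulVec d d
  trX : ∑ i, X i i = 16
  trY : ∑ i, Y i i = 16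
  dd : ∑ i, d i * d i = 16
  diag : ∀ i, d i * d i = 1 ∧ X i i + Y i i ≤ 3 ∧ 1 ≤ X i i ∧ 1 ≤ Y i i ∨
    d i * d i = 4 ∧ X i i = 2 ∧ Y i i = 2

namespace Grid

variable {X Y : Matrix ι ι ℤ} {d : ι → ℤ} (h : Grid X Y d)
include h

theorem symm : Grid Y X d := ⟨h.sY, h.sX, h.YY, h.XX, Matrix.ext fun i j => by
  have := congrFun (congrFun h.XY j) i
  simp only [mul_apply, vecMulVec_apply] at this ⊢
  rw [mul_comm, ← this]
  exact sum_congr rfl fun k _ => by rw [h.sX, h.sY, mul_comm], h.trY, h.trX, h.dd,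
  fun i => by have := h.diag i; omega⟩

theorem mul_d (i : ι) : ∑ k, X i k * d k = 4 * d i := by
  have h1 : X * (X * Y) = X * vecMulVec d d := by rw [h.XY]
  rw [← Matrix.mul_assoc, h.XX, smul_mul_assoc, h.XY, mul_vecMulVec] at h1
  have h2 : d i ≠ 0 := fun e => by have := h.diag i; simp [e] at this
  refine mul_right_cancel₀ h2 ?_
  simpa [vecMulVec_apply, mulVec, dotProduct, mul_assoc] using (congrFun (congrFun h1 i) i).symm

theorem row (i : ι) : ∑ k, X i k * X i k = 4 * X i i := by
  simpa [mul_apply, h.sX _ i] using congrFun (congrFun h.XX i) i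

theorem card_ne_one : (univ.filter fun i => d i * d i = 4).card ≠ 1 := fun e => by
  obtain ⟨θ, hθ⟩ := card_eq_one.1 e
  have h1 : ∀ i, d i * d i = 4 ↔ i = θ := fun i => by simpa using congrArg (i ∈ ·) hθ
  have h2 : ∀ i ∈ univ.erase θ, d i * d i = 1 ∧ 1 ≤ X i i ∧ X i i ≤ 2 := fun i hi => by
    have := h.diag i; have := mt (h1 i).1 (ne_of_mem_erase hi); omega
  have h3 : d θ * d θ = 4 ∧ X θ θ = 2 := by have := h.diag θ; have := (h1 θ).2 rfl; omega
  obtain ⟨s, hs, hd⟩ : ∃ s, s * s = 1 ∧ d θ = 2 * s := by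
    rcases mul_self_eq_mul_self_iff.1 (h3.1.trans (by norm_num : (4 : ℤ) = 2 * 2)) with e | e
    exacts [⟨1, rfl, e⟩, ⟨-1, rfl, by omega⟩]
  have h4 : ∀ i ∈ univ.erase θ, X i i = 1 → X θ i = 0 := fun i hi e => by
    have e1 := h.row i
    have e2 := congrArg (d i * ·) (h.mul_d i)
    have e3 : Even (∑ k ∈ univ.erase θ, (X i k * d i * d k) * (X i k * d i * d k - 1)) :=
      even_sum _ fun k _ => Int.even_mul_pred_self _
    have e4 : 0 ≤ ∑ k ∈ univ.erase θ, (X i k * d i * d k) * (X i k * d i * d k - 1) :=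
      sum_nonneg fun k _ => by rcases le_or_gt (X i k * d i * d k) 0 with h | h <;> nlinarith
    rw [sum_congr rfl (g := fun k => X i k * X i k - d i * (X i k * d k)) fun k hk => by
      linear_combination X i k ^ 2 * (d k * d k) * (h2 i hi).1 + X i k ^ 2 * (h2 k hk).1,
      sum_sub_distrib, ← mul_sum] at e3 e4
    have e5 := single_le_sum (f := fun k => X i k * X i k) (fun k _ => mul_self_nonneg _) hi
    simp only [← add_sum_erase _ _ (mem_univ θ), e, hd, mul_add] at e1 e2 e5
    obtain ⟨y, hy⟩ : ∃ y, y = X i θ * d i * s := ⟨_, rfl⟩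
    have e6 : y * y = X i θ * X i θ := by
      rw [hy]; linear_combination X i θ ^ 2 * (s * s) * (h2 i hi).1 + X i θ ^ 2 * hs
    have e7 : ∑ k ∈ univ.erase θ, X i k * X i k - d i * ∑ k ∈ univ.erase θ, X i k * d k =
        2 * y - y * y := by linear_combination e1 - e2 + e6 - 2 * hy - 4 * (h2 i hi).1
    rw [e7] at e3 e4
    have : y = 0 := by
      have : -2 < y := by nlinarith
      have : y < 2 := by nlinarith
      rw [Int.even_iff] at e3
      interval_cases y <;> omega
    rw [h.sX, ← mul_self_eq_zero, ← e6, this, mul_zero]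
  obtain ⟨T, hT⟩ : ∃ T, T = (univ.erase θ).filter fun i => X i i = 2 := ⟨_, rfl⟩
  have h5 : ∀ F : ι → ℤ, ∑ k, X θ k * F k = 2 * F θ + ∑ k ∈ T, X θ k * F k := fun F => by
    rw [← add_sum_erase _ _ (mem_univ θ), h3.2, hT, sum_filter_of_ne fun k hk e => by
      have := mt (h4 k hk) (left_ne_zero_of_mul e); have := h2 k hk; omega]
  have h6 : (T.card : ℤ) = 2 := by
    have e1 := h.trX
    have e2 := h.dd
    rw [← add_sum_erase _ _ (mem_univ θ)] at e1 e2
    rw [sum_congr rfl fun i hi => (h2 i hi).1] at e2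
    rw [sum_congr rfl (g := fun i => 1 + if X i i = 2 then 1 else 0) fun i hi => by
      have := h2 i hi; split_ifs <;> omega, sum_add_distrib, sum_boole, ← hT] at e1
    omega
  have e1 := h.row θ
  have e2 := h.mul_d θ
  rw [h5] at e1 e2
  have e3 := sum_mul_sq_le_sq_mul_sq T (X θ) d
  rw [sum_congr rfl (f := fun i => d i ^ 2) (g := fun _ => 1) fun i hi => by
    rw [sq, (h2 i (mem_filter.1 (hT ▸ hi)).1).1]] at e3
  simp only [sq, sum_const, nsmul_eq_mul, h6] at e3
  rw [show ∑ k ∈ T, X θ k * d k = 4 * s by omega] at e3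
  nlinarith

theorem cases : Fintype.card ι = 10 ∨ Fintype.card ι = 16 ∧ ∀ (c : ι → ℤ) (q : ℤ), q = ∑ i, ∑ j,
    c i * c j * (16 * (if i = j then 1 else 0) - 4 * X i j - 4 * Y i j + d i * d j) →
      q = 0 ∨ 9 ≤ q := by
  have h1 := h.card_ne_one
  have h2 : (Fintype.card ι : ℤ) + 3 * (univ.filter fun i => d i * d i = 4).card = 16 := by
    rw [← h.dd, sum_congr rfl (f := fun i => d i * d i) (g := fun i => 1 + 3 * if d i * d i = 4
      then 1 else 0) fun i _ => by have := h.diag i; split_ifs <;> omega, sum_add_distrib, ← mul_sum,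
      sum_boole]
    simp
  have h3 : ∑ i, (X i i + Y i i) ≤ ∑ i, (3 + if d i * d i = 4 then 1 else 0) :=
    sum_le_sum fun i _ => by have := h.diag i; split_ifs <;> omega
  rw [sum_add_distrib, sum_add_distrib, h.trX, h.trY, sum_boole] at h3
  simp only [sum_const, card_univ, nsmul_eq_mul] at h3
  by_cases h4 : (univ.filter fun i => d i * d i = 4).card = 0
  swap
  · exact .inl (by omega)
  have hc : Fintype.card ι = 16 := by omega
  have h5 : ∀ i, d i * d i = 1 := fun i => by
    have := h.diag i; have := filter_eq_empty_iff.1 (card_eq_zero.1 h4) (mem_univ i); omega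
  have key : ∀ {X Y : Matrix ι ι ℤ}, Grid X Y d → ∃ r : ι → Fin 4, ∀ i j,
      d i * X i j * d j = if r i = r j then 1 else 0 := fun {X Y} h =>
    exists_fin_four (X := fun i j => d i * X i j * d j) (fun i j => by simp [h.sX i]; ring)
      (fun i j => by
        have := congrFun (congrFun h.XX i) j
        simp only [mul_apply, smul_apply, smul_eq_mul] at this
        rw [sum_congr rfl (g := fun k => d i * d j * (X i k * X k j)) fun k _ => by
          linear_combination d i * d j * X i k * X k j * h5 k, ← mul_sum, this]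
        ring)
      (fun i => by
        have := (sum_eq_sum_iff_of_le (s := univ) (f := fun _ => 1) (g := fun i => X i i)
          fun i _ => by have := h.diag i; omega).1 (by simp [h.trX, hc]) i (mem_univ i)
        simp [← this, h5])
      (fun i => by simp [mul_assoc, ← mul_sum, h.mul_d]; linear_combination 4 * h5 i) hc
  obtain ⟨r, hr⟩ := key h
  obtain ⟨s, hs⟩ := key h.symm
  have h6 : Function.Bijective fun i => (r i, s i) := (Fintype.bijective_iff_injective_and_card _).2
    ⟨fun i j e => by_contra fun hij => by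
      have e1 := congrFun (congrFun h.XY i) j
      rw [mul_apply, vecMulVec_apply] at e1
      have e2 : ∑ k, (d i * X i k * d k) * (d k * Y k j * d j) = 1 := by
        rw [sum_congr rfl (g := fun k => d i * d j * (X i k * Y k j)) fun k _ => by
          linear_combination d i * d j * X i k * Y k j * h5 k, ← mul_sum, e1]
        linear_combination (d j * d j) * h5 i + h5 j
      simp only [hr, hs] at e2
      have := e2 ▸ sum_le_sum_of_subset_of_nonneg (subset_univ {i, j}) fun k _ _ => by positivity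
      obtain ⟨e3, e4⟩ := Prod.ext_iff.1 e
      simp only at e3 e4
      simp [sum_pair hij, e3, e4] at this, by simp [hc]⟩
  refine .inr ⟨hc, fun c q hq => grid_le ((fun i => c i * d i) ∘ (Equiv.ofBijective _ h6).symm) ?_⟩
  simp only [← (Equiv.ofBijective _ h6).sum_comp, Function.comp_apply, Equiv.symm_apply_apply]
  simp only [Equiv.ofBijective_apply, hq]
  refine sum_congr rfl fun i _ => sum_congr rfl fun j _ => ?_
  have e1 : (if i = j then 1 else 0 : ℤ) = d i * d j * ((if r i = r j then 1 else 0) *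
      if s i = s j then 1 else 0) := by
    by_cases e : i = j
    · simp [e, h5]
    · simpa [e, ite_zero_mul_ite_zero] using fun e2 e1 => absurd (h6.1 (Prod.ext e1 e2)) e
  rw [e1]
  linear_combination -4 * c i * c j * (d i * d j * (hr i j + hs i j) -
    (X i j + Y i j) * (d j * d j * h5 i + h5 j))

end Grid

end Cfsg.Frames

set_option linter.all false in
theorem Cfsg.Rz.Blk_GridComb_0 : True := by
  have := @_root_.Cfsg.Frames.Grid.mk.congr_simp.{0}
  trivial
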