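import Cfsg.Agent.Blk.Nine
import Cfsg.Agent.Blk.FrobTwo
import Cfsg.Agent.Blk.Sixteen
import Mathlib.LinearAlgebra.Matrix.GeneralLinearGroup.Card

/-!
# Coprime automorphism groups of small abelian groups
-/

set_option autoImplicit false
set_option linter.unusedSectionVars false
set_option linter.style.haveILetI false

namespace Cfsg

open Subgroup Exc MulAction

universe u

theorem mem_zpowers_of_card_dvd {K : Type u} [Group K] [Finite K] {q m : ℕ} [hq : Fact q.Prime]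
    (hK : Nat.card K ∣ q * m) (hm : ¬ q ∣ m) (h : ∀ d, d ∣ m → d % q = 1 → d = 1) {σ τ : K}
    (hσ : orderOf σ = q) (hτ : orderOf τ = q) : τ ∈ zpowers σ := by
  have h1 : ∀ x : K, orderOf x = q → (zpowers x).index ∣ m := fun x hx => by
    rwa [← (zpowers x).card_mul_index, Nat.card_zpowers, hx, Nat.mul_dvd_mul_iff_left hq.out.pos] at hK
  have h2 := fun (x : K) (hx : orderOf x = q) => IsPGroup.of_card (G := zpowers x) (n := 1)
    (by rw [Nat.card_zpowers, hx, pow_one])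
  let S := fun (x : K) (hx : orderOf x = q) => (h2 x hx).toSylow fun e => hm (e.trans (h1 x hx))
  have h3 := h _ ((S σ hσ).card_dvd_index.trans (h1 σ hσ))
    (Eq.trans (card_sylow_modEq_one q K) (Nat.mod_eq_of_lt hq.out.one_lt))
  haveI := (Nat.card_eq_one_iff_unique.1 h3).1
  exact (show zpowers τ = zpowers σ from congrArg Sylow.toSubgroup
    (Subsingleton.elim (S τ hτ) (S σ hσ))) ▸ mem_zpowers τ

theorem mem_zpowers_of_seven {K : Type u} [Group K] [Finite K] (hK : Nat.card K ∣ 315) {σ τ : K}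
    (hσ : orderOf σ = 7) (hτ : orderOf τ = 7) : τ ∈ zpowers σ := by
  haveI : Fact (Nat.Prime 5) := ⟨by norm_num⟩
  haveI : Fact (Nat.Prime 7) := ⟨by norm_num⟩
  obtain ⟨P⟩ : Nonempty (Sylow 5 K) := inferInstance
  haveI : IsCyclic P := by
    obtain ⟨n, hn⟩ := P.2.exists_card_eq
    refine isCyclic_of_card_dvd_prime (p := 5) (Nat.Coprime.dvd_of_dvd_mul_right (k := Nat.card P)
      (n := 63) (hn ▸ .pow_left _ (by norm_num)) ((card_subgroup_dvd_card _).trans hK))
  obtain ⟨P, N, _, hN⟩ := hasNormalPComplement_of_isCyclic P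
    (.coprime_dvd_left hK (by norm_num))
  have h1 : ∀ x : K, orderOf x = 7 → x ∈ N := fun x hx => by
    obtain ⟨n, hn⟩ := P.2.exists_card_eq
    rw [← QuotientGroup.eq_one_iff, ← orderOf_eq_one_iff]
    refine Nat.eq_one_of_dvd_coprimes (a := 7) (b := 5 ^ n) (.pow_right _ (by norm_num))
      (hx ▸ orderOf_map_dvd (QuotientGroup.mk' N) x) ?_
    rw [← hn, ← hN.symm.index_eq_card]
    exact orderOf_dvd_natCard _
  have h2 : Nat.card N ∣ 7 * 9 := Nat.Coprime.dvd_of_dvd_mul_left (m := 5) (by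
    rw [← hN.index_eq_card]
    exact ((Nat.Prime.coprime_iff_not_dvd Fact.out).2 P.not_dvd_index).symm)
    ((card_subgroup_dvd_card _).trans hK)
  obtain ⟨k, hk⟩ := mem_zpowers_of_card_dvd h2 (by norm_num) (fun d hd h => by
    have := Nat.le_of_dvd (by norm_num) hd
    interval_cases d <;> simp_all) (σ := ⟨σ, h1 σ hσ⟩) (τ := ⟨τ, h1 τ hτ⟩)
    (by rw [← orderOf_coe, hσ]) (by rw [← orderOf_coe, hτ])
  exact ⟨k, congrArg Subtype.val hk⟩

theorem conj_eq_of_coprime_totient {K : Type u} [Group K] [Finite K] {x a : K}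
    (h : x * a * x⁻¹ ∈ zpowers a) (hc : (orderOf x).Coprime (orderOf a).totient) :
    x * a * x⁻¹ = a := by
  have hn : x ∈ normalizer ((zpowers a : Subgroup K) : Set K) :=
    mem_normalizer_of_forall_conj_mem fun y ⟨k, hk⟩ => by
      rw [← hk, ← conj_zpow]; exact zpow_mem h k
  have h1 : (zpowers a).normalizerMonoidHom ⟨x, hn⟩ = 1 := orderOf_eq_one_iff.1
    (Nat.eq_one_of_dvd_coprimes hc ((orderOf_map_dvd _ _).trans (by rw [← orderOf_coe]))
      ((_root_.orderOf_dvd_natCard _).trans (by rw [IsCyclic.card_mulAut, Nat.card_zpowers])))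
  exact congrArg (fun σ : MulAut (zpowers a) => (σ ⟨a, mem_zpowers a⟩ : K)) h1

theorem card_two_cases {K : Type u} [Group K] [Finite K] (hK : IsPGroup 2 K) (h : Nat.card K ≤ 64) :
    Nat.card K = 1 ∨ Nat.card K = 2 ∨ Nat.card K = 4 ∨ Nat.card K = 8 ∨ Nat.card K = 16 ∨
      Nat.card K = 32 ∨ Nat.card K = 64 := by
  obtain ⟨n, hn⟩ := hK.exists_card_eq
  have : n ≤ 6 := (Nat.pow_le_pow_iff_right one_lt_two).1 (hn ▸ h)
  interval_cases n <;> simp [hn]

theorem card_three_cases {K : Type u} [Group K] [Finite K] (hK : IsPGroup 3 K) (h : Nat.card K ≤ 27) :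
    Nat.card K = 1 ∨ Nat.card K = 3 ∨ Nat.card K = 9 ∨ Nat.card K = 27 := by
  haveI : Fact (Nat.Prime 3) := ⟨by norm_num⟩
  obtain ⟨n, hn⟩ := hK.exists_card_eq
  have : n ≤ 3 := (Nat.pow_le_pow_iff_right (by norm_num : 1 < 3)).1 (hn ▸ h)
  interval_cases n <;> simp [hn]

theorem card_autFix_lt {K : Type u} [Group K] [Finite K] {σ : MulAut K} (h : σ ≠ 1) :
    Nat.card (autFix σ) < Nat.card K := lt_of_le_of_ne (card_le_card_group _) fun e =>
  h (MulEquiv.ext fun x => ((card_eq_iff_eq_top _).1 e ▸ mem_top x : x ∈ autFix σ))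

theorem card_modEq_of_orderOf {K : Type u} [Group K] [Finite K] {σ : MulAut K} {q : ℕ} (hq : q.Prime)
    (hσ : orderOf σ = q) {U : Subgroup K} (hU : ∀ u ∈ U, σ u ∈ U) :
    Nat.card U % q = Nat.card (U ⊓ autFix σ : Subgroup K) % q :=
  haveI := Fact.mk hq
  card_inf_autFix_modEq (n := 1) (by rw [pow_one, ← hσ, pow_orderOf_eq_one]) hU

theorem card_modEq_of_orderOf' {K : Type u} [Group K] [Finite K] {σ : MulAut K} {q : ℕ} (hq : q.Prime)
    (hσ : orderOf σ = q) : Nat.card K % q = Nat.card (autFix σ) % q ∧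
      Nat.card (autFix σ) < Nat.card K := by
  have := card_modEq_of_orderOf hq hσ (U := ⊤) fun _ _ => trivial
  rw [card_top, top_inf_eq] at this
  exact ⟨this, card_autFix_lt fun e => hq.ne_one (by rw [← hσ, e, orderOf_one])⟩

variable {A : Type u} [CommGroup A] [Finite A] {p : ℕ} [hp : Fact p.Prime]
  {J : Subgroup (MulAut A)} {W : Subgroup A}

/-- `J` is a `p'`-group acting faithfully on the elementary abelian subgroup `W`. -/
structure Faith (p : ℕ) (J : Subgroup (MulAut A)) (W : Subgroup A) : Prop where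
  inv : ∀ σ ∈ J, ∀ w ∈ W, σ w ∈ W
  faith : ∀ σ ∈ J, (∀ w ∈ W, σ w = w) → σ = 1
  exp : ∀ w ∈ W, w ^ p = 1
  cop : ¬ p ∣ Nat.card J

theorem faith_ker (hA : IsPGroup p A) (hJ : ¬ p ∣ Nat.card J) :
    Faith p J (powMonoidHom p : A →* A).ker :=
  ⟨fun σ _ w hw => (map_pow σ w p).symm.trans (by rw [show w ^ p = 1 from hw, map_one]),
    fun σ hσ h => aut_eq_one_of_fix_omega hA mul_comm hJ
      (congrArg Subtype.val (pow_card_eq_one' (x := (⟨σ, hσ⟩ : J)))) h, fun _ h => h, hJ⟩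

namespace Faith

variable (h : Faith p J W)
include h

theorem mono {J' : Subgroup (MulAut A)} (hJ : J' ≤ J) : Faith p J' W :=
  ⟨fun σ hσ => h.inv σ (hJ hσ), fun σ hσ => h.faith σ (hJ hσ), h.exp,
    fun e => h.cop (e.trans (card_dvd_of_le hJ))⟩

theorem exists_card : ∃ r, Nat.card W = p ^ r :=
  IsPGroup.exists_card_eq fun w => ⟨1, Subtype.ext (by simpa using h.exp w w.2)⟩

theorem card_dvd {r : ℕ} (hr : Nat.card W = p ^ r) :
    Nat.card J ∣ ∏ i : Fin r, (p ^ r - p ^ (i : ℕ)) := by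
  letI : Module (ZMod p) (Additive W) := AddCommGroup.zmodModule (n := p) fun x =>
    Additive.toMul.injective (Subtype.ext (h.exp _ x.toMul.2))
  let φ : J →* Module.End (ZMod p) (Additive W) :=
    { toFun := fun σ => (MonoidHom.toAdditive (((σ.1 : A →* A).comp W.subtype).codRestrict W
        fun w => h.inv σ σ.2 w w.2)).toZModLinearMap p
      map_one' := LinearMap.ext fun x => rfl
      map_mul' := fun g h => LinearMap.ext fun x => rfl }
  let b := Module.finBasis (ZMod p) (Additive W)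
  have h1 : Module.finrank (ZMod p) (Additive W) = r := by
    have := Module.natCard_eq_pow_finrank (K := ZMod p) (V := Additive W)
    rw [Nat.card_zmod, show Nat.card (Additive W) = Nat.card W from rfl, hr] at this
    exact (Nat.pow_right_injective hp.out.two_le this).symm
  have := card_dvd_of_injective ((LinearMap.toMatrixAlgEquiv b).toMonoidHom.comp φ).toHomUnits
    ((injective_iff_map_eq_one _).2 fun σ e => Subtype.ext (h.faith σ σ.2 fun w hw => by
      have : φ σ = 1 := (LinearMap.toMatrixAlgEquiv b).injective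
        ((congrArg Units.val e).trans (map_one _).symm)
      exact congrArg (fun z : Additive W => (z.toMul : A)) (LinearMap.congr_fun this (.ofMul ⟨w, hw⟩))))
  rwa [Matrix.card_GL_field, ZMod.card, h1] at this

theorem exists_compl : ∃ ν : A →* A, Faith p J (W ⊓ ν.ker) ∧
    (∀ a, (∀ σ ∈ J, σ a = a) → ν a = a ^ Nat.card J) ∧
    (∀ τ ∈ normalizer (J : Set (MulAut A)), ∀ a, ν (τ a) = τ (ν a)) ∧
    ∀ t ∈ W, t ≠ 1 → (∀ σ ∈ J, σ t = t) → p * Nat.card (W ⊓ ν.ker : Subgroup A) ≤ Nat.card W := by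
  classical
  letI := Fintype.ofFinite J
  obtain ⟨ν, hν⟩ : ∃ ν : A →* A, ∀ a, ν a = ∏ σ : J, σ.1 a :=
    ⟨∏ σ : J, (σ.1 : A →* A), fun a => MonoidHom.finset_prod_apply _ _ _⟩
  have h1 : ∀ a, (∀ σ ∈ J, σ a = a) → ν a = a ^ Nat.card J := fun a ha => by
    rw [hν, Finset.prod_congr rfl fun σ _ => ha σ.1 σ.2, Finset.prod_const, Finset.card_univ,
      Nat.card_eq_fintype_card]
  have h2 : ∀ τ ∈ normalizer (J : Set (MulAut A)), ∀ a, ν (τ a) = τ (ν a) := fun τ hτ a => by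
    rw [hν, hν, map_prod]
    exact (Fintype.prod_equiv (J.normalizerMonoidHom ⟨τ, hτ⟩).toEquiv _ _ fun σ => by simp).symm
  have h3 : ∀ σ ∈ J, ∀ a, ν (σ a) = ν a := fun σ hσ a => by
    rw [hν, hν]
    exact Fintype.prod_equiv (Equiv.mulRight (⟨σ, hσ⟩ : J)) _ _ fun _ => rfl
  have h4 : ∀ w ∈ W, w ^ Nat.card J = 1 → w = 1 := fun w hw e => orderOf_eq_one_iff.1
    (Nat.eq_one_of_dvd_coprimes ((Nat.Prime.coprime_iff_not_dvd hp.out).2 h.cop)
      (orderOf_dvd_of_pow_eq_one (h.exp w hw)) (orderOf_dvd_of_pow_eq_one e))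
  refine ⟨ν, ⟨fun σ hσ w hw => ⟨h.inv σ hσ w hw.1, (h3 σ hσ w).trans hw.2⟩,
    fun σ hσ e => h.faith σ hσ fun w hw => ?_, fun w hw => h.exp w hw.1, h.cop⟩, h1, h2,
    fun t ht ht1 ht2 => ?_⟩
  · have h5 : ∀ τ ∈ J, τ (ν w) = ν w := fun τ hτ => (h2 τ (le_normalizer hτ) w).symm.trans (h3 τ hτ w)
    have h6 := e ((ν w)⁻¹ * w ^ Nat.card J) ⟨mul_mem (W.inv_mem (by
      rw [hν]; exact W.prod_mem fun τ _ => h.inv τ τ.2 w hw)) (pow_mem hw _), by simp [h1 _ h5]⟩
    rw [map_mul, map_inv, h5 σ hσ, mul_left_cancel_iff, map_pow] at h6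
    rw [← mul_inv_eq_one]
    exact h4 _ (mul_mem (h.inv σ hσ w hw) (inv_mem hw)) (by rw [mul_pow, h6]; simp)
  · obtain ⟨r, hr⟩ := h.exists_card
    have h5 : W ⊓ ν.ker < W := inf_le_left.lt_of_ne fun e => ht1
      (h4 t ht ((h1 t ht2).symm.trans (e.ge ht).2))
    obtain ⟨k, hk, e⟩ := (Nat.dvd_prime_pow hp.out).1 (hr ▸ card_dvd_of_le h5.le)
    rw [e, hr, ← pow_succ']
    refine Nat.pow_le_pow_right hp.out.pos (hk.lt_of_ne fun e' => h5.ne ?_)
    exact eq_of_le_of_card_ge h5.le (by rw [e, hr, e'])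

theorem exists_compl' {t : A} (ht : t ∈ W) (h1 : t ≠ 1) (h2 : ∀ σ ∈ J, σ t = t) :
    ∃ W', Faith p J W' ∧ p * Nat.card W' ≤ Nat.card W :=
  let ⟨_, h3, _, _, h4⟩ := h.exists_compl
  ⟨_, h3, h4 t ht h1 h2⟩

theorem card_dvd' {n m : ℕ} (hn : Nat.card W < p ^ (n + 1))
    (H : ∀ r ≤ n, ∃ a, ∏ i : Fin r, (p ^ r - p ^ (i : ℕ)) ∣ p ^ a * m) : Nat.card J ∣ m := by
  obtain ⟨r, hr⟩ := h.exists_card
  obtain ⟨a, ha⟩ := H r (Nat.lt_succ_iff.1 ((Nat.pow_lt_pow_iff_right hp.out.one_lt).1 (hr ▸ hn)))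
  exact (((Nat.Prime.coprime_iff_not_dvd hp.out).2 h.cop).symm.pow_right a).dvd_of_dvd_mul_left
    ((h.card_dvd hr).trans ha)

end Faith

theorem Faith.dvd_three (h : Faith 2 J W) (hW : Nat.card W ≤ 4) : Nat.card J ∣ 3 :=
  h.card_dvd' (n := 2) (by omega) fun r hr => ⟨1, by interval_cases r <;> decide⟩

theorem Faith.dvd_21 (h : Faith 2 J W) (hW : Nat.card W ≤ 8) : Nat.card J ∣ 21 :=
  h.card_dvd' (n := 3) (by omega) fun r hr => ⟨3, by interval_cases r <;> decide⟩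

theorem Faith.dvd_315 (h : Faith 2 J W) (hW : Nat.card W ≤ 16) : Nat.card J ∣ 315 :=
  h.card_dvd' (n := 4) (by omega) fun r hr => ⟨6, by interval_cases r <;> decide⟩

theorem Faith.dvd_two (h : Faith 3 J W) (hW : Nat.card W ≤ 3) : Nat.card J ∣ 2 :=
  haveI : Fact (Nat.Prime 3) := ⟨by norm_num⟩
  h.card_dvd' (n := 1) (by omega) fun r hr => ⟨0, by interval_cases r <;> decide⟩

theorem Faith.dvd_416 (h : Faith 3 J W) (hW : Nat.card W ≤ 27) : Nat.card J ∣ 13 * 32 :=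
  haveI : Fact (Nat.Prime 3) := ⟨by norm_num⟩
  h.card_dvd' (n := 3) (by omega) fun r hr => ⟨3, by interval_cases r <;> decide⟩

theorem Faith.mem_zpowers (h : Faith 2 J W) (hW : Nat.card W ≤ 16) {σ τ : MulAut A} (hσ : σ ∈ J)
    (hτ : τ ∈ J) (h1 : orderOf σ = 7) (h2 : orderOf τ = 7) : τ ∈ zpowers σ := by
  obtain ⟨k, hk⟩ := mem_zpowers_of_seven (h.dvd_315 hW) (σ := ⟨σ, hσ⟩) (τ := ⟨τ, hτ⟩)
    (by rw [← orderOf_coe, h1]) (by rw [← orderOf_coe, h2])
  exact ⟨k, congrArg Subtype.val hk⟩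

theorem exists_orderOf_eq {K : Type u} [Group K] [Finite K] {L : Subgroup K} (q : ℕ) (hq : q.Prime)
    (h : q ∣ Nat.card L) : ∃ σ ∈ L, orderOf σ = q :=
  haveI := Fact.mk hq
  let ⟨σ, hσ⟩ := exists_prime_orderOf_dvd_card' q h
  ⟨σ, σ.2, (orderOf_coe σ).trans hσ⟩

theorem zpowers_le_stabilizer {σ : MulAut A} {a : A} (h : σ a = a) :
    ∀ τ ∈ zpowers σ, τ a = a := fun _ hτ => (zpowers_le (H := stabilizer (MulAut A) a)).2 h hτ

theorem card_ker_le (z : A) :
    Nat.card (powMonoidHom p : A →* A).ker ≤ p * (zpowers z).index := by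
  rw [← card_mul_relIndex (inf_le_right (a := zpowers z)), inf_relIndex_right]
  refine Nat.mul_le_mul (Nat.le_of_dvd hp.out.pos ?_) (Nat.le_of_dvd
    (Nat.pos_of_ne_zero index_ne_zero_of_finite) (relIndex_dvd_index_of_normal _ _))
  haveI := isCyclic_of_le (inf_le_left (a := zpowers z) (b := (powMonoidHom p : A →* A).ker))
  rw [← IsCyclic.exponent_eq_card]
  exact Monoid.exponent_dvd_of_forall_pow_eq_one fun g => Subtype.ext g.2.2

theorem card_dvd_three_of_ne_one (hA : IsPGroup 2 A) (hJ : ¬ 2 ∣ Nat.card J) (h16 : Nat.card A ≤ 16)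
    {x : A} (hx : x ^ 2 ≠ 1) : Nat.card J ∣ 3 := by
  have h := faith_ker hA hJ
  have h1 := (powMonoidHom 2 : A →* A).ker.card_mul_index
  rw [index_ker] at h1
  have h2 : 1 < Nat.card (powMonoidHom 2 : A →* A).range :=
    (one_lt_card_iff_ne_bot _).2 fun e => hx (mem_bot.1 (e ▸ ⟨x, rfl⟩))
  by_cases h3 : Nat.card (powMonoidHom 2 : A →* A).range = 2
  · obtain ⟨t, -, ht⟩ := (Nat.card_eq_two_iff' (1 : (powMonoidHom 2 : A →* A).range)).1 h3
    have h4 : ∀ y : A, y ^ 2 ≠ 1 → y ^ 2 = t := fun y hy =>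
      congrArg Subtype.val (ht ⟨_, y, rfl⟩ fun e => hy (congrArg Subtype.val e))
    obtain ⟨W, h5, h6⟩ := h.exists_compl' (t := x ^ 2) (congrArg Subtype.val
      (h3 ▸ pow_card_eq_one' (x := (⟨_, x, rfl⟩ : (powMonoidHom 2 : A →* A).range)))) hx
      fun σ _ => by rw [map_pow, h4 x hx, h4 _ (by rwa [← map_pow, EmbeddingLike.map_ne_one_iff])]
    exact h5.dvd_three (by rw [h3] at h1; omega)
  · obtain ⟨r, hr⟩ := h.exists_card
    refine h.dvd_three (by_contra fun h4 => ?_)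
    have : 2 ^ 3 ≤ 2 ^ r := Nat.pow_le_pow_right two_pos
      ((Nat.pow_lt_pow_iff_right one_lt_two).1 (by omega))
    have : 3 ≤ Nat.card (powMonoidHom 2 : A →* A).range := by omega
    nlinarith

theorem isFree_of_five (h16 : Nat.card A ≤ 16) (hA : IsPGroup 2 A) (h : Nat.card J ∣ 5 * 9)
    (h5 : 5 ∣ Nat.card J) : IsFree J := fun σ hσ u hu e => by
  haveI : Fact (Nat.Prime 5) := ⟨by norm_num⟩
  obtain ⟨s, hs⟩ := exists_prime_orderOf_dvd_card' 5 h5
  have h1 := conj_eq_of_coprime_totient (mem_zpowers_of_card_dvd h (by norm_num)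
    (fun d hd h => by have := Nat.le_of_dvd (by norm_num) hd; interval_cases d <;> simp_all) hs
    ((orderOf_conj_eq ⟨σ, hσ⟩ s).trans hs)) (.coprime_dvd_left ((_root_.orderOf_dvd_natCard _).trans h)
      (by rw [hs]; decide : Nat.Coprime (5 * 9) _))
  replace hs : orderOf s.1 = 5 := (orderOf_coe s).trans hs
  have h2 := card_modEq_of_orderOf Fact.out hs (U := autFix σ) fun _ =>
    autFix_map_mem (congrArg Subtype.val (mul_inv_eq_iff_eq_mul.1 h1))
  have h3 := card_modEq_of_orderOf' Fact.out hs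
  have h4 := card_le_of_le (inf_le_right (a := autFix σ) (b := autFix s.1))
  have h5 := (one_lt_card_iff_ne_bot (autFix σ)).2 fun e' => hu (mem_bot.1 (e' ▸ e))
  have h6 := Nat.card_pos (α := (autFix σ ⊓ autFix s.1 : Subgroup A))
  by_contra h7
  have h8 := card_autFix_lt h7
  have := card_two_cases hA (by omega)
  have := card_two_cases (hA.to_subgroup (autFix σ)) (by omega)
  have := card_two_cases (hA.to_subgroup (autFix s.1)) (by omega)
  omega

theorem small_sixteen (hA : IsPGroup 2 A) (hJ : ¬ 2 ∣ Nat.card J) (h16 : Nat.card A ≤ 16)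
    (h7 : (∀ x : A, x ^ 2 = 1) → ¬ 7 ∣ Nat.card J) :
    Nat.card J ≤ 3 ∨ (Nat.card A = 16 ∧ Nat.card J = 9) ∨ IsFree J := by
  by_cases h : ∀ x : A, x ^ 2 = 1
  swap
  · obtain ⟨x, hx⟩ := not_forall.1 h
    exact .inl (Nat.le_of_dvd (by norm_num) (card_dvd_three_of_ne_one hA hJ h16 hx))
  have h0 := faith_ker hA hJ
  have h1 := card_le_card_group (powMonoidHom 2 : A →* A).ker
  have h2 : Nat.card J ∣ 5 * 9 := Nat.Coprime.dvd_of_dvd_mul_left (m := 7)
    ((Nat.Prime.coprime_iff_not_dvd (by norm_num)).2 (h7 h)).symm (h0.dvd_315 (by omega))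
  by_cases h5 : 5 ∣ Nat.card J
  · exact .inr (.inr (isFree_of_five h16 hA h2 h5))
  have h3 := ((Nat.Prime.coprime_iff_not_dvd (by norm_num)).2 h5).symm.dvd_of_dvd_mul_left h2
  have h4 := Nat.le_of_dvd (by norm_num) h3
  have := card_two_cases hA (by omega)
  by_cases h8 : Nat.card A ≤ 8
  · have := h0.dvd_21 (by omega)
    interval_cases Nat.card J <;> simp_all
  · interval_cases Nat.card J <;> simp_all <;> omega

theorem Faith.mem_zpowers' (h : Faith 2 J W) (hW : Nat.card W ≤ 32) {t : A} (ht : t ∈ W) (h1 : t ≠ 1)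
    {σ τ : MulAut A} (hσ : σ ∈ J) (hτ : τ ∈ J) (h2 : σ t = t) (h3 : τ t = t) (h4 : orderOf σ = 7)
    (h5 : orderOf τ = 7) : τ ∈ zpowers σ := by
  obtain ⟨W', h6, h7⟩ := (h.mono (inf_le_left (b := stabilizer (MulAut A) t))).exists_compl' ht h1
    fun _ h => h.2
  exact h6.mem_zpowers (by omega) ⟨hσ, h2⟩ ⟨hτ, h3⟩ h4 h5

theorem exists_not_seven (hA : IsPGroup 2 A) (hJ : ¬ 2 ∣ Nat.card J) {z : A}
    (hz : Nat.card A ≤ 16 * orderOf z) : ∃ u : A, Nat.card A ≤ 16 * orderOf u ∧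
      ¬ 7 ∣ Nat.card (J ⊓ stabilizer (MulAut A) u : Subgroup _) := by
  classical
  by_contra! H
  choose! σ h1 h2 using fun u hu => exists_orderOf_eq 7 (by norm_num) (H u hu)
  have h := faith_ker hA hJ
  have h3 : ∀ u, Nat.card A ≤ 16 * orderOf u → σ u ≠ 1 := fun u hu e => by simpa [e] using h2 u hu
  have h4 : ∀ z : A, Nat.card A ≤ 16 * orderOf z → z ^ 2 = 1 := fun z hz => by_contra fun h4 => by
    obtain ⟨k, hk⟩ := exists_pow_orderOf_eq hA h4
    have h5 : ∀ w : A, w ^ 2 = 1 → Nat.card A ≤ 16 * orderOf (z * w) ∧ σ (z * w) ((z ^ 2) ^ k) =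
        (z ^ 2) ^ k := fun w hw => by
      have h5 : (z * w) ^ 2 = z ^ 2 := by rw [mul_pow, hw, mul_one]
      have h6 : ∀ y : A, y ^ 2 ≠ 1 → orderOf y = 2 * orderOf (y ^ 2) := fun y hy => by
        obtain ⟨n, hn⟩ := (IsPGroup.iff_orderOf.1 hA) y
        rcases n with _ | n
        · simp [orderOf_eq_one_iff.1 hn] at hy
        · rw [orderOf_pow, hn, pow_succ', Nat.gcd_mul_right_left, Nat.mul_div_cancel_left _ two_pos]
      have h7 : Nat.card A ≤ 16 * orderOf (z * w) := by rwa [h6 _ (h5 ▸ h4), h5, ← h6 _ h4]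
      exact ⟨h7, by rw [← h5, map_pow, map_pow, show σ (z * w) (z * w) = _ from (h1 _ h7).2]⟩
    have h6 := card_ker_le (p := 2) z
    have h7 := (zpowers z).card_mul_index
    rw [Nat.card_zpowers] at h7
    have h8 : (zpowers z).index ≤ 16 := Nat.le_of_mul_le_mul_left (by linarith) (orderOf_pos z)
    refine h3 z hz (h.faith _ (h1 z hz).1 fun w hw => ?_)
    have h9 := h.mem_zpowers' (t := (z ^ 2) ^ k) (by omega) (hk ▸ pow_orderOf_eq_one _ :)
      (fun e => by simp [e] at hk) (h1 _ (h5 w hw).1).1 (h1 z hz).1 (h5 w hw).2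
      (by simpa using (h5 1 (one_pow 2)).2) (h2 _ (h5 w hw).1) (h2 z hz)
    have := zpowers_le_stabilizer (h1 _ (h5 w hw).1).2 _ h9
    rwa [map_mul, show σ z z = z from (h1 z hz).2, mul_left_cancel_iff] at this
  have h5 : Nat.card A ≤ 32 := by
    have := Nat.le_of_dvd two_pos (orderOf_dvd_of_pow_eq_one (h4 z hz))
    omega
  have h6 : ∀ u : A, u ≠ 1 → Nat.card A ≤ 16 * orderOf u := fun u hu => by
    have := (orderOf_pos u).ne'
    have := mt orderOf_eq_one_iff.1 hu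
    omega
  have h7 := card_le_card_group (powMonoidHom 2 : A →* A).ker
  by_cases h8 : Nat.card A ≤ 16
  · refine h3 z hz (MulEquiv.ext fun u => ?_)
    by_cases hu : u = 1
    · simp [hu]
    exact zpowers_le_stabilizer (h1 u (h6 u hu)).2 _ (h.mem_zpowers (by omega) (h1 u (h6 u hu)).1
      (h1 z hz).1 (h2 u (h6 u hu)) (h2 z hz))
  letI := Fintype.ofFinite A
  have h9 := Finset.card_eq_sum_card_image (fun u => autFix (σ u)) (Finset.univ.erase (1 : A))
  rw [Finset.sum_const_nat (m := 3) fun F hF => ?_, Finset.card_erase_of_mem (Finset.mem_univ _),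
    Finset.card_univ, ← Nat.card_eq_fintype_card] at h9
  · have := card_two_cases hA (by omega)
    omega
  obtain ⟨u, hu, rfl⟩ := Finset.mem_image.1 hF
  replace hu := h6 u (Finset.ne_of_mem_erase hu)
  have h10 : Nat.card (autFix (σ u)) = 4 := by
    have := card_modEq_of_orderOf' (by norm_num) (h2 u hu)
    have := card_two_cases hA (by omega)
    have := card_two_cases (hA.to_subgroup (autFix (σ u))) (by omega)
    omega
  rw [Nat.card_eq_fintype_card, Fintype.card_subtype] at h10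
  rw [Finset.filter_congr (q := (· ∈ autFix (σ u))) fun v hv => ?_, Finset.filter_erase,
    Finset.card_erase_of_mem (by simp [one_mem]), h10]
  have h11 := Finset.ne_of_mem_erase hv
  have h12 := h6 v h11
  refine ⟨fun e => e ▸ (h1 v h12).2, fun e => Subgroup.ext fun x => ⟨fun hx => ?_, fun hx => ?_⟩⟩
  · exact zpowers_le_stabilizer hx _ (h.mem_zpowers' (by omega) (h4 v h12) h11 (h1 v h12).1
      (h1 u hu).1 (h1 v h12).2 e (h2 v h12) (h2 u hu))
  · exact zpowers_le_stabilizer hx _ (h.mem_zpowers' (by omega) (h4 v h12) h11 (h1 u hu).1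
      (h1 v h12).1 e (h1 v h12).2 (h2 u hu) (h2 v h12))

theorem card_mul_le_of_disjoint {U V W : Subgroup A} (hU : U ≤ W) (hV : V ≤ W) (h : U ⊓ V = ⊥) :
    Nat.card U * Nat.card V ≤ Nat.card W := by
  rw [← Nat.card_prod]
  refine Nat.card_le_card_of_injective (fun x => (⟨x.1 * x.2, mul_mem (hU x.1.2) (hV x.2.2)⟩ : W))
    fun x y e => ?_
  have := Subgroup.mul_injective_of_disjoint (disjoint_iff.2 h) (a₁ := x) (a₂ := y)
  exact this (congrArg Subtype.val e)

theorem Faith.inf_stabilizer_eq_bot (h : Faith 3 J W) (hW : Nat.card W = 27) (h13 : 13 ∣ Nat.card J)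
    {u : A} (hu : u ∈ W) (hu1 : u ≠ 1) : J ⊓ stabilizer (MulAut A) u = ⊥ := by
  haveI : Fact (Nat.Prime 3) := ⟨by norm_num⟩
  haveI : Fact (Nat.Prime 13) := ⟨by norm_num⟩
  have hp : ∀ U ≤ W, IsPGroup 3 U := fun U hU w => ⟨1, Subtype.ext (by simpa using h.exp w (hU w.2))⟩
  have hf : ∀ s ∈ J, orderOf s = 13 → ∀ U ≤ W, (∀ u ∈ U, s u ∈ U) →
      (U = ⊥ ∨ U = W) ∧ W ⊓ autFix s = ⊥ := fun s hs hs' U hU hU' => by
    have h1 := card_modEq_of_orderOf Fact.out hs' (h.inv s hs)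
    have h2 : W ⊓ autFix s = ⊥ := by
      have := card_three_cases (hp _ (inf_le_left (b := autFix s))) (hW ▸ card_le_of_le inf_le_left)
      refine card_eq_one.1 (by_contra fun h2 => ?_)
      have h3 := eq_of_le_of_card_ge (inf_le_left (a := W) (b := autFix s)) (by omega)
      simp [h.faith s hs fun w hw => (h3.ge hw).2] at hs'
    have h3 := card_modEq_of_orderOf Fact.out hs' hU'
    rw [le_bot_iff.1 ((inf_le_inf_right (autFix s) hU).trans h2.le), card_bot] at h3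
    have := card_three_cases (hp U hU) (hW ▸ card_le_of_le hU)
    exact ⟨(em (Nat.card U = 1)).imp card_eq_one.1 fun _ => eq_of_le_of_card_ge hU (by omega), h2⟩
  by_contra h0
  obtain ⟨q, hq, h1⟩ := Nat.exists_prime_and_dvd (mt card_eq_one.1 h0)
  obtain ⟨τ, hτ, h2⟩ := exists_orderOf_eq q hq h1
  have hne : W ⊓ autFix τ ≠ ⊥ := fun e => hu1 (mem_bot.1 (e ▸ ⟨hu, hτ.2⟩))
  obtain rfl : q = 2 := by
    rcases (Nat.Prime.dvd_mul hq).1 (h1.trans ((card_dvd_of_le inf_le_left).trans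
      (h.dvd_416 hW.le))) with h3 | h3
    · exact absurd (hf τ hτ.1 (h2.trans ((Nat.prime_dvd_prime_iff_eq hq Fact.out).1 h3)) W le_rfl
        (h.inv τ hτ.1)).2 hne
    · exact (Nat.prime_dvd_prime_iff_eq hq Nat.prime_two).1 (hq.dvd_of_dvd_pow (n := 5) h3)
  obtain ⟨s, hs⟩ := exists_prime_orderOf_dvd_card' 13 h13
  have h3 := mem_zpowers_of_card_dvd (h.dvd_416 hW.le) (by norm_num)
    (fun d hd h => by have := Nat.le_of_dvd (by norm_num) hd; interval_cases d <;> simp_all) hs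
    ((orderOf_conj_eq ⟨τ, hτ.1⟩ s).trans hs)
  replace h3 : τ * s * τ⁻¹ ∈ zpowers s.1 := h3.imp fun k hk => congrArg Subtype.val hk
  replace hs : orderOf s.1 = 13 := (orderOf_coe s).trans hs
  have hττ := mul_self_of_orderOf_eq_two h2
  have h4 : τ * s * τ⁻¹ = s⁻¹ := by_contra fun h4 => by
    have h5 : s.1 ∈ zpowers (s * (τ * s * τ⁻¹)) := by
      rw [zpowers_eq_of_prime_card (by rw [Nat.card_zpowers, hs]; exact Fact.out)
        (mul_mem (Subgroup.mem_zpowers s.1) h3) fun e => h4 (eq_inv_of_mul_eq_one_right e)]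
      exact Subgroup.mem_zpowers _
    have h6 : Commute τ (s * (τ * s * τ⁻¹)) := by
      obtain ⟨k, hk⟩ := h3
      have : s.1 * (τ * s * τ⁻¹) = τ * s * τ⁻¹ * s := hk ▸ (Commute.refl _).zpow_right k
      rw [Commute, SemiconjBy, ← mul_inv_eq_iff_eq_mul]
      conv_rhs => rw [this]
      simp [mul_assoc, inv_eq_of_mul_eq_one_right hττ, hττ]
    obtain ⟨k, hk⟩ := h5
    have h7 : s * τ = τ * s := hk ▸ (h6.zpow_right k).symm
    rcases (hf s s.2 hs (W ⊓ autFix τ) inf_le_left fun v hv =>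
      ⟨h.inv s s.2 v hv.1, autFix_map_mem h7.symm hv.2⟩).1 with e | e
    · exact hne e
    · simp [h.faith τ hτ.1 fun w hw => (e.ge hw).2] at h2
  have h5 : ∀ F ≤ W, ∀ ε : ℤ, ε * ε = 1 → (∀ x ∈ F, τ x = x ^ ε) → Nat.card F ≤ 5 :=
    fun F hF ε hε hF' => by
    have := card_mul_le_of_disjoint (V := F.map s.1.toMonoidHom) hF
      (map_le_iff_le_comap.2 fun x hx => h.inv s s.2 x (hF hx)) (eq_bot_iff.2 ?_)
    · rw [card_map_of_injective s.1.injective] at this
      nlinarith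
    rintro _ ⟨h5, y, hy, rfl⟩
    have h6 : s.1 y = s.1⁻¹ y := by
      have h6 := hF' _ h5
      rw [MulEquiv.coe_toMonoidHom, ← MulAut.mul_apply, mul_inv_eq_iff_eq_mul.1 h4, MulAut.mul_apply,
        hF' y hy, map_zpow] at h6
      simpa [← zpow_mul, hε] using congrArg (· ^ ε) h6.symm
    have h7 : y ∈ W ⊓ autFix (s.1 ^ 2) := ⟨hF hy, mem_autFix.2 <| by
      rw [sq, MulAut.mul_apply, h6, MulAut.apply_inv_self]⟩
    rw [(hf _ (pow_mem s.2 2) ((Nat.Coprime.orderOf_pow (by rw [hs]; norm_num)).trans hs) W le_rfl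
      (h.inv _ (pow_mem s.2 2))).2, mem_bot] at h7
    simp [h7]
  let φ : A →* A := MonoidHom.id A / (τ : A →* A)
  have h6 := h5 (φ.ker ⊓ W) inf_le_right 1 rfl fun x hx => by
    simpa using (div_eq_one.1 hx.1).symm
  have h7 := h5 (W.map φ) (map_le_iff_le_comap.2 fun x hx => div_mem hx (h.inv τ hτ.1 x hx)) (-1) rfl
    (by rintro _ ⟨x, -, rfl⟩; simp [φ, ← MulAut.mul_apply, hττ])
  have h8 := card_mul_relIndex (inf_le_right (a := φ.ker) (b := W))
  rw [inf_relIndex_right, relIndex_ker, hW] at h8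
  nlinarith

theorem exists_line (h2 : IsPGroup 2 J) (h27 : Nat.card (powMonoidHom 3 : A →* A).ker = 27) :
    ∃ u : A, orderOf u = 3 ∧ ∀ σ ∈ J, σ u = u ∨ σ u = u⁻¹ := by
  classical
  haveI : Fact (Nat.Prime 3) := ⟨by norm_num⟩
  obtain ⟨L, hL, hL'⟩ : ∃ L : Subgroup A, Nat.card L = 3 ∧ ∀ σ ∈ J, L.map σ.toMonoidHom = L := by
    letI : MulAction J {H : Subgroup A // Nat.card H = 3} :=
      { smul := fun σ H => ⟨H.1.map σ.1.toMonoidHom, (card_map_of_injective σ.1.injective).trans H.2⟩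
        one_smul := fun H => Subtype.ext (map_id _)
        mul_smul := fun σ τ H => Subtype.ext
          (map_map H.1 σ.1.toMonoidHom τ.1.toMonoidHom).symm }
    obtain ⟨L, hL⟩ := h2.nonempty_fixed_point_of_prime_not_dvd_card
      {H : Subgroup A // Nat.card H = 3} (by
      have h3 := card_orderOf_eq_prime (G := A) (p := 3)
      have h4 := card_ne_one_add_one (A := (powMonoidHom 3 : A →* A).ker)
      rw [Nat.card_congr (β := {g : A // orderOf g = 3}) ⟨fun x => ⟨x.1, orderOf_eq_prime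
        x.1.2 (by simpa using x.2)⟩, fun x => ⟨⟨x.1, (x.2 ▸ pow_orderOf_eq_one x.1 :)⟩,
          fun e => by simpa [show x.1 = 1 from congrArg Subtype.val e] using x.2⟩,
        fun _ => rfl, fun _ => rfl⟩] at h4
      omega)
    exact ⟨L.1, L.2, fun σ hσ => congrArg Subtype.val (hL ⟨σ, hσ⟩)⟩
  obtain ⟨u, hu, hu'⟩ := exists_orderOf_eq 3 Fact.out hL.symm.dvd
  have hu1 : u ≠ 1 := fun e => by rw [e, orderOf_one] at hu'; omega
  refine ⟨u, hu', fun σ hσ => ?_⟩
  have h3 : σ u ∈ L := hL' σ hσ ▸ mem_map_of_mem σ.toMonoidHom hu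
  rw [← zpowers_eq_of_prime_card (hL ▸ Fact.out) hu hu1, mem_zpowers_iff_mem_range_orderOf, hu'] at h3
  obtain ⟨k, hk, e⟩ := Finset.mem_image.1 h3
  have := Finset.mem_range.1 hk
  interval_cases k
  · exact absurd (by simpa using e.symm) hu1
  · exact .inl (by simpa using e.symm)
  · exact .inr (e ▸ eq_inv_of_mul_eq_one_left ((pow_succ u 2).symm.trans
      (by simpa [hu'] using pow_orderOf_eq_one u)))

theorem exists_stab_le_two (hA : IsPGroup 3 A) (hJ : ¬ 3 ∣ Nat.card J) {z : A}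
    (hz : (zpowers z).index ≤ 9) :
    ∃ u : A, Nat.card (J ⊓ stabilizer (MulAut A) u : Subgroup _) ≤ 2 := by
  haveI : Fact (Nat.Prime 3) := ⟨by norm_num⟩
  have h := faith_ker hA hJ
  have h27 := (card_ker_le (p := 3) z).trans (Nat.mul_le_mul_left 3 hz)
  obtain ⟨W, hW⟩ : ∃ W, W = (powMonoidHom 3 : A →* A).ker := ⟨_, rfl⟩
  rw [← hW] at h h27
  have key : ∀ {J : Subgroup (MulAut A)} {W : Subgroup A}, Faith 3 J W → Nat.card W ≤ 9 →
      ∃ u ∈ W, Nat.card (J ⊓ stabilizer (MulAut A) u : Subgroup _) ≤ 2 := fun {J W} h h9 => by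
    by_cases h1 : W = ⊥
    · exact ⟨1, one_mem _, (card_le_of_le inf_le_left).trans (Nat.le_of_dvd two_pos
        (h.dvd_two (by simp [h1])))⟩
    obtain ⟨⟨u, hu⟩, h2⟩ := ne_bot_iff_exists_ne_one.1 h1
    obtain ⟨W', h3, h4⟩ := (h.mono (inf_le_left (b := stabilizer (MulAut A) u))).exists_compl' hu
      (by simpa using h2) fun _ h => h.2
    exact ⟨u, hu, Nat.le_of_dvd two_pos (h3.dvd_two (by omega))⟩
  have h1 := card_three_cases (show IsPGroup 3 W from hA.to_subgroup W) h27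
  by_cases h9 : Nat.card W ≤ 9
  · exact (key h h9).imp fun _ h => h.2
  replace h27 : Nat.card W = 27 := by omega
  by_cases h13 : 13 ∣ Nat.card J
  · obtain ⟨⟨u, hu⟩, h2⟩ := ne_bot_iff_exists_ne_one.1 ((one_lt_card_iff_ne_bot W).1 (by omega))
    exact ⟨u, by simp [h.inf_stabilizer_eq_bot h27 h13 hu (by simpa using h2)]⟩
  have h2 : IsPGroup 2 J := by
    obtain ⟨k, -, hk⟩ := (Nat.dvd_prime_pow Nat.prime_two).1 (show _ ∣ 2 ^ 5 from
      ((Nat.Prime.coprime_iff_not_dvd (by norm_num)).2 h13).symm.dvd_of_dvd_mul_left (h.dvd_416 h27.le))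
    exact .of_card hk
  obtain ⟨u, hu', h3⟩ := exists_line h2 (hW ▸ h27)
  have hu1 : u ≠ 1 := fun e => by rw [e, orderOf_one] at hu'; omega
  have hu3 : u ^ 3 = 1 := hu' ▸ pow_orderOf_eq_one u
  obtain ⟨ν, h4, h5, h6, h7⟩ := (h.mono (inf_le_left (b := stabilizer (MulAut A) u))).exists_compl
  obtain ⟨w, hw, h8⟩ := key h4 (by have := h7 u (hW ▸ hu3) hu1 fun _ h => h.2; omega)
  refine ⟨u * w, (card_le_of_le fun σ hσ => ?_).trans h8⟩
  have h9 : σ u * σ w = u * w := (map_mul σ u w).symm.trans hσ.2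
  rcases h3 σ hσ.1 with e | e
  · exact ⟨⟨hσ.1, e⟩, by rwa [e, mul_left_cancel_iff] at h9⟩
  have h10 := congrArg ν h9
  rw [map_mul, map_mul, e, h6 σ (mem_normalizer_of_forall_conj_mem fun τ hτ => ⟨J.mul_mem (J.mul_mem hσ.1 hτ.1)
    (J.inv_mem hσ.1), by
      have : σ⁻¹ u = u⁻¹ := by
        rw [MulAut.inv_def, MulEquiv.symm_apply_eq, map_inv, e, inv_inv]
      simp [this, show τ u = u from hτ.2, e]⟩), show ν w = 1 from hw.2, map_one, mul_one, mul_one,
    map_inv, h5 u fun _ h => h.2, inv_eq_iff_mul_eq_one, ← pow_add, ← two_mul,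
    ← orderOf_dvd_iff_pow_eq_one, hu'] at h10
  exact absurd (Nat.Coprime.dvd_of_dvd_mul_left (by norm_num) h10) h4.cop

end Cfsg

set_option linter.all false in
theorem Cfsg.Rz.Blk_SmallAut_0 : True := by
  have := @_root_.Cfsg.Faith.mk.congr_simp.{0}
  trivial
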