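import Cfsg.Agent.Blk.FreeMin
import Cfsg.Agent.Blk.SmallAut
import Cfsg.Agent.Blk.GridComb

/-!
# Abelian defect group of order 16 with inertial index 9
-/

set_option autoImplicit false
set_option linter.unusedSectionVars false
set_option linter.style.haveILetI false

namespace Cfsg

open MonoidAlgebra GA Subgroup Exc MulAction Frames
open scoped ComplexConjugate

universe u v w

local notation "C(" Q ")" => Subgroup.centralizer ((Q : Subgroup _) : Set _)
local notation "N(" Q ")" => Subgroup.normalizer ((Q : Subgroup _) : Set _)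

theorem nine_side {A : Type u} [Group A] [Finite A] {E : Subgroup (MulAut A)} (hE : Nat.card E = 9)
    {σ τ : MulAut A} (hσ : σ ∈ E) (hτ : τ ∈ E) (hσ1 : σ ≠ 1) (hV : Nat.card (autFix σ) = 4)
    (h : ∀ u ∈ autFix σ, u ∈ autFix τ → u = 1) {v : A} (hv : v ∈ autFix σ) (hv1 : v ≠ 1) :
    (∀ ρ ∈ E, ∀ u, ρ u ∈ autFix σ ↔ u ∈ autFix σ) ∧ (∀ ρ ∈ E, ρ v = v → autFix σ ≤ autFix ρ) ∧
      (∀ u ∈ autFix σ, u ≠ 1 → ∃ k : ℕ, (τ ^ k) v = u) ∧
      Nat.card (E ⊓ stabilizer (MulAut A) v : Subgroup _) = 3 := by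
  haveI : Fact (Nat.Prime 3) := ⟨Nat.prime_three⟩
  haveI : IsMulCommutative E := IsPGroup.isMulCommutative_of_card_eq_prime_sq (p := 3) hE
  have h1 : ∀ ρ ∈ E, ∀ u ∈ autFix σ, ρ u ∈ autFix σ := fun ρ hρ u =>
    autFix_map_mem (congrArg Subtype.val (mul_comm' (⟨σ, hσ⟩ : E) ⟨ρ, hρ⟩))
  have h2 : ∀ ρ ∈ E, ρ ^ 3 ^ 2 = 1 := fun ρ hρ =>
    congrArg Subtype.val (hE ▸ pow_card_eq_one' (x := (⟨ρ, hρ⟩ : E)) :)
  refine ⟨fun ρ hρ u => ⟨fun hu => by simpa using h1 _ (inv_mem hρ) _ hu, h1 ρ hρ u⟩,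
    fun ρ hρ => le_autFix_of_card_four (h2 ρ hρ) hV (h1 ρ hρ) hv hv1, fun u hu hu1 =>
    exists_pow_apply_eq_of_card_four (h2 τ hτ) hV (h1 τ hτ) h hv hv1 hu hu1, ?_⟩
  have h3 := hE ▸ card_dvd_of_le (inf_le_left (a := E) (b := stabilizer (MulAut A) v))
  have h4 := mt card_eq_one.1 fun e : E ⊓ stabilizer (MulAut A) v = ⊥ => hσ1 (mem_bot.1 (e ▸ ⟨hσ, hv⟩))
  have h5 : Nat.card (E ⊓ stabilizer (MulAut A) v : Subgroup _) ≠ 9 := fun e => hv1 (h v hv
    ((eq_of_le_of_card_ge (inf_le_left (b := stabilizer (MulAut A) v)) (by rw [e, hE])).ge hτ).2)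
  have := Nat.le_of_dvd (by norm_num) h3
  interval_cases Nat.card (E ⊓ stabilizer (MulAut A) v : Subgroup _) <;> simp_all

theorem nine_struct {A : Type u} [Group A] [Finite A] (hA : Nat.card A = 16)
    {E : Subgroup (MulAut A)} (hE : Nat.card E = 9) : ∃ (V W : Subgroup A) (v w : A),
    Nat.card V = 4 ∧ Nat.card W = 4 ∧ (∀ u ∈ V, u ∈ W → u = 1) ∧
    (∀ u, (∃ ρ ∈ E, ρ v = u) ↔ u ∈ V ∧ u ∉ W) ∧ (∀ u, (∃ ρ ∈ E, ρ w = u) ↔ u ∈ W ∧ u ∉ V) ∧
    (∀ u, (∃ ρ ∈ E, ρ (v * w) = u) ↔ u ∉ V ∧ u ∉ W) ∧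
    Nat.card (E ⊓ stabilizer (MulAut A) v : Subgroup _) = 3 ∧
    Nat.card (E ⊓ stabilizer (MulAut A) w : Subgroup _) = 3 ∧
    Nat.card (E ⊓ stabilizer (MulAut A) (v * w) : Subgroup _) = 1 := by
  obtain ⟨σ, hσ, τ, hτ, hV, hW, h⟩ := exists_autFix_pair hA hE
  have h0 : ∀ u ∈ autFix σ, u ∈ autFix τ → u = 1 := fun u h1 h2 => mem_bot.1 (h ▸ ⟨h1, h2⟩)
  have h1 : ∀ ρ : MulAut A, Nat.card (autFix ρ) = 4 → ρ ≠ 1 ∧ ∃ v ∈ autFix ρ, v ≠ 1 := fun ρ e =>
    ⟨fun e' => by rw [show autFix ρ = ⊤ from top_unique fun _ _ => by simp [e', mem_autFix],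
      card_top] at e; omega, (bot_or_exists_ne_one _).resolve_left fun e' => by simp [e'] at e⟩
  obtain ⟨hσ1, v, hv, hv1⟩ := h1 σ hV
  obtain ⟨hτ1, w, hw, hw1⟩ := h1 τ hW
  obtain ⟨a1, a2, a3, a4⟩ := nine_side hE hσ hτ hσ1 hV h0 hv hv1
  obtain ⟨b1, b2, b3, b4⟩ := nine_side hE hτ hσ hτ1 hW (fun u h1 h2 => h0 u h2 h1) hw hw1
  have h2 : ∀ u, ∃ a ∈ autFix σ, ∃ b ∈ autFix τ, a * b = u := fun u => by
    obtain ⟨⟨a, b⟩, e⟩ := (isComplement'_of_card_mul_and_disjoint (H := autFix σ) (K := autFix τ)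
      (by rw [hV, hW, hA]) (disjoint_iff.2 h)).2 u
    exact ⟨a, a.2, b, b.2, e⟩
  have h3 : ∀ (ρ : MulAut A) (k : ℕ), ∀ u ∈ autFix ρ, (ρ ^ k) u = u := fun ρ k u hu =>
    pow_mem (show ρ ∈ stabilizer (MulAut A) u from hu) k
  refine ⟨_, _, v, w, hV, hW, h0, fun u => ⟨?_, fun hu => ?_⟩, fun u => ⟨?_, fun hu => ?_⟩,
    fun u => ⟨?_, fun hu => ?_⟩, a4, b4, card_eq_one.2 (eq_bot_iff.2 fun ρ hρ => ?_)⟩
  · rintro ⟨ρ, hρ, rfl⟩
    exact ⟨(a1 ρ hρ v).2 hv, fun e => hv1 (h0 v hv ((b1 ρ hρ v).1 e))⟩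
  · obtain ⟨k, hk⟩ := a3 u hu.1 fun e => hu.2 (e ▸ one_mem _)
    exact ⟨_, pow_mem hτ k, hk⟩
  · rintro ⟨ρ, hρ, rfl⟩
    exact ⟨(b1 ρ hρ w).2 hw, fun e => hw1 (h0 w ((a1 ρ hρ w).1 e) hw)⟩
  · obtain ⟨k, hk⟩ := b3 u hu.1 fun e => hu.2 (e ▸ one_mem _)
    exact ⟨_, pow_mem hσ k, hk⟩
  · rintro ⟨ρ, hρ, rfl⟩
    rw [a1 ρ hρ, b1 ρ hρ, mul_mem_cancel_left hv, mul_mem_cancel_right hw]
    exact ⟨fun e => hw1 (h0 w e hw), fun e => hv1 (h0 v hv e)⟩
  · obtain ⟨a, ha, b, hb, rfl⟩ := h2 u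
    obtain ⟨k, hk⟩ := a3 a ha fun e => hu.2 (by simpa [e])
    obtain ⟨l, hl⟩ := b3 b hb fun e => hu.1 (by simpa [e])
    exact ⟨τ ^ k * σ ^ l, mul_mem (pow_mem hτ k) (pow_mem hσ l), by
      rw [MulAut.mul_apply, map_mul, h3 σ l v hv, hl, map_mul, hk, h3 τ k b hb]⟩
  · have e1 : ρ v * ρ w = v * w := (map_mul ρ v w).symm.trans hρ.2
    have e2 : v⁻¹ * ρ v = w * (ρ w)⁻¹ := by
      rw [inv_mul_eq_iff_eq_mul, ← mul_assoc, ← e1, mul_inv_cancel_right]
    have e3 := h0 _ (mul_mem (inv_mem hv) ((a1 ρ hρ.1 v).2 hv))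
      (e2 ▸ mul_mem hw (inv_mem ((b1 ρ hρ.1 w).2 hw)))
    refine MulEquiv.ext fun u => ?_
    obtain ⟨a, ha, b, hb, rfl⟩ := h2 u
    rw [map_mul, mem_autFix.1 (a2 ρ hρ.1 (inv_mul_eq_one.1 e3).symm ha),
      mem_autFix.1 (b2 ρ hρ.1 (mul_inv_eq_one.1 (e2.symm.trans e3)).symm hb), MulAut.one_apply]

variable {G : Type u} [Group G] [Finite G] {H : Type v} [Group H] [Finite H] {Q : Type w} [Group Q]
  [Finite Q] {p : ℕ} {M : Ideal AlgInt} {P : Subgroup G} {B : Set (IrrCharacter G)}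

theorem isGen_indicator (W : Subgroup G) [W.Normal] :
    IsGeneralizedCharacter G ((W.index : ℂ) • (W : Set G).indicator 1) := by
  haveI : W.subtype.range.Normal := by rwa [range_subtype]
  convert (IsCharacter.one.ind W.subtype).isGen using 1
  funext g
  by_cases h : g ∈ W
  · simpa [h] using (ind_one_apply_of_normal W.subtype_injective (g := g) (by simpa)).symm
  · simpa [h] using (ind_apply_eq_zero_of_normal W.subtype _ (range_subtype W).le h).symm

variable [Fact p.Prime] [CharP (ResK M) p] {e : (ResK M)[G]} {η η' : P → ℂ}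

variable (p B e) in
/-- The matrix of the `*`-multiplication by `η`. -/
noncomputable def stMat (η : P → ℂ) : Matrix B B ℂ := fun χ ψ => ip (starC p M P e χ.1.1 η) ψ.1.1

theorem stMat_add : stMat p B e (η + η') = stMat p B e η + stMat p B e η' :=
  Matrix.ext fun _ _ => by simp [stMat, starC_add_right, ip_add_left]

theorem stMat_sub : stMat p B e (η - η') = stMat p B e η - stMat p B e η' :=
  Matrix.ext fun _ _ => by simp [stMat, starC_sub_right, ip_sub_left]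

theorem stMat_smul (a : ℂ) : stMat p B e (a • η) = a • stMat p B e η :=
  Matrix.ext fun _ _ => by simp [stMat, starC_smul_right, ip_smul_left]

namespace IsPModular

variable (hM : IsPModular p M) (hB : IsPBlock M B) (hP : IsMaxPair p (blockIdem M B) P e)
include hM hB hP

theorem stMat_one [DecidableEq B] : stMat p B e (1 : P → ℂ) = 1 := Matrix.ext fun χ ψ => by
  classical
  rw [stMat, hM.starC_one hB hP χ.1.isClassFunction, blockPart_irr_of_mem χ.2, IrrCharacter.ip_eq,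
    Matrix.one_apply]
  simp [Subtype.ext_iff]

theorem stMat_mul [Fintype B] (hη : IsFStable p P e η) (hη' : IsFStable p P e η') :
    stMat p B e η * stMat p B e η' = stMat p B e (η' * η) := Matrix.ext fun χ ψ => by
  rw [stMat, ← hM.starC_starC hη' hη χ.1.isClassFunction,
    ← hM.blockPart_starC hB hP hη χ.1.isClassFunction, blockPart_eq_vch, vch, starC_sum_left]
  simp [Matrix.mul_apply, stMat, ip_sum_left, starC_smul_left, ip_smul_left]

theorem exists_int_stMat (hη : IsFStable p P e η) (h1 : IsGeneralizedCharacter P η)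
    (h2 : star η = η) : ∃ X : Matrix B B ℤ, (∀ i j, stMat p B e η i j = X i j) ∧
      ∀ i j, X i j = X j i := by
  choose X hX using fun χ ψ : B => (hM.isGen_starC hB hP hη h1
    χ.1.isCharacter.isGen).exists_ip_eq_int ψ.1.isCharacter.isGen
  refine ⟨X, hX, fun i j => Int.cast_injective (α := ℂ) ?_⟩
  rw [← hX, hM.ip_starC hη i.1.isClassFunction j.1.isClassFunction, h2, ← conj_ip, hX, map_intCast]

end IsPModular

theorem GA.IsMaxPair.mem_fClass_iff_iAut {b : (ResK M)[G]} (hP : IsMaxPair p b P e) (hab : P ≤ C(P))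
    {u v : P} : v ∈ fClass p P e u ↔ ∃ ρ ∈ iAut P e, ρ u = v :=
  (hP.mem_fClass_iff_of_comm hab).trans ⟨fun ⟨_, hg, h⟩ => let ⟨ρ, h1, h2⟩ := exists_mem_iAut hg
    ⟨ρ, h1, Subtype.ext ((h2 u).trans h.symm)⟩, fun ⟨_, ⟨g, hg, h⟩, h'⟩ => ⟨g, hg, h' ▸ h u⟩⟩

variable [CharP (ResK M) 2]

theorem GA.IsMaxPair.nine_cases (hM : IsPModular 2 M) (hB : IsPBlock M B)
    (hP : IsMaxPair 2 (blockIdem M B) P e) (hab : P ≤ C(P)) (h16 : Nat.card P = 16)
    (h9 : Nat.card (iAut P e) = 9) :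
    (∃ χ ∈ B, Nat.card P * ip (pRegularPart 2 χ.1) (pRegularPart 2 χ.1) = 1) ∨ blockRank 2 B = 3 ∨
      ∀ η ∈ regLat 2 B, η ≠ 0 → (blockRank 2 B : ℝ) ≤ (Nat.card P * ip η η).re := by
  classical
  letI := Fintype.ofFinite B
  letI : CommGroup P := { (inferInstance : Group P) with
    mul_comm := fun a b => Subtype.ext (hab b.2 a a.2) }
  obtain ⟨V, W, v, w, hV, hW, h0, h1, h2, h3, l1, l2, l3⟩ := nine_struct h16 h9
  rw [← hP.lrk_eq_card_stab hM hB hab _ (by omega)] at l1 l2 l3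
  simp only [← hP.mem_fClass_iff_iAut hab] at h1 h2 h3
  have hsq : ∀ x : P, (x : G) * x = 1 := fun x => by_contra fun hx => by
    have := card_dvd_three_of_ne_one hP.pair.isPGroup (hP.not_dvd_card_iAut hM hab) h16.le (x := x)
      fun e => hx (by rw [← sq]; exact congrArg Subtype.val e)
    rw [h9] at this
    omega
  have hc : ∀ x : P, P ≤ C(zpowers (x : G)) := fun x => le_centralizer_zpowers_of_comm hab x.2
  let α : Subgroup P → P → ℂ := fun W => (4 : ℂ) • (1 - (W : Set P).indicator 1)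
  have hg : ∀ W : Subgroup P, Nat.card W = 4 → IsGeneralizedCharacter P (α W) ∧ star (α W) = α W :=
    fun W hW => ⟨by
      have := W.card_mul_index
      rw [hW, h16] at this
      convert (IsCharacter.one.isGen.zsmul 4).sub (isGen_indicator W) using 1
      funext u
      simp [α, show W.index = 4 by omega, mul_sub],
      funext fun u => by by_cases h : u ∈ W <;> simp [α, h]⟩
  let I : P → P → ℂ := fun u => (fClass 2 P e u).indicator 1
  have hI : ∀ u, IsFStable 2 P e (I u) := hP.pair.isFStable_indicator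
  have e0 := hP.pair.fClass_of_central (u := 1) (one_mem _)
  obtain ⟨e1, e2, e3, e4⟩ : α W = (4 : ℂ) • (I v + I (v * w)) ∧ α V = (4 : ℂ) • (I w + I (v * w)) ∧
      α V * α W = (16 : ℂ) • I (v * w) ∧ I 1 = 1 - I v - I w - I (v * w) := by
    have e5 : ∀ u : P, u = 1 ↔ u ∈ V ∧ u ∈ W := fun u =>
      ⟨fun h => h ▸ ⟨one_mem _, one_mem _⟩, fun h => h0 u h.1 h.2⟩
    refine ⟨funext fun u => ?_, funext fun u => ?_, funext fun u => ?_, funext fun u => ?_⟩ <;>
      by_cases a : u ∈ V <;> by_cases b : u ∈ W <;>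
      simp [α, I, Set.indicator_apply, h1, h2, h3, e0, e5 u, a, b] <;> norm_num
  have s1 : IsFStable 2 P e (α W) := e1 ▸ ((hI _).add (hI _)).smul 4
  have s2 : IsFStable 2 P e (α V) := e2 ▸ ((hI _).add (hI _)).smul 4
  have s3 : ∀ W, α W * α W = (4 : ℂ) • α W := fun W => funext fun u => by
    by_cases h : u ∈ W <;> simp [α, h]
  obtain ⟨X, hX, sX⟩ := hM.exists_int_stMat hB hP s1 (hg W hW).1 (hg W hW).2
  obtain ⟨Y, hY, sY⟩ := hM.exists_int_stMat hB hP s2 (hg V hV).1 (hg V hV).2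
  obtain ⟨d, hd, hd'⟩ := hM.exists_isCol_int hB hP (hsq (v * w)) l3 fun g _ => by
    rw [inf_eq_left.2 (hc _)]; exact card_le_of_le inf_le_left
  rw [inf_eq_left.2 (hc _), h16] at hd
  have d1 : ∀ i j, 16 * stMat 2 B e (I (v * w)) i j = d i * d j := fun i j => by
    have := hd.eq i j
    simp only [Nat.cast_ofNat, map_intCast] at this
    exact this
  have t1 : ∀ i j, 16 * stMat 2 B e (I v) i j = (4 * X i j - d i * d j : ℤ) := fun i j => by
    simp [← hX, ← d1, e1, stMat_smul, stMat_add]; ring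
  have t2 : ∀ i j, 16 * stMat 2 B e (I w) i j = (4 * Y i j - d i * d j : ℤ) := fun i j => by
    simp [← hY, ← d1, e2, stMat_smul, stMat_add]; ring
  have t3 : ∀ i j, 16 * stMat 2 B e (I 1) i j =
      (16 * (if i = j then 1 else 0) - 4 * X i j - 4 * Y i j + d i * d j : ℤ) := fun i j => by
    simp only [e4, stMat_sub, hM.stMat_one hB hP, Matrix.sub_apply, mul_sub, t1, t2, d1,
      Matrix.one_apply]
    push_cast
    ring
  have tr : ∀ u : P, ∑ i, 16 * stMat 2 B e (I u) i i = 16 * lrk 2 M P e (zpowers (u : G)) := fun u => by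
    rw [← Finset.mul_sum, ← hM.sum_ip_prj hB hP u]; rfl
  have dd : ∑ i, d i * d i = 16 := hd.sum_eq_int hM hB hP
  have tr1 := tr v
  have tr2 := tr w
  have tr3 := tr 1
  simp only [t1, t2, t3, l1, l2, ← Int.cast_sum, Finset.sum_sub_distrib, Finset.sum_add_distrib, dd,
    ← Finset.mul_sum, coe_one, zpowers_one_eq_bot, hM.lrk_bot hB hP.toIsPairOf] at tr1 tr2 tr3
  norm_cast at tr1 tr2 tr3
  have r1 : ∀ θ, IsClassFunction G θ → blockPart B θ = θ → ip (pRegularPart 2 θ) (pRegularPart 2 θ) =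
      ip (starC 2 M P e θ (I 1)) θ := fun θ h h' => by
    rw [← ip_pRegularPart_eq_both_left, ← h', ← hM.prj_one hB hP h, h']; rfl
  by_cases h4 : ∃ i, 16 - 4 * X i i - 4 * Y i i + d i * d i = 1
  · obtain ⟨i, hi⟩ := h4
    exact .inl ⟨i, i.2, by
      rw [r1 _ i.1.isClassFunction (blockPart_irr_of_mem i.2), h16]
      simpa [hi, stMat] using t3 i i⟩
  have key : ∀ {η η'} {X Y Z : Matrix B B ℤ}, IsFStable 2 P e η → IsFStable 2 P e η' →
      (∀ i j, stMat 2 B e η i j = X i j) → (∀ i j, stMat 2 B e η' i j = Y i j) →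
      (∀ i j, stMat 2 B e (η' * η) i j = Z i j) → X * Y = Z := fun h h' a b c =>
    Matrix.ext fun i j => Int.cast_injective (α := ℂ) (by
      simp [← c, ← hM.stMat_mul hB hP h h', Matrix.mul_apply, a, b])
  have hG : Grid X Y d := ⟨sX, sY, key s1 s1 hX hX fun i j => by simp [s3, stMat_smul, hX],
    key s2 s2 hY hY fun i j => by simp [s3, stMat_smul, hY],
    key s1 s2 hX hY fun i j => by simp [e3, stMat_smul, d1, Matrix.vecMulVec_apply],
    by omega, by omega, dd, fun i => by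
      obtain ⟨c1, a1, a2, a3⟩ := hM.exists_nat_ip_prj hB hP (hsq v) (hc v) i
      obtain ⟨c2, b1, b2, b3⟩ := hM.exists_nat_ip_prj hB hP (hsq w) (hc w) i
      obtain ⟨c3, f1, f2, f3⟩ := hM.exists_nat_ip_prj hB hP (hsq 1) (hc 1) i
      obtain ⟨c4, g1, g2, g3⟩ := hM.exists_nat_ip_prj hB hP (hsq (v * w)) (hc _) i
      rw [h16] at a1 b1 f1 g1
      have k1 := (t1 i i).symm.trans a1
      have k2 := (t2 i i).symm.trans b1
      have k3 := (t3 i i).symm.trans f1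
      have k4 := (d1 i i).symm.trans g1
      have k5 := not_exists.1 h4 i
      rw [if_pos rfl] at k3
      norm_cast at k1 k2 k3 k4
      by_cases h : blockHeight 2 B i.1.1 = 0
      · obtain ⟨k, -, hk⟩ := TameNum.sq_of_odd ((hd' i).2 h)
        omega
      · have := a3 h; have := b3 h; have := f3 h; have := g3 h
        omega⟩
  simp only [if_true, Finset.sum_const, Finset.card_univ, nsmul_eq_mul] at tr3
  push_cast at tr1 tr2 tr3
  rcases hG.cases with h5 | ⟨h5, h6⟩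
  · exact .inr (.inl (by omega))
  refine .inr (.inr fun η hη h7 => ?_)
  obtain ⟨θ, h8, h9, rfl⟩ := mem_regLat_iff.1 hη
  choose c hc using fun χ : B => h8.exists_ip_eq_int χ.1.isCharacter.isGen
  obtain ⟨q, hq⟩ : ∃ q : ℤ, q = ∑ i, ∑ j,
    c i * c j * (16 * (if i = j then 1 else 0) - 4 * X i j - 4 * Y i j + d i * d j) := ⟨_, rfl⟩
  have h10 : Nat.card P * ip (pRegularPart 2 θ) (pRegularPart 2 θ) = q := by
    rw [r1 θ h8.isClassFunction h9, ← h9, blockPart_eq_vch, vch, starC_sum_left, hq, h16]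
    simp only [Int.cast_sum, Int.cast_mul, ← t3, ip_sum_left, ip_sum_right, starC_smul_left,
      ip_smul_left, ip_smul_right, hc, map_intCast, Finset.mul_sum, stMat]
    rw [Finset.sum_comm]
    exact Finset.sum_congr rfl fun _ _ => Finset.sum_congr rfl fun _ _ => by push_cast; ring
  rw [h10, Complex.intCast_re, show blockRank 2 B = 9 by omega]
  refine mod_cast (h6 c q hq).resolve_left fun e => h7 (eq_zero_of_ip_self_re ?_)
  rw [e, Int.cast_zero, mul_eq_zero, or_iff_right (natCard_cast_ne_zero P)] at h10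
  rw [h10, Complex.zero_re]

namespace Red

variable {u : G} {f : H →* G} {π : H →* Q} {b : Set (IrrCharacter H)} {s : (ResK M)[H]}
  {P' : Subgroup Q} {ρ : P →* P'} {c : Set (IrrCharacter Q)} {e' : (ResK M)[Q]}
  (h : Red 2 M P B e u f π b s P' ρ c e')
include h

theorem card_le_of_le_three (hl : blockRank 2 c ≤ 3) : Nat.card B ≤ Nat.card P :=
  (h.modular.four_mul_card_le h.hB h.hP h.mem h.cent (h.rank ▸ hl)).2

theorem card_le_of_comm (hab : P' ≤ C(P')) (h16 : Nat.card P' ≤ 16)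
    (h7 : (∀ x : P', x ^ 2 = 1) → ¬ 7 ∣ Nat.card (iAut P' e')) : Nat.card B ≤ Nat.card P := by
  letI : CommGroup P' := { (inferInstance : Group P') with
    mul_comm := fun a b => Subtype.ext (hab b.2 a a.2) }
  rcases small_sixteen h.max.pair.isPGroup (h.max.not_dvd_card_iAut h.modular hab) h16 h7 with
    h1 | h1 | h1
  · exact h.card_le_of_le_three (h.max.blockRank_eq_card_iAut h.modular h.block hab h1 ▸ h1)
  · rcases h.max.nine_cases h.modular h.block hab h1.1 h1.2 with ⟨χ, h2, h3⟩ | h2 | h2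
    exacts [h.card_le_of_one h2 h3, h.card_le_of_le_three h2.le, h.card_le_of_min h2]
  · exact h.card_le_of_free hab h1

end Red

end Cfsg

set_option linter.all false in
theorem Cfsg.Rz.Blk_Grid_0 : True := by
  have := @_root_.Cfsg.stMat.eq_def.{0}
  have := @_root_.Cfsg.stMat.fun_cases
  trivial
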