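import Cfsg.Agent.Blk.SmallQuot

/-!
# Small faithful characters with inertial index three; no degree sixteen for `p = 19`
-/

set_option autoImplicit false
set_option linter.unusedSectionVars false
set_option linter.unusedVariables false
set_option linter.style.haveILetI false

namespace Cfsg

open Exc Subgroup
open scoped ComplexConjugate Classical

universe u v w

variable {G : Type u} [Group G] [Finite G] {p : ℕ} [hp : Fact p.Prime]

local notation "C(" Q ")" => Subgroup.centralizer ((Q : Subgroup G) : Set G)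
local notation "N(" Q ")" => Subgroup.normalizer ((Q : Subgroup G) : Set G)

theorem PBlk.card_mul_le {P : Subgroup G} [Fintype P] {χ : IrrCharacter G}
    {X Y : Finset (IrrCharacter G)} {ζ : (P →* ℂˣ) → IrrCharacter G} {δ : ℤ}
    {a : IrrCharacter G → ℤ} (b : PBlk p P (OverCenter p χ.1) X Y ζ δ a) (hχ : χ ∈ Y)
    (hZ : ¬ p ∣ Nat.card (center G)) {r : G} (hr : IsPRegular p r) :
    Y.card * ‖χ r‖ ^ 2 ≤ Nat.card (centralizer ({(r : G ⧸ center G)} : Set (G ⧸ center G))) := by
  let _ := Fintype.ofFinite G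
  let _ := Fintype.ofFinite (G ⧸ center G)
  obtain ⟨Ξ, hΞ⟩ : ∃ Ξ : G → ℂ, Ξ = ∑ η ∈ Y, η.1 := ⟨_, rfl⟩
  have h0 : ∀ g, Ξ g = ∑ η ∈ Y, η g := fun g => by rw [hΞ, Finset.sum_apply]
  have hc : IsClassFunction G Ξ := hΞ ▸ IsClassFunction.sum fun η _ => η.isClassFunction
  have h1 : ip Ξ Ξ = Y.card := by
    rw [hΞ, ip_sum_left, Finset.sum_congr rfl (g := fun _ => 1) fun η hη => by
      rw [ip_sum_right, Finset.sum_eq_single_of_mem η hη fun η' _ hne =>
        IrrCharacter.ip_of_ne hne.symm, η.ip_self]]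
    simp
  have h2 : ∀ x, ∀ z ∈ center G, ‖Ξ (x * z)‖ ^ 2 = ‖Ξ x‖ ^ 2 := fun x z hz => by
    have : Ξ (x * z) * χ 1 = Ξ x * χ z := by
      rw [h0, h0, Finset.sum_mul, Finset.sum_mul]
      exact Finset.sum_congr rfl fun η hη => b.prop η (Or.inr hη) z hz
        (fun e => hZ (e.trans ((center G).orderOf_dvd_natCard hz))) x
    have := congrArg norm this
    rw [norm_mul, norm_mul, χ.mem_charCenter.1 (χ.center_le_charCenter hz),
      χ.isCharacter.norm_apply_one] at this
    rw [mul_right_cancel₀ (by exact_mod_cast χ.charDegree_pos.ne') this]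
  have h3 := sum_eq_card_smul_sum_section (center G) (F := fun x => ‖Ξ x‖ ^ 2) h2 Quotient.out
    QuotientGroup.out_eq'
  have h4 : ∀ q ∈ Finset.univ.filter (IsConj (r : G ⧸ center G)),
      (Y.card * ‖χ r‖) ^ 2 = ‖Ξ q.out‖ ^ 2 := fun q hq => by
    obtain ⟨g, hg⟩ := isConj_iff.1 (Finset.mem_filter.1 hq).2
    obtain ⟨g, rfl⟩ := QuotientGroup.mk_surjective g
    rw [← QuotientGroup.out_eq' q, ← QuotientGroup.mk_inv, ← QuotientGroup.mk_mul,
      ← QuotientGroup.mk_mul, QuotientGroup.eq] at hg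
    rw [← mul_inv_cancel_left (g * r * g⁻¹) q.out, h2 _ _ hg, hc, h0,
      Finset.sum_congr rfl fun η hη => b.reg_eq η hη χ hχ r hr]
    simp
  have h5 := Finset.sum_le_univ_sum_of_nonneg (s := Finset.univ.filter (IsConj (r : G ⧸ center G)))
    fun q : G ⧸ center G => sq_nonneg ‖Ξ q.out‖
  rw [← Finset.sum_congr rfl h4, Finset.sum_const, nsmul_eq_mul] at h5
  rw [ip_self_eq, h3, card_eq_card_quotient_mul_card_subgroup (center G),
    ← card_filter_isConj_mul_card_centralizer (r : G ⧸ center G), nsmul_eq_mul] at h1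
  have h6 : (0 : ℝ) < (Finset.univ.filter (IsConj (r : G ⧸ center G))).card := by
    exact_mod_cast Finset.card_pos.2 ⟨_, Finset.mem_filter.2 ⟨Finset.mem_univ _, IsConj.refl _⟩⟩
  have h7 : (0 : ℝ) < Nat.card (center G) := by exact_mod_cast Nat.card_pos
  have h8 : (0 : ℝ) < Nat.card (centralizer ({(r : G ⧸ center G)} : Set (G ⧸ center G))) := by
    exact_mod_cast Nat.card_pos
  have h9 : (0 : ℝ) < Y.card := by exact_mod_cast Finset.card_pos.2 ⟨_, hχ⟩
  have h10 := Complex.ofReal_injective (h1.trans (Complex.ofReal_natCast _).symm)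
  push_cast at h10
  field_simp at h10
  rw [h10] at h5
  refine le_of_mul_le_mul_left ?_ (mul_pos h6 h9)
  linarith

theorem SmallDeg.exists_three {P : Sylow p G} {χ : IrrCharacter G} (h : SmallDeg p P χ)
    (hG : commutator G = ⊤) (he : (C(P)).relIndex N(P) = 3) (hev : 2 ∣ charDegree χ.1) {x : G}
    (hx : x ∈ (P : Subgroup G)) (hx1 : x ≠ 1) [Fintype (zpowers (x : G ⧸ center G))] :
    ∃ (X Y : _) (ζ : _) (δ : _) (a : _),
      PBlk p (zpowers (x : G ⧸ center G)) (IsClassFunction _) X Y ζ δ a ∧ X.card = 3 ∧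
      ∃ η ∈ Y, ∃ θ i j b c n : ℕ, charDegree η.1 = θ ∧ 1 < i ∧ (i : ℤ) ≡ δ [ZMOD p] ∧
        (j : ℤ) ≡ -1 [ZMOD p] ∧ (θ : ℤ) ≡ δ * 3 [ZMOD p] ∧ δ * θ = 1 + δ * i - j ∧
        IsSquare (θ * (i * j)) ∧ 1 + b * i + c * j + n * θ ≤ charDegree χ.1 ^ 2 ∧
        (charDegree χ.1 : ℤ) ^ 2 - p * charDegree χ.1 =
          δ * 3 * n - (p - 1) * (1 + δ * b - c) := by
  obtain ⟨Θ, X, Y, ζ, δ, a, b, hX, hΘ, h1, h2, h3⟩ := h.exists_quot hG Nat.prime_three he hx hx1
  have := h.isSimpleGroup_quot hG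
  obtain ⟨η, hη⟩ := b.Y_nonempty
  obtain ⟨α, hα, β, hβ, α1, β1, hs, ha, hb, hq⟩ := b.three h.not_comm_quot (h.selfCent hx hx1)
    (mem_zpowers _) (fun φ => φ.isClassFunction) hX h.five
    (hev.trans χ.charDegree_dvd_index_center) hη
  have ht : 2 ≤ Y.card := by have := b.cardY; have := h.five; rw [hX] at *; omega
  have a1 := b.a_one (b.mem_X_of_const ht (φ := IrrCharacter.one _)
    (IrrCharacter.isClassFunction _) one_ne_zero fun _ _ => rfl)
  refine ⟨X, Y, ζ, δ, a, b, hX, η, hη, _, charDegree α.1, charDegree β.1, ipNat Θ α.1, ipNat Θ β.1,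
    ∑ η ∈ Y, ipNat Θ η.1, rfl, α.one_lt_charDegree_of_isSimpleGroup h.not_comm_quot α1,
    ha ▸ b.modEq_X hα, hb ▸ b.modEq_X hβ, by simpa [hX] using b.modEq_Y hη, ?_, hq, ?_, ?_⟩
  · rw [b.deg_rel hη, hs, a1, ha, hb]
    simp [sub_eq_add_neg]
  · have h4 := hΘ.sum_ipNat_mul_le (X ∪ Y)
    rw [Finset.sum_union b.disj, hs, h2, Finset.sum_congr rfl fun η' hη' => by
      rw [b.deg_eq hη' hη], ← Finset.sum_mul, charDegree_eq_of_apply_one (χ := Θ)
      (n := charDegree χ.1 ^ 2) (by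
        rw [← QuotientGroup.mk_one, h1, χ.apply_one]; simp [sq])] at h4
    simpa using h4
  · rw [h3, hs, a1, ha, hb, h2]
    push_cast
    ring

theorem nineteen_arith {δ : ℤ} (hδ : δ = 1 ∨ δ = -1) {θ i j b c n : ℕ} (h1 : 1 < i)
    (h2 : (i : ℤ) ≡ δ [ZMOD (19 : ℕ)]) (h3 : (j : ℤ) ≡ -1 [ZMOD (19 : ℕ)])
    (h4 : (θ : ℤ) ≡ δ * 3 [ZMOD (19 : ℕ)]) (h5 : δ * θ = 1 + δ * i - j)
    (h6 : IsSquare (θ * (i * j))) (h7 : 1 + b * i + c * j + n * θ ≤ 16 ^ 2)
    (h8 : ((16 : ℕ) : ℤ) ^ 2 - (19 : ℕ) * (16 : ℕ) =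
      δ * 3 * n - ((19 : ℕ) - 1) * (1 + δ * b - c)) : θ = 22 := by
  simp only [Int.ModEq] at h2 h3 h4
  rcases hδ with rfl | rfl
  · have h9 : 2 * i ≤ b * i := Nat.mul_le_mul_right _ (by omega)
    have h10 : 2 * θ ≤ n * θ := Nat.mul_le_mul_right _ (by omega)
    obtain ⟨k, rfl⟩ : ∃ k, i = 19 * k + 1 := ⟨i / 19, by omega⟩
    obtain ⟨l, rfl⟩ : ∃ l, θ = 19 * l + 3 := ⟨θ / 19, by omega⟩
    obtain rfl : j = 19 * k + 1 + 1 - (19 * l + 3) := by omega
    have h11 : k < 7 := by omega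
    have h12 : l < k := by omega
    have h13 : k + l < 7 := by omega
    clear h2 h3 h4 h5 h7 h8 h9 h10
    interval_cases k <;> interval_cases l <;> first | rfl | omega | (revert h6; decide +kernel)
  · have h10 : 10 * θ ≤ n * θ := Nat.mul_le_mul_right _ (by omega)
    omega

theorem IsCharacter.eq_five {χ : G → ℂ} (hχ : IsCharacter G χ) (hd : charDegree χ = 16)
    (hf : ∀ g, χ g = χ 1 → g = 1) {g : G} (hg : orderOf g = 11 ∨ orderOf g = 121)
    (h : ∀ k : ℕ, k.Coprime (orderOf g) → χ (g ^ k) = χ g) : χ g = 5 := by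
  obtain ⟨c, hc⟩ := hχ.isGen.exists_int_of_forall_pow h
  have h1 := hχ.int_modEq_charDegree (p := 11) (by norm_num) (k := 2)
    (orderOf_dvd_iff_pow_eq_one.1 (by rcases hg with e | e <;> rw [e] <;> decide)) hc
  have h2 := hχ.norm_le g
  have h3 : c ≠ 16 := fun e => by
    have := hf g (by rw [hc, hχ.apply_one, hd, e]; simp)
    rcases hg with e | e <;> simp [this] at e
  rw [hc, hd, Complex.norm_intCast] at h2
  have h4 : |c| ≤ 16 := by exact_mod_cast h2
  have h5 : c ≠ -6 := fun e => by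
    obtain ⟨ε, h5, h6, -⟩ := hχ.exists_roots g
    have h7 := congrArg Complex.re
      (mul_count_roots_eq (orderOf_pos g).ne' ε h5 (one_pow _))
    simp only [← h6, inv_one, one_pow, mul_one, ← Nat.cast_mul, Complex.natCast_re,
      Complex.re_sum] at h7
    rw [← Finset.sum_filter_add_sum_filter_not _ fun k => k.Coprime (orderOf g),
      Finset.sum_congr rfl (g := fun _ => -6) fun k hk => by
        rw [h k (Finset.mem_filter.1 hk).2, hc, e]; simp] at h7
    have h8 := Finset.sum_le_card_nsmul ((Finset.range (orderOf g)).filter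
      fun k => ¬ k.Coprime (orderOf g)) _ _ fun k _ => hχ.re_le (g ^ k)
    have h9 : ((Finset.range (orderOf g)).filter fun k => ¬ k.Coprime (orderOf g)).card * 16 <
        ((Finset.range (orderOf g)).filter fun k => k.Coprime (orderOf g)).card * 6 := by
      rcases hg with e | e <;> rw [e] <;> decide +kernel
    have h10 := (Nat.cast_lt (α := ℝ)).2 h9
    have h11 := Nat.cast_nonneg (α := ℝ) (orderOf g * Multiset.count 1 (Finset.univ.val.map ε))
    simp only [hd, Finset.sum_const, nsmul_eq_mul] at h7 h8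
    push_cast at h8 h10
    linarith
  rw [hd, Int.ModEq] at h1
  rw [hc, show c = 5 by rw [abs_le] at h4; omega]
  simp

theorem IrrCharacter.card_centralizer_le [IsSimpleGroup G] (hna : ¬ IsMulCommutative G)
    (θ : IrrCharacter G) (hd : charDegree θ.1 = 22) (h121 : ¬ 121 ∣ Nat.card G) {r : G}
    (hr : orderOf r = 11) (hi : ∀ g ∈ centralizer ({r} : Set G), ∃ n : ℤ, θ g = n) :
    Nat.card (centralizer ({r} : Set G)) ≤ 66 := by
  have : Fact (Nat.Prime 11) := ⟨by norm_num⟩
  have h1 : θ ≠ IrrCharacter.one G := fun e => by simp [e] at hd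
  have h0 : ∀ g, 11 ∣ orderOf g → θ g = 0 := fun g hg => θ.eq_zero_of_defect_zero 11 (by
    have := (Nat.Prime.pow_dvd_iff_le_factorization this.out Nat.card_pos.ne' (k := 2)).not.1 h121
    exact (pow_dvd_pow 11 (by omega : _ ≤ 1)).trans (by rw [hd]; decide)) hg
  have h2 := θ.isCharacter.isGen
  have h3 := ((h2.mul (h2.mul h2)).sub (h2.zsmul 121)).card_dvd_of_vanish
    (centralizer ({r} : Set G)) (m := 6 * 11 ^ 3) (fun g hg hg1 => by
      obtain ⟨n, hn⟩ := hi g hg
      have hc : Commute r g := (mem_centralizer_singleton_iff.1 hg).symm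
      by_cases h11 : 11 ∣ orderOf g
      · simp [h0 g h11]
      have h4 := h2.int_modEq this.out hc (k := 1) (m := 0)
        (by rw [pow_one, ← hr, pow_orderOf_eq_one]) (by
          rw [h0 _ (by
            rw [hc.orderOf_mul_eq_mul_orderOf_of_coprime
              (hr ▸ (Nat.Prime.coprime_iff_not_dvd this.out).2 h11), hr]
            exact dvd_mul_right _ _), Int.cast_zero]) hn
      have h5 := θ.norm_le g
      have h6 := (θ.mem_charCenter (g := g)).not.1 (by
        rwa [θ.charCenter_eq_bot_of_isSimpleGroup hna h1, mem_bot])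
      rw [hn, hd, Complex.norm_intCast] at h5 h6
      have h7 : |n| < 22 := by exact_mod_cast lt_of_le_of_ne h5 h6
      rw [abs_lt] at h7
      rw [Int.ModEq] at h4
      rcases (by omega : n = 0 ∨ n = 11 ∨ n = -11) with rfl | rfl | rfl <;>
        simp [hn] <;> norm_num) (by simp [θ.apply_one, hd]; norm_num)
  obtain ⟨s, t, h4, h5, e⟩ := (Nat.dvd_mul (m := 6) (n := 11 ^ 3)).1 (by exact_mod_cast h3)
  obtain ⟨k, -, rfl⟩ := (Nat.dvd_prime_pow this.out).1 h5
  have h6 : k ≤ 1 := by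
    by_contra hk
    exact h121 ((pow_dvd_pow 11 (by omega : 2 ≤ k)).trans
      ((e ▸ dvd_mul_left _ _).trans (card_subgroup_dvd_card _)))
  exact e ▸ Nat.mul_le_mul (Nat.le_of_dvd (by decide) h4) (Nat.pow_le_pow_right (by decide) h6)

theorem SmallDeg.false_of_nineteen [Fact (Nat.Prime 19)] {P : Sylow 19 G} {χ : IrrCharacter G}
    (h : SmallDeg 19 P χ) (hG : commutator G = ⊤) (hd : charDegree χ.1 = 16) : False := by
  have : Fact (Nat.Prime 11) := ⟨by norm_num⟩
  let _ := Fintype.ofFinite (P : Subgroup G)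
  obtain ⟨x, hx, hx1⟩ := h.exists_ne_one
  let _ := Fintype.ofFinite (zpowers (x : G ⧸ center G))
  have he : (C(P)).relIndex N(P) = 3 := by have := h.le_relIndex; omega
  obtain ⟨X, Y, ζ, δ, a, b, hX, θ, hθ, _, i, j, k, l, n, rfl, h1, h2, h3, h4, h5, h6, h7, h8⟩ :=
    h.exists_three hG he (by rw [hd]; decide) hx hx1
  rw [hd] at h7 h8
  have h22 := nineteen_arith b.sign h1 h2 h3 h4 h5 h6 h7 h8
  obtain ⟨X', Y', ζ', δ', a', b', hχ⟩ := h.exists_pBlk
  have hY : Y.card = 6 := by have := b.cardY; rw [hX] at this; omega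
  have hY' : Y'.card = 6 := by have := b'.cardY; rw [b'.cardX, he] at this; omega
  have hZ := hd ▸ χ.card_center_dvd_of_perfect h.faith hG
  have h5 : ∀ g, orderOf g = 11 ∨ orderOf g = 121 → χ g = 5 := fun g hg =>
    χ.isCharacter.eq_five hd h.eq_one hg fun k hk => h.apply_pow hk (by
      rw [Nat.Coprime.coprime_dvd_left (mul_dvd_mul_left 19 hZ)
        (by rcases hg with e | e <;> rw [e] <;> decide)]
      exact Nat.modEq_one)
  have h121 : ¬ 121 ∣ Nat.card G := fun e => by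
    obtain ⟨A, hA⟩ := Sylow.exists_subgroup_card_pow_prime 11 (n := 2) e
    have h1 := (χ.isCharacter.isGen.sub (IsCharacter.one.isGen.zsmul 5)).card_dvd_of_vanish A
      (m := 11) (fun g hg hg1 => by
        obtain ⟨k, hk, e⟩ := (Nat.dvd_prime_pow this.out).1 (hA ▸ A.orderOf_dvd_natCard hg)
        have := h5 g (by
          interval_cases k
          exacts [absurd (orderOf_eq_one_iff.1 e) hg1, Or.inl e, Or.inr e])
        simp [this]) (by simp [χ.apply_one, hd]; norm_num)
    rw [hA] at h1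
    norm_num at h1
  have hq := card_eq_card_quotient_mul_card_subgroup (center G)
  obtain ⟨r, hr⟩ := exists_prime_orderOf_dvd_card' (G := G) 11
    (hq ▸ ((h22 ▸ (by decide : 11 ∣ 22)).trans θ.charDegree_dvd_card).mul_right _)
  have hr' : orderOf (r : G ⧸ center G) = 11 := orderOf_eq_prime
    (by rw [← QuotientGroup.mk_pow, ← hr, pow_orderOf_eq_one, QuotientGroup.mk_one]) fun e => by
      have := ((center G).orderOf_dvd_natCard ((QuotientGroup.eq_one_iff _).1 e)).trans hZ
      rw [hr] at this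
      norm_num at this
  have := h.isSimpleGroup_quot hG
  have h9 := θ.card_centralizer_le h.not_comm_quot h22 (fun e => h121 (hq ▸ e.mul_right _)) hr'
    fun g hg => b.exists_int (by omega) hθ (m := 19) (by decide) dvd_rfl
      (fun σ _ => IrrCharacter.isClassFunction _) ((Nat.Prime.coprime_iff_not_dvd Fact.out).2
        fun e => (h.selfCent hx hx1).not_dvd_card_centralizer (z := (r : G ⧸ center G))
          (by rw [IsPRegular, hr']; decide) (fun e => by simp [e] at hr')
          (e.trans (Subgroup.orderOf_dvd_natCard _ hg)))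
  have h10 := b'.card_mul_le hχ h.not_dvd_card_center (r := r) (by rw [IsPRegular, hr]; decide)
  have h11 := (Nat.cast_le (α := ℝ)).2 h9
  rw [hY', h5 r (Or.inl hr)] at h10
  norm_num at h10 h11
  linarith

end Cfsg
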