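import Cfsg.Agent.Blk.EqDeg
import Cfsg.Agent.Blk.Quot
import Cfsg.Agent.Blk.Central
import Cfsg.Agent.Blk.Covering
import Cfsg.Agent.Grp.Frattini
import Cfsg.Agent.Grp.Misc
import Cfsg.Agent.Char.Extend
import Cfsg.Agent.Char.Degrees

/-!
# Blocks with a normal defect group
-/

set_option autoImplicit false
set_option linter.unusedSectionVars false
set_option linter.style.haveILetI false

namespace Cfsg

open MonoidAlgebra GA
open scoped commutatorElement Pointwise

universe u v w

local notation "C(" Q ")" => Subgroup.centralizer ((Q : Subgroup _) : Set _)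
local notation "N(" Q ")" => Subgroup.normalizer ((Q : Subgroup _) : Set _)

namespace GA

variable {k : Type w} [Field k] {p : ℕ} [Fact p.Prime] [CharP k p] {G : Type u} [Group G]
  [Finite G] {P : Subgroup G} {b e : k[G]}

/-- For a normal defect group, the inertial group controls fusion. -/
theorem IsMaxPair.exists_mem_stab_of_normal [hn : P.Normal] (hP : IsMaxPair p b P e) (n : ℕ) :
    ∀ (Q : Subgroup G) (g : G), Nat.card P - Nat.card Q = n → BFus p P e Q g →
      ∃ t ∈ cjStab e, ∀ y ∈ Q, g * y * g⁻¹ = t * y * t⁻¹ := by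
  induction n using Nat.strong_induction_on with
  | _ n ih =>
  intro Q g hc h
  rcases h.le.eq_or_lt with rfl | hlt
  · exact ⟨g, (h.mem_stab hP.pair).2, fun _ _ => rfl⟩
  obtain ⟨f, hf⟩ := exists_bpLe hP.pair h.cjS_le
  have hcard : ∀ (x : G) (R : Subgroup G),
      Nat.card (P ⊓ C(cjS x R) : Subgroup G) = Nat.card (P ⊓ C(R) : Subgroup G) := fun x R => by
    rw [← cjS_centralizer, ← card_cjS x (P ⊓ C(R)), cjS_inf, cjS_of_normal x P]
  have hR := lt_inf_normalizer hP.pair.isPGroup hlt
  obtain ⟨c, hc1, hc2⟩ := h.exists_extend hP.pair hf ((hP.isDefGrp_centralizer_iff hf).2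
    fun x _ => (hcard x _).le) hR.le le_rfl (le_sup_of_le_left (by
      rw [cjS_inf, cjS_of_normal, cjS_normalizer]))
  have h1 : Nat.card Q < Nat.card (P ⊓ N(Q) : Subgroup G) := card_lt_of_lt hR
  have h2 : Nat.card (P ⊓ N(Q) : Subgroup G) ≤ Nat.card P := Subgroup.card_le_of_le inf_le_left
  obtain ⟨t, ht, ht'⟩ := ih _ (by omega) _ _ rfl hc2
  refine ⟨t, ht, fun y hy => ?_⟩
  rw [← ht' y (hR.le hy), ← mem_centralizer_sub_conj'.1 hc1 _ (conj_mem_cjS.2 hy)]
  group

theorem IsMaxPair.isNilpIn_of_normal' [IsAlgClosed k] [hn : P.Normal] (hP : IsMaxPair p b P e)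
    (h : ∀ x, cj x e = e → IsPRegular p x → x ∈ C(P)) : IsNilpIn p ⊤ b := by
  have h1 : N(P) ⊓ cjStab e ≤ P ⊔ C(P) := by
    have hi := hP.pair.isInertial_stab
    refine le_of_pow_mem_of_not_dvd (p := p) hi.centralizer_le hi.le_normalizer_centralizer
      (fun x hx => exists_pow_mem_of_forall_isPRegular (fun y hy => h y (Subgroup.mem_inf.1 hy).2) hx) le_sup_right
      (hi.not_dvd_relIndex hP.isDefGrp_stab)
  refine hP.isNilpIn_iff.2 fun Q g hg => ?_
  obtain ⟨t, ht, ht'⟩ := hP.exists_mem_stab_of_normal _ Q g rfl hg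
  have h2 : t ∈ ((P ⊔ C(P) : Subgroup G) : Set G) :=
    h1 ⟨le_normalizer_of_normal' ⊤ P (Subgroup.mem_top t), ht⟩
  rw [Subgroup.normal_mul] at h2
  obtain ⟨u, hu, c, hc, rfl⟩ := h2
  refine ⟨u, hu, fun y hy => ?_⟩
  rw [ht' y hy]
  conv_rhs => rw [← mem_centralizer_sub_conj'.1 hc y (hg.le hy)]
  group

end GA

variable {G : Type u} [Group G] [Finite G] {Q : Type v} [Group Q] [Finite Q] {p : ℕ}
  [Fact p.Prime] {M : Ideal AlgInt} {B : Set (IrrCharacter G)} {D : Subgroup G}

/-- In a block with a normal abelian defect group all heights are zero. -/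
theorem IsDefectGroup.blockHeight_eq_zero_of_normal_comm (hM : IsPModular p M) (hB : IsPBlock M B)
    (hD : IsDefectGroup p M B D) [D.Normal] (hab : D ≤ C(D)) {χ : IrrCharacter G} (hχ : χ ∈ B) :
    blockHeight p B χ.1 = 0 := by
  let f := (C(D) : Subgroup G).subtype
  obtain ⟨ξ, hξ⟩ := χ.exists_liesOver_below f
  have hc : Covers f B (blockOf M ξ.1) := hB.eq_blockOf hM hχ ▸ hξ.covers_blockOf hM
  obtain ⟨g, -, hg⟩ := hc.exists_isDefectGroup_comap hM hB (isPBlock_blockOf ξ) hD
  have hb := (isPBlock_blockOf (M := M) ξ).mulAut_smul (conjAut f g)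
  have hmem : conjAut f g • ξ ∈ conjAut f g • blockOf M ξ.1 :=
    Set.smul_mem_smul_set (hM.mem_blockOf_self ξ)
  have hcent : ∀ u ∈ D.comap f, ∀ x : (C(D) : Subgroup G), u * x = x * u := fun u hu x =>
    Subtype.ext (x.2 u hu)
  have htop : D.comap f ⊔ C(D.comap f) = ⊤ :=
    top_le_iff.1 (le_sup_of_le_right fun x _ u hu => hcent u hu x)
  obtain ⟨χ₀, h0, h0'⟩ := exists_blockHeight_eq_zero (p := p) ⟨_, hmem⟩
  obtain ⟨ζ, hζ⟩ := hg.exists_isCentralForm hM hb htop h0 h0' hmem
  have h1 := hg.blockHeight_eq_of_isCentralForm hM hb htop h0 h0' hmem hζ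
  have h2 : charDegree ζ.1 = 1 := comm_iff_charDegrees_subset.1
    (fun a b : D.comap f => Subtype.ext (hcent a.1 a.2 b.1)) ζ.charDegree_mem
  have h3 := factorization_charDegree_add_blockDefect (p := p) hmem
  rw [h1, h2, IrrCharacter.charDegree_smul] at h3
  have h4 : blockDefect p (conjAut f g • blockOf M ξ.1) = blockDefect p B := by
    apply Nat.pow_right_injective hM.prime.two_le
    simp only
    rw [← hg.card_eq hb hM, ← hD.card_eq hB hM]
    exact Nat.card_congr (Subgroup.subgroupOfEquivOfLe hab).toEquiv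
  have h5 := (Nat.factorization_le_iff_dvd χ.charDegree_pos.ne' (mul_ne_zero ξ.charDegree_pos.ne'
    Subgroup.index_ne_zero_of_finite)).2 hξ.charDegree_dvd_mul_index p
  rw [Nat.factorization_mul ξ.charDegree_pos.ne' Subgroup.index_ne_zero_of_finite,
    Subgroup.range_subtype] at h5
  have h6 := factorization_index_add (p := p) (C(D) : Subgroup G)
  have h7 := factorization_charDegree_add_blockDefect (p := p) hχ
  simp only [Nat.factorization_one, Finsupp.coe_zero, Pi.zero_apply, Finsupp.coe_add,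
    Pi.add_apply] at h3 h5
  omega

/-- A `p`-regular element centralizing `D / D'` centralizes the normal `p`-subgroup `D`. -/
theorem mem_centralizer_of_map_mem {π : G →* Q} [D.Normal] (hD : IsPGroup p D)
    (hk : π.ker ≤ ⁅D, D⁆) {x : G} (hx : IsPRegular p x) (h : π x ∈ C(D.map π)) : x ∈ C(D) := by
  have hc : IsCoprimeAction (Subgroup.zpowers x) D :=
    isCoprimeAction_of_isPGroup_right (le_normalizer_of_normal' _ D) hD
      (by rwa [Nat.card_zpowers])
  have h1 : Subgroup.zpowers x ≤ (C(D.map π) : Subgroup Q).comap π := by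
    rwa [Subgroup.zpowers_le]
  have h2 := hc.le_centralizer_of_commutator_le_frattiniOf (le_trans (Subgroup.commutator_le.2
    fun d hd y hy => hk (by
      rw [MonoidHom.mem_ker, map_commutatorElement, commutatorElement_eq_one_iff_mul_comm]
      exact h1 hy _ ⟨d, hd, rfl⟩)) (commutator_le_frattiniOf hD))
  exact fun d hd => (h2 hd x (Subgroup.mem_zpowers x)).symm

/-- The image of a Brauer pair at a normal `p`-subgroup `D` in a quotient by a subgroup of
`D'`. -/
theorem IsPModular.exists_isBPair_map (hM : IsPModular p M) {π : G →* Q}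
    (hπ : Function.Surjective π) [D.Normal] (hk : π.ker ≤ ⁅D, D⁆) {e : (ResK M)[G]}
    (he : haveI := hM.charP; IsBPair p D e) : haveI := hM.charP
    ∃ e', IsBPair p (D.map π) e' ∧ (∀ x, cj x e = e → cj (π x) e' = e') ∧
      ∀ b ∈ fixedBy (ResK M) (⊤ : Subgroup G), b * e = e → emb π b * e' = e' := by
  haveI := hM.charP
  haveI : (D.map π).Normal := Subgroup.Normal.map inferInstance π hπ
  have hkD : π.ker ≤ D := hk.trans (Subgroup.commutator_le_right D D)
  obtain ⟨c, hc, rfl⟩ := hM.exists_block_of_isBPair he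
  let K : Subgroup Q := (C(D) : Subgroup G).map π
  let π' : (C(D) : Subgroup G) →* K := π.subgroupMap _
  have hπ' : Function.Surjective π' := π.subgroupMap_surjective _
  have hker : ∀ x ∈ π'.ker, (x : G) ∈ D := fun x hx => hkD (congrArg Subtype.val hx)
  have hc' := hc.preimage_inflate_of_centralizer hM hπ' (p := p)
    (he.isPGroup.comap_subtype.to_le (K := D.subgroupOf _) hker)
    fun g _ x hx => Subtype.ext (g.2 x (hker x hx))
  have h1 : emb π (subIdem M _ c) = subIdem M K (IrrCharacter.inflate π' hπ' ⁻¹' c) := by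
    rw [subIdem, subIdem, ← (hc.isBlockUnion hM).emb_blockIdem hM hπ', emb_emb, emb_emb]
    rfl
  have h2 : IsBlockIdem K (emb π (subIdem M _ c)) := h1 ▸ hc'.isBlockIdem_subIdem hM
  have hKL : K ≤ C(D.map π) := by
    rintro _ ⟨x, hx, rfl⟩ _ ⟨d, hd, rfl⟩
    rw [← map_mul, ← map_mul, hx d hd]
  haveI : K.Normal := Subgroup.Normal.map inferInstance π hπ
  have h3 : IsBlockIdem C(D.map π) (orbIdem C(D.map π) (emb π (subIdem M _ c))) := by
    refine (isBlockIdem_iff_of_pow_mem (p := p) hKL fun x hx =>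
      exists_pow_mem_of_forall_isPRegular (fun y hy hy' => ?_) hx).2
      (h2.orbIdem le_rfl hKL (le_normalizer_of_normal' _ K) (le_normalizer_of_normal' _ K))
    obtain ⟨y, hy'', rfl⟩ := hy'.exists_lift hπ
    exact ⟨y, mem_centralizer_of_map_mem he.isPGroup hk hy'' hy, rfl⟩
  refine ⟨_, ⟨he.isPGroup.map π, h3⟩, fun x hx => ?_, fun b hb hbe => ?_⟩
  · rw [cj_orbIdem, cjS_of_normal, ← emb_cj, hx]
  · refine h2.mul_orbIdem_of_mul_eq le_rfl hKL (le_normalizer_of_normal' _ K)
      (le_normalizer_of_normal' _ K) ?_ (by rw [← map_mul, hbe])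
    exact fixedBy_anti le_top (mem_Zalg_top.1 (emb_mem_center_of_surjective hπ (mem_Zalg_top.2 hb)))

/-- **Malle–Navarro**: a block with normal defect group whose characters of height zero have the
same degree is nilpotent. -/
theorem IsDefectGroup.isNilpIn_of_normal (hM : IsPModular p M) (hB : IsPBlock M B)
    (hD : IsDefectGroup p M B D) [D.Normal] {d : ℕ}
    (hd : ∀ χ ∈ B, blockHeight p B χ.1 = 0 → charDegree χ.1 = d) :
    IsNilpIn p ⊤ (blockIdem M B) := by
  haveI := hM.charP
  obtain ⟨e, he⟩ := (hB.isBlockIdem hM).exists_isMaxPair ((hB.isDefectGroup_iff hM D).1 hD)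
  let π := QuotientGroup.mk' ⁅D, D⁆
  have hπ : Function.Surjective π := QuotientGroup.mk'_surjective _
  have hk : π.ker = ⁅D, D⁆ := QuotientGroup.ker_mk' _
  haveI : (D.map π).Normal := Subgroup.Normal.map inferInstance π hπ
  have hBr : ∀ {H : Type u} [Group H] [Finite H] {P : Subgroup H} [P.Normal] {b : (ResK M)[H]},
      IsPGroup p P → IsBlockIdem ⊤ b → Br P b = b := fun hP hb =>
    Br_eq_self_of_normal hP le_top (le_normalizer_of_normal' _ _) le_rfl hb.mem hb.idem
  obtain ⟨e', he', hst, hmul⟩ := hM.exists_isBPair_map hπ hk.le he.pair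
  obtain ⟨b, hb⟩ := he'.exists_isPairOf
  obtain ⟨B', hB', rfl⟩ := hM.exists_block_of_isBlockIdem hb.block
  have hsub : B' ⊆ IrrCharacter.inflate π hπ ⁻¹' B := by
    have hU := (hB.isBlockUnion hM).preimage_inflate hM hπ
    have h1 := hmul _ (he.fixed ⊤) (by simpa only [hBr he.pair.isPGroup he.block] using he.br)
    have h2 := hb.br
    rw [hBr he'.isPGroup hb.block] at h2
    rw [(hB.isBlockUnion hM).emb_blockIdem hM hπ] at h1
    by_cases h3 : (B' ∩ IrrCharacter.inflate π hπ ⁻¹' B).Nonempty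
    · obtain ⟨χ, h4, h5⟩ := h3
      exact hU.subset_of_mem hB' hM h4 h5
    · exfalso
      apply he'.ne_zero
      rw [← h2, ← h1, ← mul_assoc, (hB'.isBlockUnion hM).blockIdem_mul hU hM,
        Set.not_nonempty_iff_eq_empty.1 h3, blockIdem, blockIdemC_empty, redGA_zero, zero_mul]
  have hD' : IsDefectGroup p M B' (D.map π) := by
    obtain ⟨D', hD'⟩ := hB'.exists_isDefectGroup hM (p := p)
    obtain ⟨g, hg⟩ := IsDefectGroup.exists_cjS_le_map hM hπ hB' hB hsub hD' hD
    rw [cjS_le_iff, cjS_of_normal] at hg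
    rwa [← le_antisymm hg (hD'.le_of_normal hB' hM he'.isPGroup)]
  have hab : D.map π ≤ C(D.map π) := by
    rintro _ ⟨x, hx, rfl⟩ _ ⟨y, hy, rfl⟩
    rw [← commutatorElement_eq_one_iff_mul_comm, ← map_commutatorElement, ← MonoidHom.mem_ker, hk]
    exact Subgroup.commutator_mem_commutator hy hx
  have hd' : ∀ β ∈ B', charDegree β.1 = d := by
    intro β hβ
    rw [← β.charDegree_inflate π hπ]
    refine hd _ (hsub hβ) ?_
    have h1 := factorization_charDegree_add_blockDefect (p := p) hβ
    have h2 := factorization_charDegree_add_blockDefect (p := p) (B := B) (χ := β.inflate π hπ)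
      (hsub hβ)
    have h3 := factorization_card_of_surjective (p := p) hπ
    have h4 : (Nat.card D).factorization p =
        (Nat.card π.ker).factorization p + (Nat.card (D.map π)).factorization p := by
      rw [factorization_card_of_surjective (p := p) (π.subgroupMap_surjective D)]
      congr 3
      rw [Subgroup.ker_subgroupMap]
      exact Nat.card_congr (Subgroup.subgroupOfEquivOfLe
        (hk.le.trans (Subgroup.commutator_le_right D D))).toEquiv
    rw [hD.card_eq hB hM, hD'.card_eq hB' hM, hM.prime.factorization_pow,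
      hM.prime.factorization_pow, Finsupp.single_eq_same, Finsupp.single_eq_same] at h4
    rw [hD'.blockHeight_eq_zero_of_normal_comm hM hB' hab hβ] at h1
    rw [β.charDegree_inflate π hπ] at h2
    omega
  have hn := (hB'.isNilpIn_of_charDegree_eq hM hd').1
  have hmax : IsMaxPair p (blockIdem M B') (D.map π) e' :=
    ⟨hb, (hB'.isDefectGroup_iff hM _).1 hD'⟩
  refine he.isNilpIn_of_normal' fun x hx hx' =>
    mem_centralizer_of_map_mem he.pair.isPGroup hk.le hx' ?_
  exact (hmax.isNilpIn_iff_of_comm hab).1 hn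
    ⟨le_normalizer_of_normal' ⊤ _ (Subgroup.mem_top _), hst x hx⟩

end Cfsg
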