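import Cfsg.Agent.Blk.PrimeVal

/-!
# Faithful characters of degree `p - 2`: the local structure
-/

set_option autoImplicit false
set_option linter.unusedSectionVars false
set_option linter.unusedVariables false
set_option linter.style.haveILetI false

namespace Cfsg

open Exc Subgroup
open scoped ComplexConjugate Classical

universe u v w

variable {G : Type u} [Group G] [Finite G] {p : ℕ} [hp : Fact p.Prime]

local notation "C(" Q ")" => Subgroup.centralizer ((Q : Subgroup G) : Set G)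
local notation "N(" Q ")" => Subgroup.normalizer ((Q : Subgroup G) : Set G)

theorem IsCharacter.exists_linear_decomp {χ : G → ℂ} (hχ : IsCharacter G χ) (P : Subgroup G)
    [IsMulCommutative P] {y : G} (hy : y ∈ C(P)) :
    ∃ (mu : Fin (charDegree χ) → (P →* ℂˣ)) (c : Fin (charDegree χ) → ℂ), (∀ i, ‖c i‖ = 1) ∧
      (∀ u : P, χ u = ∑ i, ((mu i u : ℂˣ) : ℂ)) ∧
      ∀ u : P, χ (u * y) = ∑ i, c i * ((mu i u : ℂˣ) : ℂ) := by
  let f : P × zpowers y →* G := P.subtype.noncommCoprod (zpowers y).subtype fun a b => by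
    obtain ⟨k, hk⟩ := mem_zpowers_iff.1 b.2
    rw [coe_subtype, coe_subtype, ← hk]
    exact Commute.zpow_right (hy a a.2) k
  have hd : charDegree (χ ∘ f) = charDegree χ := by simp [charDegree]
  obtain ⟨g, hg, -⟩ := (hχ.comp f).exists_eq_sum_monoidHom
  refine ⟨fun i => (g (Fin.cast hd.symm i)).comp (MonoidHom.inl _ _),
    fun i => g (Fin.cast hd.symm i) (1, ⟨y, mem_zpowers y⟩), fun i => linear_norm_apply _ _,
    fun u => ?_, fun u => ?_⟩
  · have := hg (u, 1)
    simp only [Function.comp, f, MonoidHom.noncommCoprod_apply, map_one, mul_one] at this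
    exact this.trans (Fin.sum_congr' _ hd.symm).symm
  · have := hg (u, ⟨y, mem_zpowers y⟩)
    simp only [Function.comp, f, MonoidHom.noncommCoprod_apply] at this
    refine this.trans ((Fin.sum_congr' _ hd.symm).symm.trans (Finset.sum_congr rfl fun i _ => ?_))
    rw [← Units.val_mul, MonoidHom.comp_apply, ← map_mul]
    simp

theorem Exc.coef_sum_linear {A ι : Type*} [Group A] [Fintype A] [Fintype ι] (mu : ι → (A →* ℂˣ))
    (c : ι → ℂ) (lam : A →* ℂˣ) : coef (fun u => ∑ i, c i * ((mu i u : ℂˣ) : ℂ)) lam =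
      ∑ i with mu i = lam, c i - ∑ i with mu i = 1, c i := by
  rw [coef_sum, Finset.sum_filter, Finset.sum_filter, ← Finset.sum_sub_distrib]
  refine Finset.sum_congr rfl fun i _ => ?_
  rw [coef_mul, coef_linear]
  split_ifs <;> simp

theorem pm2_numeric {p f n k : ℕ} {s : ℤ} (hp : 5 < p) (hf : f ∣ p - 1) (hk : 0 < k)
    (hs : s = 1 ∨ s = -1) (h0 : 0 ≤ n + s * k) (h : (p : ℤ) * n + s * k * f = p - 2) :
    (n = 0 ∧ f = 1) ∨ n = p - 2 ∨ (s = -1 ∧ n = 1 ∧ k = 1 ∧ f = 2) := by
  obtain ⟨t, ht⟩ := hf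
  obtain ⟨q, rfl⟩ : ∃ q, p = q + 2 := ⟨p - 2, by omega⟩
  have ht' : q + 1 = f * t := ht
  rcases hs with rfl | rfl
  · have h1 : (q + 2) * n + k * f = q := by push_cast at h; zify; linear_combination h
    have hn : n = 0 := by
      by_contra hn
      have := Nat.mul_le_mul_left (q + 2) (Nat.one_le_iff_ne_zero.2 hn)
      omega
    subst hn
    refine Or.inl ⟨rfl, Nat.dvd_one.1 ((Nat.dvd_add_right ⟨k, by rw [mul_comm]; omega⟩).1
      ⟨t, ht'⟩)⟩
  · obtain ⟨r, rfl⟩ : ∃ r, n = k + r := ⟨n - k, by omega⟩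
    have hf : f ≤ q + 1 := ht' ▸ Nat.le_mul_of_pos_right _ (Nat.pos_of_ne_zero fun e => by
      simp [e] at ht')
    obtain ⟨e, he⟩ : ∃ e, q + 2 = f + e := ⟨q + 2 - f, by omega⟩
    have h1 : (q + 2) * r + k * e = q := by
      have : ((q : ℤ) + 2) = f + e := by exact_mod_cast he
      push_cast at h
      zify
      linear_combination h - k * this
    have hr : r = 0 := by
      by_contra hn
      have := Nat.mul_le_mul_left (q + 2) (Nat.one_le_iff_ne_zero.2 hn)
      omega
    subst hr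
    rcases Nat.lt_or_ge t 2 with h2 | h2
    · interval_cases t
      · omega
      · obtain rfl : e = 1 := by omega
        omega
    · have h3 := Nat.mul_le_mul_left f h2
      have hk1 : k = 1 := by
        by_contra hn
        have := Nat.mul_le_mul_right e (show 2 ≤ k by omega)
        omega
      subst hk1
      omega

theorem IrrCharacter.pm2_local_aux (P : Subgroup G) [Fintype P] (hP : Nat.card P = p)
    (hp5 : 5 < p) (hnn : ¬ P.Normal) (ζ : IrrCharacter G) (hf : charKer ζ.1 = ⊥)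
    (hd : charDegree ζ.1 = p - 2)
    (hv : (∃ c : ℂ, ∀ u : P, u ≠ 1 → ζ u = c) ∨ ∃ (lam : P →* ℂˣ) (s : ℤ) (k : ℕ), lam ≠ 1 ∧
      (s = 1 ∨ s = -1) ∧ 0 < k ∧
      (∀ u : P, u ≠ 1 → ζ u = s * k * osum (autOf P.subtype N(P)) lam u) ∧
      ∀ y ∈ C(P), IsPRegular p y → ∀ mu, ¬ Orb (autOf P.subtype N(P)) lam mu →
        coef (fun u : P => ζ (u * y)) mu = 0) :
    (C(P)).relIndex N(P) = 2 ∧ (∀ y ∈ C(P), IsPRegular p y → y ∈ center G) ∧
      ∃ lam : P →* ℂˣ, lam ≠ 1 ∧
        ∀ u : P, u ≠ 1 → ζ u = -osum (autOf P.subtype N(P)) lam u := by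
  have : IsCyclic P := isCyclic_of_prime_card hP
  have hA : ∀ a b : P, a * b = b * a := fun a b => mul_comm' a b
  let _ := Fintype.ofFinite (P →* ℂˣ)
  have hc : Fintype.card (P →* ℂˣ) = p := by
    rw [← Nat.card_eq_fintype_card, card_linear_of_comm hA, hP]
  have : Nontrivial P := Finite.one_lt_card_iff_nontrivial.1 (hP.symm ▸ hp.out.one_lt)
  obtain ⟨u, hu⟩ := exists_ne (1 : P)
  have hu' : (u : G) ≠ 1 := fun e => hu (Subtype.ext e)
  have hcen : ∀ g, ‖ζ g‖ = charDegree ζ.1 → g ∈ center G := fun g hg =>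
    ζ.isCharacter.charCenter_le_center_of_faithful hf (ζ.mem_charCenter.2 hg)
  have hconst : ∀ (mu : Fin (charDegree ζ.1) → (P →* ℂˣ)) (lam : P →* ℂˣ),
      (∀ u : P, ζ u = ∑ i, ((mu i u : ℂˣ) : ℂ)) → (∀ i, mu i = lam) → False := by
    intro mu lam h1 h2
    refine hnn (normal_of_le_center ?_)
    rw [← zpowers_eq_of_card_eq_prime hP u.2 hu', zpowers_le]
    refine hcen _ ?_
    simp [h1, h2, linear_norm_apply]
  have hsum : ∀ mu : Fin (charDegree ζ.1) → (P →* ℂˣ),
      ∑ lam, (Finset.univ.filter fun i => mu i = lam).card = p - 2 := fun mu => by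
    rw [← Finset.card_eq_sum_card_fiberwise (fun _ _ => Finset.mem_univ _), Finset.card_univ,
      Fintype.card_fin, hd]
  have hcoef : ∀ mu : Fin (charDegree ζ.1) → (P →* ℂˣ),
      (∀ u : P, ζ u = ∑ i, ((mu i u : ℂˣ) : ℂ)) → ∀ lam, coef (fun u : P => ζ u) lam =
      ((Finset.univ.filter fun i => mu i = lam).card : ℂ) -
        (Finset.univ.filter fun i => mu i = 1).card := fun mu h1 lam => by
    have := coef_sum_linear mu (fun _ => 1) lam
    simp only [one_mul, Finset.sum_const, nsmul_eq_mul, mul_one] at this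
    rw [funext h1]
    convert this
  have hpos : ∀ (mu : Fin (charDegree ζ.1) → (P →* ℂˣ)) i,
      0 < (Finset.univ.filter fun j => mu j = mu i).card := fun mu i =>
    Finset.card_pos.2 ⟨i, by simp⟩
  rcases hv with ⟨c, h⟩ | ⟨lam, s, k, hl, hs, hk, h, hy⟩
  · obtain ⟨mu, -, -, h1, -⟩ := ζ.isCharacter.exists_linear_decomp P (one_mem _)
    refine (hconst mu 1 h1 fun i => by_contra fun hi => ?_).elim
    have h2 : ∀ lam, lam ≠ 1 → 1 ≤ (Finset.univ.filter fun i => mu i = lam).card := by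
      intro lam hl
      have h3 := hcoef mu h1 lam
      have h4 := hcoef mu h1 (mu i)
      rw [coef_congr h, coef_const c hl] at h3
      rw [coef_congr h, coef_const c hi, h3, sub_left_inj, Nat.cast_inj] at h4
      exact h4 ▸ hpos mu i
    have h3 := hsum mu
    rw [← Finset.add_sum_erase _ _ (Finset.mem_univ 1)] at h3
    have h4 := Finset.card_nsmul_le_sum _ _ _ fun lam (hl : lam ∈ Finset.univ.erase 1) =>
      h2 lam (Finset.ne_of_mem_erase hl)
    rw [Finset.card_erase_of_mem (Finset.mem_univ _), Finset.card_univ, hc, smul_eq_mul] at h4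
    omega
  set E := autOf P.subtype N(P)
  have hE := (isFree_of_card_eq_prime hP E).card_orb hA hl
  have key : ∀ mu : Fin (charDegree ζ.1) → (P →* ℂˣ),
      (∀ u : P, ζ u = ∑ i, ((mu i u : ℂˣ) : ℂ)) → s = -1 ∧ k = 1 ∧ Nat.card E = 2 ∧
      ∀ nu, (Finset.univ.filter fun i => mu i = nu).card = if Orb E lam nu then 0 else 1 := by
    intro mu h1
    have h2 : ∀ nu, ((Finset.univ.filter fun i => mu i = nu).card : ℤ) =
        (Finset.univ.filter fun i => mu i = 1).card + s * k * if Orb E lam nu then 1 else 0 := by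
      intro nu
      have h3 := hcoef mu h1 nu
      rw [coef_congr h, coef_mul, coef_osum hl] at h3
      apply Int.cast_injective (α := ℂ)
      push_cast
      linear_combination -h3
    have h3 : ((∑ lam, (Finset.univ.filter fun i => mu i = lam).card : ℕ) : ℤ) = p - 2 := by
      rw [hsum mu]
      omega
    rw [Nat.cast_sum, Finset.sum_congr rfl fun nu _ => h2 nu, Finset.sum_add_distrib,
      ← Finset.mul_sum, Finset.sum_boole, hE, Finset.sum_const, Finset.card_univ, hc,
      nsmul_eq_mul] at h3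
    have h4 := h2 lam
    rw [if_pos (Orb.refl lam), mul_one] at h4
    have h5 : Nat.card E ∣ p - 1 := by
      have := E.card_subgroup_dvd_card
      rwa [IsCyclic.card_mulAut, hP, Nat.totient_prime hp.out] at this
    rcases pm2_numeric hp5 h5 hk hs (h4 ▸ Nat.cast_nonneg _) h3 with ⟨h6, h7⟩ | h6 |
      ⟨rfl, h6, rfl, h7⟩
    · refine (hconst mu lam h1 fun i => ?_).elim
      have h8 := h2 (mu i)
      have h9 := hpos mu i
      refine Finset.card_le_one.1 (hE.trans h7).le _ ?_ _ (by simpa using Orb.refl lam)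
      by_contra h10
      rw [if_neg (by simpa using h10)] at h8
      omega
    · refine (hconst mu 1 h1 fun i => ?_).elim
      have := Finset.eq_univ_of_card _ (h6.trans (hd.symm.trans (Fintype.card_fin _).symm))
      simpa using this.ge (Finset.mem_univ i)
    · refine ⟨rfl, rfl, h7, fun nu => ?_⟩
      have h8 := h2 nu
      split_ifs at h8 ⊢ <;> omega
  obtain ⟨mu, -, -, h1, -⟩ := ζ.isCharacter.exists_linear_decomp P (one_mem _)
  obtain ⟨rfl, rfl, h2, -⟩ := key mu h1
  refine ⟨(card_autOf_subtype le_rfl).symm.trans h2, fun y hy1 hy2 => ?_, lam, hl,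
    fun v hv => by simpa using h v hv⟩
  obtain ⟨mu, c, h3, h4, h5⟩ := ζ.isCharacter.exists_linear_decomp P hy1
  obtain ⟨-, -, -, h6⟩ := key mu h4
  have h7 : ∀ i, ¬ Orb E lam (mu i) := fun i e => by
    have := hpos mu i
    rw [h6, if_pos e] at this
    omega
  have h8 : ∀ i, c i = ∑ j with mu j = 1, c j := fun i => by
    have h9 := hy y hy1 hy2 _ (h7 i)
    obtain ⟨j, hj⟩ := Finset.card_eq_one.1 ((h6 (mu i)).trans (if_neg (h7 i)))
    obtain rfl : i = j := Finset.mem_singleton.1 (hj ▸ by simp)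
    rwa [coef_congr fun u _ => h5 u, coef_sum_linear, hj, Finset.sum_singleton, sub_eq_zero] at h9
  refine hcen y ?_
  have h9 := h5 1
  have i : Fin (charDegree ζ.1) := ⟨0, ζ.charDegree_pos⟩
  simp only [OneMemClass.coe_one, one_mul, map_one, Units.val_one, mul_one] at h9
  rw [h9, Finset.sum_congr rfl fun j _ => (h8 j).trans (h8 i).symm]
  simp [h3]

/-- The local structure for a faithful irreducible character of degree `p - 2`. -/
theorem IrrCharacter.pm2_local (P : Sylow p G) [Fintype P] (hP : Nat.card P = p) (hp5 : 5 < p)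
    (hnn : ¬ (P : Subgroup G).Normal) (ζ : IrrCharacter G) (hf : charKer ζ.1 = ⊥)
    (hd : charDegree ζ.1 = p - 2) :
    (C(P)).relIndex N(P) = 2 ∧ (∀ y ∈ C(P), IsPRegular p y → y ∈ center G) ∧
      ∃ lam : P →* ℂˣ, lam ≠ 1 ∧ ∀ u : (P : Subgroup G), u ≠ 1 →
        ζ u = -osum (autOf (P : Subgroup G).subtype N(P)) lam u := by
  have h := ζ.val_prime P hP (by rw [hd]; exact Nat.not_dvd_of_pos_of_lt (by omega) (by omega))
  exact IrrCharacter.pm2_local_aux (P : Subgroup G) hP hp5 hnn ζ hf hd h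

end Cfsg
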