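import Cfsg.Agent.Blk.PrimeData
import Cfsg.Agent.Grp.InvolGeo
import Cfsg.Agent.Char.BrauerApp
import Cfsg.Agent.Char.FrobSchur
import Cfsg.Agent.Char.Galois

/-!
# Groups with a self-centralizing Sylow subgroup of prime order: involutions and characters
-/

set_option autoImplicit false
set_option linter.unusedSectionVars false
set_option linter.unusedVariables false
set_option linter.style.haveILetI false

namespace Cfsg

open Exc Subgroup
open scoped ComplexConjugate Classical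

universe u v w

variable {G : Type u} [Group G] [Finite G] {p : ℕ} [hp : Fact p.Prime] {x : G}

local notation "C(" Q ")" => Subgroup.centralizer ((Q : Subgroup G) : Set G)
local notation "C₁(" u ")" => Subgroup.centralizer ({u} : Set G)
local notation "N(" Q ")" => Subgroup.normalizer ((Q : Subgroup G) : Set G)

theorem IrrCharacter.eq_zero_of_hall (χ : IrrCharacter G) {m n r : ℕ} (hr : r.Prime)
    (hG : Nat.card G = m * n) (hn : ¬ r ∣ n) (hm : m ∣ charDegree χ.1) {g : G}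
    (hg : r ∣ orderOf g) : χ g = 0 :=
  haveI := Fact.mk hr
  χ.eq_zero_of_defect_zero r ((Nat.Coprime.dvd_of_dvd_mul_right
    (Nat.Coprime.pow_left _ (hr.coprime_iff_not_dvd.2 hn))
    (hG ▸ Nat.ordProj_dvd _ r)).trans hm) hg

theorem IsCharacter.eq_sum_of_le {Y : Finset (IrrCharacter G)} {Θ : G → ℂ} (hΘ : IsCharacter G Θ)
    (h : ∀ η ∈ Y, ip Θ η.1 ≠ 0) (hd : charDegree Θ ≤ ∑ η ∈ Y, charDegree η.1) :
    Θ = ∑ η ∈ Y, η.1 := by
  induction Y using Finset.induction_on generalizing Θ with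
  | empty =>
    by_contra h0
    have := hΘ.charDegree_pos h0
    simp at hd
    omega
  | insert η Y hη ih =>
    have h1 := hΘ.sub_irr η (h η (Finset.mem_insert_self _ _))
    have h2 := h1.charDegree_add η.isCharacter
    rw [sub_add_cancel] at h2
    rw [Finset.sum_insert hη] at hd ⊢
    rw [← ih h1 (fun χ hχ => ?_) (by omega), add_sub_cancel]
    rw [ip_sub_left, IrrCharacter.ip_of_ne (ne_of_mem_of_not_mem hχ hη).symm, sub_zero]
    exact h χ (Finset.mem_insert_of_mem hχ)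

theorem IsCharacter.sum_ipNat_mul_le {Θ : G → ℂ} (hΘ : IsCharacter G Θ)
    (W : Finset (IrrCharacter G)) : ∑ χ ∈ W, ipNat Θ χ.1 * charDegree χ.1 ≤ charDegree Θ := by
  rw [hΘ.charDegree_eq_sum]
  exact Finset.sum_le_sum_of_subset (Finset.subset_univ _)

/-- If an element normalizing `P` acts as `-s` on the fixed space of `P`, then it does so for every
constituent. -/
theorem IsCharacter.re_sum_of_constituent {Θ : G → ℂ} (hΘ : IsCharacter G Θ) (P : Subgroup G)
    [Fintype P] {w : G} (hw : w ∈ N(P)) {s : ℝ} (hs : s = 1 ∨ s = -1)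
    (h : (∑ u : P, Θ u).re + s * (∑ u : P, Θ (w * u)).re = 0) {φ : IrrCharacter G}
    (hφ : ip Θ φ.1 ≠ 0) : (∑ u : P, φ u).re + s * (∑ u : P, φ (w * u)).re = 0 := by
  have h1 := abs_le.1 ((Complex.abs_re_le_norm _).trans (φ.isCharacter.norm_sum_mul_le P hw))
  have h2 := abs_le.1 ((Complex.abs_re_le_norm _).trans ((hΘ.sub_irr φ hφ).norm_sum_mul_le P hw))
  simp only [Pi.sub_apply, Finset.sum_sub_distrib, Complex.sub_re] at h2
  rcases hs with rfl | rfl <;> linarith [h1.1, h1.2, h2.1, h2.2]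

theorem exists_invol_sylow_le (hev : 2 ∣ Nat.card G) :
    ∃ z : G, orderOf z = 2 ∧ ¬ 2 ∣ (C₁(z)).index := by
  obtain ⟨S⟩ : Nonempty (Sylow 2 G) := inferInstance
  have : Nontrivial S := (Subgroup.nontrivial_iff_ne_bot _).2 (S.ne_bot_of_dvd_card hev)
  have := S.isPGroup'.center_nontrivial
  obtain ⟨z, hz⟩ := exists_prime_orderOf_dvd_card' (G := center S) 2
    ((S.isPGroup'.to_subgroup _).card_eq_or_dvd.resolve_left
      (Finite.one_lt_card (α := center S)).ne')
  refine ⟨z.1.1, by rw [Subgroup.orderOf_coe, Subgroup.orderOf_coe, hz], fun hd =>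
    S.not_dvd_index (hd.trans (index_dvd_of_le fun s hs => ?_))⟩
  exact mem_centralizer_singleton_iff.2 (congrArg Subtype.val (mem_center_iff.1 z.2 ⟨s, hs⟩))

namespace SelfCent

theorem secConst (h : SelfCent p x) {P : Subgroup G} (hP : Nat.card P = p) {Θ : G → ℂ}
    (hΘ : IsClassFunction G Θ) : SecConst p P Θ := by
  intro u hu h1 g hg
  have h2 : orderOf u = p := ((Nat.dvd_prime hp.out).1 (hP ▸ P.orderOf_dvd_natCard hu)).resolve_left
    (by rwa [orderOf_eq_one_iff])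
  have h3 := h.of_orderOf ((orderOf_eq_of_isConj' hg).trans h2)
  have h4 : pPrimePart p g = 1 := h3.eq_one_of_mem (Q := h3.sylow) (by
    rw [h3.coe_sylow, ← h3.cent, mem_centralizer_singleton_iff]
    exact (commute_pPart_pPrimePart p g).symm) (isPRegular_pPrimePart p g)
  rw [← pPart_mul_pPrimePart p g, h4, mul_one]
  exact hΘ.eq_of_isConj hg

theorem not_dvd_card_centralizer (h : SelfCent p x) {z : G} (hz : IsPRegular p z) (h1 : z ≠ 1) :
    ¬ p ∣ Nat.card C₁(z) := fun hd => by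
  obtain ⟨y, hy⟩ := exists_prime_orderOf_dvd_card' p hd
  have h3 := h.of_orderOf ((Subgroup.orderOf_coe y).trans hy)
  refine h1 (h3.eq_one_of_mem (Q := h3.sylow) ?_ hz)
  rw [h3.coe_sylow, ← h3.cent, mem_centralizer_singleton_iff]
  exact (mem_centralizer_singleton_iff.1 y.2).symm

theorem card_eq (h : SelfCent p x) {P : Subgroup G} (hP : Nat.card P = p) (hx : x ∈ P) :
    Nat.card G = p * (C(P)).relIndex N(P) * Nat.card (Sylow p G) := by
  have h1 : zpowers x = P := Subgroup.eq_of_le_of_card_ge (zpowers_le.2 hx)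
    (by rw [hP, h.card_zpowers])
  subst h1
  rw [h.centralizer_eq, h.sylow.card_eq_index_normalizer, mul_assoc]
  erw [relIndex_mul_index le_normalizer]
  rw [mul_comm, h.index_zpowers_mul]

variable (h : SelfCent p x) (hp2 : p ≠ 2)
include h hp2

theorem class_mul {z : G} (hz : orderOf z = 2)
    (h0 : ∑ χ : IrrCharacter G, χ z * χ z * conj (χ x) / χ 1 ≠ 0) :
    (p : ℂ) * (Nat.card C₁(z)) ^ 2 =
      Nat.card G * ∑ χ : IrrCharacter G, χ z * χ z * conj (χ x) / χ 1 ∧
      ∃ Q : Sylow p G, z • Q = Q := by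
  have h1 := card_class_mul_eq_sum z z x
  have h2 : ((C₁(z)).index : ℂ) ≠ 0 := by exact_mod_cast FiniteIndex.index_ne_zero
  have h3 := natCard_cast_ne_zero G
  obtain ⟨h4, h5⟩ := h.card_pairs hp2 hz fun e => by
    rw [e, Nat.cast_zero] at h1
    exact mul_ne_zero (div_ne_zero (mul_ne_zero h2 h2) h3) h0 h1.symm
  have h6 : (Nat.card C₁(z) : ℂ) * (C₁(z)).index = Nat.card G := by
    exact_mod_cast (C₁(z)).card_mul_index
  refine ⟨?_, h5⟩
  rw [h4] at h1
  rw [h1, div_mul_eq_mul_div, div_mul_eq_mul_div, div_eq_iff h3, ← h6]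
  ring

theorem invol_of_family {W : Finset (IrrCharacter G)} {a : IrrCharacter G → ℤ} {d : ℕ}
    (hG : Nat.card G = p * (p - 1) * d)
    (hrel : ∀ g, IsPRegular p g → ∑ χ ∈ W, a χ * χ g = 0)
    (hcm : ∀ g, IsPRegular p g → ∑ χ : IrrCharacter G, χ g * χ g * conj (χ x) / χ 1 =
      ∑ χ ∈ W, a χ * (χ g * χ g / χ 1))
    (h1 : IrrCharacter.one G ∈ W) (ha : a (IrrCharacter.one G) = 1)
    (hW : ∀ χ ∈ W, χ ≠ IrrCharacter.one G →
      (a χ = 1 ∧ d ∣ charDegree χ.1) ∨ p - 1 ∣ charDegree χ.1)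
    {z : G} (hz : orderOf z = 2) :
    Nat.card C₁(z) ∣ p - 1 ∧ (p - 1) * d ≤ Nat.card C₁(z) ^ 2 ∧ ∃ Q : Sylow p G, z • Q = Q := by
  have hp1 := hp.out.one_lt
  have h2p : 2 ∣ p - 1 := (hp.out.even_sub_one hp2).two_dvd
  have hcop : ∀ r, r.Prime → r ∣ d → ¬ r ∣ p - 1 := by
    intro r hr h2 h3
    have h4 := hrel 1 isPRegular_one
    simp only [IrrCharacter.apply_one] at h4
    have h5 : ∑ χ ∈ W, a χ * (charDegree χ.1 : ℤ) = 0 := by exact_mod_cast h4
    rw [← Finset.add_sum_erase _ _ h1, ha, IrrCharacter.charDegree_one] at h5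
    have h6 : (r : ℤ) ∣ ∑ χ ∈ W.erase (IrrCharacter.one G), a χ * (charDegree χ.1 : ℤ) :=
      Finset.dvd_sum fun χ hχ => Dvd.dvd.mul_left (Int.natCast_dvd_natCast.2
        ((hW χ (Finset.mem_of_mem_erase hχ) (Finset.ne_of_mem_erase hχ)).elim
          (fun a => h2.trans a.2) h3.trans)) _
    rw [eq_neg_of_add_eq_zero_right h5, dvd_neg] at h6
    exact hr.one_lt.ne' (Nat.dvd_one.1 (Int.natCast_dvd_natCast.1 (by simpa using h6)))
  have hpd : ¬ p ∣ d := fun hd => h.not_dvd_index (by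
    have := h.index_zpowers_mul
    rw [hG, mul_assoc, mul_comm p] at this
    rw [Nat.eq_of_mul_eq_mul_right hp.out.pos this]
    exact hd.mul_left _)
  have hne : ∀ r, r.Prime → r ≠ p → ¬ r ∣ p := fun r hr h1 h2 =>
    h1 ((Nat.prime_dvd_prime_iff_eq hr hp.out).1 h2)
  have van2 : ∀ χ : IrrCharacter G, p - 1 ∣ charDegree χ.1 → ∀ g, 2 ∣ orderOf g → χ g = 0 :=
    fun χ hχ g hg => χ.eq_zero_of_hall (n := p * d) Nat.prime_two (by rw [hG]; ring)
      (Nat.prime_two.not_dvd_mul (hne 2 Nat.prime_two hp2.symm) fun a =>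
        hcop 2 Nat.prime_two a h2p) hχ hg
  have hzr : IsPRegular p z := by
    rw [IsPRegular, hz, Nat.prime_dvd_prime_iff_eq hp.out Nat.prime_two]
    exact hp2
  have hc1 := h.not_dvd_card_centralizer hzr (ne_one_of_orderOf_two hz)
  have hc2 : (Nat.card C₁(z)).Coprime d := by
    refine Nat.coprime_of_dvd fun r hr h2 h3 => ?_
    have := Fact.mk hr
    obtain ⟨y, hy⟩ := exists_prime_orderOf_dvd_card' r h2
    have hrp : r ≠ p := fun e => hpd (e ▸ h3)
    have hr2 : r ≠ 2 := fun e => hcop r hr h3 (e ▸ h2p)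
    have h4 : orderOf (z * y) = 2 * r := by
      rw [← hz, ← hy, ← Subgroup.orderOf_coe]
      refine Commute.orderOf_mul_eq_mul_orderOf_of_coprime
        (mem_centralizer_singleton_iff.1 y.2).symm ?_
      rw [hz, Subgroup.orderOf_coe, hy]
      exact (Nat.coprime_primes Nat.prime_two hr).2 hr2.symm
    have h5 := hrel (z * y) (by
      rw [IsPRegular, h4, hp.out.dvd_mul, Nat.prime_dvd_prime_iff_eq hp.out Nat.prime_two,
        Nat.prime_dvd_prime_iff_eq hp.out hr, not_or]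
      exact ⟨hp2, hrp.symm⟩)
    rw [← Finset.add_sum_erase _ _ h1, ha, Finset.sum_eq_zero] at h5
    · simp at h5
    intro χ hχ
    rcases hW χ (Finset.mem_of_mem_erase hχ) (Finset.ne_of_mem_erase hχ) with h6 | h6
    · rw [χ.eq_zero_of_hall (n := p * (p - 1)) hr (by rw [hG]; ring)
        (hr.not_dvd_mul (hne r hr hrp) (hcop r hr h3)) h6.2 (h4 ▸ dvd_mul_left _ _), mul_zero]
    · rw [van2 χ h6 _ (h4 ▸ dvd_mul_right _ _), mul_zero]
  have h3 : 1 ≤ (∑ χ : IrrCharacter G, χ z * χ z * conj (χ x) / χ 1).re := by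
    rw [hcm z hzr, ← Finset.add_sum_erase _ _ h1, ha, Complex.add_re, Complex.re_sum]
    refine le_add_of_le_of_nonneg (by simp) (Finset.sum_nonneg fun χ hχ => ?_)
    rcases hW χ (Finset.mem_of_mem_erase hχ) (Finset.ne_of_mem_erase hχ) with h6 | h6
    · obtain ⟨m, hm, -⟩ := χ.isCharacter.exists_int_of_sq_eq_one (g := z)
        (by rw [← hz, pow_orderOf_eq_one])
      rw [hm, h6.1, χ.apply_one, Int.cast_one, one_mul, Complex.div_natCast_re, ← Int.cast_mul,
        Complex.intCast_re]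
      exact div_nonneg (by exact_mod_cast mul_self_nonneg m) (Nat.cast_nonneg _)
    · simp [van2 χ h6 z (hz ▸ dvd_rfl)]
  obtain ⟨h4, h5⟩ := h.class_mul hp2 hz fun e => by
    rw [e] at h3
    norm_num at h3
  refine ⟨?_, ?_, h5⟩
  · have := (C₁(z)).card_subgroup_dvd_card
    rw [hG] at this
    exact ((hp.out.coprime_iff_not_dvd.2 hc1).symm).dvd_of_dvd_mul_left
      (hc2.dvd_of_dvd_mul_right this)
  · have h6 := congrArg Complex.re h4
    rw [← Nat.cast_pow, ← Nat.cast_mul, Complex.natCast_re, ← Complex.ofReal_natCast,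
      Complex.re_ofReal_mul] at h6
    have h7 : (Nat.card G : ℝ) ≤ (p * Nat.card C₁(z) ^ 2 : ℕ) :=
      h6 ▸ le_mul_of_one_le_right (Nat.cast_nonneg _) h3
    rw [Nat.cast_le, hG, mul_assoc] at h7
    exact Nat.le_of_mul_le_mul_left h7 hp.out.pos

end SelfCent

namespace PBlk

variable {P : Subgroup G} [Fintype P] {Q : (G → ℂ) → Prop} {X Y : Finset (IrrCharacter G)}
  {ζ : (P →* ℂˣ) → IrrCharacter G} {δ : ℤ} {a : IrrCharacter G → ℤ}
  (b : PBlk p P Q X Y ζ δ a)
include b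

theorem a_one (h1 : IrrCharacter.one G ∈ X) : a (IrrCharacter.one G) = 1 := by
  obtain ⟨u, hu⟩ := b.exists_ne_one
  have : (1 : ℂ) = _ := b.valX _ h1 u hu
  exact_mod_cast this.symm

theorem invol (h : SelfCent p x) (hp2 : p ≠ 2) (hx : x ∈ P) (hQ : ∀ φ : IrrCharacter G, Q φ.1)
    {d : ℕ} (hG : Nat.card G = p * (p - 1) * d) {η : IrrCharacter G} (hη : η ∈ Y)
    (h1 : IrrCharacter.one G ∈ X ∨ (η = IrrCharacter.one G ∧ δ = -1))
    (hX : ∀ χ ∈ X, χ ≠ IrrCharacter.one G →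
      (a χ = 1 ∧ d ∣ charDegree χ.1) ∨ p - 1 ∣ charDegree χ.1)
    (hY : η ≠ IrrCharacter.one G → (δ = -1 ∧ d ∣ charDegree η.1) ∨ p - 1 ∣ charDegree η.1)
    {z : G} (hz : orderOf z = 2) :
    Nat.card C₁(z) ∣ p - 1 ∧ (p - 1) * d ≤ Nat.card C₁(z) ^ 2 ∧ ∃ Q : Sylow p G, z • Q = Q := by
  have hηX : η ∉ X := Finset.disjoint_right.1 b.disj hη
  have hu : (⟨x, hx⟩ : P) ≠ 1 := fun e => h.ne_one (congrArg Subtype.val e)
  have hs : ∀ F : IrrCharacter G → ℂ, ∑ χ ∈ insert η X, (Function.update a η (-δ) χ : ℂ) * F χ =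
      ∑ χ ∈ X, a χ * F χ - δ * F η := fun F => by
    rw [Finset.sum_insert hηX, Function.update_self, Finset.sum_congr rfl fun χ hχ => by
      rw [Function.update_of_ne (ne_of_mem_of_not_mem hχ hηX)]]
    push_cast
    ring
  refine h.invol_of_family hp2 (W := insert η X) (a := Function.update a η (-δ)) hG
    (fun g hg => ?_) (fun g hg => ?_) ?_ ?_ (fun χ hχ hne => ?_) hz
  · rw [hs fun χ => χ g, b.reg_rel η hη g hg, sub_self]
  · rw [hs, ← b.sum_mul_conj hQ hg hg hu hη]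
  · exact h1.elim Finset.mem_insert_of_mem fun e => e.1 ▸ Finset.mem_insert_self _ _
  · rcases h1 with h1 | ⟨rfl, rfl⟩
    · rw [Function.update_of_ne (ne_of_mem_of_not_mem h1 hηX)]
      exact b.a_one h1
    · simp
  · rcases Finset.mem_insert.1 hχ with rfl | hχ
    · exact (hY hne).imp_left fun e => ⟨by simp [e.1], e.2⟩
    · rw [Function.update_of_ne (ne_of_mem_of_not_mem hχ hηX)]
      exact hX χ hχ hne

/-- The hypotheses of the geometric characterization hold. -/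
theorem geo (h : SelfCent p x) (hp2 : p ≠ 2) (hx : x ∈ P) (hQ : ∀ φ : IrrCharacter G, Q φ.1)
    (ht : 2 ≤ Y.card) (hδ : δ = -1) {η : IrrCharacter G} (hη : η ∈ Y)
    (hD : Nat.card (Sylow p G) = Y.card * charDegree η.1)
    (hX : ∀ χ ∈ X, χ ≠ IrrCharacter.one G →
      (a χ = 1 ∧ charDegree η.1 ∣ charDegree χ.1) ∨ p - 1 ∣ charDegree χ.1) :
    Nat.card (Sylow p G) = 1 + (Y.card - 1) * p ∧
      ∀ z : G, orderOf z = 2 → Nat.card C₁(z) = p - 1 ∧ ∃ Q : Sylow p G, z • Q = Q := by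
  have h1 := b.cardY
  have hG : Nat.card G = p * (p - 1) * charDegree η.1 := by
    rw [h.card_eq b.card hx, hD, ← b.cardX, ← h1, Nat.add_sub_cancel]
    ring
  have h2 := b.modEq_Y hη
  have h3 : p ∣ charDegree η.1 + X.card := by
    rw [hδ] at h2
    have := h2.symm.dvd
    rw [← Int.natCast_dvd_natCast]
    convert this using 1
    push_cast
    ring
  have h4 := η.charDegree_pos
  have h5 := Nat.le_of_dvd (by omega) h3
  have h6 : X.card * 2 ≤ X.card * Y.card := Nat.mul_le_mul_left _ ht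
  have hp1 := hp.out.one_lt
  have key : ∀ z : G, orderOf z = 2 → (Nat.card C₁(z) = p - 1 ∧ ∃ Q : Sylow p G, z • Q = Q) ∧
      charDegree η.1 ≤ p - 1 := by
    intro z hz
    obtain ⟨⟨k, hk⟩, h8, h9⟩ := b.invol h hp2 hx hQ hG hη (Or.inl (b.mem_X_of_const ht (hQ _)
      one_ne_zero fun _ _ => rfl)) hX (fun _ => Or.inl ⟨hδ, dvd_rfl⟩) hz
    have hc : 0 < Nat.card C₁(z) := Nat.card_pos
    have hk1 : k = 1 := by
      by_contra hk1
      have hk0 : k ≠ 0 := by
        rintro rfl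
        omega
      have h10 : Nat.card C₁(z) * 2 ≤ Nat.card C₁(z) * k := Nat.mul_le_mul_left _ (by omega)
      rw [hk, pow_two, mul_assoc] at h8
      have h11 := Nat.le_of_mul_le_mul_left h8 hc
      have h12 : 2 * charDegree η.1 ≤ k * charDegree η.1 := Nat.mul_le_mul_right _ (by omega)
      omega
    rw [hk1, mul_one] at hk
    rw [← hk, pow_two] at h8
    exact ⟨⟨hk.symm, h9⟩, Nat.le_of_mul_le_mul_left h8 (by omega)⟩
  obtain ⟨z, hz⟩ := exists_prime_orderOf_dvd_card' (G := G) 2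
    (hG ▸ ((hp.out.even_sub_one hp2).two_dvd.mul_left _).mul_right _)
  have h7 := (key z hz).2
  have h8 : charDegree η.1 + X.card = p := Nat.eq_of_dvd_of_lt_two_mul (by omega) h3 (by omega)
  refine ⟨?_, fun z hz => (key z hz).1⟩
  obtain ⟨s, hs⟩ : ∃ s, Y.card = s + 1 := ⟨Y.card - 1, by omega⟩
  rw [hD, hs, Nat.add_sub_cancel]
  rw [hs] at h1
  nlinarith

end PBlk

end Cfsg
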