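import Cfsg.Agent.Blk.PmTwoA
import Cfsg.Agent.Blk.PrimeSimple
import Cfsg.Agent.Char.Det

/-!
# Faithful characters of degree `p - 2` of perfect groups: character values
-/

set_option autoImplicit false
set_option linter.unusedSectionVars false
set_option linter.unusedVariables false
set_option linter.style.haveILetI false

namespace Cfsg

open Exc Subgroup
open scoped ComplexConjugate Classical

universe u v w

variable {G : Type u} [Group G] [Finite G] {p : ℕ} [hp : Fact p.Prime]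

local notation "C(" Q ")" => Subgroup.centralizer ((Q : Subgroup G) : Set G)
local notation "C₁(" u ")" => Subgroup.centralizer ({u} : Set G)
local notation "N(" Q ")" => Subgroup.normalizer ((Q : Subgroup G) : Set G)

theorem Exc.IsFree.osum_of_card_two {A : Type v} [Group A] [Fintype A] {E : Subgroup (MulAut A)}
    (hE : IsFree E) (hA : ∀ a b : A, a * b = b * a) (h2 : Nat.card E = 2) {lam : A →* ℂˣ}
    (hl : lam ≠ 1) (u : A) : osum E lam u = (lam u : ℂ) + ((lam u : ℂˣ) : ℂ)⁻¹ := by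
  let _ := Fintype.ofFinite E
  obtain ⟨σ, hσ, h3⟩ := (Nat.card_eq_two_iff' (1 : E)).1 h2
  have h4 : σ * σ = 1 := by
    by_contra h
    exact hσ (mul_eq_left.1 (h3 _ h))
  have h5 : σ.1 u = u⁻¹ := by
    refine eq_inv_of_mul_eq_one_right (by_contra fun h => hσ (Subtype.ext (hE _ σ.2 _ h ?_)))
    rw [map_mul, ← MulAut.mul_apply, ← Subgroup.coe_mul, h4, hA]
    rfl
  rw [hE.osum_eq hA hl, Fintype.sum_eq_add 1 σ hσ.symm fun τ hτ => (hτ.2 (h3 τ hτ.1)).elim, h5,
    map_inv, Units.val_inv_eq_inv_val]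
  rfl

theorem eq_zero_or_norm_eq_one_of_sq {F : G → ℂ} {g : G} (hg : Odd (orderOf g))
    (hF : ∀ k, F (g ^ 2 ^ k * g ^ 2 ^ k) = F (g ^ 2 ^ k) ^ 2) : F g = 0 ∨ ‖F g‖ = 1 := by
  have h1 : ∀ k, F (g ^ 2 ^ k) = F g ^ 2 ^ k := fun k => by
    induction k with
    | zero => simp
    | succ k ih => rw [pow_succ, pow_mul, pow_two, hF, ih, pow_mul]
  have h2 := h1 (orderOf g).totient
  rw [pow_eq_pow_iff_modEq.2 (Nat.ModEq.pow_totient (Nat.coprime_two_left.2 hg)), pow_one] at h2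
  obtain ⟨m, hm⟩ := Nat.exists_eq_add_of_lt
    (Nat.one_lt_two_pow (Nat.totient_pos.2 (orderOf_pos g)).ne')
  refine or_iff_not_imp_left.2 fun h0 => Complex.norm_eq_one_of_pow_eq_one (n := m + 1) ?_ (by omega)
  rw [hm, add_comm 1, pow_succ] at h2
  exact (mul_eq_right₀ h0).1 h2.symm

theorem IsCharacter.sub_re_sq_le {χ : G → ℂ} (hχ : IsCharacter G χ) (g : G) {c : ℂ}
    (hc : ‖c‖ = 1) :
    charDegree χ - (c ^ 2 * χ (g * g)).re ≤ 4 * (charDegree χ - (c * χ g).re) := by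
  obtain ⟨ε, h1, h2, -⟩ := hχ.exists_roots g
  have h3 := h2 1
  have h4 : (charDegree χ : ℝ) = ∑ i : Fin (charDegree χ), 1 := by simp
  simp only [pow_one] at h3
  rw [← pow_two, h2 2, h3, Finset.mul_sum, Finset.mul_sum, Complex.re_sum, Complex.re_sum, h4,
    ← Finset.sum_sub_distrib, ← Finset.sum_sub_distrib, Finset.mul_sum]
  refine Finset.sum_le_sum fun i _ => ?_
  have h5 : ‖c * ε i‖ = 1 := by
    rw [norm_mul, hc, Complex.norm_eq_one_of_pow_eq_one (h1 i) (orderOf_pos g).ne', mul_one]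
  have h6 := Complex.sq_norm (c * ε i)
  rw [h5, Complex.normSq_apply] at h6
  rw [← mul_pow, pow_two, Complex.mul_re (c * ε i)]
  nlinarith [sq_nonneg (1 - (c * ε i).re)]

/-- A perfect group with a faithful irreducible character of degree `p - 2`. -/
structure PmTwo (p : ℕ) [Fact p.Prime] (P : Sylow p G) (ζ : IrrCharacter G) : Prop where
  card : Nat.card P = p
  five : 5 < p
  nn : ¬ (P : Subgroup G).Normal
  faith : charKer ζ.1 = ⊥
  deg : charDegree ζ.1 = p - 2
  perf : commutator G = ⊤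

namespace PmTwo

variable {P : Sylow p G} {ζ : IrrCharacter G} (h : PmTwo p P ζ)
include h

theorem one : ζ 1 = p - 2 := by
  rw [ζ.apply_one, h.deg, Nat.cast_sub hp.out.two_le, Nat.cast_ofNat]

theorem odd : Odd (p - 2) := by
  obtain ⟨k, hk⟩ := hp.out.odd_of_ne_two (by have := h.five; omega)
  exact ⟨k - 1, by have := h.five; omega⟩

theorem eq_one {g : G} (hg : ζ g = ζ 1) : g = 1 :=
  ζ.isCharacter.charKer_eq_bot_iff.1 h.faith g hg

theorem mem_center {g : G} : g ∈ center G ↔ ‖ζ g‖ = (p - 2 : ℕ) := by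
  rw [← ζ.charCenter_eq_center_of_faithful h.faith, ζ.mem_charCenter, h.deg]

theorem pow_eq_one {z : G} (hz : z ∈ center G) : z ^ (p - 2) = 1 := by
  obtain ⟨f, hf, -⟩ := ζ.exists_monoidHom_center
  have h1 := ζ.isCharacter.detChar_of_mem_charCenter (ζ.center_le_charCenter hz)
  have h2 : detOrder ζ.1 = 1 := by
    have := detOrder_dvd_index_commutator ζ.1
    rwa [h.perf, index_top, Nat.dvd_one] at this
  have h3 := hf ⟨z, hz⟩ 1
  have h4 := hf (⟨z, hz⟩ ^ (p - 2)) 1
  rw [mul_one] at h3 h4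
  rw [detOrder_eq_one_iff.1 h2, h.deg, h3, mul_div_cancel_right₀ _ ζ.apply_one_ne_zero] at h1
  rw [map_pow, Units.val_pow_eq_pow_val, ← h1, one_mul] at h4
  exact h.eq_one h4

theorem odd_orderOf {z : G} (hz : z ∈ center G) : Odd (orderOf z) :=
  h.odd.of_dvd_nat (orderOf_dvd_of_pow_eq_one (h.pow_eq_one hz))

theorem relIndex : (C(P)).relIndex N(P) = 2 :=
  let _ := Fintype.ofFinite (P : Subgroup G)
  (ζ.pm2_local P h.card h.five h.nn h.faith h.deg).1

theorem cent {y : G} (hy : y ∈ C(P)) (hy' : IsPRegular p y) : y ∈ center G :=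
  let _ := Fintype.ofFinite (P : Subgroup G)
  (ζ.pm2_local P h.card h.five h.nn h.faith h.deg).2.1 y hy hy'

theorem val : ∃ lam : (P : Subgroup G) →* ℂˣ, lam ≠ 1 ∧
    ∀ u : (P : Subgroup G), u ≠ 1 → ζ u = -((lam u : ℂ) + ((lam u : ℂˣ) : ℂ)⁻¹) := by
  let _ := Fintype.ofFinite (P : Subgroup G)
  have : IsCyclic P := isCyclic_of_prime_card h.card
  obtain ⟨h1, -, lam, hl, h2⟩ := ζ.pm2_local P h.card h.five h.nn h.faith h.deg
  exact ⟨lam, hl, fun u hu => by rw [h2 u hu, (isFree_of_card_eq_prime h.card _).osum_of_card_two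
    (fun a b => mul_comm' a b) ((card_autOf_subtype le_rfl).trans h1) hl]⟩

theorem sq_ne_one {u : (P : Subgroup G)} (hu : u ≠ 1) : u * u ≠ 1 := fun e => by
  have h1 : orderOf u ∣ p := (orderOf_dvd_natCard u).trans h.card.dvd
  rw [orderOf_two_of_mul_self e hu, Nat.prime_dvd_prime_iff_eq Nat.prime_two hp.out] at h1
  have := h.five
  omega

theorem exists_funEq : ∃ l : ℕ, (∀ g : G, Odd (orderOf g) → g ^ l = g * g) ∧
    (∀ g : G, IsPElt 2 g → g ^ l = g) ∧
    ∀ g, IsPRegular p g → ζ g ^ 2 - ζ (g * g) = (p - 3) * ζ (g ^ l) := by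
  let _ := Fintype.ofFinite (P : Subgroup G)
  have h5 := h.five
  obtain ⟨e, n, hn, hG⟩ := Nat.exists_eq_two_pow_mul_odd (Nat.card_pos (α := G)).ne'
  have hco : Nat.Coprime 2 n := Nat.coprime_two_left.2 hn
  obtain ⟨l, hl, hl1, hl2⟩ := exists_coprime_modEq_modEq_one (m := 2 ^ e) (k := 2) (by positivity)
    hn.pos.ne' hco (by rw [hco.pow_left e]; exact Nat.modEq_one)
  rw [← hG] at hl
  have hodd : ∀ g : G, Odd (orderOf g) → g ^ l = g * g := fun g hg => by
    rw [← pow_two, pow_eq_pow_iff_modEq]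
    exact hl2.of_dvd (((Nat.coprime_two_left.2 hg).pow_left e).symm.dvd_of_dvd_mul_left
      (hG ▸ orderOf_dvd_natCard g))
  refine ⟨l, hodd, fun g ⟨k, hk⟩ => ?_, ?_⟩
  · conv_rhs => rw [← pow_one g]
    rw [pow_eq_pow_iff_modEq]
    exact hl1.of_dvd ((hk ▸ hco.pow_left k).dvd_of_dvd_mul_right (hG ▸ orderOf_dvd_natCard g))
  set ξ := ζ.galPow l hl
  have hξ1 : ξ 1 = ζ 1 := by simp [ξ]
  have hξd : charDegree ξ.1 = p - 2 := charDegree_eq_of_apply_one (by
    rw [← h.deg, ← ζ.apply_one]; exact hξ1)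
  have hnd : ¬ p ∣ charDegree ξ.1 := hξd ▸ Nat.not_dvd_of_pos_of_lt (by omega) (by omega)
  obtain ⟨X, Y, η, δ, a, b⟩ := exists_pBlk_central P h.card (fun y => h.cent) ξ hnd
  have hX : X.card = 2 := b.cardX.trans h.relIndex
  have hY := b.cardY
  obtain ⟨u, hu⟩ := b.exists_ne_one
  have hp' : ((p - 2 : ℕ) : ℤ) = p - 2 := by omega
  have hξY : ξ ∈ Y := by
    refine (b.mem_of_ne_zero (fun y hy _ g => ?_) hu fun e => hnd ?_).resolve_left fun hx => ?_
    · rw [mul_comm, ξ.apply_mul_of_mem_center hy]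
    · exact ξ.isCharacter.dvd_charDegree_of_eq_zero hp.out (k := 1)
        (by rw [pow_one]; exact b.pow_eq_one u) e
    · have h1 := (b.modEq_X hx).dvd
      rw [hξd, hp'] at h1
      have h2 := (dvd_add_right h1).2 (dvd_refl (p : ℤ))
      rcases b.asign _ hx with h3 | h3 <;> rw [h3] at h2 <;>
        have := Int.le_of_dvd (by omega) h2 <;> omega
  have hδ : δ = -1 := b.sign.resolve_left fun h3 => by
    have h1 := (b.modEq_Y hξY).dvd
    rw [hξd, hp', hX, h3] at h1
    have := Int.le_of_dvd (by omega) ((dvd_add_right h1).2 (dvd_refl (p : ℤ)))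
    omega
  subst hδ
  obtain ⟨lam, hl0, hv⟩ := h.val
  have hl3 : lam ^ 2 ≠ 1 := fun e => hl0 (MonoidHom.ext fun v => by
    obtain ⟨k, hk⟩ := hp.out.odd_of_ne_two (by omega)
    have h1 : lam v ^ (2 * k + 1) = 1 := by
      rw [← hk, ← map_pow, (Subtype.ext (b.pow_eq_one v) : v ^ p = 1), map_one]
    have h2 : lam v ^ 2 = 1 := DFunLike.congr_fun e v
    rwa [pow_succ, pow_mul, h2, one_pow, one_mul] at h1)
  have hΛ := ζ.isCharacter.altSq
  set Λ := fun g => (ζ g ^ 2 - ζ (g * g)) / 2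
  have hQ : OverCenter p ξ.1 Λ := fun y hy _ g => by
    obtain ⟨f, hf, -⟩ := ζ.exists_monoidHom_center
    have h1 := hf ⟨y, hy⟩ g
    have h2 := hf (⟨y, hy⟩ * ⟨y, hy⟩) (g * g)
    have h3 := hf (⟨y, hy⟩ * ⟨y, hy⟩) 1
    simp only [Subgroup.coe_mul, map_mul, Units.val_mul, mul_one] at h1 h2 h3
    have h4 : g * y * (g * y) = y * y * (g * g) := by
      simp only [mul_assoc, mem_center_iff.1 hy]
      rw [← mul_assoc g y, mem_center_iff.1 hy, mul_assoc]
    change (ζ (g * y) ^ 2 - ζ (g * y * (g * y))) / 2 * ξ 1 = (ζ g ^ 2 - ζ (g * g)) / 2 * ζ (y ^ l)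
    rw [h4, mem_center_iff.1 hy g, h1, h2, hodd y (h.odd_orderOf hy), h3, hξ1]
    ring
  have hc : ∀ mu, mu ≠ 1 → coef (fun u : (P : Subgroup G) => Λ u) mu =
      -1 + if Orb (autOf (P : Subgroup G).subtype N(P)) (lam ^ 2) mu then 1 else 0 := by
    intro mu hm
    rw [coef_congr (F' := fun u => 1 + osum (autOf (P : Subgroup G).subtype N(P)) (lam ^ 2) u),
      coef_add, coef_const 1 hm, coef_osum hl3]
    intro v hv'
    rw [b.free.osum_of_card_two b.comm (b.cardE.trans hX) hl3]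
    change (ζ v ^ 2 - ζ ((v * v : (P : Subgroup G)) : G)) / 2 = _
    rw [hv v hv', hv _ (h.sq_ne_one hv'), map_mul, MonoidHom.pow_apply]
    push_cast
    field_simp
    ring
  have hsum : Λ = ∑ χ ∈ Y.erase (η (lam ^ 2)), χ.1 := by
    refine hΛ.eq_sum_of_le (fun χ hχ => ?_) ?_
    · obtain ⟨mu, hm, rfl⟩ := b.surj χ (Finset.mem_of_mem_erase hχ)
      have h1 := b.dec Λ hΛ.isClassFunction hQ mu hm
      have h2 := b.dec Λ hΛ.isClassFunction hQ _ hl3
      rw [hc _ hm, if_neg fun e => Finset.ne_of_mem_erase hχ ((b.eq_iff _ _ hl3 hm).2 e).symm] at h1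
      rw [hc _ hl3, if_pos (Orb.refl _), ← hΛ.ipNat_cast (η _).isCharacter] at h2
      have h3 : ip Λ (η mu).1 = (ipNat Λ (η (lam ^ 2)).1 + 1 : ℕ) := by
        push_cast at h1 h2 ⊢
        linear_combination h1 - h2
      rw [h3]
      exact Nat.cast_ne_zero.2 (Nat.succ_ne_zero _)
    · rw [Finset.sum_congr rfl fun χ hχ => (b.deg_eq (Finset.mem_of_mem_erase hχ) hξY).trans hξd,
        Finset.sum_const, Finset.card_erase_of_mem (b.mem _ hl3), smul_eq_mul]
      refine (charDegree_eq_of_apply_one ?_).le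
      have h1 : (p : ℂ) = 2 * Y.card + 1 := by rw [← hY, hX]; push_cast; ring
      change (ζ 1 ^ 2 - ζ (1 * 1)) / 2 = _
      rw [mul_one, h.one, Nat.cast_mul, Nat.cast_sub hp.out.two_le,
        Nat.cast_sub b.Y_nonempty.card_pos, h1]
      push_cast
      ring
  intro g hg
  have h1 := congrFun hsum g
  have h2 : (p : ℂ) = 2 * Y.card + 1 := by rw [← hY, hX]; push_cast; ring
  rw [Finset.sum_apply, Finset.sum_congr rfl fun χ hχ =>
    b.reg_eq χ (Finset.mem_of_mem_erase hχ) ξ hξY g hg, Finset.sum_const,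
    Finset.card_erase_of_mem (b.mem _ hl3), nsmul_eq_mul,
    Nat.cast_sub b.Y_nonempty.card_pos] at h1
  change (ζ g ^ 2 - ζ (g * g)) / 2 = _ * ζ (g ^ l) at h1
  rw [h2]
  push_cast at h1
  linear_combination 2 * h1

theorem eq_zero_of_odd {g : G} (hg : IsPRegular p g) (ho : Odd (orderOf g)) (hz : g ∉ center G) :
    ζ g = 0 := by
  obtain ⟨l, h1, -, h2⟩ := h.exists_funEq
  have h0 : (p : ℂ) - 2 ≠ 0 := h.one ▸ ζ.apply_one_ne_zero
  have h4 : ∀ k, ζ (g ^ 2 ^ k * g ^ 2 ^ k) / (p - 2) = (ζ (g ^ 2 ^ k) / (p - 2)) ^ 2 := fun k => by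
    have h3 := h2 _ (hg.pow (2 ^ k))
    rw [h1 _ (ho.of_dvd_nat (orderOf_pow_dvd _))] at h3
    field_simp
    linear_combination -h3
  rcases eq_zero_or_norm_eq_one_of_sq (F := fun g => ζ g / (p - 2)) ho h4 with h3 | h3
  · simpa [h0] using h3
  · rw [norm_div, div_eq_one_iff_eq (norm_ne_zero_iff.2 h0), ← h.one,
      ζ.isCharacter.norm_apply_one, h.deg] at h3
    exact (hz (h.mem_center.2 h3)).elim

theorem isPRegular_of_isPElt {r : ℕ} [hr : Fact r.Prime] (hrp : r ≠ p) {g : G} (hg : IsPElt r g) :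
    IsPRegular p g := fun e => by
  obtain ⟨k, hk⟩ := hg
  exact hrp ((Nat.prime_dvd_prime_iff_eq hp.out hr.out).1 (hp.out.dvd_of_dvd_pow (hk ▸ e))).symm

theorem invol {z : G} (hz : orderOf z = 2) : ζ z = -1 := by
  obtain ⟨l, -, h1, h2⟩ := h.exists_funEq
  have h3 : IsPElt 2 z := ⟨1, hz⟩
  have h4 := h2 z (h.isPRegular_of_isPElt (by have := h.five; omega) h3)
  rw [h1 z h3, mul_self_of_orderOf hz] at h4
  refine eq_neg_of_add_eq_zero_left ((mul_eq_zero.1 (?_ : (ζ z - ζ 1) * (ζ z + 1) = 0)).resolve_left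
    fun e => ne_one_of_orderOf_two hz (h.eq_one (sub_eq_zero.1 e)))
  rw [h.one] at h4 ⊢
  linear_combination h4

theorem mul_self {g : G} (hg : IsPElt 2 g) : g * g = 1 := by
  by_contra hne
  have h5 := h.five
  obtain ⟨k, hk⟩ := hg
  obtain ⟨k, rfl⟩ : ∃ j, k = j + 2 := ⟨k - 2, by
    by_contra hk2
    exact hne (by
      rw [← pow_two, ← orderOf_dvd_iff_pow_eq_one, hk]
      exact (Nat.pow_dvd_pow 2 (by omega : k ≤ 1)))⟩
  have h4 : orderOf (g ^ 2 ^ k) = 4 := by
    rw [orderOf_pow_of_dvd (by positivity) (hk ▸ pow_dvd_pow _ (by omega)), hk, pow_add,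
      Nat.mul_div_cancel_left _ (by positivity)]
    rfl
  generalize g ^ 2 ^ k = y at h4
  obtain ⟨l, -, h1, h2⟩ := h.exists_funEq
  have h3 : IsPElt 2 y := ⟨2, h4⟩
  have h6 := h2 y (h.isPRegular_of_isPElt (by omega) h3)
  rw [h1 y h3, h.invol (z := y * y) (by
    rw [← pow_two, orderOf_pow_of_dvd two_ne_zero (by rw [h4]; decide), h4])] at h6
  have h7 : (ζ y).im = 0 := by
    by_contra h0
    have h8 := congrArg Complex.re h6
    have h9 := congrArg Complex.im h6
    have h10 : (6 : ℝ) ≤ p := by exact_mod_cast h5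
    simp [pow_two] at h8 h9
    have h11 : (p : ℝ) - 3 = 2 * (ζ y).re := mul_right_cancel₀ h0 (by linarith)
    rw [h11] at h8
    nlinarith [mul_self_nonneg (ζ y).im]
  obtain ⟨m, hm⟩ := ζ.isCharacter.isGen.exists_int_of_forall_pow (g := y)
    fun j hj => by
      have h8 : j % 4 = 1 ∨ j % 4 = 3 := by
        have := Nat.odd_iff.1 (Nat.coprime_two_right.1 ((h4 ▸ hj).of_dvd_right (by decide)))
        omega
      rw [← pow_mod_orderOf, h4]
      rcases h8 with h8 | h8 <;> rw [h8]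
      · rw [pow_one]
      · rw [show y ^ 3 = y⁻¹ from eq_inv_of_mul_eq_one_left (by
          rw [← pow_succ, ← orderOf_dvd_iff_pow_eq_one, h4]), ζ.isCharacter.apply_inv]
        exact Complex.conj_eq_iff_im.2 h7
  have h8 : m * (p - 3 - m) = 1 := by
    apply Int.cast_injective (α := ℂ)
    rw [hm] at h6
    push_cast
    linear_combination -h6
  rcases Int.eq_one_or_neg_one_of_mul_eq_one' h8 with h9 | h9 <;> omega

theorem eq_one_of_commute {z u : G} (hz : orderOf z = 2) (hu : IsPElt p u) (hc : Commute z u) :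
    u = 1 := by
  by_contra h1
  obtain ⟨t, ht⟩ := hu.exists_conj_mem P
  have h2 : t * z * t⁻¹ ∈ C(P) := by
    rw [← zpowers_eq_of_card_eq_prime h.card ht fun e => h1 (conj_eq_one_iff.1 e),
      zpowers_eq_closure, centralizer_closure, mem_centralizer_singleton_iff]
    exact (hc.map (MulAut.conj t)).eq
  have h3 := h.odd_orderOf (h.cent h2 (isPRegular_conj_iff.2
    (h.isPRegular_of_isPElt (r := 2) (by have := h.five; omega) ⟨1, hz⟩)))
  rw [← MulAut.conj_apply, MulEquiv.orderOf_eq, hz] at h3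
  exact absurd h3 (by decide)

theorem mem_center_of_commute {z y : G} (hz : orderOf z = 2) (hy : Odd (orderOf y))
    (hc : Commute z y) : y ∈ center G := by
  by_contra h0
  have h5 := h.five
  obtain ⟨r, hr, h1⟩ := Nat.exists_prime_and_dvd (n := orderOf (y : G ⧸ center G)) fun e =>
    h0 ((QuotientGroup.eq_one_iff y).1 (orderOf_eq_one_iff.1 e))
  have := Fact.mk hr
  have h2 : pPart r y ∉ center G := fun e => by
    rw [← QuotientGroup.eq_one_iff, mk_pPart, pPart_eq_one_iff] at e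
    exact e h1
  have h3 := isPElt_pPart r y
  have h4 := commute_pPart_of_commute r hc
  have h6 : Odd (orderOf (pPart r y)) := hy.of_dvd_nat (orderOf_dvd_of_mem_zpowers
    (pPart_mem_zpowers r y))
  generalize pPart r y = x at h2 h3 h4 h6
  have h7 : IsPRegular p x := h.isPRegular_of_isPElt (fun e => h2 (by
    rw [h.eq_one_of_commute hz (e ▸ h3) h4]; exact one_mem _)) h3
  have h8 : ∀ k, ζ (x ^ 2 ^ k * x ^ 2 ^ k) = 0 := fun k => by
    rw [← pow_two, ← pow_mul, ← pow_succ]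
    refine h.eq_zero_of_odd (h7.pow _) (h6.of_dvd_nat (orderOf_pow_dvd _)) fun e => h2 ?_
    exact zpowers_le.2 e (mem_zpowers_pow_iff.2 ((Nat.coprime_two_left.2 h6).pow_left _))
  obtain ⟨l, h9, h10, h11⟩ := h.exists_funEq
  have h12 : (p : ℂ) - 3 = (p - 3 : ℕ) := by rw [Nat.cast_sub (by omega), Nat.cast_ofNat]
  have h13 : (p : ℂ) - 3 ≠ 0 := h12 ▸ Nat.cast_ne_zero.2 (by omega)
  have h14 : ∀ {t}, Commute z t → z * t * (z * t) = t * t := fun {t} e => by
    rw [e.symm.mul_mul_mul_comm, mul_self_of_orderOf hz, one_mul]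
  have h20 : ∀ k, ζ (z * (x ^ 2 ^ k * x ^ 2 ^ k)) / (p - 3) =
      (ζ (z * x ^ 2 ^ k) / (p - 3)) ^ 2 := fun k => by
    have h15 := h4.pow_right (2 ^ k)
    have h16 := h11 _ ((h.isPRegular_of_isPElt (r := 2) (by omega) ⟨1, hz⟩).mul_of_commute
      (h7.pow _) h15)
    rw [h14 h15, h8, h15.mul_pow, h10 z ⟨1, hz⟩, h9 _ (h6.of_dvd_nat (orderOf_pow_dvd _))] at h16
    field_simp
    linear_combination -h16
  rcases eq_zero_or_norm_eq_one_of_sq (F := fun g => ζ (z * g) / (p - 3)) h6 h20 with h15 | h15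
  · obtain ⟨k, hk⟩ := isPElt_iff_pow_eq_one.1 h3
    have := (ζ.isCharacter.isGen.int_modEq hr h4.symm hk (m := 0) (n := -1)
      (by simpa [h13, h4.eq] using h15) (by simpa using h.invol hz)).dvd
    exact hr.one_lt.ne' (Nat.dvd_one.1 (Int.natCast_dvd_natCast.1 (by simpa using this)))
  · have h16 := ζ.isCharacter.sub_re_sq_le (z * x) (c := conj (ζ (z * x) / (p - 3)))
      (by rwa [Complex.norm_conj])
    have h17 := h8 0
    simp only [pow_zero, pow_one] at h17
    rw [h14 h4, h17, ← mul_div_cancel₀ (ζ (z * x)) h13, mul_div_cancel_left₀ _ h13, mul_left_comm,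
      Complex.conj_mul', h15, h12, h.deg] at h16
    simp only [mul_zero, Complex.zero_re, sub_zero, Complex.ofReal_one, one_pow, mul_one,
      Complex.natCast_re] at h16
    rw [Nat.cast_sub (by omega : 2 ≤ p), Nat.cast_sub (by omega : 3 ≤ p)] at h16
    have h18 : p ≤ 6 := by exact_mod_cast (by push_cast at h16; linarith : (p : ℝ) ≤ 6)
    have h19 := hp.out
    obtain rfl : p = 6 := by omega
    exact absurd h19 (by decide)

end PmTwo

end Cfsg

set_option linter.all false in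
theorem Cfsg.Rz.Blk_PmTwoB_0 : True := by
  have := @_root_.Cfsg.PmTwo.congr_simp.{0}
  have := @_root_.Cfsg.PmTwo.mk.congr_simp.{0}
  trivial
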