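import Cfsg.Agent.Blk.PmTwoB
import Cfsg.Agent.Grp.Transfer
import Cfsg.Agent.Char.Extend

/-!
# Faithful characters of degree `p - 2`: identification of the group
-/

set_option autoImplicit false
set_option linter.unusedSectionVars false
set_option linter.unusedVariables false
set_option linter.style.haveILetI false

namespace Cfsg

open Exc Subgroup
open scoped ComplexConjugate Classical MatrixGroups commutatorElement

universe u v w

variable {G : Type u} [Group G] [Finite G] {p : ℕ} [hp : Fact p.Prime]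

local notation "C(" Q ")" => Subgroup.centralizer ((Q : Subgroup G) : Set G)
local notation "C₁(" u ")" => Subgroup.centralizer ({u} : Set G)
local notation "N(" Q ")" => Subgroup.normalizer ((Q : Subgroup G) : Set G)

theorem ElemInvol.of_forall (h : ∀ g : G, IsPElt 2 g → g * g = 1)
    (h' : ∀ z : G, orderOf z = 2 → ∀ t ∈ C₁(z), t * t = 1) (S : Sylow 2 G) :
    ElemInvol G (Nat.card S) := fun z hz => by
  refine ⟨?_, h' z hz⟩
  have h1 : IsPGroup 2 C₁(z) := fun a => ⟨1, Subtype.ext (by simpa [pow_two] using h' z hz a a.2)⟩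
  obtain ⟨T, hT⟩ := h1.exists_le_sylow
  rw [le_antisymm hT fun t ht => mem_centralizer_singleton_iff.2 (comm_of_forall_mul_self
    (fun a ha => h a (isPElt_of_mem T.isPGroup' ha)) ht (hT (mem_centralizer_singleton_iff.2 rfl)))]
  exact Nat.card_congr (T.equiv S).toEquiv

theorem ElemInvol.exists_card_mul [Fintype G] {q : ℕ} (h : ElemInvol G q) :
    ∃ k, (Finset.univ.filter fun z : G => orderOf z = 2).card * q = k * Nat.card G := by
  let _ := Fintype.ofFinite (ConjClasses G)
  have h1 : IsClassFunction G fun z => if orderOf z = 2 then 1 else 0 := fun g t => by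
    simp only [← MulAut.conj_apply, MulEquiv.orderOf_eq]
  refine ⟨(Finset.univ.filter fun K : ConjClasses G => orderOf K.out = 2).card,
    Nat.cast_injective (R := ℂ) ?_⟩
  rw [Nat.cast_mul, Nat.cast_mul, ← Finset.sum_boole, ← Finset.sum_boole,
    h1.sum_eq_sum_conjClasses, Finset.sum_mul, Finset.sum_mul]
  refine Finset.sum_congr rfl fun K _ => ?_
  split_ifs with h2
  · rw [mul_assoc, ← (h _ h2).1, ← Nat.cast_mul, index_mul_card]
  · simp

theorem isCyclic_sylow_of_index {r : ℕ} [Fact r.Prime] (T : Subgroup G) [IsCyclic T]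
    (hT : ¬ r ∣ T.index) (R : Sylow r G) : IsCyclic R := by
  obtain ⟨Q⟩ : Nonempty (Sylow r T) := inferInstance
  have h1 : ¬ r ∣ ((Q : Subgroup T).map T.subtype).index := by
    rw [index_map_subtype, (Fact.out : r.Prime).dvd_mul, not_or]
    exact ⟨Q.not_dvd_index, hT⟩
  have : IsCyclic ((Q.isPGroup'.map T.subtype).toSylow h1) :=
    isCyclic_of_surjective _ (T.subtype.subgroupMap_surjective Q)
  exact isCyclic_of_surjective _ (((Q.isPGroup'.map T.subtype).toSylow h1).equiv R).surjective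

theorem isCyclic_sylow_SL2 {F : Type*} [Field F] [Fintype F] {r : ℕ} [hr : Fact r.Prime]
    (h2 : r ≠ 2) (h : r ∣ Fintype.card F - 1) (R : Sylow r SL(2, F)) : IsCyclic R := by
  let f : Fˣ →* SL(2, F) := MonoidHom.mk' (fun a => Matrix.SpecialLinearGroup.diag2 a.1 a.ne_zero)
    fun a b => Subtype.ext (by
      simp [Matrix.SpecialLinearGroup.diag2_coe', mul_comm])
  have hf : Function.Injective f := fun a b e => Units.ext (congrArg (fun g : SL(2, F) => g.1 0 0) e)
  have : IsCyclic f.range := isCyclic_of_surjective _ f.rangeRestrict_surjective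
  refine isCyclic_sylow_of_index f.range ?_ R
  have h1 := f.range.index_mul_card
  have h3 := Fintype.one_lt_card (α := F)
  rw [card_SL2, ← Nat.card_congr (MonoidHom.ofInjective hf).toEquiv, Nat.card_units,
    Nat.card_eq_fintype_card] at h1
  rw [Nat.eq_of_mul_eq_mul_right (by omega) h1, hr.out.dvd_mul]
  obtain ⟨q, hq⟩ := Nat.exists_eq_add_of_lt h3
  rw [hq] at h ⊢
  replace h : r ∣ 1 + q := h
  rintro (h4 | h4)
  · exact h2 ((Nat.prime_dvd_prime_iff_eq hr.out Nat.prime_two).1 ((Nat.dvd_add_right h).1 h4))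
  · exact hr.out.one_lt.ne' (Nat.dvd_one.1 ((Nat.dvd_add_right h).1 h4))

theorem center_eq_bot_of_sylow_isCyclic (hG : commutator G = ⊤)
    (h : ∀ (r : ℕ) [Fact r.Prime], r ∣ Nat.card (center G) → ∀ R : Sylow r (G ⧸ center G),
      IsCyclic R) : center G = ⊥ := by
  by_contra h0
  obtain ⟨r, hr, h1⟩ := Nat.exists_prime_and_dvd fun e => h0 (card_eq_one.1 e)
  have := Fact.mk hr
  obtain ⟨z, hz⟩ := exists_prime_orderOf_dvd_card' r h1
  rw [← Subgroup.orderOf_coe] at hz
  obtain ⟨R, hR⟩ := IsPElt.exists_mem_sylow (p := r) (g := (z : G)) ⟨1, by rw [hz, pow_one]⟩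
  have := h r h1 (R.mapSurjective (QuotientGroup.mk'_surjective _))
  have h2 : IsMulCommutative (R : Subgroup G) :=
    MonoidHom.isMulCommutative_of_isCyclic_of_ker_le_center
      (G' := R.mapSurjective (QuotientGroup.mk'_surjective _))
      ((QuotientGroup.mk' (center G)).subgroupMap R) fun x hx => mem_center_iff.2 fun y =>
      Subtype.ext (mem_center_iff.1 ((QuotientGroup.eq_one_iff _).1 (congrArg Subtype.val hx)) _)
  have h3 := inf_commutator_inf_center_le R.card_coprime_index ⟨⟨hR, hG.ge trivial⟩, z.2⟩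
  rw [commutator_eq_bot_iff_le_centralizer.2 (le_centralizer _), mem_bot] at h3
  rw [h3, orderOf_one] at hz
  exact hr.one_lt.ne hz

namespace PmTwo

variable {P : Sylow p G} {ζ : IrrCharacter G} (h : PmTwo p P ζ)
include h

theorem mul_self_mem {z g : G} (hz : orderOf z = 2) (hc : Commute z g) : g * g ∈ center G := by
  have h1 := h.mem_center_of_commute hz (Nat.odd_iff.2 (Nat.two_dvd_ne_zero.1
    (isPRegular_pPrimePart 2 g))) (commute_pPrimePart_of_commute 2 hc)
  rw [← pPart_mul_pPrimePart 2 g, (commute_pPart_pPrimePart 2 g).symm.mul_mul_mul_comm,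
    h.mul_self (isPElt_pPart 2 g), one_mul]
  exact mul_mem h1 h1

theorem of_even {g : G} (hg : ¬ IsPRegular 2 g) : g * g ∈ center G ∧ ‖ζ g‖ = 1 := by
  have h1 := orderOf_two_of_mul_self (h.mul_self (isPElt_pPart 2 g))
    fun e => hg (pPart_eq_one_iff.1 e)
  refine ⟨h.mul_self_mem h1 (commute_pPart_of_commute 2 (Commute.refl g)).symm, ?_⟩
  rw [← pPart_mul_pPrimePart 2 g, ζ.isCharacter.norm_mul_of_mem_charCenter
    (ζ.center_le_charCenter (h.mem_center_of_commute h1 (Nat.odd_iff.2 (Nat.two_dvd_ne_zero.1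
    (isPRegular_pPrimePart 2 g))) (commute_pPart_pPrimePart 2 g))), h.invol h1, norm_neg, norm_one]

theorem elemInvol (S : Sylow 2 (G ⧸ center G)) : ElemInvol (G ⧸ center G) (Nat.card S) := by
  have h1 : ∀ g : G ⧸ center G, IsPElt 2 g → ∃ x : G, x * x = 1 ∧ x = g := fun g hg => by
    obtain ⟨x, rfl⟩ := QuotientGroup.mk_surjective g
    exact ⟨_, h.mul_self (isPElt_pPart 2 x), by rw [mk_pPart, pPart_eq_self_iff.2 hg]⟩
  refine .of_forall (fun g hg => ?_) (fun z hz t ht => ?_) S
  · obtain ⟨x, hx, rfl⟩ := h1 g hg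
    rw [← QuotientGroup.mk_mul, hx, QuotientGroup.mk_one]
  obtain ⟨z, h2, rfl⟩ := h1 z ⟨1, hz⟩
  obtain ⟨t, rfl⟩ := QuotientGroup.mk_surjective t
  have h3 : z ≠ 1 := fun e => ne_one_of_orderOf_two hz (by rw [e, QuotientGroup.mk_one])
  have h4 : (t * z)⁻¹ * (z * t) ∈ center G :=
    QuotientGroup.eq.1 (mem_centralizer_singleton_iff.1 ht)
  refine (QuotientGroup.eq_one_iff (t * t)).2 (h.mul_self_mem (orderOf_two_of_mul_self h2 h3) ?_)
  refine (inv_mul_eq_one.1 (orderOf_eq_one_iff.1 (Nat.eq_one_of_dvd_coprimes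
    (Nat.coprime_two_right.2 (h.odd_orderOf h4)) dvd_rfl (orderOf_dvd_of_pow_eq_one ?_)))).symm
  have h5 : (t * z)⁻¹ * (z * t) = z * (t⁻¹ * z * t) := by
    rw [mul_inv_rev, inv_eq_of_mul_eq_one_right h2]
    group
  have h6 := mem_center_iff.1 h4 z
  rw [h5, ← mul_assoc, h2, one_mul] at h6
  rw [pow_two, h5, ← mul_assoc, ← h6]
  calc _ = t⁻¹ * (z * z) * t := by group
    _ = 1 := by rw [h2]; group

theorem card_sylow_dvd (S : Sylow 2 G) : Nat.card S ∣ p - 1 := by
  have h1 := (ζ.isCharacter.add (IrrCharacter.one G).isCharacter).card_subgroup_dvd_of_vanish S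
    fun g hg h1 => by
      rw [Pi.add_apply, h.invol (orderOf_two_of_mul_self
        (h.mul_self (isPElt_of_mem S.isPGroup' hg)) h1)]
      exact neg_add_cancel _
  rwa [charDegree_eq_of_apply_one (n := p - 1)] at h1
  rw [Pi.add_apply, h.one, Nat.cast_sub hp.out.one_le]
  change _ + 1 = _
  push_cast
  ring

theorem sum_P [Fintype (P : Subgroup G)] :
    ∑ u : (P : Subgroup G) with u ≠ 1, ζ u * conj (ζ u) = 2 * p - 4 := by
  obtain ⟨lam, hl, h1⟩ := h.val
  have h2 : ∀ mu : (P : Subgroup G) →* ℂˣ, mu ≠ 1 → ∑ u, (mu u : ℂ) ^ 2 = 0 := fun mu hm => by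
    refine sum_hom_units_eq_zero ((Units.coeHom ℂ).comp (mu ^ 2)) fun e => hm ?_
    refine MonoidHom.ext fun v => ?_
    obtain ⟨k, hk⟩ := hp.out.odd_of_ne_two (by have := h.five; omega)
    have h3 : mu v ^ (2 * k + 1) = 1 := by
      rw [← hk, ← map_pow, show v ^ p = 1 from (congrArg (v ^ ·) h.card).symm.trans pow_card_eq_one', map_one]
    have h4 : mu v ^ 2 = 1 := Units.ext (DFunLike.congr_fun e v)
    rwa [pow_succ, pow_mul, h4, one_pow, one_mul] at h3
  have h3 := h2 lam⁻¹ fun e => hl (MonoidHom.ext fun v => inv_eq_one.1 (DFunLike.congr_fun e v))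
  have h4 := h2 lam hl
  rw [← Finset.add_sum_erase _ _ (Finset.mem_univ 1)] at h3 h4
  rw [Finset.filter_ne', Finset.sum_congr rfl (g := fun u =>
    (lam u : ℂ) ^ 2 + (lam⁻¹ u : ℂ) ^ 2 + 2), Finset.sum_add_distrib, Finset.sum_add_distrib,
    Finset.sum_const, Finset.card_erase_of_mem (Finset.mem_univ _), Finset.card_univ,
    ← Nat.card_eq_fintype_card, h.card, nsmul_eq_mul, Nat.cast_sub hp.out.one_le]
  · simp only [map_one, Units.val_one] at h3 h4
    linear_combination h3 + h4
  · intro u hu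
    have hu := Finset.ne_of_mem_erase hu
    rw [← ζ.apply_inv, ← Subgroup.coe_inv, h1 u hu, h1 _ (inv_ne_one.2 hu), map_inv,
      MonoidHom.inv_apply, Units.val_inv_eq_inv_val]
    field_simp
    ring

theorem count [Fintype (G ⧸ center G)] : 2 * Nat.card (G ⧸ center G) =
    p * ((p - 2) ^ 2 + (Finset.univ.filter fun z : G ⧸ center G => orderOf z = 2).card) := by
  let _ := Fintype.ofFinite G
  let _ := Fintype.ofFinite (P : Subgroup G)
  have hn : ∀ g, ζ g * conj (ζ g) = (‖ζ g‖ : ℂ) ^ 2 := fun g => Complex.mul_conj' _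
  have h1 : SecConst p P fun g => ζ g * conj (ζ g) := fun u hu hu1 g hg => by
    obtain ⟨t, ht⟩ := isConj_iff.1 hg
    have h5 : pPrimePart p (t * g * t⁻¹) ∈ C(P) := by
      rw [← zpowers_eq_of_card_eq_prime h.card hu hu1, zpowers_eq_closure,
        centralizer_closure, mem_centralizer_singleton_iff, ← ht, ← pPart_conj]
      exact (commute_pPart_pPrimePart p _).symm
    simp only [hn]
    rw [← ζ.isClassFunction g t, ← pPart_mul_pPrimePart p (t * g * t⁻¹),
      ζ.isCharacter.norm_mul_of_mem_charCenter (ζ.center_le_charCenter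
      (h.cent h5 (isPRegular_pPrimePart p _))), pPart_conj, ht]
  have h2 := h1.sum_singular P h.card
  have h3 := ζ.ip_self
  have h4 : ∀ g, ζ g * conj (ζ g) = (if ¬ IsPRegular p g then ζ g * conj (ζ g) else 0) +
      ((p - 2) ^ 2 - 1) * (if g ∈ center G then 1 else 0) +
      if g * g ∈ center G then 1 else 0 := fun g => by
    by_cases h5 : g ∈ center G
    · rw [if_pos h5, if_pos (mul_mem h5 h5), if_neg, hn, h.mem_center.1 h5]
      · push_cast [Nat.cast_sub hp.out.two_le]
        ring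
      · exact not_not.2 fun e => Nat.not_dvd_of_pos_of_lt (by have := h.five; omega)
          (by have := h.five; omega) (e.trans (orderOf_dvd_of_pow_eq_one (h.pow_eq_one h5)))
    by_cases h6 : IsPRegular 2 g
    · have h7 := Nat.odd_iff.2 (Nat.two_dvd_ne_zero.1 h6)
      rw [if_neg h5, if_neg fun e : g * g ∈ center G => h5 (zpowers_le.2 (pow_two g ▸ e)
        (mem_zpowers_pow_iff.2 (Nat.coprime_two_left.2 h7)))]
      split_ifs with h8
      · simp [h.eq_zero_of_odd h8 h7 h5]
      · simp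
    · obtain ⟨h7, h8⟩ := h.of_even h6
      rw [if_neg h5, if_pos h7, if_neg, hn, h8]
      · simp
      · refine not_not.2 fun e => Nat.not_dvd_of_pos_of_lt (n := p - 2) (by have := h.five; omega)
          (by have := h.five; omega) ((Nat.Coprime.dvd_mul_left ?_).1 (e.trans
          (orderOf_dvd_of_pow_eq_one (by rw [pow_mul, pow_two, h.pow_eq_one h7]))))
        exact (Nat.coprime_primes hp.out Nat.prime_two).2 (by have := h.five; omega)
  have h5 := QuotientGroup.card_preimage_mk (center G) {g | g * g = 1}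
  have h6 : Nat.card {g : G ⧸ center G | g * g = 1} =
      (Finset.univ.filter fun z : G ⧸ center G => orderOf z = 2).card + 1 := by
    rw [← Finset.card_insert_of_notMem (a := 1) (by simp), Nat.card_eq_card_toFinset]
    congr 1
    ext g
    simp only [Set.mem_toFinset, Set.mem_ofPred_eq, Finset.mem_insert, Finset.mem_filter,
      Finset.mem_univ, true_and]
    exact ⟨fun e => or_iff_not_imp_left.2 (orderOf_two_of_mul_self e),
      fun e => e.elim (fun e => by rw [e, mul_one]) mul_self_of_orderOf⟩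
  rw [h6, Nat.card_eq_card_toFinset] at h5
  rw [ip_def, inv_mul_eq_one₀ (natCard_cast_ne_zero G), Finset.sum_congr rfl fun g _ => h4 g,
    Finset.sum_add_distrib, Finset.sum_add_distrib, ← Finset.mul_sum, Finset.sum_boole,
    Finset.sum_boole, ← Finset.sum_filter] at h3
  rw [h.relIndex, h.sum_P] at h2
  have h7 : (Finset.univ.filter fun g : G => g ∈ center G).card = Nat.card (center G) := by
    rw [Nat.card_eq_fintype_card, Fintype.card_subtype]
  have h8 : (Finset.univ.filter fun g : G => g * g ∈ center G).card = _ :=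
    Eq.trans (by congr 1; ext; simp [← QuotientGroup.mk_mul]) h5
  rw [h7, h8, card_eq_card_quotient_mul_card_subgroup (center G)] at h3
  rw [card_eq_card_quotient_mul_card_subgroup (center G)] at h2
  apply Nat.cast_injective (R := ℂ)
  apply mul_left_cancel₀ (natCard_cast_ne_zero (center G))
  push_cast [Nat.cast_sub hp.out.two_le] at h2 h3 ⊢
  linear_combination p * h3 + h2 / 2

theorem main : center G = ⊥ ∧ ∃ (a : ℕ) (F : Type) (_ : Field F) (_ : Fintype F),
    p = 2 ^ a + 1 ∧ Fintype.card F = 2 ^ a ∧ Nonempty (G ≃* SL(2, F)) := by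
  let _ := Fintype.ofFinite (G ⧸ center G)
  obtain ⟨S⟩ : Nonempty (Sylow 2 G) := inferInstance
  have h1 := h.elemInvol (S.mapSurjective (QuotientGroup.mk'_surjective _))
  have h2 : Nat.card (S.mapSurjective (QuotientGroup.mk'_surjective (center G))) ∣ p - 1 :=
    (card_map_dvd _ _).trans (h.card_sylow_dvd S)
  generalize Nat.card (S.mapSurjective (QuotientGroup.mk'_surjective (center G))) = q at h1 h2
  obtain ⟨k, hk⟩ := h1.exists_card_mul
  have h3 := h.count
  have h5 := h.five
  have hZ : Nat.card (center G) ∣ p - 2 := by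
    have := ζ.isCyclic_center_of_faithful h.faith
    rw [← IsCyclic.exponent_eq_card]
    exact Monoid.exponent_dvd_of_forall_pow_eq_one fun z => Subtype.ext (h.pow_eq_one z.2)
  obtain ⟨z, hz⟩ := exists_prime_orderOf_dvd_card' (G := G ⧸ center G) 2 (by
    refine (Nat.coprime_two_left.2 (h.odd.of_dvd_nat hZ)).dvd_of_dvd_mul_right ?_
    rw [← card_eq_card_quotient_mul_card_subgroup, ← h.relIndex]
    exact (relIndex_dvd_card _ _).trans (card_subgroup_dvd_card _))
  have h4 : 0 < (Finset.univ.filter fun z : G ⧸ center G => orderOf z = 2).card :=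
    Finset.card_pos.2 ⟨z, by simpa using hz⟩
  generalize (Finset.univ.filter fun z : G ⧸ center G => orderOf z = 2).card = i at h3 h4 hk
  have hg := Nat.card_pos (α := G ⧸ center G)
  have hq := Nat.pos_of_dvd_of_pos h2 (by omega)
  have h6 : p * k < 2 * q := by
    refine Nat.lt_of_mul_lt_mul_right (a := Nat.card (G ⧸ center G)) ?_
    rw [mul_assoc, ← hk, mul_right_comm 2, h3, ← mul_assoc]
    exact Nat.mul_lt_mul_of_pos_right (Nat.mul_lt_mul_of_pos_left (Nat.lt_add_of_pos_left
      (pow_pos (by omega) 2)) (by omega)) hq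
  have h7 := Nat.le_of_dvd (by omega) h2
  obtain rfl : k = 1 := by
    have : k ≠ 0 := fun e => (Nat.mul_pos h4 hq).ne' (by simpa [e] using hk)
    by_contra h8
    have := Nat.mul_le_mul_left p (show 2 ≤ k by omega)
    omega
  obtain rfl : q = p - 1 := by
    obtain ⟨t, ht⟩ := h2
    obtain rfl : t = 1 := by
      have : t ≠ 0 := fun e => by simp [e] at ht; omega
      by_contra h8
      have := Nat.mul_le_mul_left q (show 2 ≤ t by omega)
      omega
    omega
  obtain ⟨d, hd⟩ : ∃ d, p = d + 2 := ⟨p - 2, by omega⟩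
  have h8 : Nat.card (G ⧸ center G) = (p - 1 + 1) * (p - 1) * (p - 1 - 1) := by
    rw [one_mul] at hk
    rw [← hk] at h3 ⊢
    rw [show p - 1 = d + 1 by omega, show p - 2 = d by omega] at *
    rw [hd] at h3
    have h9 : i = (d + 2) * d := Nat.eq_of_mul_eq_mul_left (by omega : 0 < d) (by nlinarith)
    rw [h9, Nat.add_sub_cancel]
    ring
  obtain ⟨a, F, _, _, h9, h10, ⟨e⟩⟩ := h1.exists_mulEquiv h8
    (hp.out.even_sub_one (by omega))
  have h11 : center G = ⊥ := center_eq_bot_of_sylow_isCyclic h.perf fun r hr h11 R => by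
    have : IsCyclic ((R : Subgroup _).map e.toMonoidHom) := isCyclic_sylow_SL2 (r := r) (fun e => by
      have := h.odd.of_dvd_nat (h11.trans hZ)
      rw [e] at this
      exact absurd this (by decide)) (by rw [h10, ← h9]; exact h11.trans hZ)
      (R.mapSurjective (f := e.toMonoidHom) e.surjective)
    exact isCyclic_of_injective (e.toMonoidHom.subgroupMap R) fun x y hxy =>
      Subtype.ext (e.injective (congrArg Subtype.val hxy))
  exact ⟨h11, a, F, _, _, by omega, h10, ⟨(QuotientGroup.quotientBot.symm.trans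
    (QuotientGroup.quotientMulEquivOfEq h11.symm)).trans e⟩⟩

end PmTwo

/-- The multiplication map `K × Z(G) → G`. -/
def mulCenterHom (K : Subgroup G) : K × center G →* G :=
  K.subtype.noncommCoprod (center G).subtype fun a b => mem_center_iff.1 b.2 a

theorem mulCenterHom_surjective {K : Subgroup G} (hK : K ⊔ center G = ⊤) :
    Function.Surjective (mulCenterHom K) := fun g => by
  obtain ⟨y, hy, z, hz, rfl⟩ := mem_sup_of_normal_right.1 (hK.ge (mem_top g))
  exact ⟨(⟨y, hy⟩, ⟨z, hz⟩), rfl⟩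

theorem IrrCharacter.isIrr_comp_of_sup_center (ζ : IrrCharacter G) {K : Subgroup G}
    (hK : K ⊔ center G = ⊤) : IsIrrCharacter K (ζ.1 ∘ K.subtype) := by
  let _ := Fintype.ofFinite K
  let _ := Fintype.ofFinite (center G)
  have h : ∀ k z, ‖(ζ.1 ∘ mulCenterHom K) (k, z)‖ = ‖(ζ.1 ∘ K.subtype) k‖ := fun k z =>
    ζ.isCharacter.norm_mul_of_mem_charCenter (ζ.center_le_charCenter z.2) k
  rw [(ζ.isCharacter.comp _).isIrr_iff,
    ← (ζ.2.comp_of_surjective _ (mulCenterHom_surjective hK)).ip_self, ip_self_eq, ip_self_eq,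
    Fintype.sum_prod_type]
  simp only [h, Finset.sum_const, Finset.card_univ, ← Nat.card_eq_fintype_card, nsmul_eq_mul,
    ← Finset.mul_sum, Nat.card_prod, Nat.cast_mul]
  have : (Nat.card (center G) : ℝ) ≠ 0 := Nat.cast_ne_zero.2 Nat.card_pos.ne'
  congr 1
  field_simp

theorem commutator_perfect_of_sup_center (h : commutator G ⊔ center G = ⊤) :
    commutator (commutator G) = ⊤ := by
  apply map_injective (commutator G).subtype_injective
  rw [_root_.commutator_def (commutator G), map_commutator, ← MonoidHom.range_eq_map,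
    range_subtype]
  refine le_antisymm (commutator_le_left _ _) (commutator_le.2 fun a _ b _ => ?_)
  obtain ⟨x, hx, z, hz, rfl⟩ := mem_sup_of_normal_right.1 (h.ge (mem_top a))
  obtain ⟨y, hy, w, hw, rfl⟩ := mem_sup_of_normal_right.1 (h.ge (mem_top b))
  convert commutator_mem_commutator hx hy using 1
  simp only [commutatorElement_def, mul_inv_rev]
  rw [mul_assoc x, ← mem_center_iff.1 hz, ← mul_assoc x, mul_assoc _ z, mul_inv_cancel_left,
    ← mul_assoc x, mul_assoc _ w, ← mem_center_iff.1 hw]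
  group

theorem IrrCharacter.pm2_sup_center (P : Sylow p G) (hP : Nat.card P = p) (hp5 : 5 < p)
    (hnn : ¬ (P : Subgroup G).Normal) (ζ : IrrCharacter G) (hf : charKer ζ.1 = ⊥)
    (hd : charDegree ζ.1 = p - 2) :
    (P : Subgroup G) ≤ commutator G ∧ commutator G ⊔ center G = ⊤ := by
  let _ := Fintype.ofFinite (P : Subgroup G)
  obtain ⟨h1, h2, -⟩ := ζ.pm2_local P hP hp5 hnn hf hd
  have h3 : (P : Subgroup G) ≤ commutator G := by
    by_contra h3
    refine absurd (h1.symm.trans (relIndex_eq_one.2 fun n hn u hu => by_contra fun h4 => h3 ?_))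
      (by decide)
    rw [← zpowers_eq_of_card_eq_prime hP (u := ⁅n, u⁆) (mul_mem ((mem_normalizer_iff.1 hn u).1 hu)
      (inv_mem hu)) fun e => h4 (commutatorElement_eq_one_iff_mul_comm.1 e).symm, zpowers_le]
    exact commutator_mem_commutator trivial trivial
  refine ⟨h3, ?_⟩
  set H := commutator G ⊔ center G
  have h4 : (P : Subgroup G) ≤ H := h3.trans le_sup_left
  have h5 : N(P) ⊔ H = ⊤ := P.normalizer_sup_eq_top' h4
  have h6 : C(P) ≤ H := fun c hc => by
    rw [← pPart_mul_pPrimePart p c]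
    exact mul_mem (h4 (((isPElt_iff_isPGroup_zpowers.1 (isPElt_pPart p c)).inf_normalizer_sylow
      P).le ⟨mem_zpowers _, centralizer_le_normalizer _ (pPart_mem p hc)⟩).2)
      (mem_sup_right (h2 _ (pPrimePart_mem p hc) (isPRegular_pPrimePart p c)))
  have h7 : H.index ∣ 2 := by
    rw [← relIndex_top_right, ← h5, relIndex_sup_right, ← h1]
    exact relIndex_dvd_of_le_left _ h6
  have h8 := ζ.isIrr_comp_of_coprime (f := H.subtype) (by
    rw [range_subtype, hd]
    obtain ⟨k, hk⟩ := hp.out.odd_of_ne_two (by omega)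
    exact (Nat.coprime_two_right.2 ⟨k - 1, by omega⟩).of_dvd_right h7)
  let _ := Fintype.ofFinite (P.subtype h4 : Subgroup H)
  have h9 := (IrrCharacter.pm2_local (P.subtype h4)
    ((Nat.card_congr (subgroupOfEquivOfLe h4).toEquiv).trans hP) hp5 (fun e => hnn (by
      rw [← normalizer_eq_top_iff, ← h5, left_eq_sup]
      exact (normal_subgroupOf_iff_le_normalizer h4).1 e)) ⟨_, h8⟩
    (by rw [ζ.isCharacter.charKer_comp, hf, MonoidHom.comap_bot, ker_subtype])
    ((charDegree_comp _ _).trans hd)).1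
  have h10 : ¬ N(P) ⊓ H ≤ C(P) := fun e => by
    refine absurd (h9.symm.trans (relIndex_eq_one.2 fun n hn u hu => Subtype.ext ?_)) (by decide)
    rw [Sylow.coe_subtype, ← subgroupOf_normalizer_eq h4] at hn
    exact e ⟨hn, n.2⟩ u hu
  obtain ⟨n, ⟨hn1, hn2⟩, hn3⟩ := SetLike.not_le_iff_exists.1 h10
  rw [← h5, right_eq_sup]
  intro m hm
  by_cases h11 : m ∈ C(P)
  · exact h6 h11
  · exact (H.mul_mem_cancel_right hn2).1 (h6 ((mul_mem_iff_of_index_two h1 (a := ⟨m, hm⟩)
      (b := ⟨n, hn1⟩)).2 (iff_of_false h11 hn3)))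

theorem IrrCharacter.pm2_main (P : Sylow p G) (hP : Nat.card P = p) (hp5 : 5 < p)
    (hnn : ¬ (P : Subgroup G).Normal) (ζ : IrrCharacter G) (hf : charKer ζ.1 = ⊥)
    (hd : charDegree ζ.1 = p - 2) : ∃ (a : ℕ) (F : Type) (_ : Field F) (_ : Fintype F),
      p = 2 ^ a + 1 ∧ Fintype.card F = 2 ^ a ∧ Nonempty (G ≃* SL(2, F) × center G) := by
  obtain ⟨h1, h2⟩ := ζ.pm2_sup_center P hP hp5 hnn hf hd
  have h : PmTwo p (P.subtype h1) ⟨_, ζ.isIrr_comp_of_sup_center h2⟩ :=
    ⟨(Nat.card_congr (subgroupOfEquivOfLe h1).toEquiv).trans hP, hp5, fun e => hnn (by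
      rw [← normalizer_eq_top_iff, eq_top_iff, ← h2]
      exact sup_le ((normal_subgroupOf_iff_le_normalizer h1).1 e)
        ((center_le_centralizer _).trans (centralizer_le_normalizer _))),
    by rw [ζ.isCharacter.charKer_comp, hf, MonoidHom.comap_bot, ker_subtype],
    (charDegree_comp _ _).trans hd, commutator_perfect_of_sup_center h2⟩
  obtain ⟨h3, a, F, _, _, h4, h5, ⟨e⟩⟩ := h.main
  refine ⟨a, F, _, _, h4, h5, ⟨(MulEquiv.ofBijective _ ⟨(injective_iff_map_eq_one _).2 ?_,
    mulCenterHom_surjective h2⟩).symm.trans (e.prodCongr (MulEquiv.refl _))⟩⟩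
  rintro ⟨k, z⟩ h6
  have h7 : (k : G) = (z : G)⁻¹ := eq_inv_of_mul_eq_one_left h6
  obtain rfl : k = 1 := mem_bot.1 (h3.le (mem_center_iff.2 fun g => Subtype.ext (by
    rw [Subgroup.coe_mul, Subgroup.coe_mul, h7]
    exact mem_center_iff.1 (inv_mem z.2) _)))
  exact Prod.ext rfl (Subtype.ext (inv_eq_one.1 h7.symm))

end Cfsg

set_option linter.all false in
theorem Cfsg.Rz.Blk_PmTwoC_0 : True := by
  have := @_root_.Cfsg.mulCenterHom.eq_def.{0}
  have := @_root_.Cfsg.mulCenterHom.eq_1.{0}
  have := @_root_.Cfsg.mulCenterHom.fun_cases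
  trivial
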