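import Cfsg.Agent.Blk.PrimeCoreD

/-!
# Faithful characters of degree at most `p - 2`: the core theorem
-/

set_option autoImplicit false
set_option linter.unusedSectionVars false
set_option linter.unusedVariables false
set_option linter.style.haveILetI false

namespace Cfsg

open Exc Subgroup PM
open scoped ComplexConjugate Classical

universe u v w

variable {G : Type u} [Group G] [Finite G] {p : ℕ} [hp : Fact p.Prime]

local notation "C(" Q ")" => Subgroup.centralizer ((Q : Subgroup G) : Set G)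
local notation "N(" Q ")" => Subgroup.normalizer ((Q : Subgroup G) : Set G)

theorem SmallDeg.isPRegular_of_mem_center {P : Sylow p G} {χ : IrrCharacter G} (h : SmallDeg p P χ)
    {z : G} (hz : z ∈ center G) : IsPRegular p z := by
  have h1 := pPart_mem (p := p) hz
  have h2 := (((isPElt_iff_isPGroup_zpowers.1 (isPElt_pPart p z)).inf_normalizer_sylow P).le
    ⟨mem_zpowers _, center_le_normalizer _ h1⟩).2
  exact pPart_eq_one_iff.1 (by_contra fun e => h.nn (h.zpowers_eq h2 e ▸
    normal_of_le_center (zpowers_le.2 h1)))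

theorem SmallDeg.exists_ctx {P : Sylow p G} {χ : IrrCharacter G} (h : SmallDeg p P χ)
    {M : Ideal AlgInt} (hM : IsPModular p M) [CharP (ResK M) p] {x : G}
    (hx : x ∈ (P : Subgroup G)) (hx1 : x ≠ 1) (hD : ¬ DicksonData p x)
    (hn : charDegree χ.1 + (C(P)).relIndex N(P) = p) :
    ∃ L α q q' t, Ctx p M P x L α q q' ((C(P)).relIndex N(P)) t (charDegree χ.1) := by
  obtain ⟨L, h1, h2, h3⟩ := exists_complement_sylow_normalizer P
  letI := Fintype.ofFinite L
  have h4 := h.zpowers_eq hx hx1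
  haveI : IsCyclic P := isCyclic_of_prime_card h.card
  have h5 : ∀ l ∈ L, l ∈ C(P) → l ∈ center G := fun l hl hl' =>
    h.cent hl' (isPRegular_of_mem_of_not_dvd h1 hl)
  haveI : IsCyclic (ZMod (Nat.card P))ˣ := h.card.symm ▸ ZMod.isCyclic_units_prime hp.out
  haveI : IsCyclic (MulAut P) :=
    isCyclic_of_injective (IsCyclic.mulAutMulEquiv P).toMonoidHom (MulEquiv.injective _)
  obtain ⟨α, q, q', loc⟩ := exists_loc (k := ResK M) (h.orderOf_eq hx hx1) h.not_sq_dvd h1
    (by rw [h4, h3]) (MonoidHom.isMulCommutative_of_isCyclic_of_ker_le_center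
      ((P : Subgroup G).normalizerMonoidHom.comp (inclusion h2)) fun l hl => by
        rw [← MonoidHom.comap_ker, normalizerMonoidHom_ker] at hl
        exact mem_center_iff.2 fun g => Subtype.ext (mem_center_iff.1 (h5 l l.2 hl) g)).1.1
  have h6 : ∀ l : L, α l = 1 ↔ (l : G) ∈ C(P) := fun l => by
    rw [← h.centralizer_eq hx hx1, mem_centralizer_singleton_iff]
    exact ⟨loc.comm_of_eq_one, loc.eq_one_of_comm (mem_zpowers x) hx1⟩
  have h7 := card_conjClasses_orderOf_prime P h.card
  have h8 := h.relIndex_le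
  have h9 := h.deg
  refine ⟨L, α, q, q', _, hM, loc, h4, ?_, fun l hl => h5 l l.2 ((h6 l).1 hl),
    by rw [mul_comm, h7], by omega, ?_, hn, card_autOf_subtype le_rfl,
    fun U _ _ _ σ j e1 e2 => lt_of_not_ge fun e => hD (h.dickson_of_small hM hx hx1 e1 e2 e),
    fun U _ _ _ σ => h.exists_ibr hM hx hx1⟩
  · have e1 : autOf (P : Subgroup G).subtype N(P) = autOf (P : Subgroup G).subtype L := by
      ext σ
      refine ⟨fun ⟨g, hg, e⟩ => ?_, fun ⟨g, hg, e⟩ => ⟨g, h2 hg, e⟩⟩
      obtain ⟨y, hy, z, hz, rfl⟩ := (mem_sup_of_le_normalizer h2).1 (h3.ge hg)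
      refine ⟨y, hy, fun a => (e a).trans ?_⟩
      rw [mul_assoc y, show z * (P : Subgroup G).subtype a = (P : Subgroup G).subtype a * z from
        congrArg Subtype.val (mul_comm' (⟨z, hz⟩ : (P : Subgroup G)) a)]
      group
    have e2 := mul_card_eq (orderOf_injective _ (hat_injective hM h1) α) (orderOf_pos_iff.2
      (isOfFinOrder_iff_pow_eq_one.2 ⟨p - 1, by omega, loc.alpha_pow⟩))
    have e3 := ((C(P)).subgroupOf L).index_mul_card
    rw [Nat.card_eq_fintype_card, Fintype.card_subtype, Nat.card_eq_fintype_card, ← e2,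
      Finset.filter_congr (q := fun l => hat hM h1 α l = 1) fun l _ => by
        have := hat_apply_inj hM h1 (ν := α) (μ := 1) (l := l)
        rw [map_one] at this
        exact (h6 l).symm.trans this.symm] at e3
    rw [← card_autOf_subtype le_rfl, e1, card_autOf_subtype h2]
    exact (Nat.eq_of_mul_eq_mul_right (Finset.card_pos.2 ⟨1, by simp⟩) e3).symm
  · generalize Nat.card {c : ConjClasses G // ∃ g : G, ConjClasses.mk g = c ∧ orderOf g = p} = t
      at h7
    rcases t with _ | _ | t <;> omega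

theorem SmallDeg.core {P : Sylow p G} {χ : IrrCharacter G} (h : SmallDeg p P χ) (hp7 : 7 < p)
    [Fintype (P : Subgroup G)] : (∃ x ∈ (P : Subgroup G), x ≠ 1 ∧ DicksonData p x) ∨
    ∃ e t, (C(P)).relIndex N(P) = e ∧ charDegree χ.1 + e = p ∧ e * t + 1 = p ∧ e + 3 ≤ t ∧
      (Odd (Nat.card (center G)) → e = 2) ∧ (e = 2 ∨ ∀ X Y ζ δ a,
        PBlk p (P : Subgroup G) (OverCenter p fun _ => 1) X Y ζ δ a → δ = 1 ∧
          ∀ η ∈ Y, ∃ m, charDegree η.1 = e + m * p ∧ 0 < m ∧ e * m + 2 * e ≤ p) := by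
  obtain ⟨x, hx, hx1⟩ := h.exists_ne_one
  refine or_iff_not_imp_left.2 fun hD => ?_
  replace hD : ¬ DicksonData p x := fun e => hD ⟨x, hx, hx1, e⟩
  obtain ⟨hn, lam, hl, hv⟩ := h.dichotomy.resolve_left fun e => hD (e.2 x hx hx1)
  obtain ⟨M, hM⟩ := exists_isPModular hp.out
  haveI := hM.charP
  obtain ⟨L, α, q, q', t, c⟩ := h.exists_ctx hM hx hx1 hD hn
  letI := Fintype.ofFinite L
  obtain ⟨φ, D, d, U⟩ := c.exists_uni h.nn h.eq_one rfl hl hv
  have h1 := fun X Y ζ δ a he => c.of_ne_two U hp7 he h.sup_center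
    (fun z => h.isPRegular_of_mem_center) (X := X) (Y := Y) (ζ := ζ) (δ := δ) (a := a)
  refine ⟨_, t, rfl, hn, c.et, ?_, fun hZ => ?_, or_iff_not_imp_left.2 fun he X Y ζ δ a b =>
    (h1 X Y ζ δ a he b).2⟩
  · by_cases he : (C(P)).relIndex N(P) = 2
    · have h2 := c.et
      have := hp.out
      rw [he] at h2 ⊢
      by_contra
      obtain rfl : p = 9 := by omega
      contradiction
    · obtain ⟨X, Y, ζ, δ, a, b⟩ := exists_pBlk_central P h.card (fun y => h.cent)
        (IrrCharacter.one G) (by simp [hp.out.ne_one])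
      exact (h1 X Y ζ δ a he b).1
  · obtain ⟨X, Y, ζ, δ, a, b⟩ := exists_pBlk_central P h.card (fun y => h.cent) χ
      (Nat.not_dvd_of_pos_of_lt χ.charDegree_pos (by have := h.deg; omega))
    exact c.eq_two_of_odd U hp7 h.nn h.eq_one hZ b

end Cfsg
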