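import Cfsg.Agent.Mod.PrimeWt

/-!
# Faithful characters of degree at most `p - 2`: the basic inequalities
-/

set_option autoImplicit false
set_option linter.unusedSectionVars false
set_option linter.style.haveILetI false

namespace Cfsg.PM

open Module Finset Subgroup Polynomial Exc
open scoped ComplexConjugate Classical

universe u v w w'

variable {G : Type u} [Group G] [Finite G] {p : ℕ} [hp : Fact p.Prime] {M : Ideal AlgInt}

local notation "N(" Q ")" => Subgroup.normalizer ((Q : Subgroup G) : Set G)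

theorem isIrreducible_of_brauerChar (hM : IsPModular p M) {W : Type w} [AddCommGroup W]
    [Module (ResK M) W] [FiniteDimensional (ResK M) W] {σ : Representation (ResK M) G W}
    {φ : IBr p M G} (h : brauerChar p M σ = φ.1) : σ.IsIrreducible := by
  have h1 := congrFun h 1
  rw [brauerChar_one hM, φ.apply_one hM, Nat.cast_inj] at h1
  refine (rep_isIrreducible_iff σ).2 ⟨finrank_pos_iff.1 (h1 ▸ φ.deg_pos), fun U hU => ?_⟩
  obtain ⟨i, i', h2, h3, h4⟩ := pure_of_add hM (φ := φ) (j := 1) (isBrauerChar_of_rep _)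
    (isBrauerChar_of_rep _) ((brauerChar_eq_add_of_invt σ hU).symm.trans (by simp [h]))
  have h5 := congrFun h2 1
  have h6 := congrFun h3 1
  rw [brauerChar_one hM] at h5 h6
  obtain rfl | rfl : i = 0 ∨ i' = 0 := by omega
  · exact Or.inl (by simpa using h5)
  · exact Or.inr (Submodule.Quotient.subsingleton_iff.1 (finrank_zero_iff.1 (by simpa using h6)))

theorem red_ibr (hM : IsPModular p M) {F : G → ℂ} (hF : IsCharacter G F) {φ : IBr p M G}
    (h : pRegularPart p F = φ.1) : Red F φ.rep := by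
  obtain ⟨n, R, rfl⟩ := hF.exists_latC (M := M)
  rw [← brauerChar_latK hM] at h
  obtain ⟨e⟩ := nonempty_equiv_of_brauerChar_eq hM (isIrreducible_of_brauerChar hM h)
    φ.rep_isIrreducible (h.trans φ.brauerChar_rep.symm)
  exact (red_latK R).congr e

theorem sum_mul_le {Φ : (G → ℂ) →ₗ[ℂ] ℂ} (hΦ : ∀ F, IsCharacter G F → ∃ a : ℕ, Φ F = a)
    {ψ : G → ℂ} (hψ : IsCharacter G ψ) (Y : Finset (IrrCharacter G)) {a b : ℕ}
    (hb : ∀ η ∈ Y, Φ η.1 = b) (ha : Φ ψ = a) : (∑ η ∈ Y, ipNat ψ η.1) * b ≤ a := by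
  obtain ⟨c, hc⟩ := hΦ _ (IsCharacter.sum (s := Yᶜ) fun η _ => η.isCharacter.nsmul (ipNat ψ η.1))
  rw [hψ.eq_sum_ipNat, ← sum_add_sum_compl Y, map_add, hc, map_sum,
    sum_congr rfl fun η hη => by rw [map_smul, hb η hη, smul_eq_mul], ← sum_mul] at ha
  exact Nat.le.intro (k := c) (by exact_mod_cast ha)

section Osum

variable {A : Type v} [Group A] [Fintype A] {E : Subgroup (MulAut A)}

theorem sum_mul_conj_eq (F : A → ℂ) (mu : A →* ℂˣ) :
    ∑ u, F u * conj (mu u : ℂ) = Nat.card A * coef F mu + ∑ u, F u := by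
  rw [coef, mul_inv_cancel_left₀ (by simp), ← sum_add_distrib]
  exact sum_congr rfl fun u _ => by ring

theorem sum_mul_conj_osum (hE : IsFree E) (hA : ∀ a b : A, a * b = b * a) {F : A → ℂ}
    {lam : A →* ℂˣ} (hl : lam ≠ 1) {c : ℂ} (h : ∀ mu, Orb E lam mu → coef F mu = c) :
    ∑ u, F u * conj (osum E lam u) = Nat.card E * (Nat.card A * c + ∑ u, F u) := by
  letI := Fintype.ofFinite (A →* ℂˣ)
  simp only [osum_eq_sum, map_sum, mul_sum]
  rw [sum_comm, sum_congr rfl fun mu hm => by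
    rw [sum_mul_conj_eq, h mu (mem_filter.1 hm).2], sum_const, hE.card_orb hA hl, nsmul_eq_mul]

theorem sum_osum {lam : A →* ℂˣ} (hl : lam ≠ 1) : ∑ u, osum E lam u = 0 := by
  letI := Fintype.ofFinite (A →* ℂˣ)
  simp only [osum_eq_sum]
  rw [sum_comm]
  refine sum_eq_zero fun mu hm => ?_
  simpa [(mem_filter.1 hm).2.ne_one hl] using sum_mul_conj 1 mu

theorem sum_congr_ne {f g : A → ℂ} (h : ∀ u, u ≠ 1 → f u = g u) :
    ∑ u, f u = ∑ u, g u + (f 1 - g 1) := by
  rw [← sub_eq_iff_eq_add', ← sum_sub_distrib, sum_eq_single 1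
    (fun u _ hu => sub_eq_zero.2 (h u hu)) (by simp)]

theorem sum_coef [Fintype (A →* ℂˣ)] (hA : ∀ a b : A, a * b = b * a) (F : A → ℂ) :
    ∑ lam, coef F lam = F 1 - ∑ u, F u := by
  have h1 := sum_dual hA (1 : A)
  simp only [map_one, Units.val_one, sum_const, card_univ, nsmul_eq_mul, mul_one, if_true] at h1
  have h2 : ∑ lam : A →* ℂˣ, ∑ u, F u * conj (lam u : ℂ) = Nat.card A * F 1 := by
    rw [sum_comm, sum_eq_single 1 (fun u _ hu => by
      rw [← mul_sum, ← map_sum, sum_dual hA, if_neg hu, map_zero, mul_zero]) (by simp)]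
    simp [h1]
  simp only [sum_mul_conj_eq, sum_add_distrib, ← mul_sum, sum_const, card_univ, nsmul_eq_mul,
    h1] at h2
  exact mul_left_cancel₀ (a := (Nat.card A : ℂ)) (by simp) (by linear_combination h2)

end Osum

variable {P L : Subgroup G} [Fintype P] [Fintype L]

theorem _root_.Cfsg.PBlk.sum_zeta {Q : (G → ℂ) → Prop} {X Y : Finset (IrrCharacter G)}
    {ζ : (P →* ℂˣ) → IrrCharacter G} {δ : ℤ} {a : IrrCharacter G → ℤ} (h : PBlk p P Q X Y ζ δ a)
    [Fintype (P →* ℂˣ)] (f : IrrCharacter G → ℂ) :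
    ∑ lam with lam ≠ 1, f (ζ lam) = X.card * ∑ η ∈ Y, f η := by
  rw [← sum_fiberwise_of_maps_to (g := ζ) fun lam hl => h.mem lam (mem_filter.1 hl).2, mul_sum]
  refine sum_congr rfl fun η hη => ?_
  obtain ⟨mu, hm, rfl⟩ := h.surj η hη
  rw [sum_congr rfl fun lam hl => by rw [(mem_filter.1 hl).2], sum_const, nsmul_eq_mul, ← h.cardE,
    ← h.free.card_orb h.comm hm]
  congr 3
  ext lam
  simp only [mem_filter, mem_univ, true_and]
  exact ⟨fun e => (h.eq_iff _ _ hm e.1).1 e.2.symm, fun e =>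
    ⟨e.ne_one hm, ((h.eq_iff _ _ hm (e.ne_one hm)).2 e).symm⟩⟩

/-- `F` lies over the restriction of `ν` to the kernel of `α`. -/
def Over {k : Type} [Field k] (α : Wt L k) (F : G → ℂ) (ν : Wt L ℂ) : Prop :=
  ∀ z : L, α z = 1 → ∀ g, F (z * g) = ν z * F g

theorem conj_wt (ν : Wt L ℂ) (l : L) : conj (ν l : ℂ) = ν⁻¹ l := by
  rw [Wt.inv_apply, Units.val_inv_eq_inv_val, Complex.inv_eq_conj
    (Complex.norm_eq_one_of_pow_eq_one (ν.pow_card l) Nat.card_pos.ne')]

theorem Over.star_mul {k : Type} [Field k] {α : Wt L k} {F F' : G → ℂ} {ν ν' : Wt L ℂ}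
    (h : Over α F ν) (h' : Over α F' ν') : Over α (star F * F') (ν⁻¹ * ν') := fun z hz g => by
  simp only [Pi.mul_apply, Pi.star_apply, h z hz, h' z hz, Complex.star_def, map_mul, conj_wt,
    Wt.mul_apply, Units.val_mul]
  ring

theorem Over.apply {k : Type} [Field k] {α : Wt L k} {F : G → ℂ} {ν : Wt L ℂ} (h : Over α F ν)
    {z : L} (hz : α z = 1) : F z = ν z * F 1 := by simpa using h z hz 1

theorem Over.eq {k : Type} [Field k] {α : Wt L k} {F : G → ℂ} {ν ν' : Wt L ℂ} (h : Over α F ν)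
    (h' : Over α F ν') (h1 : F 1 ≠ 0) {z : L} (hz : α z = 1) : ν z = ν' z :=
  Units.ext (mul_right_cancel₀ h1 ((h.apply hz).symm.trans (h'.apply hz)))

variable [CharP (ResK M) p]

/-- The setting. -/
structure Ctx (p : ℕ) [Fact p.Prime] (M : Ideal AlgInt) [CharP (ResK M) p] (P : Subgroup G) (x : G)
    (L : Subgroup G) (α : Wt L (ResK M)) (q q' : (ResK M)[X]) (e t n : ℕ) : Prop where
  hM : IsPModular p M
  loc : Loc p x L α q q'
  zp : zpowers x = P
  ord : orderOf α = e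
  cen : ∀ l : L, α l = 1 → (l : G) ∈ center G
  et : e * t + 1 = p
  two : 2 ≤ e
  two' : 2 ≤ t
  ne : n + e = p
  cardE : Nat.card (autOf P.subtype N(P)) = e
  small : ∀ (U : Type) [AddCommGroup U] [Module (ResK M) U] [FiniteDimensional (ResK M) U]
    (σ : Representation (ResK M) G U) (j : ℕ), σ x ≠ 1 → (σ x - 1) ^ j = 0 → p < 2 * j + 1
  ibr : ∀ (U : Type) [AddCommGroup U] [Module (ResK M) U] [FiniteDimensional (ResK M) U]
    (σ : Representation (ResK M) G U), σ x ≠ 1 →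
      ∃ φ : IBr p M G, decNum (brauerChar p M σ) φ ≠ 0 ∧ φ.rep x ≠ 1

/-- Characters with a uniserial restriction. -/
structure Uni (P : Subgroup G) {x : G} {L : Subgroup G} {q : (ResK M)[X]} (n : ℕ)
    (χ : IrrCharacter G) {φ : IBr p M G} (C : Chains (dop φ.rep x q) (sig φ.rep L)) (c : C.ι)
    (lam : P →* ℂˣ) : Prop where
  reg : pRegularPart p χ.1 = φ.1
  one : ∀ d, d = c
  len : C.m c = n
  ne : lam ≠ 1
  val : ∀ u : P, u ≠ 1 → χ u = -osum (autOf P.subtype N(P)) lam u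

namespace Ctx

variable {x : G} {α : Wt L (ResK M)} {q q' : (ResK M)[X]} {e t n : ℕ}
  (h : Ctx p M P x L α q q' e t n)
include h

/-- The lifted weight. -/
noncomputable def lf : Wt L (ResK M) →* Wt L ℂ := hat h.hM h.loc.hLp

theorem lf_injective : Function.Injective h.lf := hat_injective _ _

theorem lf_eq_one {ν : Wt L (ResK M)} {l : L} : h.lf ν l = 1 ↔ ν l = 1 := by
  have := hat_apply_inj h.hM h.loc.hLp (ν := ν) (μ := 1) (l := l)
  rwa [map_one] at this

theorem ord' : orderOf (h.lf α) = e := (orderOf_injective _ h.lf_injective α).trans h.ord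

theorem pos : 0 < e := h.two.trans_lt' two_pos

theorem cardP : Nat.card P = p := by rw [← h.zp, Nat.card_zpowers, h.loc.ord]

theorem comm (u v : P) : u * v = v * u :=
  haveI : IsCyclic P := isCyclic_of_prime_card h.cardP
  mul_comm' u v

theorem free : IsFree (autOf P.subtype N(P)) := isFree_of_card_eq_prime h.cardP _

theorem pow_e : α ^ e = 1 := h.ord ▸ pow_orderOf_eq_one α

theorem n_eq : n = e * (t - 1) + 1 := by
  obtain ⟨s, rfl⟩ : ∃ s, t = s + 1 := ⟨t - 1, by have := h.two'; omega⟩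
  have := h.ne
  have := h.et
  rw [mul_add] at this
  simp only [Nat.add_sub_cancel]
  omega

theorem cast_n : (n : ℂ) = e * t + 1 - e := by
  have := h.ne.trans h.et.symm
  exact eq_sub_of_add_eq (by exact_mod_cast this)

theorem cast_p : (p : ℂ) = e * t + 1 := by exact_mod_cast h.et.symm

theorem mul_avg_sub {ν : Wt L ℂ} {f g : L → ℂ} {a b : ℂ}
    (h1 : ∀ l, α l ≠ 1 → f l = g l) (h2 : ∀ l, α l = 1 → f l = ν l * a)
    (h3 : ∀ l, α l = 1 → g l = ν l * b) : e * (avg ν f - avg ν g) = a - b :=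
  PM.mul_avg_sub h.ord' h.pos (fun l hl => h1 l (mt h.lf_eq_one.2 hl))
    (fun l hl => h2 l (h.lf_eq_one.1 hl)) fun l hl => h3 l (h.lf_eq_one.1 hl)

theorem exists_pow {ν : Wt L (ResK M)} (hν : ∀ l, α l = 1 → h.lf ν l = 1) : ∃ j < e, α ^ j = ν := by
  obtain ⟨j, hj, h1⟩ := exists_pow_eq h.ord' h.pos fun l hl => hν l (h.lf_eq_one.1 hl)
  exact ⟨j, hj, h.lf_injective (by rw [map_pow, h1])⟩

theorem mul_fix (F : G → ℂ) : p * fix P L F 1 = ∑ u : P, F u := by
  rw [fix_apply, ← Nat.card_eq_fintype_card, h.cardP, mul_inv_cancel_left₀ (by simp [hp.out.ne_zero])]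
  simp

theorem sum_chain {l : L} (hl : α l ≠ 1) (w : Wt L (ResK M)) (s r : ℕ) :
    ∑ i ∈ range (e * s + r), (hat h.hM h.loc.hLp (w * α ^ i) l : ℂ) =
      h.lf w l * ∑ i ∈ range r, (((h.lf α ^ i) l : ℂˣ) : ℂ) := by
  rw [← sum_pow_apply_of_ne h.ord' (mt h.lf_eq_one.1 hl) s, mul_sum]
  exact sum_congr rfl fun i _ => by rw [map_mul, map_pow]; rfl

theorem over_chain {W : Type w} [AddCommGroup W] [Module (ResK M) W] {θ : IrrCharacter G}
    {σ : Representation (ResK M) G W} (hθ : Red θ.1 σ) (C : Chains (dop σ x q) (sig σ L))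
    (c : C.ι) : Over α θ.1 (h.lf (C.w c)) := fun z hz g => by
  haveI := hθ.finiteDimensional
  rw [eq_of_avg_ne_zero (f := fun l : L => θ l) (z := z) (c := θ z / θ 1) ?_
    fun l => θ.apply_center_mul (h.cen z hz) l]
  · exact θ.apply_center_mul (h.cen z hz) g
  · erw [← h.loc.finrank_wsp_eq h.hM hθ]
    rw [Nat.cast_ne_zero, Ne, Submodule.finrank_eq_zero]
    exact fun e => C.pow_u_ne_zero (C.pos c) ((Submodule.mem_bot _).1 (e ▸ C.wt c))

theorem sum_eq {θ : G → ℂ} {lam : P →* ℂˣ} (hl : lam ≠ 1) {δ : ℂ}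
    (hθ : ∀ u : P, u ≠ 1 → θ u = δ * osum (autOf P.subtype N(P)) lam u) :
    ∑ u : P, θ u = θ 1 - δ * e := by
  rw [sum_congr_ne hθ, ← mul_sum, sum_osum hl, h.free.osum_one h.comm hl, h.cardE]
  simp

theorem sum_mul_conj {F θ : G → ℂ} {lam : P →* ℂˣ} (hl : lam ≠ 1) {δ : ℤ} {c : ℂ}
    (hθ : ∀ u : P, u ≠ 1 → θ u = δ * osum (autOf P.subtype N(P)) lam u)
    (hc : ∀ mu, Orb (autOf P.subtype N(P)) lam mu → coef (fun u : P => F u) mu = c) :
    ∑ u : P, F u * conj (θ u) =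
      F 1 * conj (θ 1) + δ * e * (p * c + ∑ u : P, F u - F 1) := by
  rw [sum_congr_ne (g := fun u : P => δ * (F u * conj (osum (autOf P.subtype N(P)) lam u)))
    fun u hu => by rw [hθ u hu, map_mul, map_intCast, mul_left_comm], ← mul_sum,
    sum_mul_conj_osum h.free h.comm hl hc, h.free.osum_one h.comm hl, h.cardE, h.cardP]
  simp only [OneMemClass.coe_one, map_natCast]
  ring

section Uni

variable {χ χ' : IrrCharacter G} {φ φ' : IBr p M G} {C : Chains (dop φ.rep x q) (sig φ.rep L)}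
  {C' : Chains (dop φ'.rep x q) (sig φ'.rep L)} {c : C.ι} {c' : C'.ι} {lam lam' : P →* ℂˣ}

theorem uni_red (U : Uni P n χ C c lam) : Red χ.1 φ.rep := red_ibr h.hM χ.isCharacter U.reg

theorem uni_one (U : Uni P n χ C c lam) : χ 1 = n := by
  erw [(h.uni_red U).finrank_eq h.hM]
  rw [C.finrank_eq, sum_eq_single c (fun d _ hd => absurd (U.one d) hd) (by simp), U.len]

theorem uni_val (U : Uni P n χ C c lam) {l : L} (hl : α l ≠ 1) : χ l = h.lf (C.w c) l := by
  erw [h.loc.apply_eq_sum h.hM (h.uni_red U) C]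
  rw [sum_eq_single c (fun d _ hd => absurd (U.one d) hd) (by simp), U.len.trans h.n_eq,
    h.sum_chain hl]
  simp

variable (U : Uni P n χ C c lam) (U' : Uni P n χ' C' c' lam')
  (hO : ¬ Orb (autOf P.subtype (normalizer (P : Set G))) lam' lam)
include U U'

theorem psi_over : Over α (star χ.1 * χ'.1) ((h.lf (C.w c))⁻¹ * h.lf (C'.w c')) :=
  (h.over_chain (h.uni_red U) C c).star_mul (h.over_chain (h.uni_red U') C' c')

theorem psi_one : (star χ.1 * χ'.1) 1 = n ^ 2 := by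
  have := h.uni_one U
  have := h.uni_one U'
  simp [*, sq]

include hO

theorem sum_psi : ∑ u : P, (star χ.1 * χ'.1) u = n ^ 2 - e ^ 2 := by
  have h1 := h.sum_mul_conj (F := χ'.1) (θ := χ.1) U.ne (δ := -1) (c := 0)
    (fun u hu => by simpa using U.val u hu) fun mu hm => by
      rw [coef_congr (F' := fun u => -1 * osum (autOf P.subtype N(P)) lam' u)
        fun u hu => by simpa using U'.val u hu, coef_mul, coef_osum U'.ne,
        if_neg fun e => hO (e.trans hm.symm), mul_zero]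
  rw [h.sum_eq U'.ne (δ := -1) fun u hu => by simpa using U'.val u hu] at h1
  erw [h.uni_one U, h.uni_one U'] at h1
  refine (sum_congr rfl fun u _ => mul_comm _ _).trans (h1.trans ?_)
  simp only [map_natCast]
  push_cast
  ring

theorem fix_psi : fix P L (star χ.1 * χ'.1) 1 = n - e :=
  mul_left_cancel₀ (a := (p : ℂ)) (by simp [hp.out.ne_zero]) (by
    rw [h.mul_fix, h.sum_psi U U' hO, ← h.ne]
    push_cast
    ring)

theorem avg_fix_psi {ν : Wt L ℂ} (hν : Over α (star χ.1 * χ'.1) ν) :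
    avg ν (fix P L (star χ.1 * χ'.1)) =
      (t - 2 + if (h.lf (C.w c))⁻¹ * h.lf (C'.w c') = ν then 1 else 0 : ℕ) := by
  have h1 := h.mul_avg_sub (ν := ν) (f := fix P L (star χ.1 * χ'.1))
    (g := fun l => ((h.lf (C.w c))⁻¹ * h.lf (C'.w c')) l) (b := 1) (fun l hl => by
      rw [h.loc.fix_of_ne h.zp (χ.isCharacter.star.mul χ'.isCharacter).isClassFunction hl]
      simp only [Pi.mul_apply, Pi.star_apply, Complex.star_def]
      erw [h.uni_val U hl, h.uni_val U' hl]
      rw [conj_wt]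
      rfl) (fun l hl => fix_of_mul (hν l hl)) fun l hl => by
      rw [(h.psi_over U U').eq hν (by
        rw [h.psi_one U U', h.n_eq]; exact_mod_cast (by positivity)) hl, mul_one]
  rw [h.fix_psi U U' hO, avg_wt, h.cast_n] at h1
  rw [Nat.cast_add, Nat.cast_sub h.two', Nat.cast_ite]
  exact mul_left_cancel₀ (a := (e : ℂ)) (by simp [h.pos.ne']) (by push_cast; linear_combination h1)

theorem sum_ipNat {Q : (G → ℂ) → Prop} {X Y : Finset (IrrCharacter G)}
    {ζ : (P →* ℂˣ) → IrrCharacter G} {δ : ℤ} {a : IrrCharacter G → ℤ} (b : PBlk p P Q X Y ζ δ a)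
    (hQ : Q (star χ.1 * χ'.1)) : δ * (∑ η ∈ Y, ipNat (star χ.1 * χ'.1) η.1 : ℕ) =
      e + t * ∑ ξ ∈ X, a ξ * ipNat (star χ.1 * χ'.1) ξ.1 := by
  letI := Fintype.ofFinite (P →* ℂˣ)
  have hψ := χ.isCharacter.star.mul χ'.isCharacter
  have h1 := sum_coef h.comm fun u : P => (star χ.1 * χ'.1) u
  have h2 := b.sum_zeta fun _ => 1
  rw [← sum_filter_add_sum_filter_not univ (· ≠ 1), sum_eq_zero (s := filter (¬ · ≠ 1) univ)
    fun mu hm => by rw [not_not.1 (mem_filter.1 hm).2, coef_one],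
    sum_congr rfl fun mu hm => b.dec _ hψ.isClassFunction hQ mu (mem_filter.1 hm).2,
    sum_sub_distrib, ← mul_sum, b.sum_zeta fun η => ip (star χ.1 * χ'.1) η.1, sum_const,
    h.sum_psi U U' hO, OneMemClass.coe_one, h.psi_one U U', nsmul_eq_mul] at h1
  have h3 := b.cardY
  rw [← b.cardE, h.cardE] at h1 h2 h3
  obtain rfl : Y.card = t := Nat.eq_of_mul_eq_mul_left h.pos (by have := h.et; omega)
  simp only [sum_const, nsmul_eq_mul, mul_one] at h2
  simp only [h2, ← hψ.ipNat_cast (IrrCharacter.isCharacter _)] at h1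
  have h4 : (δ * (∑ η ∈ Y, ipNat (star χ.1 * χ'.1) η.1 : ℕ) : ℂ) =
      e + Y.card * ∑ ξ ∈ X, a ξ * ipNat (star χ.1 * χ'.1) ξ.1 :=
    mul_left_cancel₀ (a := (e : ℂ)) (by simp [h.pos.ne']) (by push_cast; linear_combination h1)
  exact_mod_cast h4

theorem main_le {θ : IrrCharacter G} {W : Type} [AddCommGroup W] [Module (ResK M) W]
    {σ : Representation (ResK M) G W} (hθ : Red θ.1 σ) (D : Chains (dop σ x q) (sig σ L))
    {mu : P →* ℂˣ} (hm : mu ≠ 1) {δ s m : ℤ}
    (hv : ∀ u : P, u ≠ 1 → θ u = δ * osum (autOf P.subtype N(P)) mu u) (hδ : δ * δ = 1)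
    (hc : ∀ mu', Orb (autOf P.subtype N(P)) mu mu' →
      coef (fun u : P => (star χ.1 * χ'.1) u) mu' = δ * ip (star χ.1 * χ'.1) θ.1 - s)
    (h1 : θ 1 = m * p + δ * e) (hZ : Over α θ.1 ((h.lf (C.w c))⁻¹ * h.lf (C'.w c')))
    (r : D.ι → ℤ) (hr : ∀ d, C'.w c' * α ^ r d = C.w c * D.w d) :
    (∑ d, (min (D.m d) (n - r d).toNat - (-r d).toNat) : ℕ) ≤ n * m + δ * e + δ * s := by
  haveI := hθ.finiteDimensional
  have hR := hθ.linHom (h.uni_red U')
  have hR' := (h.uni_red U).linHom hR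
  obtain ⟨a, b, h2, h3, h4, -⟩ := h.loc.key h.zp hR'
  have h5 := h.loc.finrank_range_nrm_le (τ := σ.linHom φ'.rep) C U.one h.pow_e (U.len ▸ h.ne)
  have h6 := h.loc.finrank_map_add_le' D C' c' h.pos h.pow_e r hr
  have h7 := h.loc.finrank_wsp_eq h.hM hR (C.w c)
  rw [U'.len] at h6
  generalize finrank (ResK M) (wsp (sig (σ.linHom φ'.rep) L) (C.w c)) = J at h6 h7
  have hZ' := hZ.star_mul (h.over_chain (h.uni_red U') C' c')
  rw [_root_.mul_inv_rev, inv_inv, inv_mul_cancel_comm] at hZ'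
  have h8 := h.mul_avg_sub (ν := 1) (f := fix P L (star χ.1 * (star θ.1 * χ'.1)))
    (g := fun l => (h.lf (C.w c))⁻¹ l * (star θ.1 * χ'.1) l) (b := (star θ.1 * χ'.1) 1)
    (fun l hl => by
      rw [h.loc.fix_of_ne h.zp hR'.isCharacter.isClassFunction hl, Pi.mul_apply, Pi.star_apply,
        Complex.star_def]
      erw [h.uni_val U hl]
      rw [conj_wt]) (fun l hl => fix_of_mul (by
        simpa using ((h.over_chain (h.uni_red U) C c).star_mul hZ') l hl)) fun l hl => by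
      rw [hZ'.apply hl]
      simp
  have h9 := h.sum_mul_conj hm hv hc
  rw [h.sum_psi U U' hO, h.psi_one U U', show ∑ u : P, (star χ.1 * χ'.1) u * conj (θ u) =
    ∑ u : P, (star χ.1 * (star θ.1 * χ'.1)) u from sum_congr rfl fun u _ => by
      simp only [Pi.mul_apply, Pi.star_apply, Complex.star_def]; ring, ← h.mul_fix (L := L),
    show ip (star χ.1 * χ'.1) θ.1 = b by
      rw [← h3, mul_left_comm, mul_comm (star θ.1), ip_mul_left _ (star θ.1), star_star]
      exact congrArg _ (one_mul θ.1).symm, h1] at h9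
  rw [h2, ← inv_mul_cancel (h.lf (C.w c)), avg_mul] at h8
  erw [← h7] at h8
  simp only [Pi.mul_apply, Pi.star_apply, Complex.star_def] at h8
  erw [h1, h.uni_one U'] at h8
  simp only [map_add, map_mul, map_intCast, map_natCast] at h8 h9
  have h10 : (δ * δ : ℂ) = 1 := by exact_mod_cast hδ
  have h11 : (n + e : ℂ) = p := by exact_mod_cast h.ne
  have h12 : (a + (n * m + δ * e + δ * s) : ℂ) = b + J :=
    mul_left_cancel₀ (a := (p * e : ℂ)) (by simp [h.pos.ne', hp.out.ne_zero]) (by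
      linear_combination p * h8 + h9 + e * p * b * h10 +
        ((m * p + δ * e) * n - δ * e ^ 2) * h11)
  have h13 : (a + (n * m + δ * e + δ * s) : ℤ) = b + J := by exact_mod_cast h12
  omega

end Uni

theorem avg_fix_eq_card {θ : G → ℂ} (hθ : IsClassFunction G θ) {ι : Type} (S : Finset ι)
    (w : ι → Wt L ℂ) {ν : Wt L ℂ} (hν : Over α θ ν) (hw : ∀ d ∈ S, Over α θ (w d)) (h0 : θ 1 ≠ 0)
    (h1 : fix P L θ 1 = S.card) (h2 : ∀ l : L, α l ≠ 1 → θ l = ∑ d ∈ S, (w d l : ℂ)) :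
    avg ν (fix P L θ) = (S.filter fun d => w d = ν).card := by
  have h3 := h.mul_avg_sub (ν := ν) (f := fix P L θ) (g := ∑ d ∈ S, fun l => (w d l : ℂ))
    (b := S.card) (fun l hl => by rw [h.loc.fix_of_ne h.zp hθ hl, h2 l hl, Finset.sum_apply])
    (fun l hl => fix_of_mul (hν l hl)) fun l hl => by
      rw [Finset.sum_apply, sum_congr rfl fun d hd => by rw [(hw d hd).eq hν h0 hl], sum_const,
        nsmul_eq_mul, mul_comm]
  rw [h1, sub_self, mul_eq_zero, sub_eq_zero, map_sum] at h3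
  simp only [h3.resolve_left (by simp [h.pos.ne']), avg_wt, card_filter, Nat.cast_sum, Nat.cast_ite,
    Nat.cast_one, Nat.cast_zero]

end Ctx

end Cfsg.PM

set_option linter.all false in
theorem Cfsg.Rz.Blk_PrimeCoreA_0 : True := by
  have := @_root_.Cfsg.PM.Ctx.lf.eq_def.{0}
  have := @_root_.Cfsg.PM.Ctx.lf.eq_1.{0}
  have := @_root_.Cfsg.PM.Ctx.lf.fun_cases
  have := @_root_.Cfsg.PM.Ctx.mk.congr_simp.{0}
  have := @_root_.Cfsg.PM.Over.eq_def.{0}
  have := @_root_.Cfsg.PM.Over.eq_1.{0}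
  have := @_root_.Cfsg.PM.Over.fun_cases
  have := @_root_.Cfsg.PM.Uni.mk.congr_simp.{0}
  have := @_root_.Cfsg.PM.Ctx.congr_simp.{0}
  trivial
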