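import Cfsg.Agent.Blk.PrimeCoreA

/-!
# Faithful characters of degree at most `p - 2`: the exceptional characters
-/

set_option autoImplicit false
set_option linter.unusedSectionVars false
set_option linter.style.haveILetI false

namespace Cfsg.PM

open Module Finset Subgroup Polynomial Exc
open scoped ComplexConjugate Classical

universe u v w w'

variable {G : Type u} [Group G] [Finite G] {p : ℕ} [hp : Fact p.Prime] {M : Ideal AlgInt}
  {P L : Subgroup G} [Fintype P] [Fintype L] [CharP (ResK M) p]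

namespace Ctx

variable {x : G} {α : Wt L (ResK M)} {q q' : (ResK M)[X]} {e t n : ℕ}
  (h : Ctx p M P x L α q q' e t n)
include h

theorem exists_le_m {W : Type} [AddCommGroup W] [Module (ResK M) W] [FiniteDimensional (ResK M) W]
    {σ : Representation (ResK M) G W} (hσ : σ.IsIrreducible) (hx : σ x ≠ 1)
    (D : Chains (dop σ x q) (sig σ L)) : ∃ d, n ≤ D.m d := by
  by_contra h0
  push Not at h0
  have h1 := h.small _ σ e hx (h.loc.pow_eq_zero.1 (D.pow_eq_zero fun d =>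
    (h.loc.le_or_le hσ D h.pos h.pow_e d).resolve_right (by have := h0 d; have := h.ne; omega)))
  have := h.et
  have := Nat.mul_le_mul_left e h.two'
  omega

section Blk

variable {χ χ' : IrrCharacter G} {φ φ' : IBr p M G} {C : Chains (dop φ.rep x q) (sig φ.rep L)}
  {C' : Chains (dop φ'.rep x q) (sig φ'.rep L)} {c : C.ι} {c' : C'.ι} {lam lam' : P →* ℂˣ}
  {φ₀ : G → ℂ} {X Y : Finset (IrrCharacter G)} {ζ : (P →* ℂˣ) → IrrCharacter G} {δ : ℤ}
  {a : IrrCharacter G → ℤ}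
  (U : Uni P n χ C c lam) (U' : Uni P n χ' C' c' lam')
  (hO : ¬ Orb (autOf P.subtype (normalizer (P : Set G))) lam' lam)
  (b : PBlk p P (OverCenter p φ₀) X Y ζ δ a) (h₀ : φ₀ 1 ≠ 0)
  (hQ : OverCenter p φ₀ (star χ.1 * χ'.1))

include b in
theorem cardX : X.card = e := b.cardE.symm.trans h.cardE

include b in
theorem mul_fix_Y {η : IrrCharacter G} (hη : η ∈ Y) : p * fix P L η.1 1 = η 1 - δ * e := by
  obtain ⟨mu, hm, rfl⟩ := b.surj η hη
  rw [h.mul_fix, h.sum_eq hm (b.valY mu hm)]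

include U U' b h₀ hQ

theorem over_Y {η : IrrCharacter G} (hη : η ∈ Y) :
    Over α η.1 ((h.lf (C.w c))⁻¹ * h.lf (C'.w c')) := fun z hz g => by
  have h1 := isPRegular_of_mem_of_not_dvd h.loc.hLp z.2
  have h2 := hQ z (h.cen z hz) h1 1
  have h3 := b.prop η (Or.inr hη) z (h.cen z hz) h1 g
  rw [one_mul, (h.psi_over U U').apply hz, mul_assoc, mul_left_comm, mul_right_inj' (by
    rw [h.psi_one U U', h.n_eq]; exact_mod_cast (by positivity))] at h2
  rw [← mem_center_iff.1 (h.cen z hz) g]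
  exact mul_right_cancel₀ h₀ (by rw [h3, ← h2]; ring)

theorem fix_Y {η η' : IrrCharacter G} (hη : η ∈ Y) (hη' : η' ∈ Y) :
    fix P L η.1 = fix P L η'.1 := funext fun l => by
  by_cases hl : α l = 1
  · rw [fix_of_mul (h.over_Y U U' b h₀ hQ hη l hl), fix_of_mul (h.over_Y U U' b h₀ hQ hη' l hl),
      mul_left_cancel₀ (a := (p : ℂ)) (by simp [hp.out.ne_zero]) ((h.mul_fix_Y b hη).trans
        ((by rw [b.reg_eq η hη η' hη' 1 isPRegular_one] : _ = _).trans (h.mul_fix_Y b hη').symm))]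
  · rw [h.loc.fix_of_ne h.zp η.isClassFunction hl, h.loc.fix_of_ne h.zp η'.isClassFunction hl]
    exact b.reg_eq η hη η' hη' l (isPRegular_of_mem_of_not_dvd h.loc.hLp l.2)

variable {W : Type} [AddCommGroup W] [Module (ResK M) W] {σ : Representation (ResK M) G W}
  {θ : IrrCharacter G} (hY : θ ∈ Y) (hθ : Red θ.1 σ) (D : Chains (dop σ x q) (sig σ L))
include hY hθ

theorem exists_pow_chain : ∃ j : D.ι → ℕ, ∀ d, j d < e ∧ C'.w c' * α ^ j d = C.w c * D.w d := by
  choose j h1 h2 using fun d => h.exists_pow (ν := (C'.w c')⁻¹ * (C.w c * D.w d)) fun l hl => by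
    simp only [map_mul, map_inv, Wt.mul_apply, Wt.inv_apply,
      (h.over_chain hθ D d).eq (h.over_Y U U' b h₀ hQ hY) θ.apply_one_ne_zero hl,
      mul_inv_cancel_left, inv_mul_cancel]
  exact ⟨j, fun d => ⟨h1 d, by rw [h2, mul_inv_cancel_left]⟩⟩

include hO

theorem main_le' {m : ℤ} (h1 : θ 1 = m * p + δ * e) {d₀ : D.ι} (h2 : ∀ d, d ≠ d₀ → D.m d = p)
    {r : ℤ} (hr : C'.w c' * α ^ r = C.w c * D.w d₀) :
    ((min (D.m d₀) (n - r).toNat - (-r).toNat : ℕ) + (Fintype.card D.ι - 1) * n : ℤ) ≤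
      n * m + δ * e + δ * ∑ ξ ∈ X, a ξ * ipNat (star χ.1 * χ'.1) ξ.1 := by
  obtain ⟨mu, hm, rfl⟩ := b.surj θ hY
  obtain ⟨j, hj⟩ := h.exists_pow_chain U U' b h₀ hQ hY hθ D
  have hψ := χ.isCharacter.star.mul χ'.isCharacter
  have h3 := h.main_le U U' hO hθ D hm (b.valY mu hm) b.sq
    (s := ∑ ξ ∈ X, a ξ * ipNat (star χ.1 * χ'.1) ξ.1) (fun mu' hm' => by
      rw [b.dec _ hψ.isClassFunction hQ mu' (hm'.ne_one hm),
        ← (b.eq_iff _ _ hm (hm'.ne_one hm)).2 hm']
      simp only [Int.cast_sum, Int.cast_mul, Int.cast_natCast,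
        hψ.ipNat_cast (IrrCharacter.isCharacter _)]) h1
    (h.over_Y U U' b h₀ hQ hY) (fun d => if d = d₀ then r else j d - e) fun d => by
      split_ifs with e
      · rw [e, hr]
      · rw [zpow_sub, zpow_natCast, zpow_natCast, h.pow_e, inv_one, mul_one, (hj d).2]
  rw [← add_sum_erase _ _ (mem_univ d₀), if_pos rfl, sum_congr rfl (g := fun _ => n) fun d hd => by
    rw [if_neg (ne_of_mem_erase hd), h2 d (ne_of_mem_erase hd)]
    have := h.ne
    have := (hj d).1
    omega, sum_const, card_erase_of_mem (mem_univ _), card_univ, smul_eq_mul, Nat.cast_add,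
    Nat.cast_mul, Nat.cast_sub (Fintype.card_pos_iff.2 ⟨d₀⟩)] at h3
  exact h3

theorem mul_card_le (S : Finset D.ι) (h1 : θ 1 = S.card * p + δ * e)
    (h2 : ∀ d ∈ S, ∃ s, D.m d = e * s + 1) (h3 : ∀ d ∉ S, D.m d = e) (d₀ : D.ι) :
    (∑ η ∈ Y, ipNat (star χ.1 * χ'.1) η.1) * (S.filter fun d => D.w d = D.w d₀).card ≤
      t - 2 + if C'.w c' = C.w c * D.w d₀ then 1 else 0 := by
  have h4 := h.over_chain hθ D d₀
  have h5 : Over α (star χ.1 * χ'.1) (h.lf (D.w d₀)) := fun z hz g => by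
    rw [h4.eq (h.over_Y U U' b h₀ hQ hY) θ.apply_one_ne_zero hz]
    exact h.psi_over U U' z hz g
  have h6 := h.avg_fix_eq_card θ.isClassFunction S (fun d => h.lf (D.w d)) h4
    (fun d _ => h.over_chain hθ D d) θ.apply_one_ne_zero
    (mul_left_cancel₀ (a := (p : ℂ)) (by simp [hp.out.ne_zero]) (by
      rw [h.mul_fix_Y b hY, h1]; ring)) fun l hl => by
      rw [h.loc.apply_eq_sum h.hM hθ D, ← sum_add_sum_compl S, sum_eq_zero (s := Sᶜ) fun d hd => by
        rw [h3 d (mem_compl.1 hd), show range e = range (e * 1 + 0) by simp, h.sum_chain hl]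
        simp, add_zero]
      refine sum_congr rfl fun d hd => ?_
      obtain ⟨s, hs⟩ := h2 d hd
      rw [hs, h.sum_chain hl]
      simp
  have h7 := h.avg_fix_psi U U' hO h5
  simp only [h.lf_injective.eq_iff, inv_mul_eq_iff_eq_mul, ← map_mul] at h6 h7
  exact sum_mul_le (Φ := avg (h.lf (D.w d₀)) ∘ₗ fix P L)
    (fun F hF => h.loc.exists_avg_fix h.zp hF _) (χ.isCharacter.star.mul χ'.isCharacter) Y
    (fun η hη => by rw [LinearMap.comp_apply, h.fix_Y U U' b h₀ hQ hη hY, h6]) h7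

omit hY hθ

theorem eq_two_of_neg (hδ : δ = -1) : t = 2 ∨ e = 2 := by
  subst hδ
  have hY := b.mem lam U.ne
  obtain ⟨k, σ, hθ, hσ⟩ := exists_red_indec h.hM (ζ lam)
  obtain ⟨D⟩ := h.loc.nonempty_chains σ
  have h1 := h.ne
  have h2 := h.two
  have h3 := h.two'
  have h4 := h.n_eq
  obtain ⟨s, hs⟩ : ∃ s, charDegree (ζ lam).1 = n + s * p := by
    have h5 := b.modEq_Y hY
    rw [h.cardX b] at h5
    obtain ⟨m, hm⟩ : p ∣ charDegree (ζ lam).1 + e := by
      have := h5.symm.dvd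
      rw [neg_one_mul, sub_neg_eq_add] at this
      exact_mod_cast this
    rcases m with _ | m
    · omega
    · exact ⟨m, by rw [mul_add, mul_comm] at hm; omega⟩
  have h5 : ζ lam 1 = n + s * p := by rw [(ζ lam).apply_one, hs]; push_cast; rfl
  obtain ⟨d₀, h6, h7, h8⟩ := h.loc.exists_of_indec hσ D (m := n) (s := s) (by omega) (by omega)
    (by exact_mod_cast (hθ.finrank_eq h.hM).symm.trans h5)
  have h9 : ζ lam 1 = (s + 1) * p + -1 * e := by rw [h5, ← h1]; push_cast; ring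
  obtain ⟨j, hj⟩ := h.exists_pow_chain U U' b h₀ hQ hY hθ D
  obtain ⟨hj, hj'⟩ := hj d₀
  generalize j d₀ = j at hj hj'
  have h10 := h.mul_card_le U U' hO b h₀ hQ hY hθ D univ (by rw [card_univ, h8]; exact_mod_cast h9)
    (fun d _ => by
      by_cases e : d = d₀
      exacts [⟨_, e ▸ h6.trans h4⟩, ⟨_, (h7 d e).trans h.et.symm⟩]) (by simp) d₀
  replace h10 := (Nat.le_mul_of_pos_right _ (card_pos.2 ⟨d₀, by simp⟩)).trans h10
  have h11 := h.sum_ipNat U U' hO b hQ
  have h12 := fun r hr => h.main_le' U U' hO b h₀ hQ hY hθ D (m := s + 1) (by exact_mod_cast h9) h7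
    (r := r) hr
  rw [h6, h8] at h12
  have h13 := h12 j (by rw [zpow_natCast, hj'])
  have h14 := h12 (j - e) (by
    rw [zpow_sub, zpow_natCast, zpow_natCast, h.pow_e, inv_one, mul_one, hj'])
  generalize ∑ ξ ∈ X, a ξ * ipNat (star χ.1 * χ'.1) ξ.1 = S at h11 h13 h14
  generalize ∑ η ∈ Y, ipNat (star χ.1 * χ'.1) η.1 = N at h10 h11
  have h15 : e ≤ n := by
    have := Nat.mul_le_mul_left e (show 1 ≤ t - 1 by omega)
    omega
  simp only [Nat.cast_add, Nat.cast_one, add_sub_cancel_right, add_mul, mul_comm (n : ℤ)] at h13 h14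
  obtain ⟨t, rfl⟩ := Nat.exists_eq_add_of_le' h3
  rw [Nat.add_sub_cancel] at h10
  push_cast at h11
  split_ifs at h10 with h16
  · obtain rfl : j = 0 := by_contra fun e => pow_ne_one_of_lt_orderOf e (h.ord ▸ hj)
      (mul_eq_left.1 (hj'.trans h16.symm))
    have : S ≤ -e := by omega
    nlinarith
  · rcases t with _ | t
    · exact Or.inl rfl
    have h17 : 2 * S ≤ -e := by omega
    by_contra h18
    have : S ≤ -2 := by omega
    push_cast at h11
    nlinarith

theorem of_pos (hδ : δ = 1) (ht : 3 ≤ t) (hw : C'.w c' = C.w c) {θ : IrrCharacter G} (hY : θ ∈ Y) :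
    ∃ (m k : ℕ) (σ : Representation (ResK M) G (Fin k → ResK M)) (D : Chains (dop σ x q) (sig σ L))
      (d₀ : D.ι), Red θ.1 σ ∧ charDegree θ.1 = e + m * p ∧ 0 < m ∧ e * m + 2 * e ≤ p ∧
      D.m d₀ = e ∧ (∀ d, d ≠ d₀ → D.m d = p) ∧ e < t ∧ (e + 1 = t → m = 1 ∧
        (∀ d, d ≠ d₀ → D.w d = 1) ∧ Fintype.card D.ι = 2 ∧
        ∑ η ∈ Y, ipNat (star χ.1 * χ'.1) η.1 = e) := by
  subst hδ
  obtain ⟨k, σ, hθ, hσ⟩ := exists_red_indec h.hM θ
  obtain ⟨D⟩ := h.loc.nonempty_chains σ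
  have h1 := h.ne
  have h2 := h.two
  have h3 := h.et
  have h4 := h.n_eq
  have h15 : e * 2 ≤ e * (t - 1) := Nat.mul_le_mul_left e (by omega)
  obtain ⟨m, hm⟩ : ∃ m, charDegree θ.1 = e + m * p := by
    have h5 := b.modEq_Y hY
    rw [h.cardX b, one_mul, Int.natCast_modEq_iff] at h5
    exact ⟨charDegree θ.1 / p, by
      rw [← Nat.mod_eq_of_lt (show e < p by omega), ← h5, mul_comm, Nat.mod_add_div]⟩
  have h5 : θ 1 = e + m * p := by rw [θ.apply_one, hm]; push_cast; rfl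
  obtain ⟨d₀, h6, h7, h8⟩ := h.loc.exists_of_indec hσ D (m := e) (s := m) (by omega) (by omega)
    (by exact_mod_cast (hθ.finrank_eq h.hM).symm.trans h5)
  obtain ⟨j, hj⟩ := h.exists_pow_chain U U' b h₀ hQ hY hθ D
  obtain ⟨hj, hj'⟩ := hj d₀
  have h11 := h.sum_ipNat U U' hO b hQ
  have h12 := h.main_le' U U' hO b h₀ hQ hY hθ D (m := m) (by rw [h5]; push_cast; ring) h7
    (r := j d₀) (by rw [zpow_natCast, hj'])
  rw [h6, h8] at h12
  have h9 : (univ.erase d₀).card = m := by rw [card_erase_of_mem (mem_univ _), card_univ, h8]; rfl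
  have h10 := h.mul_card_le U U' hO b h₀ hQ hY hθ D (univ.erase d₀) (by rw [h5, h9]; push_cast; ring)
    (fun d hd => ⟨_, (h7 d (ne_of_mem_erase hd)).trans h.et.symm⟩) fun d hd => by
      rw [show d = d₀ by simpa using hd, h6]
  have h13 := sum_mul_le (Φ := LinearMap.proj 1 ∘ₗ fix P L) (fun F hF => by
      obtain ⟨a, ha⟩ := (hF.comp P.subtype).exists_ip_eq_nat (IrrCharacter.one P).isCharacter
      refine ⟨a, ?_⟩
      rw [← ha, ip_def, Nat.card_eq_fintype_card]
      simp [fix_apply]) (χ.isCharacter.star.mul χ'.isCharacter) Y (a := n - e) (b := m)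
    (fun η hη => mul_left_cancel₀ (a := (p : ℂ)) (by simp [hp.out.ne_zero]) (by
      refine (h.mul_fix_Y b hη).trans ?_
      rw [b.reg_eq η hη θ hY 1 isPRegular_one, h5]
      push_cast
      ring)) ((h.fix_psi U U' hO).trans (by rw [Nat.cast_sub (by omega)]))
  generalize ∑ ξ ∈ X, a ξ * ipNat (star χ.1 * χ'.1) ξ.1 = S at h11 h12
  generalize ∑ η ∈ Y, ipNat (star χ.1 * χ'.1) η.1 = N at h10 h11 h13
  simp only [Nat.cast_add, Nat.cast_one, add_sub_cancel_right, mul_comm (n : ℤ)] at h12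
  have h14 : e ≤ N := by
    have : 0 ≤ S := by omega
    have := mul_nonneg (Nat.cast_nonneg (α := ℤ) t) this
    omega
  have h16 : 0 < m := Nat.pos_of_ne_zero fun h0 => by
    have h16 : ∀ d, d = d₀ := fun d => by_contra fun e =>
      notMem_empty d (card_eq_zero.1 (h9.trans h0) ▸ mem_erase.2 ⟨e, mem_univ d⟩)
    have := h.small _ σ e (fun h17 => by
      have := D.le_of_pow_eq_zero (j := 1) (h.loc.pow_eq_zero.2 (by simp [h17])) d₀
      omega) (h.loc.pow_eq_zero.1 (D.pow_eq_zero fun d => by rw [h16 d, h6]))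
    omega
  have h17 : ∀ d, d ≠ d₀ → N ≤ t - 2 + if C'.w c' = C.w c * D.w d then 1 else 0 := fun d hd =>
    (Nat.le_mul_of_pos_right _ (card_pos.2 ⟨d, by simp [hd]⟩)).trans (h10 d)
  obtain ⟨d₁, hd₁⟩ := card_pos.1 (h9 ▸ h16)
  have h18 := h17 d₁ (ne_of_mem_erase hd₁)
  refine ⟨m, k, σ, D, d₀, hθ, hm, h16, ?_, h6, h7, by split_ifs at h18 <;> omega, fun h19 => ?_⟩
  · have := Nat.mul_le_mul_right m h14
    omega
  have h20 : ∀ d, d ≠ d₀ → D.w d = 1 := fun d hd => by
    have := h17 d hd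
    split_ifs at this with e
    · exact left_eq_mul.1 (hw.symm.trans e)
    · omega
  have h21 := h10 d₁
  rw [filter_true_of_mem fun d hd => by
    rw [h20 d (ne_of_mem_erase hd), h20 d₁ (ne_of_mem_erase hd₁)], h9] at h21
  have h22 : m = 1 := by
    by_contra e
    have := Nat.mul_le_mul_left N (show 2 ≤ m by omega)
    split_ifs at h21 <;> omega
  refine ⟨h22, h20, by omega, ?_⟩
  split_ifs at h18 <;> omega

end Blk

end Ctx

end Cfsg.PM
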