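import Cfsg.Agent.Blk.PrimeCoreB

/-!
# Faithful characters of degree at most `p - 2`: the case `t = e + 1`
-/

set_option autoImplicit false
set_option linter.unusedSectionVars false
set_option linter.style.haveILetI false

namespace Cfsg.PM

open Module Finset Subgroup Polynomial Exc
open scoped ComplexConjugate Classical

universe u v w w'

variable {G : Type u} [Group G] [Finite G] {p : ℕ} [hp : Fact p.Prime] {M : Ideal AlgInt}
  {P L : Subgroup G} [Fintype P] [Fintype L] [CharP (ResK M) p]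

theorem Red.eq_one {W : Type w} [AddCommGroup W] [Module (ResK M) W] {F : G → ℂ}
    {σ : Representation (ResK M) G W} (h : Red F σ) {g : G} (hg : F g = F 1) : σ g = 1 := by
  obtain ⟨n, _, _, R, e, rfl, h2⟩ := h
  have h1 : latC R g = 1 := (charKer_character _).le ((isCharacter_of_rep _).mem_charKer.2 hg)
  have h3 : R g = 1 := Matrix.map_injective (f := (locO M).subtype) Subtype.val_injective
    (Matrix.toLin'.injective (h1.trans (by simp [Module.End.one_eq_id])))
  refine LinearMap.ext fun y => e.injective ?_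
  rw [h2, matRep_apply, matMap_apply, h3]
  simp

theorem nrm_eq_asAlgebraHom {k : Type v} [Field k] {W : Type w} [AddCommGroup W] [Module k W]
    (σ : Representation k G W) (x : G) : nrm σ p x L = σ.asAlgebraHom
      ((∑ l : L, MonoidAlgebra.of k G l) * ∑ i ∈ range p, MonoidAlgebra.of k G x ^ i) := by
  simp only [nrm, map_mul, map_sum, map_pow, Representation.asAlgebraHom_of]

theorem ibr_rep_eq_one (hG : commutator G ⊔ center G = ⊤) {φ : IBr p M G} (h1 : φ.deg = 1)
    (hZ : ∀ z ∈ center G, φ.rep z = 1) (g : G) : φ.rep g = 1 := by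
  have h2 : ∀ a b : End (ResK M) (Fin φ.deg → ResK M), a * b = b * a := fun a b => by
    obtain ⟨c, rfl⟩ := (LinearMap.existsUnique_eq_smul_id_of_finrank_eq_one (by simp [h1]) a).exists
    exact LinearMap.ext fun y => by simp
  refine (show ⊤ ≤ φ.rep.ker from hG ▸ sup_le (commutator_le.2 fun a _ b _ => ?_) hZ) (mem_top g)
  rw [MonoidHom.mem_ker, commutatorElement_def, map_mul, map_mul, map_mul, h2 (φ.rep a),
    mul_assoc (φ.rep b), ← map_mul, mul_inv_cancel, map_one, mul_one, ← map_mul, mul_inv_cancel,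
    map_one]

theorem eq_zero_of_finrank_le {k : Type v} [Field k] {V : Type w} [AddCommGroup V] [Module k V]
    [FiniteDimensional k V] {W : Type w'} [AddCommGroup W] [Module k W] (Q : V →ₗ[k] W)
    {U : Submodule k V} (h : finrank k U ≤ finrank k (U.map Q)) {y : V} (hy : y ∈ U)
    (h0 : Q y = 0) : y = 0 := by
  have e1 := LinearMap.finrank_range_add_finrank_ker (Q.domRestrict U)
  rw [LinearMap.range_domRestrict] at e1
  have e3 := Submodule.finrank_eq_zero.1
    (show finrank k (LinearMap.ker (Q.domRestrict U)) = 0 by omega)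
  exact congrArg Subtype.val ((Submodule.mem_bot _).1 (e3.le (x := ⟨y, hy⟩) h0))

namespace Ctx

variable {x : G} {α : Wt L (ResK M)} {q q' : (ResK M)[X]} {e t n : ℕ}
  (h : Ctx p M P x L α q q' e t n)
include h

theorem cnt_one {w : Wt L (ResK M)} (hw : ∀ l, α l = 1 → w l = 1) (m : ℕ) :
    ∃ j < e, w * α ^ j = 1 ∧ cnt α w 1 m = m / e + if j < m % e then 1 else 0 := by
  obtain ⟨j, h1, h2⟩ := h.exists_pow (ν := w⁻¹) fun l hl => h.lf_eq_one.2 (by simp [hw l hl])
  have h3 : w * α ^ j = 1 := by rw [h2, mul_inv_cancel]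
  exact ⟨j, h1, h3, by rw [← h3, cnt_eq h.ord h.pos, Nat.mod_eq_of_lt h1]⟩

theorem cnt_one_one : cnt α 1 1 p = t + 1 := by
  have := cnt_eq h.ord h.pos 1 0 p
  rw [pow_zero, mul_one] at this
  rw [this, ← h.et, Nat.mul_add_div h.pos, Nat.mul_add_mod, Nat.div_eq_of_lt h.two,
    Nat.mod_eq_of_lt h.two, Nat.zero_mod, if_pos one_pos]

theorem exists_decomp (hG : commutator G ⊔ center G = ⊤) {θ : IrrCharacter G} {W : Type}
    [AddCommGroup W] [Module (ResK M) W] {σ : Representation (ResK M) G W} (hθ : Red θ.1 σ)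
    (hx : σ x ≠ 1) (hZ : ∀ z ∈ center G, θ z = θ 1) (hd : charDegree θ.1 < 2 * n) :
    ∃ (φ : IBr p M G) (r : ℕ), decNum θ.1 φ ≠ 0 ∧ φ.rep x ≠ 1 ∧
      ∀ g, IsPRegular p g → θ g = φ g + r := by
  haveI := hθ.finiteDimensional
  obtain ⟨φ, h1, h2⟩ := h.ibr _ σ hx
  rw [hθ.brauerChar_eq h.hM, decNum_pRegularPart] at h1
  have h3 : ∀ ψ : IBr p M G, ψ.rep x ≠ 1 → n ≤ ψ.deg := fun ψ hψ => by
    obtain ⟨D⟩ := h.loc.nonempty_chains ψ.rep
    obtain ⟨d, hd⟩ := h.exists_le_m ψ.rep_isIrreducible hψ D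
    have := D.finrank_eq
    rw [finrank_fin_fun] at this
    exact hd.trans ((single_le_sum (fun _ _ => Nat.zero_le _) (mem_univ d)).trans this.ge)
  rw [θ.isCharacter.charDegree_eq_sum_decNum h.hM, ← add_sum_erase _ _ (mem_univ φ)] at hd
  have h4 := h3 φ h2
  have h5 : decNum θ.1 φ = 1 := by
    by_contra e
    have := Nat.mul_le_mul (show 2 ≤ decNum θ.1 φ by omega) h4
    omega
  refine ⟨φ, ∑ ψ ∈ univ.erase φ, decNum θ.1 ψ, h1, h2, fun g hg => ?_⟩
  erw [θ.isCharacter.apply_eq_sum_decNum h.hM hg]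
  rw [← add_sum_erase _ _ (mem_univ φ), h5, Nat.cast_one, one_mul, Nat.cast_sum]
  congr 1
  refine sum_congr rfl fun ψ hψ => ?_
  by_cases h6 : decNum θ.1 ψ = 0
  · simp [h6]
  have h7 : ψ.rep x = 1 := by
    by_contra e
    have := (Nat.mul_le_mul (Nat.pos_of_ne_zero h6) (h3 ψ e)).trans
      (single_le_sum (f := fun ψ : IBr p M G => decNum θ.1 ψ * ψ.deg) (fun _ _ => Nat.zero_le _) hψ)
    rw [h5] at hd
    omega
  obtain ⟨D⟩ := h.loc.nonempty_chains ψ.rep
  have h8 := D.le_of_pow_eq_zero (j := 1) (h.loc.pow_eq_zero.2 (by simp [h7]))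
  have h9 := D.finrank_eq
  have h10 := ψ.deg_pos
  rw [finrank_fin_fun] at h9
  obtain ⟨d, -, -⟩ := exists_ne_zero_of_sum_ne_zero (h9 ▸ h10.ne')
  rw [sum_eq_single d (fun d' _ e => absurd (h.loc.eq_of_indec
    (indec_of_isIrreducible ψ.rep_isIrreducible) D ((h8 d').trans_lt hp.out.one_lt)
    ((h8 d).trans_lt hp.out.one_lt)) e) (by simp)] at h9
  have h11 : ψ.deg = 1 := by have := h8 d; omega
  have h12 := ibr_rep_eq_one hG h11 (fun z hz => by
    have := IBr.asAlgebraHom_eq_zero_of_decNum h.hM σ (φ := ψ)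
      (by rwa [hθ.brauerChar_eq h.hM, decNum_pRegularPart]) (a := MonoidAlgebra.of _ G z - 1)
      (by simp [hθ.eq_one (hZ z hz)])
    simpa [sub_eq_zero] using this) g
  rw [← ψ.brauerChar_rep, brauerChar_of_reg _ hg, h12, rootLift_charpoly_one h.hM, finrank_fin_fun,
    h11, Nat.cast_one, mul_one]

theorem not_succ (hG : commutator G ⊔ center G = ⊤) (he : 3 ≤ e) (ht : e + 1 = t)
    {χ χ' : IrrCharacter G} {φ : IBr p M G} {C : Chains (dop φ.rep x q) (sig φ.rep L)} {c : C.ι}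
    {lam lam' : P →* ℂˣ} (U : Uni P n χ C c lam) (U' : Uni P n χ' C c lam')
    (hO : ¬ Orb (autOf P.subtype (normalizer (P : Set G))) lam' lam) {Y : Finset (IrrCharacter G)}
    {θ : IrrCharacter G} (hY : ∀ η ∈ Y, ∀ g, IsPRegular p g → η g = θ g)
    (hN : ∑ η ∈ Y, ipNat (star χ.1 * χ'.1) η.1 = e) {W : Type} [AddCommGroup W] [Module (ResK M) W]
    {σ : Representation (ResK M) G W} (hθ : Red θ.1 σ) (hZ : ∀ z ∈ center G, θ z = θ 1)
    (hd : charDegree θ.1 = e + p) (D : Chains (dop σ x q) (sig σ L)) {d₀ : D.ι} (h0 : D.m d₀ = e)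
    (h1 : ∀ d, d ≠ d₀ → D.m d = p) (h2 : ∀ d, d ≠ d₀ → D.w d = 1) (h3 : Fintype.card D.ι = 2) :
    False := by
  haveI := hθ.finiteDimensional
  obtain ⟨f, rfl⟩ := Nat.exists_eq_add_of_le' he
  subst ht
  have hp' : p = f ^ 2 + 7 * f + 13 := by rw [← h.et]; ring
  have hn : n = f ^ 2 + 6 * f + 10 := by have := h.ne; omega
  obtain ⟨φ₀, r, h4, h5, h6⟩ := h.exists_decomp hG hθ (fun e => by
    have := D.le_of_pow_eq_zero (j := 1) (h.loc.pow_eq_zero.2 (by simp [e])) d₀
    omega) hZ (by omega)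
  have h7 : ∀ {a}, σ.asAlgebraHom a = 0 → φ₀.rep.asAlgebraHom a = 0 :=
    IBr.asAlgebraHom_eq_zero_of_decNum h.hM σ (by rwa [hθ.brauerChar_eq h.hM, decNum_pRegularPart])
  obtain ⟨E⟩ := h.loc.nonempty_chains φ₀.rep
  have h8 : ∀ d, E.m d = p → E.w d = 1 := fun d hd => by
    have h8 := E.pow_u_mem (h.loc.shifts _) d (p - 1)
    rw [h.loc.alpha_pow, mul_one] at h8
    refine eq_of_mem_wsp h8 (fun l => ?_) (E.pow_u_ne_zero (by omega))
    have := h7 (a := (MonoidAlgebra.of _ G l - 1) * (MonoidAlgebra.of _ G x - 1) ^ (p - 1)) (by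
      simp only [map_mul, map_sub, map_pow, map_one, Representation.asAlgebraHom_of,
        h.loc.T_pow_pred]
      refine D.hom_ext fun d i _ => ?_
      rw [End.mul_apply, ← End.mul_apply (_ ^ _), ← pow_add, LinearMap.zero_apply]
      by_cases e : D.m d ≤ p - 1 + i
      · rw [D.pow_u_eq_zero e, map_zero]
      have h9 : d ≠ d₀ := by rintro rfl; omega
      obtain rfl : i = 0 := by have := h1 d h9; omega
      have := D.pow_u_mem (h.loc.shifts _) d (p - 1) l
      rw [h.loc.alpha_pow, h2 d h9] at this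
      simpa [sub_eq_zero] using this)
    simp only [map_mul, map_sub, map_pow, map_one, Representation.asAlgebraHom_of,
      h.loc.T_pow_pred] at this
    simpa [sub_eq_zero] using congrArg (fun g : End _ _ => g (E.u d)) this
  have h9 : ∀ d l, α l = 1 → E.w d l = 1 := fun d l hl => by
    have := h7 (a := MonoidAlgebra.of _ G l - 1) (by simp [hθ.eq_one (hZ _ (h.cen l hl))])
    simp only [map_sub, map_one, Representation.asAlgebraHom_of, sub_eq_zero] at this
    have h9 := E.wt d l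
    rw [sig_apply, this, End.one_apply] at h9
    exact Units.ext (smul_left_injective _ (E.pow_u_ne_zero (E.pos d))
      (h9.symm.trans (one_smul _ _).symm))
  have h10 : ∑ d, cnt α (E.w d) 1 (E.m d) + r = f + 6 := by
    have e1 := h.loc.finrank_wsp_eq h.hM hθ 1
    rw [show (fun l : L => θ.1 l) = (fun l : L => brauerChar p M φ₀.rep l) +
      (r : ℂ) • fun l => ((1 : Wt L ℂ) l : ℂ) from funext fun l => by
        simpa [φ₀.brauerChar_rep] using h6 l (isPRegular_of_mem_of_not_dvd h.loc.hLp l.2),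
      map_add, ← h.loc.finrank_wsp_eq', map_smul, avg_wt, map_one, if_pos rfl,
      D.finrank_wsp (h.loc.shifts _), E.finrank_wsp (h.loc.shifts _),
      ← add_sum_erase _ _ (mem_univ d₀), sum_congr rfl fun d hd => by
        rw [h1 d (ne_of_mem_erase hd), h2 d (ne_of_mem_erase hd), h.cnt_one_one], sum_const,
      card_erase_of_mem (mem_univ _), card_univ, h3] at e1
    obtain ⟨j, -, -, e2⟩ := h.cnt_one (w := D.w d₀) (fun l hl => h.lf_eq_one.1 (Units.ext
      (mul_right_cancel₀ θ.apply_one_ne_zero (((h.over_chain hθ D d₀).apply hl).symm.trans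
        ((hZ _ (h.cen l hl)).trans (one_mul _).symm))))) (f + 3)
    rw [h0, e2, Nat.div_self h.pos, Nat.mod_self, smul_eq_mul, smul_eq_mul, mul_one] at e1
    simp only [Nat.not_lt_zero, if_false] at e1
    norm_cast at e1
    omega
  have h11 : φ₀.deg + r = f + 3 + p := by
    have := h6 1 isPRegular_one
    rw [θ.apply_one, hd, φ₀.apply_one h.hM] at this
    exact_mod_cast this.symm
  have h12 : ∀ d, cnt α (E.w d) 1 (E.m d) + r ≤ f + 6 := fun d => h10 ▸ Nat.add_le_add_right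
    (single_le_sum (f := fun d => cnt α (E.w d) 1 (E.m d)) (fun _ _ => Nat.zero_le _)
      (mem_univ d)) r
  have hI := indec_of_isIrreducible φ₀.rep_isIrreducible
  obtain ⟨d₁, h13⟩ : ∃ d, E.m d = p := by
    obtain ⟨d, hd⟩ := h.exists_le_m φ₀.rep_isIrreducible h5 E
    obtain ⟨j, -, -, e2⟩ := h.cnt_one (h9 d) (E.m d)
    have e3 : f + 3 ≤ E.m d / (f + 3) := (Nat.le_div_iff_mul_le h.pos).2 (by nlinarith)
    have e4 := h12 d
    by_contra e
    push Not at e
    have e5 : ∀ d, E.m d < p := fun d => (h.loc.m_le E d).lt_of_ne (e d)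
    have e6 := E.finrank_eq
    rw [finrank_fin_fun, sum_eq_single d (fun d' _ e => absurd (h.loc.eq_of_indec hI E (e5 d')
      (e5 d)) e) (by simp)] at e6
    have := e5 d
    omega
  have h14 := h12 d₁
  rw [h13, h8 d₁ h13, h.cnt_one_one] at h14
  obtain ⟨d₂, h15, h16, -⟩ := h.loc.exists_of_indec hI E (m := f + 3 - r) (s := 1) (by omega)
    (by omega) (by rw [finrank_fin_fun]; omega)
  have hA := (h.uni_red U).linHom (h.uni_red U')
  obtain ⟨a, -, h17, -, -, h18⟩ := h.loc.key h.zp hA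
  rw [h.avg_fix_psi U U' hO (by simpa using h.psi_over U U'), inv_mul_cancel, if_pos rfl,
    Nat.cast_inj] at h17
  obtain rfl | rfl : r = 1 ∨ r = 0 := by omega
  · rw [← add_sum_erase _ _ (mem_univ d₂)] at h10
    have e1 := single_le_sum (f := fun d => cnt α (E.w d) 1 (E.m d)) (fun _ _ => Nat.zero_le _)
      (mem_erase.2 ⟨show d₁ ≠ d₂ by rintro rfl; omega, mem_univ d₁⟩)
    obtain ⟨j, e2, e3, e4⟩ := h.cnt_one (h9 d₂) (E.m d₂)
    simp only [h13, h8 d₁ h13, h.cnt_one_one] at e1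
    replace h15 : E.m d₂ = f + 2 := h15
    have e5 : cnt α (E.w d₂) 1 (E.m d₂) = 0 := by
      generalize ∑ d ∈ univ.erase d₂, cnt α (E.w d) 1 (E.m d) = S at h10 e1
      omega
    rw [e5, h15, Nat.mod_eq_of_lt (by omega), Nat.div_eq_of_lt (by omega)] at e4
    obtain rfl : j = f + 2 := by split_ifs at e4; omega
    have := h.loc.two_mul_le_finrank U.one (m := f + 1) h.ord (U.len ▸ h.ne)
      (by rw [U.len]; omega) φ₀.rep_isIrreducible E h15
      (mul_right_cancel (e3.trans (by rw [← pow_succ', h.pow_e]))) (fun d hd => h8 d (h16 d hd)) h13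
    omega
  obtain ⟨s, σ', Q, h19, h20, h21⟩ := hA.exists_quot Y
  have h22 : brauerChar p M σ' = ((f + 3 : ℕ) : ℂ) • φ₀.1 := by
    rw [h19.brauerChar_eq h.hM, ← hN, ← φ₀.pRegularPart_eq, ← pRegularPart_smul, pRegularPart_eq_iff]
    intro g hg
    simp only [Finset.sum_apply, Pi.smul_apply, smul_eq_mul, Nat.cast_sum, sum_mul]
    refine sum_congr rfl fun η hη => ?_
    rw [hA.isCharacter.ipNat_cast η.isCharacter]
    erw [hY η hη g hg, h6 g hg]
    simp
  have h23 : nrm φ₀.rep p x L ≠ 0 := fun e => smul_ne_zero h.loc.card_ne_zero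
    (E.pow_u_ne_zero (c := d₁) (i := p - 1) (by omega)) (by
      rw [← h.loc.nrm_apply_of_mem (h8 d₁ h13 ▸ E.wt d₁), e, LinearMap.zero_apply])
  rw [nrm_eq_asAlgebraHom] at h23
  have h24 : ∀ y, Q (nrm (φ.rep.linHom φ.rep) p x L y) = nrm σ' p x L (Q y) := fun y => by
    rw [nrm_eq_asAlgebraHom, nrm_eq_asAlgebraHom, asAlgebraHom_comm_of_comm Q h21]
  have h25 := le_finrank_of_pure h.hM h23 _ _ h22
  rw [← nrm_eq_asAlgebraHom] at h25
  have h26 := LinearMap.finrank_range_add_finrank_ker Q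
  have h27 := congrFun h22 1
  rw [brauerChar_one h.hM, Pi.smul_apply, φ₀.apply_one h.hM, smul_eq_mul] at h27
  norm_cast at h27
  have h28 : φ.deg = n := by exact_mod_cast (φ.apply_one h.hM).symm.trans ((congrFun U.reg 1).symm.trans
    ((pRegularPart_of_reg isPRegular_one).trans (h.uni_one U)))
  rw [LinearMap.range_eq_top.2 h20, finrank_top, h27, finrank_linearMap, finrank_fin_fun,
    show φ₀.deg = f + 3 + p by omega] at h26
  obtain ⟨r₁, r₂, e1, e2, e3⟩ := h.loc.exists_ranks U.one (by rw [U.len]; omega)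
    (K := LinearMap.ker Q) (fun g y hy => by
      rw [LinearMap.mem_ker, h21, LinearMap.mem_ker.1 hy, map_zero])
    (fun S hS h29 h30 => by
      rw [← Submodule.comap_map_eq_self h29, eq_top_of_pure h.hM h23 h22 (U := S.map Q)
        (by rintro g _ ⟨y, hy, rfl⟩; exact ⟨_, hS g y hy, h21 g y⟩) fun y => by
          obtain ⟨y, rfl⟩ := h20 y
          rw [← nrm_eq_asAlgebraHom, ← h24]
          exact ⟨_, h30 y, rfl⟩, Submodule.comap_top])
    fun y hy => eq_zero_of_finrank_le Q (U := LinearMap.range (nrm (φ.rep.linHom φ.rep) p x L))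
      ((show _ ≤ f + 3 by omega).trans (h25.trans (Submodule.finrank_mono (by
        rintro _ ⟨y, rfl⟩
        obtain ⟨y, rfl⟩ := h20 y
        exact ⟨_, ⟨y, rfl⟩, h24 y⟩)))) ⟨y, rfl⟩ (by rw [h24, LinearMap.mem_ker.1 hy, map_zero])
  rw [U.len] at e1 e3
  generalize finrank (ResK M) (LinearMap.ker Q) = K at h26 e2 e3
  rw [h28] at h26
  have e4 : K = p * (f + 2) ^ 2 := by
    refine Nat.add_left_cancel (h26.trans ?_)
    rw [hn, hp']
    ring
  have e5 : r₁ < (f + 2) ^ 2 := lt_of_mul_lt_mul_left (e4 ▸ e2) p.zero_le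
  have e6 : r₂ < f + 4 := lt_of_mul_lt_mul_left (a := p) (by nlinarith) p.zero_le
  nlinarith

end Ctx

end Cfsg.PM
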