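import Cfsg.Agent.Blk.PrimeCoreC

/-!
# Faithful characters of degree at most `p - 2`: Galois conjugates
-/

set_option autoImplicit false
set_option linter.unusedSectionVars false
set_option linter.style.haveILetI false

namespace Cfsg.PM

open Module Finset Subgroup Polynomial Exc
open scoped ComplexConjugate Classical

universe u v w w'

variable {G : Type u} [Group G] [Finite G] {p : ℕ} [hp : Fact p.Prime] {M : Ideal AlgInt}
  {P L : Subgroup G} [Fintype P] [Fintype L] [CharP (ResK M) p]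

local notation "N(" Q ")" => Subgroup.normalizer ((Q : Subgroup G) : Set G)

theorem exists_coprime_modEq {N m a : ℕ} (hN : N ≠ 0) (hm : m ≠ 0) (ha : a.Coprime m) :
    ∃ k, k.Coprime N ∧ k ≡ a [MOD m] := by
  haveI : NeZero (m * N) := ⟨mul_ne_zero hm hN⟩
  obtain ⟨u, hu⟩ := ZMod.unitsMap_surjective (dvd_mul_right m N) (ZMod.unitOfCoprime a ha)
  refine ⟨(u : ZMod (m * N)).val, (ZMod.val_coe_unit_coprime u).coprime_mul_left_right, ?_⟩
  rw [← ZMod.natCast_eq_natCast_iff, ← ZMod.coe_unitOfCoprime a ha, ← hu, ZMod.natCast_val]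
  rfl

theorem exists_gal_exp {m a j : ℕ} (hm : m ≠ 0) (ha : a.Coprime m) (hj : j.Coprime p) :
    ∃ k, k.Coprime (Nat.card G) ∧ k ≡ j [MOD p] ∧
      ∀ y : G, orderOf y ∣ m → IsPRegular p y → y ^ k = y ^ a := by
  have h1 := (Nat.coprime_ordCompl hp.out hm).symm
  obtain ⟨l, h2, h3⟩ := Nat.chineseRemainder h1 a j
  obtain ⟨k, h4, h5⟩ := exists_coprime_modEq (a := l) (Nat.card_pos (α := G)).ne'
    (mul_ne_zero (Nat.ordCompl_pos p hm).ne' hp.out.ne_zero) (Nat.Coprime.mul_right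
      (by rw [Nat.Coprime, h2.gcd_eq]; exact ha.coprime_dvd_right (Nat.ordCompl_dvd m p))
      (by rw [Nat.Coprime, h3.gcd_eq]; exact hj))
  exact ⟨k, h4, (h5.of_mul_left _).trans h3, fun y h6 h7 => pow_eq_pow_iff_modEq.2
    (((h5.of_mul_right _).trans h2).of_dvd (Nat.dvd_ordCompl_of_dvd_not_dvd h6 h7))⟩

theorem star_mul_galPow (χ : IrrCharacter G) {k : ℕ} (hk : k.Coprime (Nat.card G)) {y y' : G}
    (hy : y ∈ center G) (hy' : y' ∈ center G) (h : y ^ k = y * y') (g : G) :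
    (star χ.1 * (χ.galPow k hk).1) (g * y) * χ 1 = (star χ.1 * (χ.galPow k hk).1) g * χ y' := by
  have h1 := χ.apply_center_mul hy y⁻¹
  have h2 := χ.apply_one_ne_zero
  have h3 : conj (χ 1) = χ 1 := by rw [χ.apply_one, map_natCast]
  rw [mul_inv_cancel, χ.isCharacter.apply_inv] at h1
  change conj (χ (g * y)) * χ ((g * y) ^ k) * χ 1 = conj (χ g) * χ (g ^ k) * χ y'
  rw [mem_center_iff.1 hy g, (show Commute y g from (mem_center_iff.1 hy g).symm).mul_pow, h,
    mul_assoc y, χ.apply_center_mul hy, χ.apply_center_mul hy, χ.apply_center_mul hy', map_mul,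
    map_div₀, h3]
  field_simp at h1 ⊢
  linear_combination (-conj (χ g) * χ y' * χ (g ^ k)) * h1

namespace Ctx

variable {x : G} {α : Wt L (ResK M)} {q q' : (ResK M)[X]} {e t n : ℕ}
  (h : Ctx p M P x L α q q' e t n)
include h

theorem exists_uni (hnn : ¬ P.Normal) {χ : IrrCharacter G} (hf : ∀ g, χ g = χ 1 → g = 1)
    (h1 : charDegree χ.1 = n) {lam : P →* ℂˣ} (hl : lam ≠ 1)
    (hv : ∀ u : P, u ≠ 1 → χ u = -osum (autOf P.subtype N(P)) lam u) :
    ∃ (φ : IBr p M G) (C : Chains (dop φ.rep x q) (sig φ.rep L)) (c : C.ι), Uni P n χ C c lam := by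
  obtain ⟨φ, h2, h3⟩ := χ.isCharacter.exists_ibr_rep_ne_one h.hM hf h.loc.ord h.loc.nsq
    (h.zp ▸ hnn)
  obtain ⟨C⟩ := h.loc.nonempty_chains φ.rep
  obtain ⟨c, h4⟩ := h.exists_le_m φ.rep_isIrreducible h3 C
  have h5 := C.finrank_eq
  have h6 := (Nat.le_mul_of_pos_left _ (Nat.pos_of_ne_zero h2)).trans (single_le_sum
    (f := fun ψ : IBr p M G => decNum χ.1 ψ * ψ.deg) (fun _ _ => Nat.zero_le _) (mem_univ φ))
  rw [← χ.isCharacter.charDegree_eq_sum_decNum h.hM, h1] at h6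
  rw [finrank_fin_fun, ← add_sum_erase _ _ (mem_univ c)] at h5
  refine ⟨φ, C, c, (χ.isCharacter.isBrauerChar h.hM).eq_of_apply_one_eq h.hM (by simpa using h2) ?_,
    fun d => by_contra fun e => ?_, by omega, hl, hv⟩
  · rw [pRegularPart_of_reg isPRegular_one, φ.apply_one h.hM, show φ.deg = n by omega, ← h1]
    exact χ.apply_one
  · have := (C.pos d).trans_le (single_le_sum (f := C.m) (fun _ _ => Nat.zero_le _)
      (mem_erase.2 ⟨e, mem_univ d⟩))
    omega

theorem orderOf_lam {lam : P →* ℂˣ} (hl : lam ≠ 1) : orderOf lam = p :=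
  orderOf_eq_prime (MonoidHom.ext fun u => by
    rw [MonoidHom.pow_apply, ← map_pow, ← h.cardP, pow_card_eq_one', map_one, MonoidHom.one_apply])
    hl

theorem exists_not_orb {lam : P →* ℂˣ} (hl : lam ≠ 1) :
    ∃ j : ℕ, j.Coprime p ∧ ¬ Orb (autOf P.subtype N(P)) (lam ^ j) lam := by
  letI := Fintype.ofFinite (P →* ℂˣ)
  by_contra h0
  push Not at h0
  have h1 := card_le_card_of_injOn (s := Ico 1 p) (t := univ.filter (Orb (autOf P.subtype N(P)) lam))
    (lam ^ ·) (fun j hj => by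
      rw [mem_coe, mem_Ico] at hj
      simpa using (h0 j ((Nat.coprime_comm.1 (hp.out.coprime_iff_not_dvd.2
        (Nat.not_dvd_of_pos_of_lt hj.1 hj.2))))).symm)
    fun i hi j hj => pow_injOn_Iio_orderOf (by rw [h.orderOf_lam hl]; exact (mem_Ico.1 hi).2)
      (by rw [h.orderOf_lam hl]; exact (mem_Ico.1 hj).2)
  rw [h.free.card_orb h.comm hl, h.cardE, Nat.card_Ico] at h1
  have := h.et
  have := Nat.mul_le_mul_left e h.two'
  have := h.pos
  omega

theorem exists_gal {χ : IrrCharacter G} {lam : P →* ℂˣ} (hl : lam ≠ 1)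
    (hv : ∀ u : P, u ≠ 1 → χ u = -osum (autOf P.subtype N(P)) lam u) {m a : ℕ} (hm : m ≠ 0)
    (ha : a.Coprime m) : ∃ (k : ℕ) (hk : k.Coprime (Nat.card G)) (mu : P →* ℂˣ), mu ≠ 1 ∧
      ¬ Orb (autOf P.subtype N(P)) mu lam ∧
      (∀ u : P, u ≠ 1 → χ.galPow k hk u = -osum (autOf P.subtype N(P)) mu u) ∧
      ∀ y : G, orderOf y ∣ m → IsPRegular p y → y ^ k = y ^ a := by
  letI := Fintype.ofFinite (autOf P.subtype N(P))
  obtain ⟨j, h1, h2⟩ := h.exists_not_orb hl
  obtain ⟨k, h3, h4, h5⟩ := exists_gal_exp (G := G) hm ha h1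
  have h6 : ¬ p ∣ k := fun e => hp.out.coprime_iff_not_dvd.1 h1.symm ((h4.dvd_iff dvd_rfl).1 e)
  have h7 : lam ^ k ≠ 1 := fun e => h6 (h.orderOf_lam hl ▸ orderOf_dvd_of_pow_eq_one e)
  refine ⟨k, h3, lam ^ k, h7, by
    rwa [show lam ^ k = lam ^ j from
      (pow_eq_pow_iff_modEq (x := lam)).2 (by rwa [h.orderOf_lam hl])],
    fun u hu => ?_, h5⟩
  have h8 : u ^ k ≠ 1 := fun e => h6 (orderOf_eq_prime (h.cardP ▸ pow_card_eq_one' (x := u)) hu ▸
    orderOf_dvd_of_pow_eq_one e)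
  rw [IrrCharacter.galPow_apply, ← Subgroup.coe_pow, hv _ h8, h.free.osum_eq h.comm hl,
    h.free.osum_eq h.comm h7]
  simp

variable {χ : IrrCharacter G} {φ : IBr p M G} {C : Chains (dop φ.rep x q) (sig φ.rep L)} {c : C.ι}
  {lam : P →* ℂˣ} (U : Uni P n χ C c lam)
include U

theorem ne_two (hp7 : 7 < p) : t ≠ 2 := by
  rintro rfl
  refine h.loc.of_half U.one hp7.le (by have := h.ne; have := h.et; rw [U.len]; omega)
    fun W _ _ _ σ h1 h2 => ?_
  have h3 := h.small W σ 5 h1 h2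
  have := hp.out
  interval_cases p <;> contradiction

theorem exists_uni' : ∃ (χ' : IrrCharacter G) (lam' : P →* ℂˣ), Uni P n χ' C c lam' ∧
    ¬ Orb (autOf P.subtype N(P)) lam' lam ∧ OverCenter p (fun _ => 1) (star χ.1 * χ'.1) := by
  obtain ⟨k, hk, mu, h1, h2, h3, h4⟩ := h.exists_gal U.ne U.val (Nat.card_pos (α := G)).ne'
    (Nat.coprime_one_left _)
  simp only [pow_one] at h4
  refine ⟨χ.galPow k hk, mu, ⟨(pRegularPart_eq_iff.2 fun g hg => ?_).trans U.reg, U.one, U.len, h1,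
    h3⟩, h2, fun y hy hy' g => ?_⟩
  · exact congrArg χ.1 (h4 g (orderOf_dvd_natCard g) hg)
  · simpa using mul_right_cancel₀ χ.apply_one_ne_zero (star_mul_galPow χ hk hy (one_mem _)
      ((h4 y (orderOf_dvd_natCard y) hy').trans (mul_one y).symm) g)

theorem eq_two_of_odd (hp7 : 7 < p) (hnn : ¬ P.Normal) (hf : ∀ g, χ g = χ 1 → g = 1)
    (hZ : Odd (Nat.card (center G))) {X Y : Finset (IrrCharacter G)}
    {ζ : (P →* ℂˣ) → IrrCharacter G} {δ : ℤ} {a : IrrCharacter G → ℤ}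
    (b : PBlk p P (OverCenter p χ.1) X Y ζ δ a) : e = 2 := by
  obtain ⟨k, hk, mu, h1, h2, h3, h4⟩ := h.exists_gal U.ne U.val (Nat.card_pos (α := center G)).ne'
    (Nat.coprime_two_left.2 hZ)
  have h5 : charDegree χ.1 = n := by exact_mod_cast χ.apply_one.symm.trans (h.uni_one U)
  obtain ⟨φ', C', c', U'⟩ := h.exists_uni hnn (χ := χ.galPow k hk) (fun g hg =>
    (pow_eq_one_iff_of_coprime hk).1 ⟨hf (g ^ k) (by simpa using hg), pow_card_eq_one'⟩)
    (Nat.cast_injective (R := ℂ) ((χ.galPow k hk).apply_one.symm.trans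
      (by simpa using h.uni_one U))) h1 h3
  refine (h.eq_two_of_neg U U' h2 b χ.apply_one_ne_zero (fun y hy hy' g => star_mul_galPow χ hk hy hy
    ((h4 y (orderOf_dvd_natCard _ hy) hy').trans (sq y)) g) ?_).resolve_left (h.ne_two U hp7)
  have h6 : OverCenter p χ.1 χ.1 := fun y hy _ g => by
    have := χ.apply_center_mul hy g
    rw [← mem_center_iff.1 hy g, eq_comm, div_mul_eq_mul_div, div_eq_iff χ.apply_one_ne_zero,
      mul_comm] at this
    exact this.symm
  obtain ⟨u, h7, h8⟩ : ∃ u : P, u ≠ 1 ∧ χ u ≠ 0 := by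
    by_contra h0
    push Not at h0
    have := (h.sum_eq U.ne (δ := -1) fun u hu => by simpa using U.val u hu).symm.trans
      (sum_eq_single 1 (fun u _ => h0 u) (by simp))
    simp [h.pos.ne'] at this
  have h9 := h.ne
  have h10 := h.two
  have h11 := h.et
  have h12 := Nat.mul_le_mul_left e h.two'
  have h13 : ∀ z : ℤ, (n : ℤ) ≡ z [ZMOD p] → 0 < z + e → z + e < p → False := fun z e1 e2 e3 =>
    e3.not_ge (Int.le_of_dvd e2 (by
      rw [show z + e = z - n + p by omega]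
      exact dvd_add e1.dvd dvd_rfl))
  rcases b.mem_of_ne_zero h6 h7 h8 with h14 | h14
  · exact (h13 _ (h5 ▸ b.modEq_X h14) (by rcases b.asign χ h14 with e | e <;> omega)
      (by rcases b.asign χ h14 with e | e <;> omega)).elim
  · refine b.sign.resolve_left ?_
    rintro rfl
    exact h13 _ (h5 ▸ h.cardX b ▸ b.modEq_Y h14) (by omega) (by omega)

theorem of_ne_two (hp7 : 7 < p) (he : e ≠ 2) (hG : commutator G ⊔ center G = ⊤)
    (hZ : ∀ z ∈ center G, IsPRegular p z) {X Y : Finset (IrrCharacter G)}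
    {ζ : (P →* ℂˣ) → IrrCharacter G} {δ : ℤ} {a : IrrCharacter G → ℤ}
    (b : PBlk p P (OverCenter p fun _ => 1) X Y ζ δ a) : e + 3 ≤ t ∧ δ = 1 ∧
      ∀ η ∈ Y, ∃ m, charDegree η.1 = e + m * p ∧ 0 < m ∧ e * m + 2 * e ≤ p := by
  obtain ⟨χ', lam', U', hO, hQ⟩ := h.exists_uni' U
  have h1 := h.ne_two U hp7
  have h2 := h.two
  have h3 := h.two'
  have hδ := b.sign.resolve_right fun e => by
    rcases h.eq_two_of_neg U U' hO b one_ne_zero hQ e with _ | _ <;> contradiction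
  have h4 := fun θ => h.of_pos U U' hO b one_ne_zero hQ hδ (by omega) rfl (θ := θ)
  refine ⟨?_, hδ, fun η hη => ?_⟩
  · obtain ⟨θ, hθ⟩ := b.Y_nonempty
    obtain ⟨m, k, σ, D, d₀, h5, h6, -, -, h7, h8, h9, h10⟩ := h4 θ hθ
    have h11 : e + 1 ≠ t := fun e => by
      obtain ⟨rfl, h11, h12, h13⟩ := h10 e
      exact h.not_succ hG (by omega) e U U' hO (fun η hη => b.reg_eq η hη θ hθ) h13 h5
        (fun z hz => by simpa using b.prop θ (Or.inr hθ) z hz (hZ z hz) 1) (by omega) D h7 h8 h11 h12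
    have h12 : e + 2 ≠ t := by
      rintro rfl
      exact Nat.not_prime_mul (a := e + 1) (b := e + 1) (by omega) (by omega)
        (by rw [show (e + 1) * (e + 1) = p by rw [← h.et]; ring]; exact hp.out)
    omega
  · obtain ⟨m, -, -, -, -, -, h5, h6, h7, -⟩ := h4 η hη
    exact ⟨m, h5, h6, h7⟩

end Ctx

end Cfsg.PM
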