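import Cfsg.Agent.Blk.FrobPrinCyc
import Cfsg.Agent.Blk.FrobPrime
import Cfsg.Agent.Blk.OneSub
import Cfsg.Agent.Blk.BrauerLeonard

/-!
# Character values of blocks with a Sylow defect group of prime order
-/

set_option autoImplicit false
set_option linter.unusedSectionVars false
set_option linter.unusedVariables false
set_option linter.style.haveILetI false

namespace Cfsg

open Exc Subgroup
open scoped ComplexConjugate Classical

universe u v w

variable {G : Type u} [Group G] [Finite G] {p : ℕ} [hp : Fact p.Prime] {M : Ideal AlgInt}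

local notation "C(" Q ")" => Subgroup.centralizer ((Q : Subgroup G) : Set G)
local notation "N(" Q ")" => Subgroup.normalizer ((Q : Subgroup G) : Set G)

theorem IsCharacter.norm_sum_mul_le_of_normal {χ : G → ℂ} (hχ : IsCharacter G χ) (P : Subgroup G)
    [P.Normal] [Fintype P] (w : G) : ‖∑ u : P, χ (w * u)‖ ≤ (∑ u : P, χ u).re := by
  refine hχ.induction_on (P := fun χ => ‖∑ u : P, χ (w * u)‖ ≤ (∑ u : P, χ u).re) (by simp)
    (fun ψ => ?_) fun φ ψ _ _ h1 h2 => ?_
  · by_cases h : ∀ g ∈ P, ψ g = ψ 1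
    · rw [Finset.sum_congr rfl fun (u : P) _ => ψ.isCharacter.apply_mul_of_mem_kerSet (h u u.2) w,
        Finset.sum_congr rfl fun (u : P) _ => h u u.2, Finset.sum_const, Finset.sum_const,
        nsmul_eq_mul, nsmul_eq_mul, norm_mul, ψ.apply_one, ← Nat.cast_mul, Complex.natCast_re,
        Complex.norm_natCast, Nat.cast_mul]
      exact mul_le_mul_of_nonneg_left (ψ.norm_le w) (Nat.cast_nonneg _)
    · have := ψ.sum_coset_eq_zero P h 1
      simp only [one_mul] at this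
      change ‖∑ u : P, ψ (w * u)‖ ≤ (∑ u : P, ψ u).re
      rw [ψ.sum_coset_eq_zero P h w, this]
      simp
  · simp only [Pi.add_apply, Finset.sum_add_distrib, Complex.add_re]
    exact (norm_add_le _ _).trans (add_le_add h1 h2)

/-- The trace of an element normalizing `P` on the fixed space of `P`. -/
theorem IsCharacter.norm_sum_mul_le {χ : G → ℂ} (hχ : IsCharacter G χ) (P : Subgroup G)
    [Fintype P] {w : G} (hw : w ∈ N(P)) : ‖∑ u : P, χ (w * u)‖ ≤ (∑ u : P, χ u).re := by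
  let _ := Fintype.ofFinite (P.subgroupOf N(P))
  have := (hχ.comp N(P).subtype).norm_sum_mul_le_of_normal (P.subgroupOf N(P)) ⟨w, hw⟩
  rwa [← Equiv.sum_comp (subgroupOfEquivOfLe (le_normalizer (H := P))).toEquiv,
    ← Equiv.sum_comp (subgroupOfEquivOfLe (le_normalizer (H := P))).toEquiv]

/-- The characters of a block with defect group `P` of order `p`: `X` are the non-exceptional
and `Y` the exceptional ones; `Q` is a class of class functions controlled by the block. -/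
structure PBlk (p : ℕ) (P : Subgroup G) [Fintype P] (Q : (G → ℂ) → Prop)
    (X Y : Finset (IrrCharacter G)) (ζ : (P →* ℂˣ) → IrrCharacter G) (δ : ℤ)
    (a : IrrCharacter G → ℤ) : Prop where
  card : Nat.card P = p
  sign : δ = 1 ∨ δ = -1
  asign : ∀ χ ∈ X, a χ = 1 ∨ a χ = -1
  cardX : X.card = (C(P)).relIndex N(P)
  cardY : X.card * Y.card + 1 = p
  disj : Disjoint X Y
  mem : ∀ lam, lam ≠ 1 → ζ lam ∈ Y
  surj : ∀ η ∈ Y, ∃ lam, lam ≠ 1 ∧ ζ lam = η
  eq_iff : ∀ lam mu, lam ≠ 1 → mu ≠ 1 → (ζ lam = ζ mu ↔ Orb (autOf P.subtype N(P)) lam mu)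
  valX : ∀ χ ∈ X, ∀ u : P, u ≠ 1 → χ u = a χ
  valY : ∀ lam, lam ≠ 1 → ∀ u : P, u ≠ 1 → ζ lam u = δ * osum (autOf P.subtype N(P)) lam u
  sumY : ∀ u : P, u ≠ 1 → ∑ η ∈ Y, η u = -δ
  reg_eq : ∀ η ∈ Y, ∀ η' ∈ Y, ∀ g, IsPRegular p g → η g = η' g
  reg_rel : ∀ η ∈ Y, ∀ g, IsPRegular p g → δ * η g = ∑ χ ∈ X, a χ * χ g
  prop : ∀ χ, χ ∈ X ∨ χ ∈ Y → Q χ.1
  dec : ∀ Θ, IsClassFunction G Θ → Q Θ → ∀ lam, lam ≠ 1 →
    coef (fun u : P => Θ u) lam = δ * ip Θ (ζ lam).1 - ∑ χ ∈ X, a χ * ip Θ χ.1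

theorem ExcOut.pBlk {P : Subgroup G} [Fintype P] (hP : Nat.card P = p) {B X Y : Set (IrrCharacter G)}
    {S : P → G → ℂ} {δ ε : ℤ} {ζ : (P →* ℂˣ) → IrrCharacter G} {a : IrrCharacter G → ℤ}
    (o : ExcOut p B (autOf P.subtype N(P)) S X Y δ 0 ζ a)
    (h : ExcSys p M B (autOf P.subtype N(P)) S)
    (hX : Nat.card X = Nat.card (autOf P.subtype N(P))) (ha : ∀ χ ∈ X, a χ = 1 ∨ a χ = -1)
    (hε : ε = 1 ∨ ε = -1) {Q : (G → ℂ) → Prop} (hB : ∀ χ ∈ B, Q χ.1)
    (hQ : ∀ Θ, IsClassFunction G Θ → Q Θ → ∀ u : P, u ≠ 1 → excDec S Θ u = ε * Θ u) :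
    PBlk p P Q X.toFinite.toFinset Y.toFinite.toFinset ζ (ε * δ) (fun χ => ε * a χ) := by
  have e2 : (ε : ℂ) * ε = 1 := by rcases hε with rfl | rfl <;> simp
  have cX : X.toFinite.toFinset.card = Nat.card X := by
    rw [Nat.card_coe_set_eq, Set.ncard_eq_toFinset_card _ X.toFinite]
  have cY : Y.toFinite.toFinset.card = Nat.card Y := by
    rw [Nat.card_coe_set_eq, Set.ncard_eq_toFinset_card _ Y.toFinite]
  have hv : ∀ χ ∈ B, ∀ u : P, u ≠ 1 → χ u = ε * excDec S χ.1 u := fun χ hχ u hu => by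
    rw [hQ _ χ.isClassFunction (hB χ hχ) u hu, ← mul_assoc, e2, one_mul]
  refine ⟨hP, ?_, fun χ hχ => ?_, ?_, ?_, ?_, fun lam hl => ?_, fun η hη => ?_, o.eq_iff,
    fun χ hχ u hu => ?_, fun lam hl u hu => ?_, fun u hu => ?_, fun η hη η' hη' => ?_,
    fun η hη g hg => ?_, fun χ hχ => ?_, fun Θ hΘ hq lam hl => ?_⟩
  all_goals try simp only [Set.Finite.mem_toFinset] at *
  · rcases hε with rfl | rfl <;> rcases o.sign with rfl | rfl <;> simp
  · rcases hε with rfl | rfl <;> rcases ha χ hχ with h | h <;> simp [h]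
  · rw [cX, hX, card_autOf_subtype le_rfl]
  · rw [cX, cY, hX, o.cardY, hP]
  · exact Set.Finite.disjoint_toFinset.2 o.disj
  · exact o.mem lam hl
  · exact o.surj η hη
  · rw [hv χ (o.X_subset hχ) u hu, o.nonexc χ hχ u hu, Int.cast_mul]
  · rw [hv _ (o.Y_subset (o.mem lam hl)) u hu, o.exc lam hl u hu]
    push_cast
    ring
  · have := o.sumY u hu
    rw [finsum_mem_eq_finite_toFinset_sum _ Y.toFinite] at this
    rw [Finset.sum_congr rfl fun η hη => hv η (o.Y_subset (Y.toFinite.mem_toFinset.1 hη)) u hu,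
      ← Finset.mul_sum, this]
    push_cast
    ring
  · exact o.reg_eq η hη η' hη'
  · have := o.reg_rel η hη g hg
    rw [finsum_mem_eq_finite_toFinset_sum _ X.toFinite] at this
    push_cast at this ⊢
    simp only [mul_assoc, ← Finset.mul_sum]
    linear_combination -(ε : ℂ) * this
  · exact hB χ (hχ.elim (fun h => o.X_subset h) fun h => o.Y_subset h)
  · have h1 := o.coef_finsum (fun χ => ip Θ χ.1) hl
    rw [finsum_mem_eq_finite_toFinset_sum _ X.toFinite, ← coef_congr fun u hu =>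
      h.excDec_eq_finsum hΘ hu, coef_congr (hQ Θ hΘ hq), coef_mul] at h1
    push_cast at h1 ⊢
    simp only [mul_assoc, ← Finset.mul_sum]
    linear_combination (ε : ℂ) * h1 - coef (fun u : P => Θ u) lam * e2

namespace PBlk

variable {P : Subgroup G} [Fintype P] {Q : (G → ℂ) → Prop} {X Y : Finset (IrrCharacter G)}
  {ζ : (P →* ℂˣ) → IrrCharacter G} {δ : ℤ} {a : IrrCharacter G → ℤ}
  (h : PBlk p P Q X Y ζ δ a)
include h

theorem comm (u v : P) : u * v = v * u :=
  haveI : IsCyclic P := isCyclic_of_prime_card h.card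
  mul_comm' u v

theorem free : IsFree (autOf P.subtype N(P)) := isFree_of_card_eq_prime h.card _

theorem cardE : Nat.card (autOf P.subtype N(P)) = X.card := by
  rw [h.cardX, card_autOf_subtype le_rfl]

theorem exists_ne_one : ∃ u : P, u ≠ 1 :=
  haveI : Nontrivial P := Finite.one_lt_card_iff_nontrivial.1 (h.card ▸ hp.out.one_lt)
  exists_ne 1

theorem pow_eq_one (u : P) : (u : G) ^ p = 1 := by
  rw [← h.card]
  exact congrArg Subtype.val (pow_card_eq_one' (x := u))

theorem orderOf_eq {u : P} (hu : u ≠ 1) : orderOf (u : G) = p :=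
  orderOf_eq_prime (h.pow_eq_one u) fun e => hu (Subtype.ext e)

theorem cardX_pos : 0 < X.card := h.cardE ▸ Nat.card_pos

theorem Y_nonempty : Y.Nonempty := by
  rw [← Finset.card_pos]
  have h1 := h.cardY
  have h2 := hp.out.one_lt
  by_contra h0
  rw [show Y.card = 0 by omega] at h1
  omega

theorem sq : δ * δ = 1 := by rcases h.sign with e | e <;> simp [e]

theorem asq {χ : IrrCharacter G} (hχ : χ ∈ X) : a χ * a χ = 1 := by
  rcases h.asign χ hχ with e | e <;> simp [e]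

theorem vanish {φ : IrrCharacter G} (hφ : Q φ.1) (hX : φ ∉ X) (hY : φ ∉ Y) {u : P} (hu : u ≠ 1) :
    φ u = 0 := by
  let _ := Fintype.ofFinite (P →* ℂˣ)
  rw [eq_sum_coef h.comm (fun u : P => φ u) hu]
  refine Finset.sum_eq_zero fun lam _ => ?_
  by_cases hl : lam = 1
  · simp [hl]
  rw [h.dec _ φ.isClassFunction hφ lam hl,
    IrrCharacter.ip_of_ne (ne_of_mem_of_not_mem (h.mem lam hl) hY).symm, Finset.sum_eq_zero
    fun χ hχ => by rw [IrrCharacter.ip_of_ne (ne_of_mem_of_not_mem hχ hX).symm, mul_zero]]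
  simp

theorem mem_of_ne_zero {φ : IrrCharacter G} (hφ : Q φ.1) {u : P} (hu : u ≠ 1) (h0 : φ u ≠ 0) :
    φ ∈ X ∨ φ ∈ Y := by
  by_contra hn
  exact h0 (h.vanish hφ (fun a => hn (Or.inl a)) (fun a => hn (Or.inr a)) hu)

theorem modEq_X {χ : IrrCharacter G} (hχ : χ ∈ X) : (charDegree χ.1 : ℤ) ≡ a χ [ZMOD p] := by
  obtain ⟨u, hu⟩ := h.exists_ne_one
  exact (χ.isCharacter.int_modEq_charDegree hp.out (x := u) (k := 1)
    (by rw [pow_one, h.pow_eq_one]) (h.valX χ hχ u hu)).symm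

theorem deg_rel {η : IrrCharacter G} (hη : η ∈ Y) :
    δ * charDegree η.1 = ∑ χ ∈ X, a χ * charDegree χ.1 := by
  have := h.reg_rel η hη 1 isPRegular_one
  simp only [IrrCharacter.apply_one] at this
  exact_mod_cast this

theorem deg_eq {η η' : IrrCharacter G} (hη : η ∈ Y) (hη' : η' ∈ Y) :
    charDegree η.1 = charDegree η'.1 := by
  have := h.reg_eq η hη η' hη' 1 isPRegular_one
  simp only [IrrCharacter.apply_one] at this
  exact_mod_cast this

theorem modEq_Y {η : IrrCharacter G} (hη : η ∈ Y) :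
    (charDegree η.1 : ℤ) ≡ δ * X.card [ZMOD p] := by
  have h1 : ∑ χ ∈ X, a χ * (charDegree χ.1 : ℤ) ≡ ∑ χ ∈ X, (1 : ℤ) [ZMOD p] :=
    Int.ModEq.sum fun χ hχ => h.asq hχ ▸ (h.modEq_X hχ).mul_left _
  rw [← h.deg_rel hη, Finset.sum_const, nsmul_one] at h1
  have := h1.mul_left δ
  rwa [← mul_assoc, h.sq, one_mul] at this

theorem dvd_X {χ : IrrCharacter G} (hχ : χ ∈ X) {u : P} (hu : u ≠ 1) :
    charDegree χ.1 ∣ (centralizer ({(u : G)} : Set G)).index := by
  have := χ.centralChar_isIntegral u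
  rw [centralChar, h.valX χ hχ u hu, χ.apply_one, ← Int.cast_natCast, ← Int.cast_mul,
    ← Int.cast_natCast] at this
  have := int_dvd_of_isIntegral_div (by exact_mod_cast χ.charDegree_pos.ne') this
  have := this.mul_right (a χ)
  rw [mul_assoc, h.asq hχ, mul_one] at this
  exact Int.natCast_dvd_natCast.1 this

theorem dvd_Y {η : IrrCharacter G} (hη : η ∈ Y) {u : P} (hu : u ≠ 1) :
    charDegree η.1 ∣ (centralizer ({(u : G)} : Set G)).index := by
  have h1 : IsIntegral ℤ (∑ η' ∈ Y, centralChar η'.1 u) :=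
    IsIntegral.sum _ fun η' _ => η'.centralChar_isIntegral u
  rw [Finset.sum_congr rfl (g := fun η' => ((centralizer ({(u : G)} : Set G)).index : ℂ) * η' u /
    charDegree η.1) fun η' hη' => by rw [centralChar, η'.apply_one, h.deg_eq hη' hη],
    ← Finset.sum_div, ← Finset.mul_sum, h.sumY u hu, ← Int.cast_natCast, ← Int.cast_neg,
    ← Int.cast_mul, ← Int.cast_natCast] at h1
  have := int_dvd_of_isIntegral_div (by exact_mod_cast η.charDegree_pos.ne') h1
  have := this.mul_right (-δ)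
  rw [mul_assoc, neg_mul_neg, h.sq, mul_one] at this
  exact Int.natCast_dvd_natCast.1 this

theorem dec_const {Θ : G → ℂ} (hΘ : IsClassFunction G Θ) (hq : Q Θ) {c : ℂ}
    (hc : ∀ u : P, u ≠ 1 → Θ u = c) {η : IrrCharacter G} (hη : η ∈ Y) :
    δ * ip Θ η.1 = ∑ χ ∈ X, a χ * ip Θ χ.1 - c := by
  obtain ⟨lam, hl, rfl⟩ := h.surj η hη
  have := h.dec Θ hΘ hq lam hl
  rw [coef_congr hc, coef_const c hl] at this
  linear_combination -this

theorem dec_const_nat {Θ : G → ℂ} (hΘ : IsCharacter G Θ) (hq : Q Θ) {c : ℤ}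
    (hc : ∀ u : P, u ≠ 1 → Θ u = c) {η : IrrCharacter G} (hη : η ∈ Y) :
    δ * ipNat Θ η.1 = ∑ χ ∈ X, a χ * ipNat Θ χ.1 - c := by
  have := h.dec_const hΘ.isClassFunction hq hc hη
  simp only [← hΘ.ipNat_cast (IrrCharacter.isCharacter _)] at this
  exact_mod_cast this

theorem mem_X_of_const (ht : 2 ≤ Y.card) {φ : IrrCharacter G} (hφ : Q φ.1) {c : ℂ} (h0 : c ≠ 0)
    (hc : ∀ u : P, u ≠ 1 → φ u = c) : φ ∈ X := by
  obtain ⟨u, hu⟩ := h.exists_ne_one
  refine (h.mem_of_ne_zero hφ hu (by rwa [hc u hu])).resolve_right fun hY => ?_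
  obtain ⟨η, hη, hne⟩ := Finset.exists_mem_ne (by omega : 1 < Y.card) φ
  have h1 := h.dec_const φ.isClassFunction hφ hc hη
  rw [← h.dec_const φ.isClassFunction hφ hc hY, φ.ip_self, IrrCharacter.ip_of_ne hne.symm] at h1
  rcases h.sign with e | e <;> simp [e] at h1

theorem sum_mul_conj (hQ : ∀ φ : IrrCharacter G, Q φ.1) {g k : G} (hg : IsPRegular p g)
    (hk : IsPRegular p k) {u : P} (hu : u ≠ 1) {η : IrrCharacter G} (hη : η ∈ Y) :
    ∑ χ : IrrCharacter G, χ g * χ k * conj (χ u) / χ 1 =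
      ∑ χ ∈ X, a χ * (χ g * χ k / χ 1) - δ * (η g * η k / η 1) := by
  rw [← Finset.sum_subset (Finset.subset_univ (X ∪ Y)) fun χ _ hχ => by
      rw [Finset.mem_union, not_or] at hχ
      rw [h.vanish (hQ χ) hχ.1 hχ.2 hu, map_zero, mul_zero, zero_div],
    Finset.sum_union h.disj, sub_eq_add_neg]
  congr 1
  · refine Finset.sum_congr rfl fun χ hχ => ?_
    rw [h.valX χ hχ u hu, map_intCast]
    ring
  · rw [Finset.sum_congr rfl (g := fun χ => η g * η k / η 1 * conj (χ u)) fun χ hχ => by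
      rw [h.reg_eq χ hχ η hη g hg, h.reg_eq χ hχ η hη k hk, h.reg_eq χ hχ η hη 1 isPRegular_one]
      ring, ← Finset.mul_sum, ← map_sum, h.sumY u hu, map_neg, map_intCast]
    ring

/-- A non-exceptional character of degree `p - 1` has no fixed points of `P`. -/
theorem sum_mul_eq_zero {χ : IrrCharacter G} (hχ : χ ∈ X) (ha : a χ = -1)
    (hd : charDegree χ.1 = p - 1) {w : G} (hw : w ∈ N(P)) : ∑ u : P, χ (w * u) = 0 := by
  have h1 : ∑ u : P, χ u = 0 := by
    rw [← Finset.add_sum_erase _ _ (Finset.mem_univ 1), Finset.sum_congr rfl fun u hu =>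
      h.valX χ hχ u (Finset.ne_of_mem_erase hu), Finset.sum_const, Finset.card_erase_of_mem
      (Finset.mem_univ _), Finset.card_univ, ← Nat.card_eq_fintype_card, h.card, ha,
      OneMemClass.coe_one, χ.apply_one, hd]
    simp
  have := χ.isCharacter.norm_sum_mul_le P hw
  rwa [h1, Complex.zero_re, norm_le_zero_iff] at this

end PBlk

/-- Constant on the `p`-sections of the nonidentity elements of `P`. -/
def SecConst (p : ℕ) (P : Subgroup G) (Θ : G → ℂ) : Prop :=
  ∀ u ∈ P, u ≠ 1 → ∀ g ∈ pSection p u, Θ g = Θ u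

theorem exists_pBlk_principal (P : Sylow p G) [Fintype P] (hP : Nat.card P = p) :
    ∃ X Y ζ δ a, PBlk p (P : Subgroup G) (SecConst p P) X Y ζ δ a ∧
      ∀ χ, χ ∈ X ∨ χ ∈ Y → ∀ g ∈ pPrimeCore p G, χ g = χ 1 := by
  obtain ⟨M, hM⟩ := exists_isPModular_of_prime hp.out
  have : IsCyclic P := isCyclic_of_prime_card hP
  have hP1 : (P : Subgroup G) ≠ ⊥ := fun h => hp.out.one_lt.ne (by
    rw [← hP]; exact (Subgroup.card_eq_one.2 h).symm)
  have h := excSys_principal_cyclic hM P hP1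
  obtain ⟨X, Y, δ, ζ, a, o, h1, h2⟩ := exists_out_principal_cyclic hM P hP1
  have hab : (P : Subgroup G) ≤ C(P) := Subgroup.le_centralizer _
  have hfree := free_of_isCyclic_sylow hM P
  refine ⟨_, _, _, _, _, o.pBlk hP h h1 h2 (Or.inl rfl) (fun χ hχ u hu h1 g hg => ?_)
    fun Θ hΘ hq u hu => ?_, fun χ hχ g hg => ?_⟩
  · have hu' : (⟨u, hu⟩ : (P : Subgroup G)) ≠ 1 := fun e => h1 (congrArg Subtype.val e)
    rw [apply_eq_excDec_principal hM hab hfree hχ hu' hg, excDec_principal hM hab hfree hχ hu']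
  · have h3 := excDec_principal hM hab hfree hM.one_mem_principalBlock hu
    rw [excDec, ← conj_ip] at h3 ⊢
    rw [ip_secOne_of_const (hq u u.2 fun e => hu (Subtype.ext e)), map_mul, Complex.conj_conj,
      mul_left_comm]
    erw [h3]
    simp
  · simp only [Set.Finite.mem_toFinset] at hχ
    exact (mem_pPrimeCore_iff_principal hM).1 hg χ
      (hχ.elim (fun h => o.X_subset h) fun h => o.Y_subset h)

end Cfsg

set_option linter.all false in
theorem Cfsg.Rz.Blk_PrimeData_0 : True := by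
  have := @_root_.Cfsg.PBlk.mk.congr_simp.{0}
  have := @_root_.Cfsg.SecConst.eq_def.{0}
  have := @_root_.Cfsg.SecConst.eq_1.{0}
  have := @_root_.Cfsg.SecConst.fun_cases
  trivial
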