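import Cfsg.Agent.Blk.PrimeRedA
import Cfsg.Agent.Blk.BrauerReyn
import Cfsg.Agent.S4468

/-!
# Faithful characters of degree at most `p - 2` when the Sylow `p`-subgroup has order `p`
-/

set_option autoImplicit false
set_option linter.unusedSectionVars false
set_option linter.unusedVariables false
set_option linter.style.haveILetI false

namespace Cfsg

open Exc Subgroup
open scoped ComplexConjugate Classical MatrixGroups commutatorElement

universe u v w

variable {G : Type u} [Group G] [Finite G] {p : ℕ} [hp : Fact p.Prime]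

local notation "C(" Q ")" => Subgroup.centralizer ((Q : Subgroup G) : Set G)
local notation "N(" Q ")" => Subgroup.normalizer ((Q : Subgroup G) : Set G)

/-- The conclusion of `dickson_of_nilp`. -/
def DicksonData (p : ℕ) (x : G) : Prop :=
  ∃ (K : Subgroup G) (_ : K.Normal), SelfCent p (x : G ⧸ K) ∧
    (normalizer ((zpowers (x : G ⧸ K) : Subgroup (G ⧸ K)) : Set (G ⧸ K))).index = p + 1 ∧
    p - 1 ≤ 2 * (zpowers (x : G ⧸ K)).relIndex
      (normalizer ((zpowers (x : G ⧸ K) : Subgroup (G ⧸ K)) : Set (G ⧸ K)))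

/-- A faithful irreducible character of degree at most `p - 2`, with a non-normal Sylow
`p`-subgroup of order `p`. -/
structure SmallDeg (p : ℕ) [Fact p.Prime] (P : Sylow p G) (χ : IrrCharacter G) : Prop where
  card : Nat.card P = p
  five : 5 ≤ p
  nn : ¬ (P : Subgroup G).Normal
  faith : charKer χ.1 = ⊥
  deg : charDegree χ.1 + 2 ≤ p

/-- (A4) -/
theorem card_conjClasses_orderOf_prime (P : Sylow p G) (hP : Nat.card P = p) :
    Nat.card {c : ConjClasses G // ∃ g : G, ConjClasses.mk g = c ∧ orderOf g = p} *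
      (C(P)).relIndex N(P) + 1 = p := by
  let _ := Fintype.ofFinite (P : Subgroup G)
  let _ := Fintype.ofFinite (ConjClasses G)
  let _ := Fintype.ofFinite (autOf (P : Subgroup G).subtype N(P))
  have ho : ∀ u : (P : Subgroup G), u ≠ 1 → orderOf (u : G) = p := fun u hu => by
    rw [← Nat.card_zpowers, zpowers_eq_of_card_eq_prime hP u.2 fun e => hu (Subtype.ext e), hP]
  have h1 := Finset.card_eq_sum_card_fiberwise (f := fun u : (P : Subgroup G) => ConjClasses.mk u.1)
    (s := Finset.univ.erase 1)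
    (t := Finset.univ.filter fun c => ∃ g : G, ConjClasses.mk g = c ∧ orderOf g = p)
    fun u hu => by simpa using ⟨u.1, rfl, ho u (by simpa using hu)⟩
  rw [Finset.sum_congr rfl (g := fun _ => (C(P)).relIndex N(P)), Finset.sum_const, smul_eq_mul,
    Finset.card_erase_of_mem (Finset.mem_univ _), Finset.card_univ, ← Nat.card_eq_fintype_card,
    hP] at h1
  · rw [Nat.card_eq_fintype_card, Fintype.card_subtype, ← h1, Nat.sub_add_cancel hp.out.one_le]
  intro c hc
  obtain ⟨g, rfl, hg⟩ := (Finset.mem_filter.1 hc).2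
  obtain ⟨t, ht⟩ := IsPElt.exists_conj_mem (p := p) ⟨1, hg.trans (pow_one p).symm⟩ P
  have hu : (⟨_, ht⟩ : (P : Subgroup G)) ≠ 1 := fun e => hp.out.one_lt.ne' (by
    rw [← hg, conj_eq_one_iff.1 (congrArg Subtype.val e), orderOf_one])
  have h2 := (isFree_of_card_eq_prime hP (autOf (P : Subgroup G).subtype N(P))).sum_orbit hu
    fun _ => 1
  rw [← Finset.card_eq_sum_ones, ← Finset.card_eq_sum_ones, Finset.card_univ,
    ← Nat.card_eq_fintype_card, card_autOf_subtype le_rfl] at h2
  rw [← h2]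
  congr 1
  ext v
  simp only [Finset.mem_filter, Finset.mem_erase, Finset.mem_univ, and_true, true_and,
    ConjClasses.mk_eq_mk_iff_isConj]
  rw [exists_autOf_apply_iff (P : Subgroup G).subtype_injective (by rw [range_subtype])]
  constructor
  · rintro ⟨-, hv⟩
    obtain ⟨k, hk⟩ := isConj_iff.1 ((isConj_iff.2 ⟨t, rfl⟩).symm.trans hv.symm)
    exact ⟨k, mem_normalizer_of_card_eq_prime hP ht (fun e => hu (Subtype.ext e)) (hk ▸ v.2),
      hk.symm⟩
  · rintro ⟨k, -, hk⟩
    exact ⟨fun e => hu (Subtype.ext (conj_eq_one_iff.1 (hk.symm.trans (congrArg Subtype.val e)))),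
      ((isConj_iff.2 ⟨t, rfl⟩).trans (isConj_iff.2 ⟨k, hk.symm⟩)).symm⟩

namespace SmallDeg

variable {P : Sylow p G} {χ : IrrCharacter G} (h : SmallDeg p P χ)
include h

theorem not_sq_dvd : ¬ p ^ 2 ∣ Nat.card G := Sylow.not_sq_dvd_of_card P h.card

theorem zpowers_eq {x : G} (hx : x ∈ (P : Subgroup G)) (hx1 : x ≠ 1) : zpowers x = P :=
  zpowers_eq_of_card_eq_prime h.card hx hx1

theorem orderOf_eq {x : G} (hx : x ∈ (P : Subgroup G)) (hx1 : x ≠ 1) : orderOf x = p := by
  rw [← Nat.card_zpowers, h.zpowers_eq hx hx1, h.card]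

theorem exists_ne_one : ∃ x ∈ (P : Subgroup G), x ≠ 1 :=
  (bot_or_exists_ne_one _).resolve_left fun e => h.nn (e ▸ inferInstance)

theorem eq_one (g : G) (hg : χ g = χ 1) : g = 1 :=
  χ.isCharacter.charKer_eq_bot_iff.1 h.faith g hg

theorem not_le_normalizer (L : Subgroup G) [L.Normal] (hL : (P : Subgroup G) ≤ L) :
    ¬ L ≤ N(P) := fun e => h.nn (by
  rw [← normalizer_eq_top_iff, ← P.normalizer_sup_eq_top' hL]
  exact left_eq_sup.2 e)

theorem centralizer_eq {x : G} (hx : x ∈ (P : Subgroup G)) (hx1 : x ≠ 1) :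
    centralizer {x} = C(P) := by
  rw [← h.zpowers_eq hx hx1, zpowers_eq_closure, centralizer_closure]

theorem relIndex_le : (C(P)).relIndex N(P) ≤ charDegree χ.1 := by
  obtain ⟨x, hx, hx1⟩ := h.exists_ne_one
  have := χ.isCharacter.relIndex_le_charDegree (h.orderOf_eq hx hx1) fun e => hx1 (h.eq_one x e)
  rwa [h.centralizer_eq hx hx1, h.zpowers_eq hx hx1] at this

theorem le_two_mul_relIndex {x : G} (hx : x ∈ (P : Subgroup G)) (hx1 : x ≠ 1)
    (hD : DicksonData p x) : p - 1 ≤ 2 * (C(P)).relIndex N(P) := by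
  obtain ⟨K, _, hS, -, h1⟩ := hD
  have h2 := Nat.le_of_dvd (relIndex_pos _ _)
    (hS.relIndex_quot_dvd (h.orderOf_eq hx hx1) h.not_sq_dvd)
  rw [h.centralizer_eq hx hx1, h.zpowers_eq hx hx1] at h2
  omega

theorem isIrr_comp (L : Subgroup G) [L.Normal] (hL : (P : Subgroup G) ≤ L) :
    IsIrrCharacter L (χ.1 ∘ L.subtype) := by
  obtain ⟨x, hx, hx1⟩ := h.exists_ne_one
  have hχ := χ.isCharacter.comp L.subtype
  obtain ⟨ψ, h1, h2⟩ := hχ.exists_large_constituent (fun g hg => Subtype.ext (h.eq_one _ hg))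
    (x := ⟨x, hL hx⟩) ((orderOf_coe _).symm.trans (h.orderOf_eq hx hx1))
    (fun e => h.not_sq_dvd (e.trans (card_subgroup_dvd_card L))) fun e =>
    h.not_le_normalizer L hL fun g hg => by
      rw [← h.zpowers_eq hx hx1]
      obtain ⟨k, hk⟩ := mem_zpowers_iff.1 (e.conj_mem _ (mem_zpowers _) ⟨g, hg⟩)
      exact mem_normalizer_zpowers_of_conj_mem ⟨k, congrArg Subtype.val hk⟩
  have h3 := LiesOver.charDegree_eq (f := L.subtype) (χ := χ) h1
  have h4 := h.deg
  have h5 := χ.charDegree_pos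
  rw [hχ.eq_irr_of_charDegree_le ψ h1 (by
    rw [charDegree_comp]
    generalize ipNat (χ.1 ∘ L.subtype) ψ.1 * (inertia L.subtype ψ).index = m at h3
    obtain rfl | rfl | ⟨m, rfl⟩ : m = 0 ∨ m = 1 ∨ ∃ k, m = k + 2 := by
      rcases m with _ | _ | m <;> simp
    · omega
    · omega
    · rw [add_mul] at h3
      omega)]
  exact ψ.2

theorem subgroup (L : Subgroup G) [L.Normal] (hL : (P : Subgroup G) ≤ L) :
    SmallDeg p (P.subtype hL) ⟨_, h.isIrr_comp L hL⟩ := by
  exact ⟨(Nat.card_congr (subgroupOfEquivOfLe hL).toEquiv).trans h.card, h.five,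
    fun e => h.not_le_normalizer L hL ((normal_subgroupOf_iff_le_normalizer hL).1 e),
    by rw [χ.isCharacter.charKer_comp, h.faith, MonoidHom.comap_bot, ker_subtype],
    (charDegree_comp χ.1 L.subtype).symm ▸ h.deg⟩

/-- (A1) -/
theorem le_center (K : Subgroup G) [K.Normal] (hK : ¬ p ∣ Nat.card K) : K ≤ center G := by
  have h1 : (P : Subgroup G) ≤ K ⊔ P := le_sup_right
  have h2 : IsPSolvable p (K ⊔ P : Subgroup G) :=
    .of_normal_of_quotient (N := K.subgroupOf _) (isPSolvable_of_not_dvd (by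
      rwa [Nat.card_congr (subgroupOfEquivOfLe le_sup_left).toEquiv]))
      (isPSolvable_of_isPGroup (IsPGroup.of_card_dvd_pow (n := 1) (by
        change K.relIndex _ ∣ _
        rw [relIndex_sup_left, pow_one]
        exact (relIndex_dvd_card _ _).trans h.card.dvd)))
  have h3 : K ⊔ P ≤ N(P) := (normal_subgroupOf_iff_le_normalizer h1).1 (by_contra fun e => by
    have := (Agent.S4468.result _ (χ.isCharacter.comp (K ⊔ P : Subgroup G).subtype)
      (fun g hg => Subtype.ext (h.eq_one _ hg)) _ (charDegree_comp _ _) p hp.out h2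
      (by have := h.deg; omega) (P.subtype h1) e).1
    have := h.deg
    omega)
  have h4 : normalClosure ((P : Subgroup G) : Set G) ≤ C(K) := normalClosure_le_normal
    fun x hx k hk => by
      have h5 : k * x * k⁻¹ * x⁻¹ ∈ (P : Subgroup G) ⊓ K :=
        ⟨mul_mem ((mem_normalizer_iff.mp (h3 (mem_sup_left hk)) x).mp hx) ((P : Subgroup G).inv_mem hx), by
          rw [mul_assoc, mul_assoc, ← mul_assoc x]
          exact K.mul_mem hk (Normal.conj_mem inferInstance _ (K.inv_mem hk) x)⟩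
      rwa [inf_eq_bot_of_isPGroup_of_not_dvd P.isPGroup' hK, mem_bot, mul_inv_eq_one,
        mul_inv_eq_iff_eq_mul] at h5
  have h5 := h.isIrr_comp _ le_normalClosure
  intro k hk
  refine χ.isCharacter.charCenter_le_center_of_faithful h.faith ?_
  obtain ⟨n, ρ, hρ⟩ := χ.isCharacter
  rw [← hρ] at h5 ⊢
  rw [mem_charCenter_character]
  exact rep_exists_eq_smul_of_commute (ρ.comp (Subgroup.subtype _))
    (rep_isIrreducible_of_isIrrCharacter h5) _ fun g => by
      change ρ k * ρ g = ρ g * ρ k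
      rw [← map_mul, ← map_mul, h4 g.2 k hk]

theorem local_aux [Fintype (P : Subgroup G)] :
    (2 * charDegree χ.1 + 1 = p ∧ ∀ x ∈ (P : Subgroup G), x ≠ 1 → DicksonData p x) ∨
    (charDegree χ.1 + (C(P)).relIndex N(P) = p ∧ (∀ y ∈ C(P), IsPRegular p y → y ∈ center G) ∧
      ∃ lam : (P : Subgroup G) →* ℂˣ, lam ≠ 1 ∧ ∀ u : (P : Subgroup G), u ≠ 1 →
        χ u = -osum (autOf (P : Subgroup G).subtype N(P)) lam u) := by
  have h0 := h.deg
  have hv := χ.val_prime P h.card (Nat.not_dvd_of_pos_of_lt χ.charDegree_pos (by omega))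
  refine (IrrCharacter.small_local (P : Subgroup G) h.card h.nn χ h.faith h.deg hv).imp_left ?_
  rintro ⟨h1, ⟨k, h2⟩, T, mu, h3, h4, h5⟩
  have h6 : ∀ x ∈ (P : Subgroup G), x ≠ 1 → DicksonData p x := fun x hx hx1 => by
    obtain ⟨M, hM⟩ := exists_isPModular hp.out
    have := hM.charP
    have ho := h.orderOf_eq hx hx1
    obtain ⟨φ, h7, h8⟩ := χ.isCharacter.exists_ibr_rep_ne_one hM h.eq_one ho h.not_sq_dvd
      (h.zpowers_eq hx hx1 ▸ h.nn)
    refine (dickson_of_nilp ho h.not_sq_dvd φ.rep φ.rep_isIrreducible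
      (χ.isCharacter.rep_sub_one_pow_eq_zero hM h7 ho (ε := fun i => mu i ⟨x, hx⟩)
      (T.image fun nu => nu ⟨x, hx⟩) (fun t ht => ?_)
      (fun i => Finset.mem_image_of_mem _ (h4 i)) fun k => ?_) ?_ h8).2
    · obtain ⟨nu, -, rfl⟩ := Finset.mem_image.1 ht
      rw [← Units.val_pow_eq_pow_val, ← map_pow, show (⟨x, hx⟩ : (P : Subgroup G)) ^ p = 1 from
        Subtype.ext ((congrArg (x ^ ·) ho).symm.trans (pow_orderOf_eq_one x)), map_one,
        Units.val_one]
    · exact (h5 (⟨x, hx⟩ ^ k)).trans (Finset.sum_congr rfl fun i _ => by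
        rw [map_pow, Units.val_pow_eq_pow_val])
    · have := Finset.card_image_le (s := T) (f := fun nu => (nu ⟨x, hx⟩ : ℂ))
      omega
  refine ⟨?_, h6⟩
  obtain ⟨x, hx, hx1⟩ := h.exists_ne_one
  have h7 := h.le_two_mul_relIndex hx hx1 (h6 x hx hx1)
  have h8 := χ.charDegree_pos
  rcases k with _ | _ | k
  · omega
  · omega
  · rw [mul_add, mul_add] at h2
    omega

theorem eq_center_of_selfCent {x : G} (hx : x ∈ (P : Subgroup G)) (hx1 : x ≠ 1) {K : Subgroup G}
    [K.Normal] (hS : SelfCent p (x : G ⧸ K)) :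
    K = center G ∧ ∀ y ∈ C(P), IsPRegular p y → y ∈ K := by
  have h1 : ∀ y ∈ C(P), IsPRegular p y → y ∈ K := fun y hy hy' => by
    rw [← QuotientGroup.eq_one_iff]
    refine IsPElt.eq_one_of_isPRegular (p := p) (isPElt_of_mem hS.isPGroup ?_)
      (hy'.map (QuotientGroup.mk' K))
    rw [← hS.cent, mem_centralizer_singleton_iff]
    exact congrArg (QuotientGroup.mk' K) (hy x hx).symm
  refine ⟨le_antisymm (h.le_center K (normalizer_zpowers_quot (h.orderOf_eq hx hx1) h.not_sq_dvd
    hS.order).1) fun z hz => h1 z (center_le_centralizer _ hz) fun e => ?_, h1⟩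
  obtain ⟨t, ht⟩ := (isPElt_pPart p z).exists_conj_mem P
  have h2 := pPart_mem p hz
  rw [mem_center_iff.1 h2, mul_inv_cancel_right] at ht
  exact h.nn (normal_of_le_center (h.zpowers_eq ht (fun e' => pPart_eq_one_iff.1 e' e) ▸
    zpowers_le.2 h2))

/-- (A2) -/
theorem cent {y : G} (hy : y ∈ C(P)) (hy' : IsPRegular p y) : y ∈ center G := by
  let _ := Fintype.ofFinite (P : Subgroup G)
  rcases h.local_aux with ⟨-, h1⟩ | ⟨-, h1, -⟩
  · obtain ⟨x, hx, hx1⟩ := h.exists_ne_one
    obtain ⟨K, _, hS, -⟩ := h1 x hx hx1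
    obtain ⟨h2, h3⟩ := h.eq_center_of_selfCent hx hx1 hS
    exact h2 ▸ h3 y hy hy'
  · exact h1 y hy hy'

/-- (A5) -/
theorem dichotomy [Fintype (P : Subgroup G)] :
    (2 * charDegree χ.1 + 1 = p ∧ ∀ x ∈ (P : Subgroup G), x ≠ 1 → DicksonData p x) ∨
    (charDegree χ.1 + (C(P)).relIndex N(P) = p ∧ ∃ lam : (P : Subgroup G) →* ℂˣ, lam ≠ 1 ∧
      ∀ u : (P : Subgroup G), u ≠ 1 →
        χ u = -osum (autOf (P : Subgroup G).subtype N(P)) lam u) := by
  exact h.local_aux.imp_right fun h => ⟨h.1, h.2.2⟩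

theorem le_relIndex : 2 * charDegree χ.1 + 1 = p ∧ (C(P)).relIndex N(P) = charDegree χ.1 ∨
    charDegree χ.1 + (C(P)).relIndex N(P) = p := by
  let _ := Fintype.ofFinite (P : Subgroup G)
  refine h.dichotomy.imp (fun h1 => ⟨h1.1, ?_⟩) fun h1 => h1.1
  obtain ⟨x, hx, hx1⟩ := h.exists_ne_one
  have := h.le_two_mul_relIndex hx hx1 (h1.2 x hx hx1)
  have := h.relIndex_le
  omega

theorem le_commutator : (P : Subgroup G) ≤ commutator G := by
  by_contra h3
  have h1 : (C(P)).relIndex N(P) = 1 := relIndex_eq_one.2 fun n hn u hu => by_contra fun h4 =>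
    h3 (by
      rw [← h.zpowers_eq (x := ⁅n, u⁆) (mul_mem ((mem_normalizer_iff.1 hn u).1 hu) (inv_mem hu))
        fun e => h4 (commutatorElement_eq_one_iff_mul_comm.1 e).symm, zpowers_le]
      exact commutator_mem_commutator trivial trivial)
  have := h.le_relIndex
  have := h.five
  have := h.deg
  omega

theorem centralizer_le {H : Subgroup G} (h1 : (P : Subgroup G) ≤ H) (h2 : center G ≤ H) :
    C(P) ≤ H := fun c hc => by
  rw [← pPart_mul_pPrimePart p c]
  exact mul_mem (h1 (((isPElt_iff_isPGroup_zpowers.1 (isPElt_pPart p c)).inf_normalizer_sylow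
    P).le ⟨mem_zpowers _, centralizer_le_normalizer _ (pPart_mem p hc)⟩).2)
    (h2 (h.cent (pPrimePart_mem p hc) (isPRegular_pPrimePart p c)))

theorem relIndex_subgroup (L : Subgroup G) [L.Normal] (hL : (P : Subgroup G) ≤ L) :
    (C(P)).relIndex (N(P) ⊓ L) = (C(P)).relIndex N(P) := by
  have h1 := (h.subgroup L hL).le_relIndex
  have h2 := (h.subgroup L hL).relIndex_le
  have h3 := h.le_relIndex
  have h4 := h.relIndex_le
  rw [Sylow.coe_subtype, centralizer_subgroupOf hL, ← subgroupOf_normalizer_eq hL,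
    ← inf_subgroupOf_right N(P), relIndex_subgroupOf inf_le_right, charDegree_comp] at h1 h2
  omega

/-- (A5), last part: `G / Z(G)` is perfect. -/
theorem sup_center : commutator G ⊔ center G = ⊤ := by
  have h4 : (P : Subgroup G) ≤ commutator G ⊔ center G := h.le_commutator.trans le_sup_left
  have h5 := relIndex_mul_relIndex _ _ N(P) (le_inf (centralizer_le_normalizer _)
    (h.centralizer_le h4 le_sup_right)) inf_le_left
  rw [h.relIndex_subgroup _ h4, Nat.mul_eq_left (relIndex_pos _ _).ne', relIndex_eq_one] at h5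
  rw [← P.normalizer_sup_eq_top' h4, right_eq_sup]
  exact h5.trans inf_le_right

theorem linear_eq_one (f : G →* ℂˣ) (hf : ∀ z ∈ center G, f z = 1) : f = 1 := by
  rw [← MonoidHom.ker_eq_top_iff, eq_top_iff, ← h.sup_center]
  exact sup_le (Abelianization.commutator_subset_ker f) hf

/-- (A3) -/
theorem psl_of_dickson {x : G} (hx : x ∈ (P : Subgroup G)) (hx1 : x ≠ 1) (hD : DicksonData p x) :
    Nonempty (G ⧸ center G ≃* Matrix.ProjectiveSpecialLinearGroup (Fin 2) (ZMod p)) ∧
      2 * (C(P)).relIndex N(P) + 1 = p ∧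
      (2 * charDegree χ.1 = p + 1 ∨ 2 * charDegree χ.1 = p - 1) := by
  have h1 := h.le_two_mul_relIndex hx hx1 hD
  obtain ⟨K, _, hS, hD, h2⟩ := hD
  obtain ⟨hK, -⟩ := h.eq_center_of_selfCent hx hx1 hS
  have h3 := Nat.le_of_dvd (relIndex_pos _ _)
    (hS.relIndex_quot_dvd (h.orderOf_eq hx hx1) h.not_sq_dvd)
  rw [h.centralizer_eq hx hx1, h.zpowers_eq hx hx1] at h3
  have h4 := h.le_relIndex
  have h5 := h.relIndex_le
  have h6 := h.five
  have h7 := h.deg
  have h8 : 2 * (C(P)).relIndex N(P) + 1 = p := by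
    have : IsCyclic P := isCyclic_of_prime_card h.card
    have h9 := (autOf (P : Subgroup G).subtype N(P)).card_subgroup_dvd_card
    rw [IsCyclic.card_mulAut, h.card, Nat.totient_prime hp.out, card_autOf_subtype le_rfl] at h9
    obtain ⟨t, ht⟩ := h9
    rcases t with _ | _ | t
    · omega
    · omega
    · rw [mul_add, mul_add] at ht
      omega
  refine ⟨?_, h8, by omega⟩
  have hSyl : Nat.card (Sylow p (G ⧸ K)) = p + 1 := by
    rw [hS.sylow.card_eq_index_normalizer]; exact hD
  obtain ⟨φ⟩ := nonempty_quotient_equiv_psl hS.sylow hS.card_zpowers h8.symm hSyl ⊥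
    (fun g => ⟨fun h Q => by rw [mem_bot.mp h, one_smul], fun h => by
      set K' := (MulAction.toPermHom (G ⧸ K) (Sylow p (G ⧸ K))).ker
      have h4 : ∀ g, g ∈ K' ↔ ∀ Q : Sylow p (G ⧸ K), g • Q = Q := fun g => by
        simp [K', Equiv.ext_iff]
      have h5 : ¬ p ∣ Nat.card K' := fun h => by
        have h6 := (h4 _).mp (hS.le_of_dvd h (mem_zpowers _))
        haveI : Subsingleton (Sylow p (G ⧸ K)) := ⟨fun Q Q' =>
          (Sylow.eq_of_smul_eq_of_card hS.sylow hS.card_zpowers (mem_zpowers _) hS.ne_one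
            (h6 Q)).trans (Sylow.eq_of_smul_eq_of_card hS.sylow hS.card_zpowers (mem_zpowers _)
            hS.ne_one (h6 Q')).symm⟩
        have := Finite.card_le_one_iff_subsingleton.mpr this
        omega
      rw [← hS.inf_normalizer_eq_bot h5 le_normalizer_of_normal]
      exact ⟨(h4 g).mpr h, Sylow.smul_eq_iff_mem_normalizer.mp (h hS.sylow)⟩⟩)
    (by
      rw [index_bot, ← index_mul_card (normalizer ((zpowers (x : G ⧸ K) : Subgroup _) : Set _)), hD,
        mul_assoc, ← card_mul_relIndex (le_normalizer (H := zpowers (x : G ⧸ K))), hS.card_zpowers]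
      congr 2
      omega)
    (by
      rw [sup_bot_eq, eq_top_iff, ← map_top_of_surjective _ (QuotientGroup.mk'_surjective K),
        ← h.sup_center, Subgroup.map_sup, ← hK, QuotientGroup.map_mk'_self, sup_bot_eq,
        _root_.commutator_def, map_commutator]
      exact commutator_mono le_top le_top)
  exact ⟨((QuotientGroup.quotientMulEquivOfEq hK.symm).trans
    QuotientGroup.quotientBot.symm).trans φ⟩

end SmallDeg

end Cfsg

set_option linter.all false in
theorem Cfsg.Rz.Blk_PrimeRed_0 : True := by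
  have := @_root_.Cfsg.SmallDeg.mk.congr_simp.{0}
  have := @_root_.Cfsg.DicksonData.eq_def.{0}
  have := @_root_.Cfsg.DicksonData.eq_1.{0}
  have := @_root_.Cfsg.DicksonData.fun_cases
  have := @_root_.Cfsg.SmallDeg.congr_simp.{0}
  trivial
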