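import Cfsg.Agent.Blk.PmTwoC
import Cfsg.Agent.Char.BrauerDeg

/-!
# Faithful characters of degree at most `p - 2`: modular and numerical preliminaries
-/

set_option autoImplicit false
set_option linter.unusedSectionVars false
set_option linter.unusedVariables false
set_option linter.style.haveILetI false

namespace Cfsg

open Exc Subgroup
open scoped ComplexConjugate Classical MatrixGroups commutatorElement

universe u v w

variable {G : Type u} [Group G] [Finite G] {p : ℕ} [hp : Fact p.Prime] {M : Ideal AlgInt}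

local notation "C(" Q ")" => Subgroup.centralizer ((Q : Subgroup G) : Set G)
local notation "N(" Q ")" => Subgroup.normalizer ((Q : Subgroup G) : Set G)

theorem IBr.asAlgebraHom_eq_zero_of_decNum (hM : IsPModular p M) {V : Type w} [AddCommGroup V]
    [Module (ResK M) V] [FiniteDimensional (ResK M) V] (ρ : Representation (ResK M) G V)
    {φ : IBr p M G} (h : decNum (brauerChar p M ρ) φ ≠ 0) {a : MonoidAlgebra (ResK M) G}
    (ha : ρ.asAlgebraHom a = 0) : φ.rep.asAlgebraHom a = 0 := by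
  refine trace_form_nondeg fun b => ?_
  obtain ⟨b, rfl⟩ := asAlgebraHom_surjective φ.rep_isIrreducible b
  rw [← map_mul]
  exact (LinearMap.isNilpotent_trace_of_isNilpotent (IBr.isNilpotent_of_decNum_ne_zero hM ρ h
    (by rw [map_mul, ha, zero_mul]; exact IsNilpotent.zero))).eq_zero

theorem IsCharacter.exists_ibr_rep_ne_one (hM : IsPModular p M) {χ : G → ℂ} (hχ : IsCharacter G χ)
    (hf : ∀ g, χ g = χ 1 → g = 1) {x : G} (hx : orderOf x = p)
    (hsq : ¬ p ^ 2 ∣ Nat.card G) (hnn : ¬ (zpowers x).Normal) :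
    ∃ φ : IBr p M G, decNum χ φ ≠ 0 ∧ φ.rep x ≠ 1 := by
  by_contra h
  push Not at h
  set L := normalClosure ({x} : Set G)
  have hxL : x ∈ L := subset_normalClosure rfl
  refine hnn (normal_zpowers_of_le_normalizer hx hsq hxL fun g hg => ?_)
  have h2 : IsPGroup p L := isPGroup_iff_forall_isPElt.mpr fun g hg => by
    rw [← pPrimePart_eq_one_iff]
    refine hf _ ?_
    rw [hχ.apply_eq_sum_decNum hM (isPRegular_pPrimePart p g),
      hχ.apply_eq_sum_decNum hM isPRegular_one]
    refine Finset.sum_congr rfl fun φ _ => ?_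
    by_cases hφ : decNum χ φ = 0
    · simp [hφ]
    have h2 : L ≤ φ.rep.ker := normalClosure_le_normal (by rintro _ rfl; exact h φ hφ)
    have h3 : φ.rep (pPrimePart p g) = 1 := h2 (pPrimePart_mem p hg)
    congr 1
    rw [← φ.brauerChar_rep, brauerChar_of_reg _ (isPRegular_pPrimePart p g),
      brauerChar_of_reg _ isPRegular_one, h3, map_one]
  obtain ⟨n, hn⟩ := h2.exists_card_eq
  have hn1 : n ≤ 1 := by
    by_contra hk2
    exact hsq (((pow_dvd_pow p (by omega)).trans hn.symm.dvd).trans (card_subgroup_dvd_card _))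
  refine le_normalizer ((eq_of_le_of_card_ge (zpowers_le.mpr hxL) ?_).ge hg)
  rw [hn, Nat.card_zpowers, hx]
  exact (Nat.pow_le_pow_right hp.out.pos hn1).trans (pow_one p).le

open Polynomial in
theorem IsCharacter.rep_sub_one_pow_eq_zero (hM : IsPModular p M) {χ : G → ℂ}
    (hχ : IsCharacter G χ) {φ : IBr p M G} (h : decNum χ φ ≠ 0) {x : G} (hx : orderOf x = p)
    {ι : Type*} [Fintype ι] {ε : ι → ℂ} (T : Finset ℂ) (hT : ∀ t ∈ T, t ^ p = 1)
    (hε : ∀ i, ε i ∈ T) (he : ∀ k : ℕ, χ (x ^ k) = ∑ i, ε i ^ k) :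
    (φ.rep x - 1) ^ T.card = 0 := by
  have := hM.charP
  obtain ⟨n, R, rfl⟩ := hχ.exists_latC (M := M)
  let c : T → locO M := fun t => ⟨t, mem_locO_of_pow_eq_one hp.out.ne_zero (hT t t.2)⟩
  let q : (locO M)[X] := ∏ t : T, (X - C (c t))
  have hm : ∀ {L : Type} [CommRing L] (f : locO M →+* L),
      aeval (matRep (matMap R f) x) (q.map f) = Matrix.toLin' ((aeval (R x) q).map f) := by
    intro L _ f
    have := map_aeval_eq_aeval_map (φ := f) (ψ := f.mapMatrix (m := Fin n)) (by
      ext a i j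
      by_cases hij : i = j <;> simp [Matrix.algebraMap_matrix_apply, hij]) q (R x)
    rw [RingHom.mapMatrix_apply] at this
    rw [this]
    exact (aeval_algHom_apply (Matrix.toLinAlgEquiv' (R := L) (n := Fin n)).toAlgHom _ _)
  have h1 : aeval (R x) q = 0 := by
    obtain ⟨b, δ, h2, h3⟩ := rep_exists_eigenbasis (latC R) x
    have h4 := roots_card_eq_of_power_sums hp.out.ne_zero (hx ▸ h2) (fun i => hT _ (hε i))
      fun k => (trace_eq_sum_of_eigenbasis b fun i => by
        rw [map_pow]; exact pow_apply_of_apply_eq_smul (h3 i) k).symm.trans (he k)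
    have h5 : aeval (latC R x) (q.map (locO M).subtype) = 0 := b.ext fun i => by
      obtain ⟨j, -, hj⟩ := Multiset.mem_map.1 (h4 ▸ Multiset.mem_map_of_mem δ (Finset.mem_univ i))
      rw [Module.End.aeval_apply_of_mem_apply_eq_smul (h3 i), Polynomial.map_prod, eval_prod,
        Finset.prod_eq_zero (Finset.mem_univ (⟨_, hε j⟩ : T)) (by simp [c, hj]), zero_smul,
        LinearMap.zero_apply]
    rw [hm, map_eq_zero_iff _ Matrix.toLin'.injective] at h5
    ext i j
    exact congrFun (congrFun h5 i) j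
  have h2 : q.map (IsLocalRing.residue (locO M)) = (X - 1) ^ T.card := by
    rw [Polynomial.map_prod, Finset.prod_congr rfl (g := fun _ => X - 1), Finset.prod_const,
      Finset.card_univ, Fintype.card_coe]
    intro t _
    have h3 : IsLocalRing.residue (locO M) (c t) = 1 := by
      have : c t ^ p = 1 := Subtype.ext (hT t t.2)
      rw [← sub_eq_zero, ← pow_eq_zero_iff hp.out.ne_zero, sub_pow_char, ← map_pow, this]
      simp
    simp [h3]
  have h3 := hm (IsLocalRing.residue (locO M))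
  rw [h1, h2] at h3
  have h4 := IBr.asAlgebraHom_eq_zero_of_decNum hM (latK R) (φ := φ)
    (by rwa [brauerChar_latK hM, decNum_pRegularPart])
    (a := (MonoidAlgebra.of _ G x - 1) ^ T.card) (by simpa using h3)
  simpa using h4

theorem IsCharacter.exists_large_constituent {χ : G → ℂ} (hχ : IsCharacter G χ)
    (hf : ∀ g, χ g = χ 1 → g = 1) {x : G} (hx : orderOf x = p) (hsq : ¬ p ^ 2 ∣ Nat.card G)
    (hnn : ¬ (zpowers x).Normal) :
    ∃ ψ : IrrCharacter G, ip χ ψ.1 ≠ 0 ∧ p ≤ 2 * charDegree ψ.1 + 1 := by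
  obtain ⟨ψ, hψ, hψn⟩ : ∃ ψ : IrrCharacter G, ip χ ψ.1 ≠ 0 ∧
      ¬ (zpowers (x : G ⧸ charKer ψ.1)).Normal := by
    by_contra h
    push Not at h
    refine hnn (normalizer_eq_top_iff.1 (eq_top_iff.2 fun g _ => ?_))
    refine mem_normalizer_zpowers_of_conj_mem (mem_zpowers_of_isPElt_of_mem_normalizer hx hsq
      (isPElt_conj_iff.mpr ⟨1, hx.trans (pow_one p).symm⟩) ?_)
    have h4 : (g * x * g⁻¹) * x * (g * x * g⁻¹)⁻¹ * x⁻¹ ∈ charKer χ := by
      refine hχ.mem_charKer_iff_forall.mpr fun ψ hψ => ?_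
      obtain ⟨n, hn⟩ := mem_zpowers_iff.mp ((h ψ hψ).conj_mem _ (mem_zpowers _) g)
      rw [← QuotientGroup.eq_one_iff]
      simp only [QuotientGroup.mk_mul, QuotientGroup.mk_inv, ← hn]
      group
    refine mem_normalizer_zpowers_of_conj_mem ?_
    rw [mul_inv_eq_one.mp (hf _ (hχ.mem_charKer.mp h4))]
    exact mem_zpowers x
  obtain ⟨ψ', h4, h5⟩ := ψ.exists_faithful_quotient
  have h6 : orderOf (x : G ⧸ charKer ψ.1) = p := by
    refine ((Nat.dvd_prime hp.out).mp (hx ▸ orderOf_map_dvd (QuotientGroup.mk' _) x)).resolve_left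
      fun h => hψn ?_
    rw [show (x : G ⧸ charKer ψ.1) = 1 from orderOf_eq_one_iff.mp h, zpowers_one_eq_bot]
    infer_instance
  have h7 := ψ'.isCharacter.le_two_mul_charDegree_add_one
    (ψ'.isCharacter.charKer_eq_bot_iff.mp h5) h6
    (fun h => hsq (h.trans (card_quotient_dvd_card _))) hψn
  exact ⟨ψ, hψ, by rwa [← h4, charDegree_comp]⟩

theorem small_numeric {p d f n k : ℕ} {s : ℤ} (hd : d + 2 ≤ p) (hf : f ∣ p - 1) (hk : 0 < k)
    (hs : s = 1 ∨ s = -1) (h0 : 0 ≤ n + s * k) (h : (p : ℤ) * n + s * k * f = d) :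
    (n = 0 ∧ 2 * f + 1 ≤ p ∧ d = k * f) ∨ n = d ∨ (s = -1 ∧ n = 1 ∧ k = 1 ∧ d + f = p) := by
  obtain ⟨t, ht⟩ := hf
  have ht0 : t ≠ 0 := fun e => by simp [e] at ht; omega
  have hf2 : t = 1 ∨ 2 * f + 1 ≤ p := or_iff_not_imp_left.2 fun e => by
    have := Nat.mul_le_mul_left f (show 2 ≤ t by omega)
    omega
  rcases hs with rfl | rfl
  · have h1 : p * n + k * f = d := by zify; linear_combination h
    have hn : n = 0 := by
      by_contra hn
      have := Nat.mul_le_mul_left p (Nat.one_le_iff_ne_zero.2 hn)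
      omega
    subst hn
    refine Or.inl ⟨rfl, hf2.resolve_left fun e => ?_, by omega⟩
    have := Nat.mul_le_mul_right f hk
    subst e
    omega
  · obtain ⟨r, rfl⟩ : ∃ r, n = k + r := ⟨n - k, by omega⟩
    have hf : f ≤ p - 1 := ht ▸ Nat.le_mul_of_pos_right _ (Nat.pos_of_ne_zero ht0)
    obtain ⟨e, he⟩ : ∃ e, p = f + e := ⟨p - f, by omega⟩
    have h1 : p * r + k * e = d := by
      have : (p : ℤ) = f + e := by exact_mod_cast he
      push_cast at h
      zify
      linear_combination h - k * this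
    have hr : r = 0 := by
      by_contra hn
      have := Nat.mul_le_mul_left p (Nat.one_le_iff_ne_zero.2 hn)
      omega
    subst hr
    rcases hf2 with rfl | h2
    · obtain rfl : e = 1 := by omega
      omega
    · have hk1 : k = 1 := by
        by_contra hn
        have := Nat.mul_le_mul_right e (show 2 ≤ k by omega)
        omega
      subst hk1
      omega

theorem IrrCharacter.small_local (P : Subgroup G) [Fintype P] (hP : Nat.card P = p)
    (hnn : ¬ P.Normal) (ζ : IrrCharacter G) (hf : charKer ζ.1 = ⊥) (hd : charDegree ζ.1 + 2 ≤ p)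
    (hv : (∃ c : ℂ, ∀ u : P, u ≠ 1 → ζ u = c) ∨ ∃ (lam : P →* ℂˣ) (s : ℤ) (k : ℕ), lam ≠ 1 ∧
      (s = 1 ∨ s = -1) ∧ 0 < k ∧
      (∀ u : P, u ≠ 1 → ζ u = s * k * osum (autOf P.subtype N(P)) lam u) ∧
      ∀ y ∈ C(P), IsPRegular p y → ∀ mu, ¬ Orb (autOf P.subtype N(P)) lam mu →
        coef (fun u : P => ζ (u * y)) mu = 0) :
    (2 * (C(P)).relIndex N(P) + 1 ≤ p ∧ (C(P)).relIndex N(P) ∣ charDegree ζ.1 ∧
      ∃ (T : Finset (P →* ℂˣ)) (mu : Fin (charDegree ζ.1) → (P →* ℂˣ)),
        T.card = (C(P)).relIndex N(P) ∧ (∀ i, mu i ∈ T) ∧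
        ∀ u : P, ζ u = ∑ i, ((mu i u : ℂˣ) : ℂ)) ∨
    (charDegree ζ.1 + (C(P)).relIndex N(P) = p ∧ (∀ y ∈ C(P), IsPRegular p y → y ∈ center G) ∧
      ∃ lam : P →* ℂˣ, lam ≠ 1 ∧
        ∀ u : P, u ≠ 1 → ζ u = -osum (autOf P.subtype N(P)) lam u) := by
  have : IsCyclic P := isCyclic_of_prime_card hP
  have hA : ∀ a b : P, a * b = b * a := fun a b => mul_comm' a b
  let _ := Fintype.ofFinite (P →* ℂˣ)
  have hc : Fintype.card (P →* ℂˣ) = p := by
    rw [← Nat.card_eq_fintype_card, card_linear_of_comm hA, hP]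
  have : Nontrivial P := Finite.one_lt_card_iff_nontrivial.1 (hP.symm ▸ hp.out.one_lt)
  obtain ⟨u, hu⟩ := exists_ne (1 : P)
  have hu' : (u : G) ≠ 1 := fun e => hu (Subtype.ext e)
  have hcen : ∀ g, ‖ζ g‖ = charDegree ζ.1 → g ∈ center G := fun g hg =>
    ζ.isCharacter.charCenter_le_center_of_faithful hf (ζ.mem_charCenter.2 hg)
  have hconst : ∀ (mu : Fin (charDegree ζ.1) → (P →* ℂˣ)),
      (∀ u : P, ζ u = ∑ i, ((mu i u : ℂˣ) : ℂ)) → (∀ i, mu i = 1) → False := by
    intro mu h1 h2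
    refine hnn (normal_of_le_center ?_)
    rw [← zpowers_eq_of_card_eq_prime hP u.2 hu', zpowers_le]
    refine hcen _ ?_
    simp [h1, h2]
  have hsum : ∀ mu : Fin (charDegree ζ.1) → (P →* ℂˣ),
      ∑ lam, (Finset.univ.filter fun i => mu i = lam).card = charDegree ζ.1 := fun mu => by
    rw [← Finset.card_eq_sum_card_fiberwise (fun _ _ => Finset.mem_univ _), Finset.card_univ,
      Fintype.card_fin]
  have hcoef : ∀ mu : Fin (charDegree ζ.1) → (P →* ℂˣ),
      (∀ u : P, ζ u = ∑ i, ((mu i u : ℂˣ) : ℂ)) → ∀ lam, coef (fun u : P => ζ u) lam =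
      ((Finset.univ.filter fun i => mu i = lam).card : ℂ) -
        (Finset.univ.filter fun i => mu i = 1).card := fun mu h1 lam => by
    have := coef_sum_linear mu (fun _ => 1) lam
    simp only [one_mul, Finset.sum_const, nsmul_eq_mul, mul_one] at this
    rw [funext h1]
    convert this
  have hpos : ∀ (mu : Fin (charDegree ζ.1) → (P →* ℂˣ)) i,
      0 < (Finset.univ.filter fun j => mu j = mu i).card := fun mu i =>
    Finset.card_pos.2 ⟨i, by simp⟩
  rcases hv with ⟨c, h⟩ | ⟨lam, s, k, hl, hs, hk, h, hy⟩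
  · obtain ⟨mu, -, -, h1, -⟩ := ζ.isCharacter.exists_linear_decomp P (one_mem _)
    refine (hconst mu h1 fun i => by_contra fun hi => ?_).elim
    have h2 : ∀ lam, lam ≠ 1 → 1 ≤ (Finset.univ.filter fun i => mu i = lam).card := by
      intro lam hl
      have h3 := hcoef mu h1 lam
      have h4 := hcoef mu h1 (mu i)
      rw [coef_congr h, coef_const c hl] at h3
      rw [coef_congr h, coef_const c hi, h3, sub_left_inj, Nat.cast_inj] at h4
      exact h4 ▸ hpos mu i
    have h3 := hsum mu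
    rw [← Finset.add_sum_erase _ _ (Finset.mem_univ 1)] at h3
    have h4 := Finset.card_nsmul_le_sum _ _ _ fun lam (hl : lam ∈ Finset.univ.erase 1) =>
      h2 lam (Finset.ne_of_mem_erase hl)
    rw [Finset.card_erase_of_mem (Finset.mem_univ _), Finset.card_univ, hc, smul_eq_mul] at h4
    omega
  rw [← card_autOf_subtype le_rfl]
  set E := autOf P.subtype N(P)
  have hE := (isFree_of_card_eq_prime hP E).card_orb hA hl
  have key : ∀ mu : Fin (charDegree ζ.1) → (P →* ℂˣ),
      (∀ u : P, ζ u = ∑ i, ((mu i u : ℂˣ) : ℂ)) →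
      (2 * Nat.card E + 1 ≤ p ∧ charDegree ζ.1 = k * Nat.card E ∧ ∀ i, Orb E lam (mu i)) ∨
      (s = -1 ∧ k = 1 ∧ charDegree ζ.1 + Nat.card E = p ∧
      ∀ nu, (Finset.univ.filter fun i => mu i = nu).card = if Orb E lam nu then 0 else 1) := by
    intro mu h1
    have h2 : ∀ nu, ((Finset.univ.filter fun i => mu i = nu).card : ℤ) =
        (Finset.univ.filter fun i => mu i = 1).card + s * k * if Orb E lam nu then 1 else 0 := by
      intro nu
      have h3 := hcoef mu h1 nu
      rw [coef_congr h, coef_mul, coef_osum hl] at h3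
      apply Int.cast_injective (α := ℂ)
      push_cast
      linear_combination -h3
    have h3 := congrArg (Nat.cast : ℕ → ℤ) (hsum mu)
    rw [Nat.cast_sum, Finset.sum_congr rfl fun nu _ => h2 nu, Finset.sum_add_distrib,
      ← Finset.mul_sum, Finset.sum_boole, hE, Finset.sum_const, Finset.card_univ, hc,
      nsmul_eq_mul] at h3
    have h4 := h2 lam
    rw [if_pos (Orb.refl lam), mul_one] at h4
    have h5 : Nat.card E ∣ p - 1 := by
      have := E.card_subgroup_dvd_card
      rwa [IsCyclic.card_mulAut, hP, Nat.totient_prime hp.out] at this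
    rcases small_numeric hd h5 hk hs (h4 ▸ Nat.cast_nonneg _) h3 with ⟨h6, h7, h8⟩ | h6 |
      ⟨rfl, h6, rfl, h7⟩
    · refine Or.inl ⟨h7, h8, fun i => by_contra fun h10 => ?_⟩
      have h8 := h2 (mu i)
      have h9 := hpos mu i
      rw [if_neg h10] at h8
      omega
    · refine (hconst mu h1 fun i => ?_).elim
      have := Finset.eq_univ_of_card _ (h6.trans (Fintype.card_fin _).symm)
      simpa using this.ge (Finset.mem_univ i)
    · refine Or.inr ⟨rfl, rfl, h7, fun nu => ?_⟩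
      have h8 := h2 nu
      split_ifs at h8 ⊢ <;> omega
  obtain ⟨mu, -, -, h1, -⟩ := ζ.isCharacter.exists_linear_decomp P (one_mem _)
  rcases key mu h1 with ⟨h2, h3, h4⟩ | ⟨rfl, rfl, h2, -⟩
  · exact Or.inl ⟨h2, Dvd.intro_left _ h3.symm, _, mu, hE, fun i => by simpa using h4 i, h1⟩
  refine Or.inr ⟨h2, fun y hy1 hy2 => ?_, lam, hl, fun v hv => by simpa using h v hv⟩
  obtain ⟨mu, c, h3, h4, h5⟩ := ζ.isCharacter.exists_linear_decomp P hy1
  obtain ⟨-, -, -, h6⟩ := (key mu h4).resolve_left (by omega)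
  have h7 : ∀ i, ¬ Orb E lam (mu i) := fun i e => by
    have := hpos mu i
    rw [h6, if_pos e] at this
    omega
  have h8 : ∀ i, c i = ∑ j with mu j = 1, c j := fun i => by
    have h9 := hy y hy1 hy2 _ (h7 i)
    obtain ⟨j, hj⟩ := Finset.card_eq_one.1 ((h6 (mu i)).trans (if_neg (h7 i)))
    obtain rfl : i = j := Finset.mem_singleton.1 (hj ▸ by simp)
    rwa [coef_congr fun u _ => h5 u, coef_sum_linear, hj, Finset.sum_singleton, sub_eq_zero] at h9
  refine hcen y ?_
  have h9 := h5 1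
  have i : Fin (charDegree ζ.1) := ⟨0, ζ.charDegree_pos⟩
  simp only [OneMemClass.coe_one, one_mul, map_one, Units.val_one, mul_one] at h9
  rw [h9, Finset.sum_congr rfl fun j _ => (h8 j).trans (h8 i).symm]
  simp [h3]

end Cfsg
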