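import Cfsg.Agent.Blk.PrimeSimple

/-!
# Self-centralizing Sylow subgroups of order `p` with normalizer of order `2 p`
-/

set_option autoImplicit false
set_option linter.unusedSectionVars false
set_option linter.unusedVariables false
set_option linter.style.haveILetI false

namespace Cfsg

open Exc Subgroup
open scoped ComplexConjugate Classical

universe u v w

variable {G : Type u} [Group G] [Finite G] {p : ℕ} [hp : Fact p.Prime] {x : G}

local notation "C(" Q ")" => Subgroup.centralizer ((Q : Subgroup G) : Set G)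
local notation "C₁(" u ")" => Subgroup.centralizer ({u} : Set G)
local notation "N(" Q ")" => Subgroup.normalizer ((Q : Subgroup G) : Set G)

theorem eq_of_factorization_aux {p m g c : ℕ} (hp : p.Prime) (hm : p = m + 2) (hodd : Odd m)
    (hg : g ≠ 0) (hc : c ∣ g) (heq : p * c ^ 2 * m = g * (m + 1))
    (h2 : g.factorization 2 ≤ c.factorization 2) (hpc : ¬ p ∣ c)
    (hr : ∀ r, r.Prime → r ≠ 2 → r ≠ p → g.factorization r ≤ m.factorization r) :
    c = m + 1 := by
  have hc0 : c ≠ 0 := ne_zero_of_dvd_ne_zero hg hc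
  have hm0 : m ≠ 0 := hodd.pos.ne'
  refine Nat.eq_of_factorization_eq hc0 (by omega) fun r => ?_
  by_cases hr' : r.Prime
  swap
  · simp [Nat.factorization_eq_zero_of_not_prime _ hr']
  have h1 := congrArg (fun n => n.factorization r) heq
  simp only [Nat.factorization_mul (mul_ne_zero hp.ne_zero (pow_ne_zero 2 hc0)) hm0,
    Nat.factorization_mul hp.ne_zero (pow_ne_zero 2 hc0), Nat.factorization_pow,
    Nat.factorization_mul hg (show m + 1 ≠ 0 by omega), Finsupp.add_apply, Finsupp.smul_apply,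
    smul_eq_mul] at h1
  have h3 : c.factorization r ≤ g.factorization r := (Nat.factorization_le_iff_dvd hc0 hg).2 hc r
  by_cases hrp : r = p
  · subst hrp
    rw [Nat.factorization_eq_zero_of_not_dvd hpc, Nat.factorization_eq_zero_of_lt (by omega)]
  have h4 : p.factorization r = 0 := Nat.factorization_eq_zero_of_not_dvd fun a =>
    hrp ((Nat.prime_dvd_prime_iff_eq hr' hp).1 a)
  by_cases hr2 : r = 2
  · subst hr2
    have := Nat.factorization_eq_zero_of_not_dvd hodd.not_two_dvd_nat
    omega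
  have h5 := hr r hr' hr2 hrp
  by_cases h6 : r ∣ m
  · have := Nat.factorization_eq_zero_of_not_dvd (n := m + 1) (p := r) fun a =>
      hr'.one_lt.ne' (Nat.dvd_one.1 ((Nat.dvd_add_right h6).1 a))
    omega
  · have := Nat.factorization_eq_zero_of_not_dvd h6
    omega

namespace PBlk

variable {P : Subgroup G} [Fintype P] {Q : (G → ℂ) → Prop} {X Y : Finset (IrrCharacter G)}
  {ζ : (P →* ℂˣ) → IrrCharacter G} {δ : ℤ} {a : IrrCharacter G → ℤ}
  (b : PBlk p P Q X Y ζ δ a)
include b

theorem sum_P {F : G → ℂ} {c : ℂ} (hc : ∀ u : P, u ≠ 1 → F u = c) :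
    ∑ u : P, F u = F 1 + (p - 1) * c := by
  rw [← Finset.add_sum_erase _ _ (Finset.mem_univ 1), Finset.sum_congr rfl fun u hu =>
    hc u (Finset.ne_of_mem_erase hu), Finset.sum_const, Finset.card_erase_of_mem
    (Finset.mem_univ _), Finset.card_univ, ← Nat.card_eq_fintype_card, b.card,
    OneMemClass.coe_one, nsmul_eq_mul, Nat.cast_pred hp.out.pos]

theorem sum_P_const (c : ℂ) : ∑ u : P, c = p * c := by
  rw [Finset.sum_const, Finset.card_univ, ← Nat.card_eq_fintype_card, b.card, nsmul_eq_mul]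

theorem mul_self_ne_one (hp2 : p ≠ 2) {u : P} (hu : u ≠ 1) : u * u ≠ 1 := fun e =>
  hp2 ((b.orderOf_eq hu).symm.trans (orderOf_two_of_mul_self (congrArg Subtype.val e)
    fun e' => hu (Subtype.ext e')))

theorem eq_pair (hp3 : 3 < p) (hQ : Q fun _ => 1) (he : X.card = 2) {χ : IrrCharacter G}
    (hχ : χ ∈ X) (h1 : χ ≠ IrrCharacter.one G) :
    2 ≤ Y.card ∧ IrrCharacter.one G ∈ X ∧ ∀ {R : Type} [AddCommMonoid R] (F : IrrCharacter G → R),
      ∑ φ ∈ X, F φ = F (IrrCharacter.one G) + F χ := by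
  have h2 := b.cardY
  have ht : 2 ≤ Y.card := by rw [he] at h2; omega
  have h3 := b.mem_X_of_const ht (φ := IrrCharacter.one G) hQ one_ne_zero fun _ _ => rfl
  refine ⟨ht, h3, fun F => ?_⟩
  rw [← Finset.sum_pair h1.symm, Finset.eq_of_subset_of_card_le (s := {IrrCharacter.one G, χ}) (t := X)
    (by simp [Finset.insert_subset_iff, h3, hχ]) (by rw [he, Finset.card_pair h1.symm])]

theorem of_card_two (h : SelfCent p x) (hp3 : 3 < p) (hx : x ∈ P)
    (hQ : ∀ Θ, IsClassFunction G Θ → Q Θ) (he : X.card = 2) {χ : IrrCharacter G} (hχ : χ ∈ X)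
    (hd : charDegree χ.1 = p - 1) (hf : ∀ g, χ g = χ 1 → g = 1) :
    Nat.card G = (p - 1 + 1) * (p - 1) * (p - 1 - 1) ∧ ElemInvol G (p - 1) ∧
      (∀ g, IsPRegular p g → Odd (orderOf g) → g ≠ 1 → χ g = 1) ∧
      ∀ z, orderOf z = 2 → χ z = 0 := by
  have hp2 : p ≠ 2 := by omega
  have hQ' : ∀ φ : IrrCharacter G, Q φ.1 := fun φ => hQ _ φ.isClassFunction
  have h1 : χ ≠ IrrCharacter.one G := by
    rintro rfl
    rw [IrrCharacter.charDegree_one] at hd
    omega
  obtain ⟨ht, h1X, hs⟩ := b.eq_pair hp3 (hQ' (IrrCharacter.one G)) he hχ h1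
  have hcY := b.cardY
  rw [he] at hcY
  obtain ⟨m, hm⟩ : ∃ m, p = m + 2 := ⟨p - 2, by omega⟩
  have hd' : charDegree χ.1 = m + 1 := by omega
  have ha : a χ = -1 := (b.asign χ hχ).resolve_left fun e => by
    have := (b.modEq_X hχ).symm.dvd
    rw [e, hd', Nat.cast_succ, add_sub_cancel_right, Int.natCast_dvd_natCast] at this
    have := Nat.le_of_dvd (by omega) this
    omega
  have ha1 := b.a_one h1X
  obtain ⟨η, hη⟩ := b.Y_nonempty
  have h2 := b.deg_rel hη
  rw [hs, ha, ha1, hd', IrrCharacter.charDegree_one] at h2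
  have hδ : δ = -1 := b.sign.resolve_left fun e => by
    rw [e] at h2
    push_cast at h2
    omega
  have hdη : charDegree η.1 = m := by
    rw [hδ] at h2
    push_cast at h2
    omega
  have hrel : ∀ g, IsPRegular p g → η g = χ g - 1 := fun g hg => by
    have := b.reg_rel η hη g hg
    rw [hs, ha, ha1, hδ] at this
    have e : IrrCharacter.one G g = 1 := rfl
    rw [e] at this
    push_cast at this
    linear_combination -this
  have hχu : ∀ u : P, u ≠ 1 → χ u = -1 := fun u hu => by rw [b.valX χ hχ u hu, ha]; simp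
  have hχ1 : χ 1 = m + 1 := by rw [χ.apply_one, hd']; simp
  have hpc : (p : ℂ) = m + 2 := by rw [hm]; simp
  have hgal : ∀ σ : ℂ ≃+* ℂ, σ • χ = χ := fun σ => by
    have h3 := b.mem_X_of_const ht (hQ' (σ • χ)) (c := -1) (by simp) fun u hu => by
      rw [IrrCharacter.gal_smul_apply, hχu u hu]; simp
    by_contra hne
    have h4 : σ • χ ≠ IrrCharacter.one G := fun e => by
      have := IrrCharacter.charDegree_gal_smul σ χ
      rw [e, IrrCharacter.charDegree_one] at this
      omega
    have := Finset.card_le_card (s := {IrrCharacter.one G, χ, σ • χ}) (t := X)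
      (by simp [Finset.insert_subset_iff, h3, hχ, h1X])
    rw [Finset.card_eq_three.2 ⟨_, _, _, h1.symm, h4.symm, Ne.symm hne, rfl⟩] at this
    omega
  have hPx : zpowers x = P := Subgroup.eq_of_le_of_card_ge (zpowers_le.2 hx)
    (by rw [b.card, h.card_zpowers])
  obtain ⟨w, hw⟩ := exists_prime_orderOf_dvd_card' (G := N(P)) 2
    (he ▸ b.cardX ▸ relIndex_dvd_card _ _)
  rw [← Subgroup.orderOf_coe] at hw
  have hwu : ∀ u : P, orderOf ((w : G) * u) = 2 ∧ IsConj (w : G) (w * u) := fun u => by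
    have := h.invol_mul hp2 hw (Q := h.sylow) (Sylow.smul_eq_iff_mem_normalizer.2 (by
      change (w : G) ∈ N(zpowers x)
      rw [hPx]
      exact w.2)) (y := u) (by rw [h.coe_sylow, hPx]; exact u.2)
    exact ⟨this.1, this.2.2⟩
  have hw0 : χ w = 0 := by
    have := b.sum_mul_eq_zero hχ ha hd w.2
    rw [Finset.sum_congr rfl fun u _ => (χ.isClassFunction.eq_of_isConj (hwu u).2).symm,
      b.sum_P_const, mul_eq_zero] at this
    exact this.resolve_left (by exact_mod_cast hp.out.ne_zero)
  have hΛ := χ.isCharacter.altSq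
  set Λ : G → ℂ := fun g => (χ.1 g ^ 2 - χ.1 (g * g)) / 2 with hΛd
  have hΛu : ∀ u : P, u ≠ 1 → Λ u = (1 : ℤ) := fun u hu => by
    have := hχu _ (b.mul_self_ne_one hp2 hu)
    simp only [hΛd]
    rw [hχu u hu, ← Subgroup.coe_mul, this]
    norm_num
  have hΛ1 : Λ 1 = (m + 1) * m / 2 := by
    simp only [hΛd]
    rw [mul_one, hχ1]
    ring
  have hΛ0 : ip Λ (IrrCharacter.one G).1 = 0 := by
    by_contra hne
    have := hΛ.re_sum_of_constituent P w.2 (Or.inl rfl) (by
      rw [b.sum_P hΛu, Finset.sum_congr rfl (g := fun _ => -(m + 1 : ℂ) / 2) fun u _ => by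
        simp only [hΛd]
        rw [← χ.isClassFunction.eq_of_isConj (hwu u).2, hw0, mul_self_of_orderOf (hwu u).1, hχ1]
        ring, b.sum_P_const, hΛ1, one_mul, ← Complex.add_re, hpc]
      convert Complex.zero_re
      push_cast
      ring) hne
    have e : ∀ g, IrrCharacter.one G g = 1 := fun _ => rfl
    simp only [e, b.sum_P_const, mul_one, one_mul, Complex.natCast_re] at this
    have : (0 : ℝ) < p := by exact_mod_cast hp.out.pos
    linarith
  have hΛY : Λ = ∑ η ∈ Y, η.1 := by
    refine hΛ.eq_sum_of_le (fun η' hη' => ?_) (le_of_eq ?_)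
    · have := b.dec_const_nat hΛ (hQ _ hΛ.isClassFunction) hΛu hη'
      rw [hs, ha, ha1, hδ, (hΛ.ipNat_eq_zero_iff (IrrCharacter.isCharacter _)).2 hΛ0] at this
      exact (hΛ.ipNat_pos_iff η'.isCharacter).1 (by omega)
    · rw [Finset.sum_congr rfl fun η' hη' => (b.deg_eq hη' hη).trans hdη, Finset.sum_const,
        smul_eq_mul]
      have : (charDegree Λ : ℂ) = (Y.card * m : ℕ) := by
        rw [← hΛ.apply_one, hΛ1, Nat.cast_mul, ← Nat.cast_succ, show m.succ = 2 * Y.card by omega]
        push_cast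
        ring
      exact_mod_cast this
  have hform : ∀ g, IsPRegular p g → χ g ^ 2 - χ (g * g) = (m + 1) * (χ g - 1) := fun g hg => by
    have := congrFun hΛY g
    rw [Finset.sum_apply, Finset.sum_congr rfl fun η' hη' =>
      (b.reg_eq η' hη' η hη g hg).trans (hrel g hg), Finset.sum_const, nsmul_eq_mul] at this
    simp only [hΛd] at this
    rw [← Nat.cast_succ, show m.succ = 2 * Y.card by omega]
    push_cast
    linear_combination 2 * this
  have hodd : ∀ g, IsPRegular p g → Odd (orderOf g) → g ≠ 1 → χ g = 1 := fun g hg ho hg1 => by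
    obtain ⟨σ, hσ⟩ := exists_ringEquiv_apply_pow_orderOf (g := g) (k := 2)
      (Nat.coprime_two_left.2 ho)
    have h3 := hform g hg
    rw [← pow_two, hσ _ χ.isCharacter.isGen, ← IrrCharacter.gal_smul_apply, hgal] at h3
    have h4 : (χ g - 1) * (χ g - χ 1) = 0 := by rw [hχ1]; linear_combination h3
    exact sub_eq_zero.1 ((mul_eq_zero.1 h4).resolve_right fun e => hg1 (hf g (sub_eq_zero.1 e)))
  have hreg : ∀ {z : G}, orderOf z = 2 → IsPRegular p z := fun hz => by
    rw [IsPRegular, hz, Nat.prime_dvd_prime_iff_eq hp.out Nat.prime_two]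
    exact hp2
  have hinv : ∀ z, orderOf z = 2 → χ z = 0 := fun z hz => by
    have h3 := hform z (hreg hz)
    rw [mul_self_of_orderOf hz] at h3
    have h4 : χ z * (χ z - χ 1) = 0 := by rw [hχ1] at h3 ⊢; linear_combination h3
    exact (mul_eq_zero.1 h4).resolve_right fun e =>
      ne_one_of_orderOf_two hz (hf z (sub_eq_zero.1 e))
  have hG := h.card_eq b.card hx
  rw [← b.cardX, he] at hG
  have hD : Nat.card (Sylow p G) = Y.card * charDegree η.1 := by
    obtain ⟨z, hz, hzi⟩ := exists_invol_sylow_le (G := G) (hG ▸ (dvd_mul_left 2 p).mul_right _)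
    have hu : (⟨x, hx⟩ : P) ≠ 1 := fun e => h.ne_one (congrArg Subtype.val e)
    have hm0 : (m : ℂ) ≠ 0 := by exact_mod_cast (by omega : m ≠ 0)
    have h3 := b.sum_mul_conj hQ' (hreg hz) (hreg hz) hu hη
    have e : ∀ g, IrrCharacter.one G g = 1 := fun _ => rfl
    rw [hs, hrel z (hreg hz), hinv z hz, ha1, hδ, e, e, η.apply_one, hdη] at h3
    have h4 : ∑ φ : IrrCharacter G, φ z * φ z * conj (φ x) / φ 1 = (m + 1) / m := by
      erw [h3]
      push_cast
      field_simp
      ring
    have h5 := (h.class_mul hp2 hz (h4 ▸ div_ne_zero (by exact_mod_cast m.succ_ne_zero) hm0)).1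
    rw [h4, ← mul_div_assoc, eq_div_iff hm0] at h5
    have h6 : p * Nat.card C₁(z) ^ 2 * m = Nat.card G * (m + 1) := by exact_mod_cast h5
    have h7 := eq_of_factorization_aux hp.out hm ⟨Y.card - 1, by omega⟩ Nat.card_pos.ne'
      (C₁(z)).card_subgroup_dvd_card h6 (by
        rw [← (C₁(z)).card_mul_index, Nat.factorization_mul Nat.card_pos.ne'
          FiniteIndex.index_ne_zero, Finsupp.add_apply, Nat.factorization_eq_zero_of_not_dvd hzi,
          add_zero])
      (h.not_dvd_card_centralizer (hreg hz) (ne_one_of_orderOf_two hz)) fun r hr hr2 hrp => by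
        have := Fact.mk hr
        obtain ⟨R⟩ : Nonempty (Sylow r G) := inferInstance
        have := η.isCharacter.card_subgroup_dvd_of_vanish R fun g hg hg1 => by
          obtain ⟨k, hk⟩ := IsPGroup.iff_orderOf.1 R.isPGroup' ⟨g, hg⟩
          rw [Subgroup.orderOf_mk] at hk
          have h8 : IsPRegular p g := fun hd => hrp
            ((Nat.prime_dvd_prime_iff_eq hp.out hr).1 (hp.out.dvd_of_dvd_pow (hk ▸ hd))).symm
          rw [hrel g h8, hodd g h8 (hk ▸ (hr.odd_of_ne_two hr2).pow) hg1, sub_self]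
        rw [R.card_eq_multiplicity, hdη] at this
        exact (hr.pow_dvd_iff_le_factorization (by omega)).1 this
    rw [h7, hG, show m + 1 = 2 * Y.card by omega] at h6
    rw [hdη]
    refine Nat.eq_of_mul_eq_mul_left (show 0 < p * 2 * (2 * Y.card) by positivity) ?_
    linarith
  obtain ⟨h3, h4⟩ := b.geo h hp2 hx hQ' ht hδ hη hD fun φ hφ hne => Or.inr (by
    have := hs (fun ψ => if ψ = φ then 1 else 0)
    rw [Finset.sum_ite_eq' X φ, if_pos hφ, if_neg hne.symm, zero_add] at this
    obtain rfl : χ = φ := by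
      by_contra e
      simp [e] at this
    rw [hd])
  refine ⟨?_, fun z hz => ⟨(h4 z hz).1, (h.elemInvol hp2 hcY hG h3 h4 (Or.inl rfl) hz).1⟩,
    hodd, hinv⟩
  rw [hG, hD, hdη, show p - 1 - 1 = m by omega, show p - 1 = 2 * Y.card by omega, hcY]
  ring

end PBlk

end Cfsg
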