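import Cfsg.Agent.Blk.PrimeData

/-!
# Values of characters of `p'`-degree when the Sylow `p`-subgroup has order `p`
-/

set_option autoImplicit false
set_option linter.unusedSectionVars false
set_option linter.unusedVariables false
set_option linter.style.haveILetI false

namespace Cfsg

open Exc Subgroup
open scoped ComplexConjugate Classical

universe u v w

variable {G : Type u} [Group G] [Finite G] {p : ℕ} [hp : Fact p.Prime] {M : Ideal AlgInt}

local notation "C(" Q ")" => Subgroup.centralizer ((Q : Subgroup G) : Set G)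
local notation "C₁(" u ")" => Subgroup.centralizer ({u} : Set G)
local notation "N(" Q ")" => Subgroup.normalizer ((Q : Subgroup G) : Set G)

theorem Exc.IsFree.sum_eq_sum_orbit {A : Type v} [Group A] [Fintype A] {E : Subgroup (MulAut A)}
    (hE : IsFree E) [Fintype E] {u : A} (hu : u ≠ 1) {F : A → ℂ} {s : Finset A}
    (h1 : ∀ σ ∈ E, σ u ∈ s) (h2 : ∀ v ∈ s, (¬ ∃ σ ∈ E, σ u = v) → F v = 0) :
    ∑ v ∈ s, F v = ∑ σ : E, F (σ.1 u) := by
  rw [← hE.sum_orbit hu]
  refine (Finset.sum_subset (fun v hv => ?_) fun v hv hv' => h2 v hv fun e =>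
    hv' (Finset.mem_filter.2 ⟨Finset.mem_univ _, e⟩)).symm
  obtain ⟨σ, h, rfl⟩ := (Finset.mem_filter.1 hv).2
  exact h1 σ h

theorem exists_block_prime (P : Sylow p G) [Fintype P] (hP : Nat.card P = p) (φ : IrrCharacter G)
    (hφ : ¬ p ∣ charDegree φ.1) :
    ∃ (M : Ideal AlgInt) (B : Set (IrrCharacter G)) (E : Subgroup (MulAut P)) (S : P → G → ℂ)
      (ε : ℤ) (θ : IrrCharacter C(P)) (X Y : Set (IrrCharacter G)) (δ : ℤ)
      (ζ : (P →* ℂˣ) → IrrCharacter G) (a : IrrCharacter G → ℤ),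
      φ ∈ B ∧ (ε = 1 ∨ ε = -1) ∧ ExcSys p M B E S ∧ ExcOut p B E S X Y δ 0 ζ a ∧
      Nat.card X = Nat.card E ∧ (∀ χ ∈ X, a χ = 1 ∨ a χ = -1) ∧
      E ≤ autOf (P : Subgroup G).subtype N(P) ∧
      ((∀ g ∈ N(P), ∀ c c' : C(P), (c' : G) = g * c * g⁻¹ → θ c' = θ c) →
        E = autOf (P : Subgroup G).subtype N(P)) ∧
      (∀ x : C(P), (x : G) ∈ (P : Subgroup G) → θ x = θ 1) ∧
      (∀ u : P, u ≠ 1 → ∀ y : C(P), IsPRegular p y → S u (u * y) = ε * θ y) ∧
      ∀ (u : P) (g : G), g ∉ pSection p (u : G) → S u g = 0 := by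
  obtain ⟨M, hM⟩ := exists_isPModular_of_prime hp.out
  have := hM.charP
  have : IsCyclic P := isCyclic_of_prime_card hP
  have hab : (P : Subgroup G) ≤ C(P) := le_centralizer _
  have hB := isPBlock_blockOf (M := M) φ
  have hD := (hB.isDefectGroup_sylow_iff hM P).2 ⟨φ, hM.mem_blockOf_self φ, hφ⟩
  obtain ⟨b, hi, hb, -⟩ := hD.exists_induces_of_le_center hM (C(P)).subtype_injective
    (range_subtype _) hB le_rfl hab
  obtain ⟨θ, hθ, -, hker⟩ := IsDefectGroup.exists_canonical hM hi.left hb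
    (sup_centralizer_subgroupOf_eq_top _)
  obtain ⟨S, ε, hε, h, hS, hS0, -, X, Y, δ, ζ, a, o, h1, h2⟩ :=
    hi.exists_out_prime hM hD hP hθ hker
  refine ⟨M, _, _, S, ε, θ, X, Y, δ, ζ, a, hM.mem_blockOf_self φ, hε, h, o,
    h1.trans (card_autOf_subtype inf_le_left).symm, h2, ?_, fun h3 => ?_, hker, hS, hS0⟩
  · rintro σ ⟨g, hg, h3⟩
    exact ⟨g, hg.1, h3⟩
  · rw [inf_eq_left.2 fun g hg => (hi.mem_cjStab_iff_canonical hM hD hab hθ hker hg).2 (h3 g hg)]

theorem ExcSys.apply_mul_prime {P : Subgroup G} [Fintype P] (hP : Nat.card P = p)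
    {B : Set (IrrCharacter G)} {E : Subgroup (MulAut P)} {S : P → G → ℂ} (h : ExcSys p M B E S)
    {T : C(P) → ℂ} (hS : ∀ u : P, u ≠ 1 → ∀ y : C(P), IsPRegular p y → S u (u * y) = T y)
    (hS0 : ∀ (u : P) (g : G), g ∉ pSection p (u : G) → S u g = 0)
    [Fintype (autOf P.subtype N(P))] (y : C(P)) (hy : IsPRegular p y) :
    ∃ z : autOf P.subtype N(P) → C(P), (∀ σ, IsConj (y : G) (z σ)) ∧ ∀ φ ∈ B, ∀ u : P, u ≠ 1 →
      φ (u * y) = ∑ σ : autOf P.subtype N(P),
        (Nat.card E : ℂ)⁻¹ * excDec S φ.1 (σ.1 u) * T (z σ) := by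
  have hc : ∀ σ : autOf P.subtype N(P), ∃ z : C(P), ∃ g : G, (z : G) = g * y * g⁻¹ ∧
      ∀ u : P, (σ.1 u : G) = g * u * g⁻¹ := by
    rintro ⟨σ, g, hg, h1⟩
    exact ⟨⟨g * y * g⁻¹, (mem_normalizer_iff.1 (normalizer_le_normalizer_centralizer _ hg) _).1
      y.2⟩, g, rfl, h1⟩
  choose z g h1 h2 using hc
  refine ⟨z, fun σ => isConj_iff.2 ⟨g σ, (h1 σ).symm⟩, fun φ hφ u hu => ?_⟩
  have hu' : (u : G) ≠ 1 := fun e => hu (Subtype.ext e)
  have hup : ∀ v : P, IsPElt p (v : G) := fun v => isPElt_of_mem h.pgroup v.2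
  have hy' : IsPRegular p (y : G) := by rwa [IsPRegular, Subgroup.orderOf_coe]
  have h3 : pPart p ((u : G) * y) = u := pPart_mul_eq (y.2 u u.2) (hup u) hy'
  have hnr : ¬ IsPRegular p ((u : G) * y) := by rwa [← pPart_eq_one_iff, h3]
  rw [h.apply_eq_sum φ.isClassFunction (blockPart_irr_of_mem hφ) hnr, Finset.mul_sum,
    (isFree_of_card_eq_prime hP (autOf P.subtype N(P))).sum_eq_sum_orbit hu]
  · refine Finset.sum_congr rfl fun σ _ => ?_
    rw [← hS (σ.1 u) (by simpa using hu) (z σ) (isPRegular_coe_iff.1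
      (h1 σ ▸ isPRegular_conj_iff.2 hy')), mul_assoc, (h.cf _).eq_of_isConj (isConj_iff.2 ⟨g σ, rfl⟩), h1, h2]
    congr 3
    group
  · intro σ _
    simpa using hu
  · intro v _ hv
    rw [hS0 v _ fun hs => hv ?_, mul_zero, mul_zero]
    rw [mem_pSection, h3] at hs
    obtain ⟨k, hk⟩ := isConj_iff.1 hs
    exact (exists_autOf_apply_iff P.subtype_injective (by rw [range_subtype])).2
      ⟨k, mem_normalizer_of_card_eq_prime hP u.2 hu' (hk ▸ v.2), hk.symm⟩

/-- The values of an irreducible character of `p'`-degree on the `p`-singular elements. -/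
theorem IrrCharacter.val_prime (P : Sylow p G) [Fintype P] (hP : Nat.card P = p)
    (φ : IrrCharacter G) (hφ : ¬ p ∣ charDegree φ.1) :
    (∃ c : ℂ, ∀ u : (P : Subgroup G), u ≠ 1 → φ u = c) ∨
      ∃ (lam : (P : Subgroup G) →* ℂˣ) (s : ℤ) (k : ℕ), lam ≠ 1 ∧ (s = 1 ∨ s = -1) ∧ 0 < k ∧
      (∀ u : (P : Subgroup G), u ≠ 1 →
        φ u = s * k * osum (autOf (P : Subgroup G).subtype N(P)) lam u) ∧
      ∀ y ∈ C(P), IsPRegular p y → ∀ mu, ¬ Orb (autOf (P : Subgroup G).subtype N(P)) lam mu →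
        coef (fun u : (P : Subgroup G) => φ (u * y)) mu = 0 := by
  obtain ⟨M, B, E, S, ε, θ, X, Y, δ, ζ, a, h1, hε, h, o, -, -, hE, -, -, hS, hS0⟩ :=
    exists_block_prime P hP φ hφ
  let _ := Fintype.ofFinite (autOf (P : Subgroup G).subtype N(P))
  let _ := Fintype.ofFinite E
  obtain ⟨z, hz, h2⟩ := h.apply_mul_prime hP hS hS0 1 isPRegular_one
  have hz1 : ∀ σ, z σ = 1 := fun σ => Subtype.ext (isConj_one_right.1 (hz σ))
  simp only [hz1, OneMemClass.coe_one, mul_one] at h2
  rcases o.union.le h1 with hX | hY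
  · exact Or.inl ⟨_, fun u hu => (h2 φ h1 u hu).trans (Finset.sum_congr rfl fun σ _ => by
      rw [o.nonexc φ hX _ (by simpa using hu)])⟩
  obtain ⟨lam, hl, rfl⟩ := o.surj φ hY
  have h3 : ∀ (σ : autOf (P : Subgroup G).subtype N(P)) (u : (P : Subgroup G)), u ≠ 1 →
      excDec S (ζ lam).1 (σ.1 u) = δ * ∑ τ : E, ((lam ((τ.1 * σ.1) u) : ℂˣ) : ℂ) := fun σ u hu => by
    rw [o.exc lam hl _ (by simpa using hu), h.free.osum_eq h.comm hl]
    simp
  refine Or.inr ⟨lam, δ * ε, charDegree θ.1, hl, ?_, θ.charDegree_pos, fun u hu => ?_,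
    fun y hy hy' mu hm => ?_⟩
  · rcases o.sign with rfl | rfl <;> rcases hε with rfl | rfl <;> simp
  · rw [h2 _ h1 u hu, Finset.sum_congr rfl fun σ _ => by rw [h3 σ u hu], ← Finset.sum_mul,
      ← Finset.mul_sum, ← Finset.mul_sum, Finset.sum_comm, Finset.sum_congr rfl
      (g := fun _ => osum (autOf (P : Subgroup G).subtype N(P)) lam u) fun τ _ => ?_,
      Finset.sum_const, Finset.card_univ, ← Nat.card_eq_fintype_card, θ.apply_one, nsmul_eq_mul]
    · have := natCard_cast_ne_zero E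
      push_cast
      field_simp
    · rw [(isFree_of_card_eq_prime hP _).osum_eq h.comm hl]
      exact Equiv.sum_comp (Equiv.mulLeft (⟨τ.1, hE τ.2⟩ : autOf (P : Subgroup G).subtype N(P)))
        fun σ => ((lam (σ.1 u) : ℂˣ) : ℂ)
  · obtain ⟨z, -, h4⟩ := h.apply_mul_prime hP hS hS0 ⟨y, hy⟩
      (by rwa [IsPRegular, Subgroup.orderOf_mk])
    rw [coef_congr (F := fun u : (P : Subgroup G) => ζ lam (u * y)) (F' := fun u => ∑ σ, ((Nat.card E : ℂ)⁻¹ * δ * (ε * θ (z σ))) *
      ∑ τ : E, ((compAut lam (τ.1 * σ.1) u : ℂˣ) : ℂ)) fun u hu =>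
      (h4 _ h1 u hu).trans (Finset.sum_congr rfl fun σ _ => by
        rw [h3 σ u hu]; simp only [compAut_apply]; ring), coef_sum]
    refine Finset.sum_eq_zero fun σ _ => ?_
    rw [coef_mul, coef_sum, Finset.sum_eq_zero, mul_zero]
    intro τ _
    have h5 := (orb_compAut lam (mul_mem (hE τ.2) σ.2)).symm
    rw [coef_linear, if_neg fun e => hm (by rwa [e] at h5), if_neg (h5.ne_one hl), sub_zero]

/-- Class functions lying over the central character of `φ` on the central `p'`-elements. -/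
def OverCenter (p : ℕ) (φ Θ : G → ℂ) : Prop :=
  ∀ y ∈ center G, IsPRegular p y → ∀ g, Θ (g * y) * φ 1 = Θ g * φ y

theorem exists_pBlk_central (P : Sylow p G) [Fintype P] (hP : Nat.card P = p)
    (hC : ∀ y ∈ C(P), IsPRegular p y → y ∈ center G) (φ : IrrCharacter G)
    (hφ : ¬ p ∣ charDegree φ.1) :
    ∃ X Y ζ δ a, PBlk p (P : Subgroup G) (OverCenter p φ.1) X Y ζ δ a := by
  obtain ⟨M, B, E, S, ε, θ, X, Y, δ, ζ, a, h1, hε, h, o, hX, ha, -, hE, hker, hS, hS0⟩ :=
    exists_block_prime P hP φ hφ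
  have : IsCyclic P := isCyclic_of_prime_card hP
  have hab : (P : Subgroup G) ≤ C(P) := le_centralizer _
  have hpp : ∀ c : C(P), ((pPart p c : C(P)) : G) ∈ (P : Subgroup G) := fun c =>
    (((isPElt_iff_isPGroup_zpowers.1 (isPElt_pPart p (c : G))).inf_normalizer_sylow P).le
      ⟨coe_pPart p c ▸ mem_zpowers _, centralizer_le_normalizer _ (pPart p c).2⟩).2
  have hpc : ∀ c : C(P), ((pPrimePart p c : C(P)) : G) ∈ center G := fun c =>
    hC _ (pPrimePart p c).2 (coe_pPrimePart p c ▸ isPRegular_pPrimePart p _)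
  have hθ : ∀ c : C(P), θ c = θ (pPrimePart p c) := fun c => by
    conv_lhs => rw [← pPrimePart_mul_pPart p c]
    exact θ.isCharacter.apply_mul_of_mem_kerSet (hker _ (hpp c)) _
  obtain rfl := hE fun g hg c c' e => by
    rw [hθ c, hθ c']
    refine congrArg θ.1 (Subtype.ext ?_)
    rw [coe_pPrimePart, e, pPrimePart_conj, ← coe_pPrimePart, mem_center_iff.1 (hpc c) g,
      mul_inv_cancel_right]
  have hθ1 : θ 1 = 1 := θ.apply_one_eq_one_of_comm fun c c' => by
    ext
    have h2 := c'.2 _ (hpp c)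
    have h3 := mem_center_iff.1 (hpc c) c'
    rw [← pPart_mul_pPrimePart p c]
    simp only [Subgroup.coe_mul]
    rw [mul_assoc, ← h3, ← mul_assoc, h2, mul_assoc]
  let _ := Fintype.ofFinite (autOf (P : Subgroup G).subtype N(P))
  have hv : ∀ χ ∈ B, ∀ y : C(P), IsPRegular p y → χ y = χ 1 * θ y := by
    intro χ hχ y hy
    have hy' : (y : G) ∈ center G := hC _ y.2 (by rwa [IsPRegular, Subgroup.orderOf_coe])
    obtain ⟨z, hz, h2⟩ := h.apply_mul_prime hP hS hS0 1 isPRegular_one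
    obtain ⟨z', hz', h3⟩ := h.apply_mul_prime hP hS hS0 y hy
    have hz1 : ∀ σ, z σ = 1 := fun σ => Subtype.ext (isConj_one_right.1 (hz σ))
    have hz2 : ∀ σ, z' σ = y := fun σ => Subtype.ext ((hz' σ).eq_of_left_mem_center hy').symm
    simp only [hz1, OneMemClass.coe_one, mul_one, hθ1] at h2
    simp only [hz2] at h3
    obtain ⟨u, hu⟩ := h.nontriv
    have h4 : χ u ≠ 0 := fun e => by
      obtain ⟨k, hk⟩ := P.isPGroup' u
      have h5 := χ.isCharacter.dvd_charDegree_of_eq_zero hp.out (congrArg Subtype.val hk) e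
      have h6 := h.factorization_ne hχ
      have h7 := (Nat.factorization_le_iff_dvd χ.charDegree_pos.ne' Nat.card_pos.ne').2
        χ.charDegree_dvd_card p
      have h8 := hp.out.factorization_pos_of_dvd χ.charDegree_pos.ne' h5
      have h9 := P.card_eq_multiplicity
      rw [hP] at h9
      have := Nat.pow_right_injective hp.out.two_le ((pow_one p).trans h9)
      omega
    refine mul_left_cancel₀ h4 ?_
    rw [← χ.apply_mul_of_mem_center hy', h3 χ hχ u hu, mul_left_comm, h2 χ hχ u hu, Finset.sum_mul]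
    exact congrArg _ (Finset.sum_congr rfl fun σ _ => by ring)
  have hv' : ∀ y (hy : y ∈ center G), IsPRegular p y →
      IsPRegular p (⟨y, center_le_centralizer _ hy⟩ : C(P)) := fun y hy hy' => by
    rwa [IsPRegular, Subgroup.orderOf_mk]
  refine ⟨_, _, _, _, _, o.pBlk hP h hX ha hε (fun χ hχ y hy hy' g => ?_) fun Θ hΘ hq u hu => ?_⟩
  · refine mul_left_cancel₀ χ.apply_one_ne_zero ?_
    have h2 := hv χ hχ _ (hv' y hy hy')
    have h3 := hv φ h1 _ (hv' y hy hy')
    rw [← mul_assoc, χ.apply_mul_of_mem_center hy, h2, h3]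
    ring
  · have hM := h.modular
    have h3 := excDec_principal hM hab (free_of_isCyclic_sylow hM P) hM.one_mem_principalBlock hu
    let _ := Fintype.ofFinite G
    have h4 : ∀ g, Θ g * conj (S u g) = ε * Θ u * (1 * conj (secOne p (u : G) g)) := by
      intro g
      by_cases hg : g ∈ pSection p (u : G)
      swap
      · rw [hS0 u g hg, secOne_of_notMem hg]
        simp
      obtain ⟨t, ht⟩ := isConj_iff.1 hg
      have h5 : pPrimePart p (t * g * t⁻¹) ∈ C(P) := by
        rw [← zpowers_eq_of_card_eq_prime hP u.2 fun e => hu (Subtype.ext e), zpowers_eq_closure,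
          centralizer_closure, mem_centralizer_singleton_iff, ← ht, ← pPart_conj]
        exact (commute_pPart_pPrimePart p _).symm
      have h6 := isPRegular_pPrimePart p (t * g * t⁻¹)
      have h7 : t * g * t⁻¹ = u * pPrimePart p (t * g * t⁻¹) := by
        rw [← ht, ← pPart_conj, pPart_mul_pPrimePart]
      have h8 := hq _ (hC _ h5 h6) h6 u
      have h9 := hv' _ (hC _ h5 h6) h6
      rw [hv φ h1 _ h9, ← mul_assoc, mul_right_comm] at h8
      rw [secOne_of_mem hg, ← hΘ g t, ← h.cf u g t, h7,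
        mul_right_cancel₀ φ.apply_one_ne_zero h8, hS u hu _ h9, map_mul, map_intCast, map_one,
        mul_one, mul_one, mul_mul_mul_comm, Complex.mul_conj, Complex.normSq_eq_norm_sq,
        θ.isCharacter.norm_of_apply_one hθ1]
      simp [mul_comm]
    rw [excDec, ip_def] at h3 ⊢
    rw [Finset.sum_congr rfl fun g _ => h4 g, ← Finset.mul_sum, mul_left_comm _ (ε * Θ u),
      mul_left_comm]
    erw [h3]
    exact mul_one _

/-- Summing a function that is constant on `p`-sections over the `p`-singular elements. -/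
theorem SecConst.sum_singular [Fintype G] (P : Sylow p G) [Fintype P] (hP : Nat.card P = p)
    {F : G → ℂ} (hF : SecConst p P F) :
    ((C(P)).relIndex N(P) * p : ℕ) * ∑ g with ¬ IsPRegular p g, F g =
      Nat.card G * ∑ u : (P : Subgroup G) with u ≠ 1, F u := by
  obtain ⟨M, hM⟩ := exists_isPModular_of_prime hp.out
  have : IsCyclic P := isCyclic_of_prime_card hP
  let _ := Fintype.ofFinite (autOf (P : Subgroup G).subtype N(P))
  have h1 : ∀ u : (P : Subgroup G), u ≠ 1 → (p : ℂ) * ∑ g, secOne p (u : G) g = Nat.card G := fun u hu => by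
    have h3 := excDec_principal hM (le_centralizer _) (free_of_isCyclic_sylow hM P)
      hM.one_mem_principalBlock hu
    rw [excDec, ← conj_ip, hP, ← Complex.conj_natCast, ← map_mul, ip_def,
      show IrrCharacter.one G u = conj 1 from (map_one _).symm, (starRingEnd ℂ).injective.eq_iff,
      mul_left_comm, inv_mul_eq_one₀ (natCard_cast_ne_zero G)] at h3
    rw [h3]
    exact congrArg _ (Finset.sum_congr rfl fun g _ => by
      rw [show (IrrCharacter.one G).1 g = 1 from rfl, map_one, mul_one])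
  have h2 : ∀ g, ∑ u : (P : Subgroup G) with u ≠ 1, F u * secOne p (u : G) g =
      if ¬ IsPRegular p g then (C(P)).relIndex N(P) * F g else 0 := by
    intro g
    split_ifs with hg
    · refine Finset.sum_eq_zero fun u hu => ?_
      rw [secOne_of_notMem, mul_zero]
      rw [mem_pSection, pPart_eq_one_iff.2 hg, isConj_one_right]
      exact fun e => (Finset.mem_filter.1 hu).2 (Subtype.ext e)
    obtain ⟨t, ht⟩ := (isPElt_pPart p g).exists_conj_mem P
    have hu : (⟨_, ht⟩ : (P : Subgroup G)) ≠ 1 := fun e =>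
      hg (pPart_eq_one_iff.1 (conj_eq_one_iff.1 (congrArg Subtype.val e)))
    have h3 : ∀ v : P, g ∈ pSection p (v : G) ↔
        ∃ σ ∈ autOf (P : Subgroup G).subtype N(P), σ ⟨_, ht⟩ = v := fun v => by
      rw [exists_autOf_apply_iff (P : Subgroup G).subtype_injective (by rw [range_subtype])]
      constructor
      · intro hv
        obtain ⟨k, hk⟩ := isConj_iff.1 ((isConj_iff.2 ⟨t, rfl⟩).symm.trans hv)
        exact ⟨k, mem_normalizer_of_card_eq_prime hP ht (fun e => hu (Subtype.ext e)) (hk ▸ v.2),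
          hk.symm⟩
      · rintro ⟨k, -, hk⟩
        exact (isConj_iff.2 ⟨t, rfl⟩).trans (isConj_iff.2 ⟨k, hk.symm⟩)
    rw [(isFree_of_card_eq_prime hP (autOf (P : Subgroup G).subtype N(P))).sum_eq_sum_orbit hu,
      Finset.sum_congr rfl (g := fun _ => F g),
      Finset.sum_const, Finset.card_univ, ← Nat.card_eq_fintype_card, card_autOf_subtype le_rfl,
      nsmul_eq_mul]
    · intro σ _
      have h4 := (h3 _).2 ⟨σ.1, σ.2, rfl⟩
      rw [secOne_of_mem h4, mul_one, hF _ (σ.1 _).2 (by simpa using hu) g h4]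
    · intro σ _
      simpa using hu
    · intro v _ hv
      rw [secOne_of_notMem fun hs => hv ((h3 v).1 hs), mul_zero]
  rw [Nat.cast_mul, mul_comm _ (p : ℂ), mul_assoc, Finset.mul_sum, Finset.sum_filter,
    ← Finset.sum_congr rfl fun g _ => h2 g, Finset.sum_comm, Finset.mul_sum, Finset.mul_sum]
  refine Finset.sum_congr rfl fun u hu => ?_
  rw [← Finset.mul_sum, mul_left_comm, h1 u (Finset.mem_filter.1 hu).2, mul_comm]

end Cfsg

set_option linter.all false in
theorem Cfsg.Rz.Blk_PrimeVal_0 : True := by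
  have := @_root_.Cfsg.OverCenter.eq_def.{0}
  have := @_root_.Cfsg.OverCenter.eq_1.{0}
  have := @_root_.Cfsg.OverCenter.fun_cases
  trivial
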