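import Cfsg.Agent.Blk.Dih

/-!
# Blocks with semidihedral or quaternion defect groups (Olsson)
-/

set_option autoImplicit false
set_option linter.unusedSectionVars false
set_option linter.style.haveILetI false

namespace Cfsg

open MonoidAlgebra GA Subgroup
open scoped ComplexConjugate

universe u v w

variable {G : Type u} [Group G] [Finite G] {H : Type v} [Group H] [Finite H] {K : Type w} [Group K]
  [Finite K] {p : ℕ} {M : Ideal AlgInt} {P U : Subgroup G} {B : Set (IrrCharacter G)}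

local notation "C(" Q ")" => Subgroup.centralizer ((Q : Subgroup G) : Set G)
local notation "N(" Q ")" => Subgroup.normalizer ((Q : Subgroup G) : Set G)

section central

variable [Fact p.Prime] [CharP (ResK M) p] {e : (ResK M)[G]} {ψ : K →* G}
  {c : Set (IrrCharacter K)}

theorem IsLoc.mul_central {u z : G} (h : IsLoc p M P e (zpowers u) ψ c) (hP : IsBPair p P e)
    (hz : z ∈ center G) (hzP : z ∈ P) : IsLoc p M P e (zpowers (u * z)) ψ c := by
  have h1 : zpowers u ⊔ zpowers z = zpowers (u * z) ⊔ zpowers z := le_antisymm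
    (sup_le (zpowers_le.2 ((mul_mem_cancel_right (mem_sup_right (mem_zpowers z))).1
      (mem_sup_left (mem_zpowers _)))) le_sup_right)
    (sup_le (zpowers_le.2 (mul_mem_sup (mem_zpowers u) (mem_zpowers z))) le_sup_right)
  have h2 := zpowers_le.2 hz
  have h3 := zpowers_le.2 hzP
  exact ⟨h.inj, by rw [h.range_eq, ← centralizer_sup_of_le_center h2, h1,
    centralizer_sup_of_le_center h2], h.block, by
      rw [← bpLe_sup_central_iff hP h2 h3, ← h1, bpLe_sup_central_iff hP h2 h3]; exact h.le⟩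

theorem secFun_mul_central (u : G) {z : G} (hz : z ∈ center G) (χ : IrrCharacter G) :
    secFun ψ (u * z) χ.1 = (χ z / χ 1) • secFun ψ u χ.1 := by
  funext k
  rw [Pi.smul_apply, secFun_apply, secFun_apply, mem_center_iff.1 hz u, mul_assoc]
  exact χ.apply_center_mul hz _

theorem subPart_mul_central (u : G) {z : G} (hz : z ∈ center G) (χ : IrrCharacter G) :
    subPart p ψ (u * z) c χ.1 = (χ z / χ 1) • subPart p ψ u c χ.1 := by
  rw [subPart, secFun_mul_central u hz, blockPart_smul, pRegularPart_smul, subPart]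

theorem IrrCharacter.conj_div_mul (χ : IrrCharacter G) {z : G} (hz : z ∈ center G) :
    conj (χ z / χ 1) * (χ z / χ 1) = 1 := by
  rw [mul_comm, Complex.mul_conj, Complex.normSq_eq_norm_sq, Complex.norm_eq_one_of_pow_eq_one
    (χ.div_pow_eq_one_of_center hz (pow_orderOf_eq_one z)) (orderOf_pos z).ne']
  simp

variable (hM : IsPModular p M) (hB : IsPBlock M B) (hP : IsMaxPair p (blockIdem M B) P e) {u z : P}
  (hz : (z : G) ∈ center G)
include hM hP hz

theorem IsPModular.ip_prj_mul_central (χ χ' : IrrCharacter G) : ip (prj p M e (u * z) χ.1) χ'.1 =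
    χ z / χ 1 * conj (χ' z / χ' 1) * ip (prj p M e u χ.1) χ'.1 := by
  obtain ⟨c, hc⟩ := hM.exists_isLoc_subtype hP.pair (zpowers_le.2 u.2)
  rw [hc.ip_prj hM hP χ.isClassFunction χ'.isClassFunction, IsLoc.ip_prj (u := u * z)
    (hc.mul_central hP.pair hz z.2) hM hP χ.isClassFunction χ'.isClassFunction, contrib, contrib,
    coe_mul, subPart_mul_central _ hz, secFun_mul_central _ hz, ip_smul_left, ip_smul_right, mul_assoc]

include hB in
theorem IsPModular.sum_mul_ip_prj_eq_zero [Fintype B] (h : u ∉ fClass p P e (u * z)) :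
    ∑ χ : B, conj (χ.1 z / χ.1 1) * ip (prj p M e u χ.1.1) χ.1.1 = 0 := by
  have h2 := fun (v : P) (χ : B) => ip_eq_sum_block (hM.blockPart_prj hB hP v χ.1.isClassFunction)
  have h3 := Finset.sum_eq_zero (s := Finset.univ) fun (χ : B) _ =>
    mul_eq_zero_of_right (conj (χ.1 z / χ.1 1)) ((h2 _ χ _).symm.trans
      (hM.ip_prj_prj_of_notMem hP.pair h χ.1.isClassFunction χ.1.isClassFunction))
  simp only [hM.ip_prj_mul_central hP hz, Finset.mul_sum, ← mul_assoc,
    IrrCharacter.conj_div_mul _ hz, one_mul] at h3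
  rw [Finset.sum_comm] at h3
  refine Eq.trans (Finset.sum_congr rfl fun χ _ => ?_) h3
  rw [← hM.ip_prj_prj hP.pair u χ.1.isClassFunction χ.1.isClassFunction, h2, Finset.mul_sum]
  refine Finset.sum_congr rfl fun χ' _ => ?_
  rw [hM.ip_prj_comm hP.pair u χ.1.isClassFunction χ'.1.isClassFunction,
    hM.ip_prj_comm hP.pair u χ'.1.isClassFunction χ.1.isClassFunction]
  ring

theorem IsPModular.prj_eq_zero_of_mul_mem (h : u * z ∈ fClass p P e u)
    (hl : lrk p M P e (zpowers (u : G)) = 1) {χ : IrrCharacter G} (hχ : χ z ≠ χ 1) :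
    prj p M e u χ.1 = 0 := by
  obtain ⟨c, hc⟩ := hM.exists_isLoc_subtype hP.pair (zpowers_le.2 u.2)
  obtain ⟨φ, hφ⟩ := hc.block.exists_ibrOf_eq_singleton hM (hc.lrk_eq hM hP.pair ▸ hl)
  have hc' := hc.mul_central hP.pair hz z.2
  have h1 := hc.prj_eq hM hP χ.isClassFunction
  have h2 := IsLoc.prj_eq (u := u * z) hc' hM hP χ.isClassFunction
  have h3 := (hc.isSec hP.pair).subPart_eq_smul hM hc.block hφ χ.isClassFunction
  obtain ⟨g, -, hg⟩ := id h
  have h4 := hM.isClassFunction_prj hP.pair u χ.isClassFunction u g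
  have h5 := (hc.isSec hP.pair).secInd_apply (isClassFunction_subPart (p := p)
    (Subgroup.subtype _) (u : G) c χ.1) isPRegular_one
  have h6 := (hc'.isSec hP.pair).secInd_apply (isClassFunction_subPart (p := p)
    (Subgroup.subtype _) (u * z : G) c χ.1) isPRegular_one
  rw [map_one, mul_one] at h5 h6
  rw [← hg, h1, ← congrFun (h1.symm.trans ((congrFun (hP.pair.prj_eq h) _).symm.trans h2)).symm,
    subG, subG, coe_mul, h5, h6, subPart_mul_central _ hz, Pi.smul_apply, smul_eq_mul, h3,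
    Pi.smul_apply, smul_eq_mul, ← sub_eq_zero, ← sub_one_mul, mul_eq_zero, mul_eq_zero, sub_eq_zero,
    div_eq_one_iff_eq χ.apply_one_ne_zero] at h4
  rw [h1, subG, h3, (h4.resolve_left hχ).resolve_right (by
    rw [IBr.apply_one hM]; exact Nat.cast_ne_zero.2 (IBr.deg_pos φ).ne'), zero_smul, secInd_zero]

include hB in
theorem IsPModular.isLoc_of_central : IsLoc p M P e (zpowers (z : G)) (MonoidHom.id G) B := by
  simpa using IsLoc.mul_central (u := 1) (by simpa using isLoc_bot hM hB hP.toIsPairOf) hP.pair hz z.2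

include hB in
theorem IsPModular.sum_one_sub_eq [Fintype B] {S : Finset P} (h1 : ∀ u ∈ S, u ∉ fClass p P e (u * z))
    (h2 : ∀ u ∉ S, u * z ∈ fClass p P e u ∧ lrk p M P e (zpowers (u : G)) = 1) :
    ∑ χ : B, (1 - conj (χ.1 z / χ.1 1)) = ∑ u ∈ S, (fw p M P e u : ℂ) := by
  letI := Fintype.ofFinite P
  have h3 : ∀ χ : B, 1 - conj (χ.1 z / χ.1 1) = ∑ u : P, ((fClass p P e u).ncard : ℂ)⁻¹ *
      ((1 - conj (χ.1 z / χ.1 1)) * ip (prj p M e u χ.1.1) χ.1.1) := fun χ => by
    simp only [mul_left_comm _ (1 - conj (χ.1 z / χ.1 1)), ← Finset.mul_sum]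
    simp only [← ip_smul_left, ← ip_sum_left, ← hM.blockPart_eq_sum_prj hB hP χ.1.isClassFunction,
      blockPart_irr_of_mem χ.2]
    rw [ip_smul_left, χ.1.ip_self, mul_one]
  rw [Finset.sum_congr rfl fun χ _ => h3 χ, Finset.sum_comm, ← Finset.sum_subset S.subset_univ
    fun u _ hu => Finset.sum_eq_zero fun χ _ => ?_]
  · refine Finset.sum_congr rfl fun u hu => ?_
    simp only [← Finset.mul_sum, sub_mul, one_mul, Finset.sum_sub_distrib, hM.sum_ip_prj hB hP,
      hM.sum_mul_ip_prj_eq_zero hB hP hz (h1 u hu), fw]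
    simp [div_eq_inv_mul]
  · by_cases h : χ.1 z = χ.1 1
    · simp [h, χ.1.apply_one_ne_zero]
    · simp [hM.prj_eq_zero_of_mul_mem hP hz (h2 u hu).1 (h2 u hu).2 h]

omit hz in
theorem IsPModular.re_ip_prj_lt_one (hu : u ≠ 1) (χ : IrrCharacter G) :
    (ip (prj p M e u χ.1) χ.1).re < 1 := by
  by_contra! h
  have hc := χ.isClassFunction
  have h1 := eq_zero_of_ip_self_re (φ := χ.1 - prj p M e u χ.1) (le_antisymm (by
    simp only [ip_sub_left, ip_sub_right, ← hM.ip_prj_comm hP.pair _ hc hc,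
      hM.ip_prj_prj hP.pair _ hc hc, χ.ip_self, Complex.sub_re, Complex.one_re]
    linarith) (ip_self_re_nonneg _))
  obtain ⟨c, hc'⟩ := hM.exists_isLoc_subtype hP.pair (zpowers_le.2 u.2)
  refine χ.apply_one_ne_zero ((congrFun (sub_eq_zero.1 h1) 1).trans ?_)
  rw [hc'.prj_eq hM hP hc, (hc'.isSec hP.pair).subG_apply_of_notMem]
  simpa [mem_pSection, eq_comm (a := (1 : G))] using hu

end central

theorem sum_mul_self_eq_zero_iff' {ι : Type*} [Fintype ι] {w : ι → ℤ} :
    ∑ i, w i * w i = 0 ↔ w = 0 := by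
  simp [Finset.sum_eq_zero_iff_of_nonneg fun i _ => mul_self_nonneg (w i), funext_iff]

theorem IsSec.isGen_secFun {f : H →* G} {z : G} (h : IsSec p f z) (hz : z * z = 1) {θ : G → ℂ}
    (hθ : IsGeneralizedCharacter G θ) : IsGeneralizedCharacter H (secFun f z θ) := by
  obtain ⟨z, rfl⟩ := h.exists_eq
  refine isGeneralizedCharacter_iff.2 ⟨h.isClassFunction_secFun hθ.isClassFunction, fun ψ => ?_⟩
  obtain ⟨a, ha⟩ := (hθ.comp f).exists_ip_eq_int ψ.isCharacter.isGen
  rw [h.ip_secFun_irr rfl hθ.isClassFunction, ha]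
  rcases sq_eq_one_iff.1 (ψ.div_pow_eq_one_of_center (h.mem_center rfl)
    (h.inj (by rw [sq, map_mul, hz, map_one]))) with e | e
  exacts [⟨a, by simp [e]⟩, ⟨-a, by simp [e]⟩]

theorem blockPart_image_comapEquiv (ε : H ≃* G) (A : Set (IrrCharacter G)) (θ : G → ℂ) (g : H) :
    blockPart (IrrCharacter.comapEquiv ε '' A) (θ ∘ ε) g = blockPart A θ (ε g) := by
  rw [blockPart_eq, blockPart_eq, finsum_mem_image (IrrCharacter.comapEquiv ε).injective.injOn]
  exact finsum_mem_congr rfl fun χ _ => congrArg (· * _)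
    (ip_comp_of_surjective ε.toMonoidHom ε.surjective θ χ.1)

/-- Inner products with functions inflated from the quotient by a central involution. -/
theorem ip_comp_pPrimePart {π : G →* H} {z : G} (hz : z ∈ center G) (h2 : orderOf z = 2)
    (hk : π.ker = zpowers z) (θ : G → ℂ) {φ : H → ℂ} (hφ : pRegularPart 2 φ = φ) :
    ip (fun g => θ (pPrimePart 2 g)) (φ ∘ π) = 2 * ip (pRegularPart 2 θ) (φ ∘ π) := by
  classical
  letI := Fintype.ofFinite G
  have hz1 : π z = 1 := by rw [← MonoidHom.mem_ker, hk]; simp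
  have hz2 : IsPElt 2 z := ⟨1, h2⟩
  have h1 : ∀ g, θ (pPrimePart 2 g) * conj (φ (π g)) = pRegularPart 2 θ g * conj (φ (π g)) +
      pRegularPart 2 θ (z * g) * conj (φ (π (z * g))) := fun g => by
    rw [map_mul, hz1, one_mul, ← add_mul]
    by_cases h : IsPRegular 2 (π g)
    · have h3 : ∀ g, IsPRegular 2 g → ¬ IsPRegular 2 (z * g) := fun g hg h => by
        rw [← pPart_eq_one_iff, pPart_mul_eq (mem_center_iff.1 hz g).symm hz2 hg] at h
        simp [h] at h2
      have h4 : pPart 2 g ∈ zpowers z := by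
        rwa [← hk, MonoidHom.mem_ker, map_pPart, pPart_eq_one_iff]
      rw [mem_zpowers_iff_mem_range_orderOf, h2] at h4
      simp only [Finset.mem_image, Finset.mem_range] at h4
      obtain ⟨k, hk, e⟩ := h4
      interval_cases k
      · have h5 := pPart_eq_one_iff.1 (e.symm.trans (pow_zero z))
        rw [pPrimePart_eq_self_iff.2 h5, pRegularPart_of_reg h5,
          pRegularPart_of_not_reg (h3 g h5), add_zero]
      · have h5 : z * g = pPrimePart 2 g := by
          conv_lhs => rw [← pPart_mul_pPrimePart 2 g, ← e, pow_one, ← mul_assoc,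
            mul_self_of_orderOf_eq_two h2, one_mul]
        rw [pRegularPart_of_not_reg fun h => h3 g h (h5 ▸ isPRegular_pPrimePart 2 g), h5,
          pRegularPart_of_reg (isPRegular_pPrimePart 2 g), zero_add]
    · simp [pRegularPart_eq_self_iff.1 hφ _ h]
  simp only [ip_def, Function.comp_apply, h1, Finset.sum_add_distrib]
  erw [Equiv.sum_comp (Equiv.mulLeft z) fun g => pRegularPart 2 θ g * conj (φ (π g))]
  ring

theorem isTame_of_card {n r : ℕ} {x y : P} (hx : orderOf x = 2 ^ (n + 1))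
    (hP : Nat.card P = 2 ^ (n + 2)) (h : y * x * y⁻¹ = x ^ r) (hr : r % 4 = 3) (h2 : x ^ r ≠ x) :
    IsTame n r P x y (x ^ 2 ^ n) := by
  have h1 : y ∉ zpowers x := fun e => h2 (by
    obtain ⟨k, rfl⟩ := mem_zpowers_iff.1 e
    rw [← h]; group)
  have h3 : ∀ g : P, (g : G) ∈ zpowers (x : G) ↔ g ∈ zpowers x := fun g => by
    simp only [mem_zpowers_iff, ← coe_zpow, Subtype.val_inj]
  have h4 := (zpowers x).card_mul_index
  rw [Nat.card_zpowers, hx, hP, pow_succ _ (n + 1), mul_right_inj' (by positivity)] at h4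
  refine ⟨x.2, y.2, by rwa [orderOf_coe], mt (h3 y).1 h1, fun g hg => (em _).imp (h3 ⟨g, hg⟩).2
    fun e => (h3 (⟨g, hg⟩ * y⁻¹)).2 ?_, congrArg Subtype.val h, hr, rfl⟩
  simp [mul_mem_iff_of_index_two h4, e, h1]

theorem IsQuasiDihedral.exists_isTame (h : IsQuasiDihedral P) : ∃ (n r : ℕ) (x y z : G),
    IsTame (n + 2) r P x y z ∧ y * y = 1 ∧ x * y * (x * y) ≠ 1 := by
  obtain ⟨n, hn, h1, x, y, h2, h3, h4⟩ := h
  obtain ⟨n, rfl⟩ := Nat.exists_eq_add_of_le' hn
  have h5 : 4 ∣ 2 ^ (n + 2) := Dvd.intro_left _ (pow_add 2 n 2).symm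
  have h6 : 0 < 2 ^ (n + 2) := by positivity
  have h7 := mul_self_of_orderOf_eq_two h3
  have h9 : orderOf x = 2 * 2 ^ (n + 2) := by rw [h2, pow_succ']
  refine ⟨n, _, x, y, _, isTame_of_card h2 h1 h4 (by simp; omega) fun e => ?_,
    congrArg Subtype.val h7, fun e => ?_⟩
  · have := (pow_eq_pow_iff_modEq.1 (e.trans (pow_one x).symm)).eq_of_lt_of_lt
      (by simp; omega) (by omega)
    simp at this
    omega
  · have h8 : x * y * (x * y) = x ^ 2 ^ (n + 2) := by
      rw [← Nat.sub_add_cancel h6, pow_succ', ← show _ = x ^ (2 ^ (n + 2) - 1) from h4,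
        inv_eq_of_mul_eq_one_right h7, mul_assoc, mul_assoc]
    have := Nat.le_of_dvd h6 (orderOf_dvd_of_pow_eq_one (h8.symm.trans (Subtype.ext e)))
    omega

theorem exists_isTame_of_quaternion {n : ℕ} (ε : P ≃* QuaternionGroup (2 ^ (n + 1))) :
    ∃ (r : ℕ) (x y z : G), IsTame (n + 1) r P x y z ∧ y * y ≠ 1 ∧ x * y * (x * y) ≠ 1 := by
  have h1 : orderOf (ε.symm (.a 1)) = 2 ^ (n + 2) := by
    rw [MulEquiv.orderOf_eq, QuaternionGroup.orderOf_a_one, ← pow_succ']
  have h2 : ∀ i, (ε.symm (.xa i) : G) * ε.symm (.xa i) ≠ 1 := fun i e => by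
    rw [← sq, ← orderOf_dvd_iff_pow_eq_one, orderOf_coe, MulEquiv.orderOf_eq,
      QuaternionGroup.orderOf_xa] at e
    omega
  have h3 : ε.symm (.a 1) ^ (2 ^ (n + 2) - 1) = (ε.symm (.a 1))⁻¹ := by
    rw [eq_inv_iff_mul_eq_one, ← pow_succ, Nat.sub_add_cancel Nat.one_le_two_pow, ← h1,
      pow_orderOf_eq_one]
  have h4 : 4 ∣ 2 ^ (n + 2) := Dvd.intro_left _ (pow_add 2 n 2).symm
  have h5 : 0 < 2 ^ (n + 2) := by positivity
  refine ⟨2 ^ (n + 2) - 1, _, ε.symm (.xa 0), _, isTame_of_card h1 (by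
    rw [Nat.card_congr ε.toEquiv, Nat.card_eq_fintype_card, QuaternionGroup.card]; ring) (by
      rw [h3, mul_inv_eq_iff_eq_mul, eq_inv_mul_iff_mul_eq, ← map_mul, ← map_mul]; simp) (by omega)
    fun e => ?_, h2 0, by rw [← coe_mul, ← map_mul]; exact h2 _⟩
  rw [h3, inv_eq_iff_mul_eq_one, ← sq, ← orderOf_dvd_iff_pow_eq_one, h1] at e
  have := Nat.le_of_dvd two_pos e
  omega

namespace IsTame

open Exc TameNum

variable [CharP (ResK M) 2] {e : (ResK M)[G]} {n r : ℕ} {x y z : G} (h : IsTame (n + 1) r P x y z)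
  (hM : IsPModular 2 M) (hB : IsPBlock M B) (hP : IsMaxPair 2 (blockIdem M B) P e)
include h hM hB hP

theorem card_ne_of_central (hz : z ∈ center G) :
    Nat.card {χ : B // χ.1 z ≠ χ.1 1} + 1 = blockRank 2 B + 2 ^ n := by
  classical
  letI := Fintype.ofFinite B
  letI := Fintype.ofFinite P
  obtain ⟨z', rfl⟩ : ∃ z' : P, z' = z := ⟨⟨z, h.z_mem'⟩, rfl⟩
  have hz1 : z' ≠ 1 := by simpa using h.z_ne
  have hz4 : (z' : G) ^ 4 = 1 := by rw [show 4 = 2 * 2 from rfl, pow_mul, sq, sq, h.z_mul_z, one_mul]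
  have h1 := hM.sum_one_sub_eq hB hP hz (S := insert 1 (insert z' (Finset.univ.filter
    fun u : P => u.1 ^ 4 ≠ 1))) (fun u hu e => ?_) fun u hu => ?_
  · rw [Finset.sum_insert (by simp [hz1.symm]), Finset.sum_insert (by simp [hz4]), ← Complex.ofReal_sum,
      h.sum_fw_pow_four hM hP n.succ_pos, hM.fw_one hB hP, hM.fw_of_central hP.pair hz,
      (hM.isLoc_of_central hB hP hz).lrk_eq hM hP.pair, Finset.sum_congr rfl
        (g := fun χ => if χ.1 z' ≠ χ.1 1 then 2 else 0) fun χ _ => ?_, ← Finset.sum_filter,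
      Finset.sum_const, ← Fintype.card_subtype, ← Nat.card_eq_fintype_card] at h1
    · push_cast at h1
      exact_mod_cast (by linear_combination h1 / 2 :
        (Nat.card {χ : B // χ.1 z' ≠ χ.1 1} + 1 : ℂ) = blockRank 2 B + 2 ^ n)
    · rcases sq_eq_one_iff.1 (χ.1.div_pow_eq_one_of_center hz ((sq _).trans h.z_mul_z)) with e | e
      · simp [χ.1.apply_one_ne_zero, (div_eq_one_iff_eq χ.1.apply_one_ne_zero).1 e]
      · rw [e, if_pos fun e' => by norm_num [e', χ.1.apply_one_ne_zero] at e]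
        norm_num
  · simp only [Finset.mem_insert, Finset.mem_filter, Finset.mem_univ, true_and] at hu
    rcases hu with rfl | rfl | hu
    · rw [one_mul, hP.pair.fClass_of_central hz] at e
      exact hz1 e.symm
    · rw [show u * u = 1 from Subtype.ext h.z_mul_z, hP.pair.fClass_of_central (one_mem _)] at e
      exact hz1 e
    · have h2 := h.mem_of_pow_four u.2 hu
      rcases h.eq_or_eq_of_mem_fClass hM hP h2 (mul_mem h2 h.z_mem) (mem_fClass_symm e) with e | e
      · exact hz1 (mul_eq_left.1 e)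
      · exact hu (h.pow_four_of_pow_r u.2 (congrArg Subtype.val e).symm)
  · simp only [Finset.mem_insert, Finset.mem_filter, Finset.mem_univ, true_and, not_or, not_not] at hu
    obtain ⟨t, ht, e⟩ := h.exists_conj_eq_mul_z n.succ_pos u.2 hu.2.2 (by simpa using hu.1)
      (by simpa using hu.2.1)
    refine ⟨hP.pair.mem_fClass_of_conj ht e, ?_⟩
    by_cases h2 : (u : G) * u = 1
    · exact h.lrk_of_notMem hM hP (h.notMem_of_notMem_fClass hM hP.pair h2 hu.1 (by
        simpa [hP.pair.fClass_of_central hz] using hu.2.1))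
    · exact h.lrk_of_sq_ne hM hP h2

omit hM hB hP in
theorem map_of_ker {π : G →* H} (hk : π.ker = zpowers z) :
    IsDihPair (P.map π) (π x) (π y) ∧ orderOf (π x) = 2 ^ (n + 1) := by
  have h1 : ∀ v ∈ P, v ∉ zpowers x → π v * π v = 1 := fun v hv hn => by
    rw [← map_mul, ← MonoidHom.mem_ker, hk]
    rcases h.sq_cases hv hn with e | e <;> simp [e]
  have h2 := h1 y h.mem_y h.notMem
  have h3 := h1 _ (mul_mem h.mem_x h.mem_y) (h.mul_notMem (mem_zpowers x) h.notMem)
  refine ⟨⟨mem_map_of_mem π h.mem_x, mem_map_of_mem π h.mem_y, h2, ?_, fun e => h.notMem ?_, ?_⟩,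
    orderOf_eq_prime_pow (fun e => ?_) (by rw [← map_pow, h.z_eq, ← MonoidHom.mem_ker, hk]; simp)⟩
  · rw [inv_eq_of_mul_eq_one_right h2, eq_inv_iff_mul_eq_one, ← conj_eq_one_iff (a := π x)]
    simpa [mul_assoc] using h3
  · rw [← MonoidHom.map_zpowers, ← mem_comap, comap_map_eq, hk] at e
    exact sup_le le_rfl (zpowers_le.2 h.z_mem) e
  · rintro _ ⟨g, hg, rfl⟩
    rw [← inv_eq_of_mul_eq_one_right h2, ← map_inv, ← map_mul, ← MonoidHom.map_zpowers]
    exact (h.cases g hg).imp (mem_map_of_mem π) (mem_map_of_mem π)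
  · rw [← map_pow, ← MonoidHom.mem_ker, hk] at e
    have h4 := orderOf_dvd_of_mem_zpowers e
    rw [h.orderOf_z, orderOf_dvd_iff_pow_eq_one, ← pow_mul, ← pow_succ, h.z_eq] at h4
    exact h.z_ne h4

/-- Olsson: the number of characters if the involution of `⟨x⟩` is central. -/
theorem exists_frame_of_central (hz : z ∈ center G) {π : G →* H} (hπ : Function.Surjective π)
    (hk : π.ker = zpowers z) [Fintype (IrrCharacter.inflate π hπ ⁻¹' B)] :
    Nat.card B = blockRank 2 B + 2 ^ (n + 1) + 2 ∧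
      blockRank 2 (IrrCharacter.inflate π hπ ⁻¹' B) = blockRank 2 B ∧
      ∃ u v t, DihFrame (IrrCharacter.inflate π hπ ⁻¹' B) (2 ^ (n + 2)) u v t := by
  obtain ⟨h1, h2, h3⟩ := ((hB.isDefectGroup_iff hM _).2 hP.defect).central_quotient hB hM hπ
    (hk ▸ h.isPGroup.to_le (zpowers_le.2 h.z_mem')) (hk ▸ zpowers_le.2 hz)
  obtain ⟨e', hP'⟩ := (h1.isBlockIdem hM).exists_isMaxPair ((h1.isDefectGroup_iff hM _).1 h2)
  obtain ⟨h4, h5⟩ := h.map_of_ker hk
  obtain ⟨h6, -, -, h7⟩ := (h4.isTame h5).dihedral hM h1 hP' h4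
  refine ⟨?_, h3, h7⟩
  have h8 := h.card_ne_of_central hM hB hP hz
  have h9 : Nat.card (IrrCharacter.inflate π hπ ⁻¹' B) = Nat.card {χ : B // χ.1 z = χ.1 1} :=
    Nat.card_congr (.ofBijective (fun β => ⟨⟨_, β.2⟩, congrArg β.1.1 ((show π z = 1 by
      rw [← MonoidHom.mem_ker, hk]; simp).trans (map_one π).symm)⟩) ⟨fun a b e => Subtype.ext
        (IrrCharacter.inflate_injective π hπ (congrArg (·.1.1) e)), fun χ => by
      obtain ⟨β, hβ⟩ := χ.1.1.exists_inflate_eq π hπ fun g hg => by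
        rcases h.eq_one_or_z (zpowers_le.2 h.z_mem (hk ▸ hg)) (by
          rw [← sq, ← orderOf_dvd_iff_pow_eq_one, ← h.orderOf_z]
          exact orderOf_dvd_of_mem_zpowers (hk ▸ hg)) with rfl | rfl
        exacts [rfl, χ.2]
      exact ⟨⟨β, show _ ∈ B from hβ ▸ χ.1.2⟩, Subtype.ext (Subtype.ext hβ)⟩⟩)
  classical
  have h10 := Nat.card_congr (Equiv.sumCompl fun χ : B => χ.1 z = χ.1 1)
  rw [Nat.card_sum] at h10
  simp only [ne_eq] at h8
  omega

/-- The column of norm four attached to the generators of `⟨x⟩`. -/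
theorem exists_col_four [Fintype B] : ∃ A : B → ℤ, ∑ χ, A χ * A χ = 4 ∧
    (∀ χ, Odd (A χ) ↔ blockHeight 2 B χ.1.1 = 0) ∧ ∀ θ, IsClassFunction G θ →
      prj 2 M e ⟨z, h.z_mem'⟩ θ = θ → ∑ χ : B, ip θ χ.1.1 * A χ = 0 := by
  classical
  letI := Fintype.ofFinite (zpowers x)
  letI := Fintype.ofFinite (zpowers x →* ℂˣ)
  let x' : zpowers x := ⟨x, mem_zpowers x⟩
  have hx : ∀ a, a ∈ zpowers x' := fun a => by
    obtain ⟨k, hk⟩ := mem_zpowers_iff.1 a.2
    exact ⟨k, Subtype.ext hk⟩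
  obtain ⟨s, hs⟩ := exists_sgn hx h.card_zpowers
  have hgen : ∀ u : zpowers x, s u ≠ 1 → zpowers (u : G) = zpowers x ∧ (u : G) * u ≠ 1 := by
    intro u hu
    obtain ⟨k, rfl⟩ := (Submonoid.mem_powers_iff _ _).1 ((mem_powers_iff_mem_zpowers).2 (hx u))
    have h1 : orderOf (x ^ k) = orderOf x := Nat.Coprime.orderOf_pow (h.ord ▸ .pow_left _
      (Nat.coprime_two_left.2 (Nat.not_even_iff_odd.1 fun e => hu (by simp [hs, e.neg_one_pow]))))
    refine ⟨eq_of_le_of_card_ge (zpowers_le.2 (Subtype.prop _)) (by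
      rw [Nat.card_zpowers, Nat.card_zpowers, coe_pow, h1]), fun e => ?_⟩
    rw [← sq, ← orderOf_dvd_iff_pow_eq_one, coe_pow, h1, h.ord] at e
    have := Nat.le_of_dvd two_pos e
    have := Nat.pow_le_pow_right two_pos (by omega : 2 ≤ n + 1 + 1)
    omega
  obtain ⟨c, hc⟩ := hM.exists_isLoc_subtype hP.pair h.le
  have hx2 := hgen x' (by simp [hs])
  obtain ⟨φ, hφ⟩ := hc.block.exists_ibrOf_eq_singleton hM (hc.lrk_eq hM hP.pair ▸
    h.lrk_of_mem hM hP (u := ⟨x, h.mem_x⟩) (mem_zpowers x) hx2.2)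
  obtain ⟨D, hD⟩ : ∃ D : B → zpowers x → ℂ, ∀ χ u, D χ u = genDec (C(zpowers x)).subtype u χ.1.1 φ :=
    ⟨_, fun _ _ => rfl⟩
  have hq := hc.pow_blockDefect_eq hM ((hP.isDefGrp_centralizer_iff hc.le).2 fun g =>
    h.card_le_of_mem hM (u := ⟨x, h.mem_x⟩) (mem_zpowers x) hx2.2)
  have hcol : ∀ u : zpowers x, s u ≠ 1 → IsCol 2 M B e (inclusion h.le u) (fun χ => D χ u)
      (Nat.card (P ⊓ C(zpowers (u : G)) : Subgroup G)) := fun u hu => by
    simp only [hD, (hgen u hu).1, ← hq]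
    exact IsLoc.isCol_genDec (u := inclusion h.le u) (by rwa [coe_inclusion, (hgen u hu).1]) hM hP hφ
  have hcen : ∀ u, inclusion (zpowers_le_centralizer_zpowers x) u ∈ center C(zpowers x) := fun u =>
    mem_center_iff.2 fun g => Subtype.ext (g.2 u u.2).symm
  have hG : ∀ χ, IsGeneralizedCharacter (zpowers x) (D χ) := fun χ => by
    choose lam hlam _ using fun ψ : IrrCharacter C(zpowers x) => ψ.exists_monoidHom_center
    choose a ha using fun ψ : IrrCharacter C(zpowers x) =>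
      (χ.1.isCharacter.isGen.comp (Subgroup.subtype _)).exists_ip_eq_int ψ.isCharacter.isGen
    convert IsGeneralizedCharacter.sum (s := Finset.univ) fun ψ _ =>
      (isCharacter_linear ((lam ψ).comp ((inclusion _).codRestrict _ hcen))).isGen.zsmul (a ψ * decNum ψ.1 φ) using 1
    funext u
    rw [hD, ← coe_inclusion (zpowers_le_centralizer_zpowers x) u, ← subtype_apply,
      genDec_eq_sum _ (hcen u) χ.1.isClassFunction, Finset.sum_apply]
    refine Finset.sum_congr rfl fun ψ _ => ?_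
    rw [ha, ← mul_one (inclusion _ u), hlam ψ ⟨_, hcen u⟩, mul_div_cancel_right₀ _ ψ.apply_one_ne_zero]
    simp
    ring
  have hDr : ∀ χ u, D χ (u ^ r) = D χ u := fun χ u => by
    have h1 := hc.conj hM hP.pair (bFus_of_mem hP.pair h.le h.mem_y)
    rw [cjS_eq_self_iff.2 (h.le_normalizer (mem_zpowers x) h.mem_y)] at h1
    obtain ⟨ε, h2, h3⟩ := hc.exists_equiv h1 hM hP.pair
    have h4 := fun u : zpowers x => congrFun (hc.block.pRegularPart_blockPart_eq hM hφ
      (IsClassFunction.mul_comp_of_comm (C(zpowers x)).subtype (u := u) (fun g => g.2 u u.2)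
        χ.1.isClassFunction)) 1
    simp only [pRegularPart_of_reg isPRegular_one, Pi.smul_apply, smul_eq_mul] at h4
    refine mul_right_cancel₀ (b := φ.1 1) (by
      rw [IBr.apply_one hM]; exact Nat.cast_ne_zero.2 (IBr.deg_pos φ).ne') ?_
    rw [hD, hD, genDec, genDec, ← h4, ← h4, ← map_one ε, ← blockPart_image_comapEquiv, ← h3, map_one]
    congr 1
    funext g
    rw [Function.comp_apply, ← χ.1.isClassFunction (u * _) y, coe_pow,
      ← h.conj_of_notMem h.mem_y h.notMem u.2, show (C(zpowers x)).subtype (ε g) = y * g * y⁻¹ from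
        DFunLike.congr_fun h2 g, conj_mul]
    rfl
  choose N hN using fun χ => exists_int_coef (hG χ)
  have hrr : ∀ u : zpowers x, (u ^ r) ^ r = u := fun u => Subtype.ext (by
    rw [coe_pow, coe_pow, ← h.conj_of_notMem h.mem_y h.notMem (pow_mem u.2 r),
      ← h.conj_of_notMem h.mem_y h.notMem u.2]
    simpa [mul_assoc] using h.conj_of_mem (h.sq_mem h.mem_y) u.2)
  have hsr : s ^ r = s := linear_ext hx (by
    rw [MonoidHom.pow_apply, hs, Odd.neg_one_pow (Nat.odd_iff.2 (by have := h.hr; omega))])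
  refine ⟨fun χ => N χ s, ?_, fun χ => ?_, fun θ hθ hθ' => ?_⟩
  · have := gram_pow (D := D) (r := r) (sgn_ne_one hs) (sgn_ne_one hs) (hsr.symm ▸ sgn_ne_one hs)
      fun u v hu hv => by
        convert h.sum_mul_conj_eq hM hB hP (fun χ => hDr χ u) (hcol u hu) (fun e => hu (by simp [e]))
          (hcol v hv)
    simp only [hN, map_intCast, hsr, if_true] at this
    exact_mod_cast this
  · have h1 := (hcol x' (by simp [hs])).red_ne_zero_iff hM hB hP hc hq χ χ
    have h2 : ∀ u : zpowers x, u ≠ 1 → red M (D χ u) = N χ s := fun u hu => by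
      obtain ⟨k, hk⟩ := even_sum_sub hx h.card_zpowers hs h.hr hrr (N := N χ) fun lam => by
        have := coef_pow hrr (hDr χ) lam
        rw [hN, hN] at this
        exact_mod_cast this
      have h3 : ∀ lam : zpowers x →* ℂˣ, (lam u : ℂ) ^ 2 ^ (n + 2) = 1 := fun lam => by
        rw [← Units.val_pow_eq_pow_val, ← map_pow, ← h.card_zpowers, pow_card_eq_one', map_one,
          Units.val_one]
      have h4 := fun lam => mem_locO_of_pow_eq_one (M := M) (by positivity) (h3 lam)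
      have h5 : N χ 1 = 0 := by exact_mod_cast (hN χ 1).symm.trans (coef_one _)
      rw [eq_sum_coef (comm_of_gen hx) (D χ) hu]
      simp only [hN]
      rw [red_sum fun lam _ => mul_mem (intCast_mem _ _) (h4 lam), Finset.sum_congr rfl fun lam _ => by
        rw [red_mul (intCast_mem _ _) (h4 lam), hM.red_eq_one_of_pow (h3 lam), red_intCast, mul_one],
        ← Int.cast_sum, show ∑ lam, N χ lam = N χ s + 2 * k by omega]
      simp [CharTwo.two_eq_zero]
    have h3 : x' ≠ 1 := fun e => hx2.2 (by simp [e])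
    rw [← (hG χ).apply_inv, red_mul ((hG χ).mem_locO _) ((hG χ).mem_locO _), h2 _ h3,
      h2 _ (inv_ne_one.2 h3), ← Int.cast_mul, Ne, CharP.intCast_eq_zero_iff _ 2, and_self] at h1
    rw [← h1, Nat.cast_two, ← even_iff_two_dvd, Int.not_even_iff_odd, Int.odd_mul, and_self]
  · simp only [← hN, coef, Finset.mul_sum]
    rw [Finset.sum_comm]
    refine Finset.sum_eq_zero fun u _ => ?_
    by_cases hu : s u = 1
    · simp [hu]
    have := (hcol u hu).sum_eq_zero hM hB hP (fun e => (hgen u hu).2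
      ((mul_self_eq_one_iff_of_mem_fClass e).1 h.z_mul_z)) hθ hθ'
    simp only [mul_left_comm (ip θ _) (Nat.card (zpowers x) : ℂ)⁻¹, ← mul_assoc (ip θ _),
      ← Finset.mul_sum, ← Finset.sum_mul, this, zero_mul, mul_zero]

/-- Olsson: blocks with semidihedral or quaternion defect groups. -/
theorem quaternion (hxy : x * y * (x * y) ≠ 1) : ∃ j ≤ 2, Nat.card B = 2 ^ (n + 1) + 3 + j ∧
    (y * y = 1 → j ≤ 1) ∧
    (y * y = 1 ∧ ⟨y, h.mem_y⟩ ∈ fClass 2 P e ⟨z, h.z_mem'⟩ → blockRank 2 B = j + 2) ∧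
    (¬ (y * y = 1 ∧ ⟨y, h.mem_y⟩ ∈ fClass 2 P e ⟨z, h.z_mem'⟩) → blockRank 2 B = j + 1) ∧
    Nat.card {χ : B // blockHeight 2 B χ.1.1 = 0} = 4 ∧
    (∀ χ ∈ B, blockHeight 2 B χ.1 ≤ 1 ∨ blockHeight 2 B χ.1 = n + 1) ∧
    (1 ≤ n → Nat.card {χ : B // blockHeight 2 B χ.1.1 = 1} + 1 = 2 ^ (n + 1)) := by
  classical
  letI := Fintype.ofFinite B
  letI := Fintype.ofFinite P
  obtain ⟨H, _, _, f, b, hb⟩ : ∃ (H : Type u) (_ : Group H) (_ : Finite H) (f : H →* G)
      (b : Set (IrrCharacter H)), IsLoc 2 M P e (zpowers z) f b :=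
    ⟨_, _, inferInstance, _, hM.exists_isLoc_subtype hP.pair (zpowers_le.2 h.z_mem')⟩
  have hS := hb.isSec hP.pair
  have hf : ∀ g ∈ P, g ∈ f.range := fun g hg => by
    rw [hb.range_eq]; exact h.le_centralizer_z hg
  obtain ⟨x, rfl⟩ := hf x h.mem_x
  obtain ⟨y, rfl⟩ := hf y h.mem_y
  obtain ⟨z', hz'⟩ := hf z h.z_mem'
  have h' := h.comap hb.inj rfl rfl hz'
  obtain ⟨s, hs, hs'⟩ := hb.exists_isMaxPair hM hP.pair (zpowers_le_centralizer_zpowers z)
    (hb.isDefGrp_of_le hM hP h.le_centralizer_z)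
  have hz := hS.mem_center hz'
  obtain ⟨Q, _, _, π, hπ, hk⟩ := exists_surjective_ker_eq (zpowers_le.2 hz)
  letI := Fintype.ofFinite (IrrCharacter.inflate π hπ ⁻¹' b)
  letI := Fintype.ofFinite (P.comap f)
  obtain ⟨h1, h2, u, v, t, hF⟩ := h'.exists_frame_of_central hM hb.block hs hz hπ hk
  have hy : f y * f y = 1 ↔ y * y = 1 := by rw [← map_mul, map_eq_one_iff f hb.inj]
  have hyz : (⟨y, h'.mem_y⟩ : P.comap f) ∉ fClass 2 _ s ⟨z', h'.z_mem'⟩ := fun e => by
    rw [hs.pair.fClass_of_central hz] at e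
    exact h'.notMem ((show y = z' from congrArg Subtype.val e) ▸ h'.z_mem)
  have h3 := h'.card_eq_add hM hb.block hs
  have h4 := h.card_eq_add hM hB hP
  have hl : lrk 2 M _ s (zpowers z') = _ :=
    (hM.isLoc_of_central hb.block hs (z := ⟨z', h'.z_mem'⟩) hz).lrk_eq hM hs.pair
  rw [h'.sum_fw_invol_eq hM hs fun e => hxy (by simpa using congrArg f e), h.sum_fw_sq_comap hM hP
    (hb.isCentEmb_zpowers hP.pair) hs' hs, hl, h1] at h3
  rw [h.sum_fw_invol_eq hM hP hxy, hb.lrk_eq hM hP.pair] at h4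
  have h5 : (y * y = 1 ∧ ⟨f y, h.mem_y⟩ ∈ fClass 2 P e ⟨z, h.z_mem'⟩ →
      Nat.card B = blockRank 2 B + 2 ^ (n + 1) + 1) ∧ (¬ (y * y = 1 ∧ ⟨f y, h.mem_y⟩ ∈
        fClass 2 P e ⟨z, h.z_mem'⟩) → Nat.card B = blockRank 2 B + 2 ^ (n + 1) + 2) := by
    rify
    by_cases c1 : y * y = 1 <;> by_cases c2 : ⟨f y, h.mem_y⟩ ∈ fClass 2 P e ⟨z, h.z_mem'⟩ <;>
      simp [c1, c2, hy, hyz] at h3 h4 ⊢ <;> linarith
  have h6 : y * y = 1 → v = 0 := fun e => by
    have := h'.le_card' hM hb.block hs (v := ⟨y, h'.mem_y⟩) e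
      (fun e => h'.notMem ((show y = 1 from congrArg Subtype.val e) ▸ one_mem _)) hyz
    rcases hF.cases with c | ⟨-, c | c⟩
    exacts [c.2.1, c.1, by have := c.2; omega]
  clear h3 h4
  obtain ⟨β, hβ⟩ : ∃ β : (IrrCharacter.inflate π hπ ⁻¹' b → ℤ) → G → ℂ, ∀ w,
    β w = secInd 2 f z (vch (fun χ => (w χ : ℂ)) ∘ π) := ⟨_, fun _ => rfl⟩
  have hβ0 : ∀ w, IsClassFunction G (β w) := fun w => hβ w ▸ isClassFunction_secInd _ _ _
  have hβ1 : ∀ w, prj 2 M e ⟨z, h.z_mem'⟩ (β w) = β w := fun w => by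
    rw [hβ]
    refine IsLoc.prj_secInd (u := ⟨z, h.z_mem'⟩) hb hM hP ?_
    rw [show vch (fun χ => (w χ : ℂ)) ∘ π = ∑ χ, (w χ : ℂ) • (χ.1.inflate π hπ).1 from
      funext fun g => by simp [vch], blockPart_sum]
    exact Finset.sum_congr rfl fun χ _ => by rw [blockPart_smul, blockPart_irr_of_mem (A := b) χ.2]
  let R := fun w : IrrCharacter.inflate π hπ ⁻¹' b → ℤ =>
    pRegularPart 2 (vch fun χ => (w χ : ℂ)) = vch fun χ => (w χ : ℂ)
  have hβ2 : ∀ w w', R w' →
      ip (β w) (β w') = (∑ χ, w χ * w' χ : ℤ) / 2 := fun w w' hw => by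
    rw [hβ, hβ, hS.ip_secInd_secInd _ ((isClassFunction_vch _).comp π), eq_div_iff two_ne_zero,
      mul_comm, ← ip_comp_pPrimePart hz h'.orderOf_z hk _ hw, ← ip_vch_vch_int,
      ← ip_pRegularPart_of_vanish (θ := vch _) (pRegularPart_eq_self_iff.1 hw),
      ← pRegularPart_comp_pPrimePart, ip_pRegularPart_of_vanish (pRegularPart_eq_self_iff.1 hw),
      ← ip_comp_of_surjective π hπ]
    simp only [Function.comp_def, map_pPrimePart]
  obtain ⟨col, hcol⟩ : ∃ col : (IrrCharacter.inflate π hπ ⁻¹' b → ℤ) → B → ℤ, ∀ w, R w →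
      ∀ χ : B, ip χ.1.1 (β w) = col w χ / 2 := ⟨fun w χ => ⌊(2 * ip χ.1.1 (β w)).re⌋, fun w hw χ => by
    obtain ⟨a, ha⟩ := ((hS.isGen_secFun h.z_mul_z χ.1.isCharacter.isGen).comp_pPrimePart
      2).exists_ip_eq_int ((isGen_vch w).comp π)
    rw [ip_comp_pPrimePart hz h'.orderOf_z hk _ hw, ip_pRegularPart_left,
      ← ip_secInd_right _ _ _ χ.1.isClassFunction, ← hβ] at ha
    simp [ha, eq_div_iff, mul_comm _ (2 : ℂ)]⟩
  have hcol' := fun w hw (χ : B) => (conj_ip _ _).symm.trans (congrArg conj (hcol w hw χ))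
  simp only [map_div₀, map_intCast, Complex.conj_ofNat] at hcol'
  have hcc : ∀ w w', R w → R w' → ∑ χ, col w χ * col w' χ = 2 * ∑ χ, w χ * w' χ := fun w w' hw hw' => by
    have := hβ2 w w' hw'
    rw [ip_eq_sum_block (B := B) (by rw [← hβ1, hM.blockPart_prj hB hP _ (hβ0 w)])] at this
    simp only [hcol' w hw, hcol w' hw', div_mul_div_comm, ← Finset.sum_div] at this
    exact_mod_cast (by push_cast at this ⊢; linear_combination 4 * this :
      ((∑ χ, col w χ * col w' χ : ℤ) : ℂ) = (2 * ∑ χ, w χ * w' χ : ℤ))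
  obtain ⟨A, hA, hA', hA''⟩ := h.exists_col_four hM hB hP
  have hAc : ∀ w, R w → ∑ χ, A χ * col w χ = 0 := fun w hw => by
    have := hA'' _ (hβ0 w) (hβ1 w)
    simp only [hcol' w hw, div_mul_eq_mul_div, ← Finset.sum_div, div_eq_zero_iff, two_ne_zero,
      or_false] at this
    simp only [mul_comm (A _)]
    exact_mod_cast this
  have hc0 : ∀ w, R w → (col w = 0 ↔ w = 0) := fun w hw => by
    rw [← sum_mul_self_eq_zero_iff', hcc w w hw hw, ← sum_mul_self_eq_zero_iff']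
    simp
  have hCol : ∀ w, R w → w = 0 ∨ Pair (2 ^ (n + 2)) w t → Col A (col t) (col w) := fun w hw h0 =>
    h0.imp (hc0 w hw).2 fun h0 => ⟨by rw [hcc w w hw hw, h0.uu]; rfl,
      by rw [hcc w t hw hF.rt, h0.ut]; rfl, hAc w hw, fun χ => by
    choose w' hw' using h0.even
    have e1 : (vch fun χ => (w' χ : ℂ)) = (1 / 2 : ℂ) • ((vch fun χ => (w χ : ℂ)) -
        vch fun χ => (t χ : ℂ)) := by
      simp only [vch, ← Finset.sum_sub_distrib, ← sub_smul, Finset.smul_sum, smul_smul,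
        ← Int.cast_sub, hw']
      exact Finset.sum_congr rfl fun _ _ => by congr 1; push_cast; ring
    have e2 := hcol w' (by simp only [R]; rw [e1, pRegularPart_smul, pRegularPart_sub, hw, hF.rt]) χ
    rw [hβ, e1, Pi.smul_comp, Pi.sub_comp, secInd_smul, secInd_sub, ← hβ, ← hβ, ip_smul_right,
      ip_sub_right, hcol w hw, hcol t hF.rt] at e2
    refine ⟨col w' χ, ?_⟩
    exact_mod_cast (by simp [Complex.conj_ofNat] at e2; linear_combination 4 * e2 :
      (col w χ - col t χ : ℂ) = col w' χ + col w' χ)⟩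
  have hut : ∑ χ, u χ * t χ = 0 := by
    rcases hF.cases with c | c
    exacts [by simp [c.1], c.1.ut]
  have hvt : ∑ χ, v χ * t χ = 0 := by
    rcases hF.cases with c | ⟨-, c | c⟩
    exacts [by simp [c.2.1], by simp [c.1], c.1.ut]
  have hu : u = 0 ∨ Pair (2 ^ (n + 2)) u t := hF.cases.imp (·.1) (·.1)
  have hv : v = 0 ∨ Pair (2 ^ (n + 2)) v t := by
    rcases hF.cases with c | ⟨-, c | c⟩
    exacts [.inl c.2.1, .inl c.1, .inr c.1]
  have hβ3 : β 0 = 0 := by simp [hβ, vch]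
  have h7 := fun χ : B => hM.prj_eq_sum_of_orth hB hP (β := ![β u, β v, β t])
    (w := ![1 / 2, 1 / 2, 1 / 2 ^ (n + 1)]) (fun i => by fin_cases i <;> exact hβ0 _)
    (fun i => by fin_cases i <;> exact hβ1 _)
    (fun i j hij => by fin_cases i <;> fin_cases j <;> simp [hβ2 _ _ hF.ru, hβ2 _ _ hF.rv,
      hβ2 _ _ hF.rt, ← Int.cast_mul, ← Int.cast_sum, hF.uv, hut, hvt, mul_comm (v _) (u _),
      mul_comm (t _) (u _), mul_comm (t _) (v _)] at hij ⊢)
    (fun i => by
      fin_cases i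
      · exact hu.imp (fun c => by simp [c, hβ3]) fun c => by simp [hβ2 _ _ hF.ru, c.uu, - Int.cast_sum]; norm_num
      · exact hv.imp (fun c => by simp [c, hβ3]) fun c => by simp [hβ2 _ _ hF.rv, c.uu, - Int.cast_sum]; norm_num
      · exact .inr (by simp [hβ2 _ _ hF.rt, hF.tt, - Int.cast_sum]; field_simp; ring))
    (by
      rw [hb.lrk_eq hM hP.pair, ← h2]
      simp only [Fin.sum_univ_three, Matrix.cons_val, hβ2 _ _ hF.ru, hβ2 _ _ hF.rv, hβ2 _ _ hF.rt, hF.tt]
      rcases hF.cases with ⟨c, c', c''⟩ | ⟨c, ⟨c', c''⟩ | ⟨c', c''⟩⟩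
      · simp [c, c', c'']; field_simp; ring
      · simp [c.uu, c', c'']; field_simp; ring
      · simp [c.uu, c'.uu, c'']; field_simp; ring) χ.1.isClassFunction
  have h8 : ∀ χ ψ : B, Nat.card P * ip (prj 2 M e ⟨z, h.z_mem'⟩ χ.1.1) ψ.1.1 = (2 ^ n *
      (col u χ * col u ψ + col v χ * col v ψ) + col t χ * col t ψ : ℤ) := fun χ ψ => by
    simp only [h7, Fin.sum_univ_three, Matrix.cons_val, ip_add_left, ip_smul_left, hcol _ hF.ru,
      hcol _ hF.rv, hcol _ hF.rt, hcol' _ hF.ru, hcol' _ hF.rv, hcol' _ hF.rt, h.card_eq]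
    push_cast
    field_simp
    ring
  obtain ⟨χ₀, hχ₀, h0⟩ := exists_blockHeight_eq_zero (p := 2) (hB.nonempty hM)
  have hl1 := hB.blockRank_pos hM
  obtain ⟨h9, Z, h10, h11, h12, h13, h14⟩ := TameNum.quaternion (n := n) (h := fun χ : B =>
    blockHeight 2 B χ.1.1) (fun _ _ => rfl) (fun χ ψ h0 => hM.pow_dvd_iff_of_vM (h8 χ ψ ▸
      hM.vM_ip_prj hB hP (u := ⟨z, h.z_mem'⟩) h.le_centralizer_z χ.2 ψ.2 h0)) (fun χ => by
      have e1 := hM.re_ip_prj_lt_one hP (u := ⟨z, h.z_mem'⟩) (by simpa using h.z_ne) χ.1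
      have e2 := congrArg Complex.re (h8 χ χ)
      rw [Complex.intCast_re, ← Complex.ofReal_natCast, Complex.re_ofReal_mul, h.card_eq] at e2
      rify
      push_cast at e2
      rw [← e2, pow_add, pow_succ]
      nlinarith [pow_pos (two_pos (α := ℝ)) n]) hA hA' ⟨⟨χ₀, hχ₀⟩, h0⟩
    (by rw [hcc t t hF.rt hF.rt, hF.tt]; ring) (hAc t hF.rt) (hCol u hF.ru hu) (hCol v hF.rv hv)
    (by
      rw [hc0 u hF.ru, hc0 v hF.rv]
      rcases hF.cases with c | ⟨c, -⟩
      exacts [fun _ => c.2.1, fun e => by simpa [e] using c.uu])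
    (by rw [← Nat.card_eq_fintype_card]; have := (em _).imp h5.1 h5.2; omega) (by
      rw [Ne, hc0 v hF.rv, ← Nat.card_eq_fintype_card]
      exact fun e => by have := h5.2 fun c => e (h6 c.1); omega)
  rw [← Nat.card_eq_fintype_card] at h10
  rw [hy]
  refine ⟨Z.card, h11, by omega, fun e => h12 ((hc0 v hF.rv).2 (h6 e)), fun c => by
    have := h5.1 c; omega, fun c => by have := h5.2 c; omega, by
    rw [Nat.card_eq_fintype_card, Fintype.card_subtype, h9], fun χ hχ => (em _).symm.imp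
      (h14 ⟨χ, hχ⟩) (h13 ⟨χ, hχ⟩), fun hn => ?_⟩
  have h15 := Finset.card_filter_add_card_filter_not (s := Finset.univ) fun χ : B =>
    blockHeight 2 B χ.1.1 = 0
  have h16 := Finset.card_filter_add_card_filter_not (s := Finset.univ.filter fun χ : B =>
    ¬ blockHeight 2 B χ.1.1 = 0) (· ∈ Z)
  rw [Finset.filter_filter, Finset.filter_filter, Finset.filter_congr (p := fun χ => _ ∧ χ ∈ Z)
    (q := (· ∈ Z)) fun χ _ => and_iff_right_of_imp fun e => by rw [h13 χ e]; omega,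
    Finset.filter_congr (p := fun χ => _ ∧ χ ∉ Z) (q := fun χ : B => blockHeight 2 B χ.1.1 = 1)
    fun χ _ => ⟨fun e => by have := h14 χ e.2; omega, fun e => ⟨by omega, fun e' => by
      have := h13 χ e'; omega⟩⟩, Finset.filter_mem_eq_inter, Finset.univ_inter,
    ← Fintype.card_subtype, ← Nat.card_eq_fintype_card] at h16
  rw [Finset.card_univ, ← Nat.card_eq_fintype_card] at h15
  omega

end IsTame

end Cfsg
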