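import Cfsg.Agent.Blk.Five
import Cfsg.Agent.GA.Alperin

/-!
# Brauer pairs modulo a central `p`-subgroup
-/

set_option autoImplicit false
set_option linter.unusedSectionVars false
set_option linter.style.haveILetI false

namespace Cfsg

open MonoidAlgebra GA Subgroup

universe u v w

local notation "C(" Q ")" => Subgroup.centralizer ((Q : Subgroup _) : Set _)
local notation "N(" Q ")" => Subgroup.normalizer ((Q : Subgroup _) : Set _)

variable {G : Type u} [Group G] [Finite G] {H : Type v} [Group H] [Finite H] {p : ℕ}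
  [Fact p.Prime] {M : Ideal AlgInt} {π : G →* H} {P Q R : Subgroup G}

/-- `π` is onto with central `p`-kernel. -/
structure IsCQuot (p : ℕ) (π : G →* H) : Prop where
  surj : Function.Surjective π
  pgrp : IsPGroup p π.ker
  cent : π.ker ≤ center G

/-- The Brauer pair idempotent induced on the quotient. -/
noncomputable def qId {k : Type w} [Field k] (π : G →* H) (R : Subgroup G) (r : k[G]) : k[H] :=
  orbIdem C(R.map π) (emb π r)

theorem map_centralizer_le (π : G →* H) (R : Subgroup G) : (C(R)).map π ≤ C(R.map π) := by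
  rintro _ ⟨x, hx, rfl⟩ _ ⟨d, hd, rfl⟩
  rw [← map_mul, ← map_mul, hx d hd]

theorem map_mem_normalizer_map (π : G →* H) {g : G} (hg : g ∈ N(R)) : π g ∈ N(R.map π) := by
  rw [← cjS_eq_self_iff, ← map_cjS, cjS_of_mem_normalizer hg]

theorem qId_cj {k : Type w} [Field k] (g : G) (r : k[G]) :
    qId π (cjS g R) (cj g r) = cj (π g) (qId π R r) := by
  rw [qId, qId, cj_orbIdem, map_cjS, cjS_centralizer, emb_cj]

namespace IsCQuot

variable (h : IsCQuot p π)
include h

theorem mem_centralizer {y : G} (hy : IsPRegular p y) (hc : π y ∈ C(R.map π)) : y ∈ C(R) := by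
  intro r hr
  have := eq_of_isPRegular_of_map_eq h.pgrp hy (y := r⁻¹ * y * r⁻¹⁻¹) (isPRegular_conj_iff.2 hy)
    (fun z hz => (mem_center_iff.1 (h.cent hz) y).symm) (by
      have := hc _ ⟨r, hr, rfl⟩
      simp [mul_assoc, ← this])
  conv_lhs => rw [← this]
  group

theorem mem_normalizer (hR : π.ker ≤ R) {g : G} (hg : π g ∈ N(R.map π)) : g ∈ N(R) := by
  rw [← cjS_eq_self_iff, ← map_cjS] at hg
  rw [← cjS_eq_self_iff]
  have h1 : π.ker ≤ cjS g R := (cjS_of_normal g π.ker).ge.trans (cjS_mono g hR)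
  rw [← comap_map_eq_self h1, hg, comap_map_eq_self hR]

theorem le_normalizer_map_centralizer (hR : π.ker ≤ R) : N(R.map π) ≤ normalizer (((C(R)).map π : Subgroup H) : Set H) := by
  intro x hx
  obtain ⟨x, rfl⟩ := h.surj x
  exact map_mem_normalizer_map π (normalizer_le_normalizer_centralizer' _ (h.mem_normalizer hR hx))

theorem Br_emb {k : Type w} [Field k] {a : k[G]} (ha : ∀ g, ¬ IsPRegular p g → a.coeff g = 0) :
    Br (R.map π) (emb π a) = emb π (Br R a) := by
  classical
  rw [Br, ← emb_trunc]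
  refine congrArg _ (ext_coeff fun g => ?_)
  rw [Br, coeff_trunc, coeff_trunc]
  by_cases hg : IsPRegular p g
  · exact if_congr ⟨h.mem_centralizer hg, fun h => map_centralizer_le π R ⟨g, h, rfl⟩⟩ rfl rfl
  · simp [ha g hg]

variable (hM : IsPModular p M) [CharP (ResK M) p] {b e f r r' : (ResK M)[G]}
include hM

theorem isBlockIdem_emb (hr : IsBPair p R r) : IsBlockIdem ((C(R)).map π) (emb π r) := by
  obtain ⟨c, hc, rfl⟩ := hM.exists_block_of_isBPair hr
  let π' : (C(R) : Subgroup G) →* (C(R) : Subgroup G).map π := π.subgroupMap _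
  have hπ' : Function.Surjective π' := π.subgroupMap_surjective _
  have hker : ∀ x ∈ π'.ker, (x : G) ∈ π.ker := fun x hx => congrArg Subtype.val hx
  have hc' := hc.preimage_inflate_of_centralizer hM hπ' (p := p)
    (h.pgrp.comap_subtype.to_le (K := π.ker.subgroupOf _) hker)
    fun g _ x hx => Subtype.ext (mem_center_iff.1 (h.cent (hker x hx)) g).symm
  have h1 : emb π (subIdem M _ c) = subIdem M _ (IrrCharacter.inflate π' hπ' ⁻¹' c) := by
    rw [subIdem, subIdem, ← (hc.isBlockUnion hM).emb_blockIdem hM hπ', emb_emb, emb_emb]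
    rfl
  exact h1 ▸ hc'.isBlockIdem_subIdem hM

variable (hR : π.ker ≤ R)
include hR

omit hM in
theorem centralizer_le_normalizer : C(R.map π) ≤ normalizer (((C(R)).map π : Subgroup H) : Set H) :=
  (centralizer_le_normalizer' _).trans (h.le_normalizer_map_centralizer hR)

theorem isBPair (hr : IsBPair p R r) : IsBPair p (R.map π) (qId π R r) := by
  refine ⟨hr.isPGroup.map π, (isBlockIdem_iff_of_pow_mem (p := p) (map_centralizer_le π R)
    fun x hx => exists_pow_mem_of_forall_isPRegular (fun y hy hy' => ?_) hx).2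
    ((h.isBlockIdem_emb hM hr).orbIdem le_rfl (map_centralizer_le π R)
      (h.centralizer_le_normalizer hR) (h.centralizer_le_normalizer hR))⟩
  obtain ⟨y, hy'', rfl⟩ := hy'.exists_lift h.surj
  exact ⟨y, h.mem_centralizer hy'' hy, rfl⟩

theorem qId_mul (hr : IsBPair p R r) : qId π R r * emb π r = emb π r :=
  (h.isBlockIdem_emb hM hr).orbIdem_mul le_rfl (map_centralizer_le π R)
    (h.centralizer_le_normalizer hR) (h.centralizer_le_normalizer hR)

theorem exists_cj_eq (hr : IsBPair p R r) (hr' : IsBPair p R r') (e : qId π R r = qId π R r') :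
    ∃ x, π x ∈ C(R.map π) ∧ cj x r = r' := by
  have h1 := h.isBlockIdem_emb hM hr'
  obtain ⟨x, hx, h2⟩ := (h.isBlockIdem_emb hM hr).exists_cj_eq_of_mul_orbIdem le_rfl
    (h.centralizer_le_normalizer hR) (h.centralizer_le_normalizer hR) h1 (by
      rw [← qId, e, qId, h1.mul_orbIdem le_rfl
        (h.centralizer_le_normalizer hR) (h.centralizer_le_normalizer hR)]
      exact h1.ne_zero)
  obtain ⟨x, rfl⟩ := h.surj x
  have h3 := hr.cjMap x
  rw [cjS_of_mem_normalizer (h.mem_normalizer hR (centralizer_le_normalizer' _ hx))] at h3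
  refine ⟨x, hx, h3.block.eq_of_mul_ne_zero (Zalg_mul_comm le_rfl) hr'.block fun e => h1.ne_zero ?_⟩
  rw [← h1.idem]
  nth_rw 1 [← h2]
  rw [← emb_cj, ← map_mul, e, map_zero]

omit hR in
theorem Br_emb_mul {a : (ResK M)[G]} (hR : π.ker ≤ R) (hr : IsBPair p R r) {K : Subgroup G}
    (ha : IsBlockIdem K a) {i : (ResK M)[H]} (hi : i ∈ fixedBy (ResK M) (R.map π))
    (hi' : i ∈ fixedBy (ResK M) C(R.map π)) (hii : i * i = i) (ha' : a ∈ fixedBy (ResK M) R)
    (h1 : i * emb π a = emb π a) (h2 : Br R a * r = r) :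
    Br (R.map π) i * qId π R r = qId π R r := by
  refine (h.isBPair hM hR hr).Br_mul_eq_of_ne_zero hi hi' hii fun e =>
    (h.isBlockIdem_emb hM hr).ne_zero ?_
  have h3 : emb π a ∈ fixedBy (ResK M) (R.map π) := by
    rintro _ ⟨x, hx, rfl⟩
    rw [← emb_cj, ha' x hx]
  have h4 : Br (R.map π) (emb π a) * emb π r = emb π r := by
    rw [h.Br_emb fun g hg => coeff_eq_zero_of_idem ha.mem ha.idem (not_not.1 hg), ← map_mul, h2]
  rw [← h4, ← h1, Br_mul (hr.isPGroup.map π) hi h3, mul_assoc, h4, ← h.qId_mul hM hR hr,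
    ← mul_assoc, e, zero_mul]

theorem bpNormal (hn : BPNormal p R r P e) :
    BPNormal p (R.map π) (qId π R r) (P.map π) (qId π P e) := by
  have h1 := h.isBPair hM hR hn.left
  have h2 : qId π R r ∈ fixedBy (ResK M) (P.map π) := by
    rintro _ ⟨x, hx, rfl⟩
    rw [← qId_cj, cjS_of_mem_normalizer (hn.le_normalizer hx), hn.stable x hx]
  refine ⟨h1, h.isBPair hM (hR.trans hn.le) hn.right, map_mono hn.le, ?_, h2,
    h.Br_emb_mul hM (hR.trans hn.le) hn.right hn.left.block h2
      (fixedBy_anti (centralizer_le (map_mono hn.le)) h1.mem_fixedBy_centralizer) h1.idem hn.stable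
      (h.qId_mul hM hR hn.left) hn.br⟩
  rintro _ ⟨x, hx, rfl⟩
  exact map_mem_normalizer_map π (hn.le_normalizer hx)

theorem bpLe (hn : BPLe p R r P e) : BPLe p (R.map π) (qId π R r) (P.map π) (qId π P e) := by
  revert hR
  refine hn.head_induction (motive := fun R r => π.ker ≤ R →
    BPLe p (R.map π) (qId π R r) (P.map π) (qId π P e)) (fun _ => BPLe.refl _ _)
    fun Q f R r h1 _ ih hQ => (h.bpNormal hM hQ h1).trans_le (ih (hQ.trans h1.le))

omit hR in
theorem isMaxPair {B : Set (IrrCharacter G)} (hB : IsPBlock M B)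
    (hP : IsMaxPair p (blockIdem M B) P e) :
    IsMaxPair p (blockIdem M (IrrCharacter.inflate π h.surj ⁻¹' B)) (P.map π) (qId π P e) := by
  obtain ⟨h1, h2, -⟩ := ((hB.isDefectGroup_iff hM _).2 hP.defect).central_quotient hB hM h.surj
    h.pgrp h.cent
  have hk : π.ker ≤ P := ((hB.isDefectGroup_iff hM _).2 hP.defect).le_of_normal hB hM h.pgrp
  have h3 := h1.isBlockIdem hM
  refine ⟨⟨h3, h.isBPair hM hk hP.pair, h.Br_emb_mul hM hk hP.pair hP.block
    (fixedBy_anti le_top h3.mem.2) (fixedBy_anti le_top h3.mem.2) h3.idem (hP.fixed _) ?_ hP.br⟩,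
    (h1.isDefectGroup_iff hM _).1 h2⟩
  rw [(hB.isBlockUnion hM).emb_blockIdem hM h.surj, h3.idem]

theorem bFus (hP : IsBPair p P e) {g : G} (hg : BFus p P e R g) :
    BFus p (P.map π) (qId π P e) (R.map π) (π g) := by
  obtain ⟨r, h1, h2⟩ := hg
  refine ⟨_, h.bpLe hM hR h1, ?_⟩
  rw [← qId_cj, ← map_cjS]
  exact h.bpLe hM ((cjS_of_normal g π.ker).ge.trans (cjS_mono g hR)) h2

theorem exists_bFus (hP : IsBPair p P e) (hRP : R ≤ P) {g : G}
    (hg : BFus p (P.map π) (qId π P e) (R.map π) (π g)) :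
    ∃ x, π x ∈ C((cjS g R).map π) ∧ BFus p P e R (x * g) := by
  have hP' := h.isBPair hM (hR.trans hRP) hP
  have hR' := (cjS_of_normal g π.ker).ge.trans (cjS_mono g hR)
  obtain ⟨r, hr⟩ := exists_bpLe hP hRP
  obtain ⟨r', hr'⟩ := exists_bpLe hP (Q := cjS g R) (by
    rw [← comap_map_eq_self (hR.trans hRP), ← map_le_iff_le_comap, map_cjS]; exact hg.cjS_le)
  have h1 := hg.bpLe hP' (h.bpLe hM hR hr)
  rw [← qId_cj, ← map_cjS] at h1
  obtain ⟨x, hx, h2⟩ := h.exists_cj_eq hM hR' ((hr.left hP).cjMap g) (hr'.left hP)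
    (h1.unique (h.bpLe hM hR' hr') hP')
  refine ⟨x, hx, r, hr, ?_⟩
  rwa [cjS_mul, cj_mul, h2,
    cjS_of_mem_normalizer (h.mem_normalizer hR' (centralizer_le_normalizer' _ hx))]

end IsCQuot

end Cfsg

set_option linter.all false in
theorem Cfsg.Rz.Blk_QuotPair_0 : True := by
  have := @_root_.Cfsg.qId.eq_def.{0, 0, 0}
  have := @_root_.Cfsg.qId.fun_cases
  have := @_root_.Cfsg.IsCQuot.mk.congr_simp.{0, 0}
  trivial
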