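import Cfsg.Agent.Blk.Dbl

/-!
# `2`-blocks with a nonabelian defect group of order at most sixteen have rank at most three
-/

set_option autoImplicit false
set_option linter.unusedSectionVars false
set_option linter.style.haveILetI false

namespace Cfsg

open MonoidAlgebra GA Subgroup

universe u v w

local notation "C(" Q ")" => Subgroup.centralizer ((Q : Subgroup _) : Set _)
local notation "N(" Q ")" => Subgroup.normalizer ((Q : Subgroup _) : Set _)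

variable {G : Type u} [Group G] [Finite G] {A P Q : Subgroup G} {a b c g t u w x y z : G} {n : ℕ}

theorem exists_four (h : Nat.card A = 4) (hz : z ∈ A) (h1 : z ≠ 1) (h2 : z * z = 1) :
    ∃ c ∈ A, c ∉ zpowers z ∧ ∀ a ∈ A, a = 1 ∨ a = z ∨ a = c ∨ a = c * z := by
  have h3 := orderOf_eq_two_of_mul_self h2 h1
  have h4 := (Nat.card_zpowers z).trans h3
  obtain ⟨c, hc, hc'⟩ := SetLike.not_le_iff_exists.1 fun e : A ≤ zpowers z => by
    have := card_le_of_le e; omega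
  refine ⟨c, hc, hc', fun a ha => (em _).elim (fun e => (eq_one_or_eq_of_mem_zpowers_of_orderOf_two h3
    e).imp_right .inl) fun e => .inr (.inr ?_)⟩
  exact (eq_one_or_eq_of_mem_zpowers_of_orderOf_two h3 ((idx2_of_card (zpowers_le.2 hz)
    (by omega)).inv_mul hc ha hc' e)).imp (fun e => (inv_mul_eq_one.1 e).symm) inv_mul_eq_iff_eq_mul.1

/-- Noncentral elements lying in no proper critical subgroup. -/
def Good (P : Subgroup G) (z u : G) : Prop := u ∈ P ∧ u ∉ C(P) ∧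
  ((∀ v ∈ P, v * u = u * v → v * v = 1 → v ∈ C(P)) ∨ ∃ v ∈ P, v * u = u * v ∧ v * v = z)

theorem Good.conj (h : Good P z u) (D : IsD2 P z) (hg : g ∈ N(P)) : Good P z (g * u * g⁻¹) :=
  ⟨conj_mem_of_mem_normalizer hg h.1, mt (conj_mem_cent_iff hg).1 h.2.1, h.2.2.imp
    (fun H v hv e1 e2 => (conj_mem_cent_iff (inv_mem hg)).1 (H _ (conj_mem_of_mem_normalizer
      (inv_mem hg) hv) (by
        rw [← mul_right_inj g, ← mul_left_inj g⁻¹]; simpa [mul_assoc] using e1)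
      (by rw [conj_mul, e2]; simp)))
    fun ⟨v, hv, e1, e2⟩ => ⟨_, conj_mem_of_mem_normalizer hg hv, by rw [conj_mul, conj_mul, e1],
      by rw [conj_mul, e2, D.fix hg]⟩⟩

theorem Good.mul (h : Good P z u) (hc : c ∈ P ⊓ C(P)) : Good P z (u * c) :=
  have key : ∀ v ∈ P, v * (u * c) = u * c * v ↔ v * u = u * v := fun v hv => by
    rw [mul_assoc, ← hc.2 v hv, ← mul_assoc, ← mul_assoc, mul_left_inj]
  ⟨mul_mem h.1 hc.1, mt (mul_mem_cancel_right (show c ∈ C(P) from hc.2)).1 h.2.1, h.2.2.imp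
    (fun H v hv e => H v hv ((key v hv).1 e)) fun ⟨v, hv, e1, e2⟩ => ⟨v, hv, (key v hv).2 e1, e2⟩⟩

theorem IsZ4.of_not_good (h : IsZ4 P z) (ha : a ∈ P) (ha' : a ∉ C(P)) (H : ¬ Good P z a) :
    (∃ v ∈ P, v * v = 1 ∧ a * v ∈ C(P)) ∧ ∀ v ∈ P, v * a = a * v → v * v ≠ z := by
  simp only [Good, ha, ha', not_false_iff, true_and, not_or, not_forall, not_exists, not_and] at H
  obtain ⟨⟨v, h1, h2, h3, h4⟩, h5⟩ := H
  exact ⟨⟨v, h1, h3, (h.cases a ha ha' v h1 h2).resolve_left h4⟩, h5⟩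

theorem IsZ4.good_cases (h : IsZ4 P z) : (∃ a b, Good P z a ∧ Good P z b ∧ b * a ≠ a * b) ∨
    ∃ a ∈ P, ∃ b ∈ P, a * a = 1 ∧ b * b = 1 ∧ b * a ≠ a * b ∧ ∀ v ∈ P ⊓ C(P), v * v ≠ z := by
  have h1 : ∀ a ∈ P, ∀ b ∈ P, b * a ≠ a * b → (Good P z a ∨ Good P z b) ∨
      ∃ a ∈ P, ∃ b ∈ P, a * a = 1 ∧ b * b = 1 ∧ b * a ≠ a * b ∧ ∀ v ∈ P ⊓ C(P), v * v ≠ z :=
    fun a ha b hb e => or_iff_not_imp_left.2 fun H => by
      obtain ⟨⟨v, h1, h2, h3⟩, h4⟩ := h.of_not_good ha (fun e' => e (e' b hb)) fun e => H (.inl e)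
      obtain ⟨⟨w, h5, h6, h7⟩, -⟩ := h.of_not_good hb (fun e' => e (e' a ha).symm) fun e => H (.inr e)
      refine ⟨v, h1, w, h5, h2, h6, fun e' => e ?_, fun c hc => h4 c hc.1 (hc.2 a ha).symm⟩
      have h8 : Commute w a := by
        simpa using (show Commute w (a * v) from h3 w h5).mul_right (Commute.inv_right e')
      exact Commute.eq (by simpa using (show Commute a (b * w) from h7 a ha).symm.mul_left h8.inv_left)
  obtain ⟨a, ha, b, hb, e⟩ := h.exists_ne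
  have e1 : a * b * a ≠ a * (a * b) := by simpa [mul_assoc]
  have e2 : a * b * b ≠ b * (a * b) := by simpa [← mul_assoc] using e.symm
  rcases h1 a ha b hb e with (h2 | h2) | h2
  · rcases h1 b hb _ (mul_mem ha hb) e2 with (h3 | h3) | h3
    exacts [.inl ⟨a, b, h2, h3, e⟩, .inl ⟨a, _, h2, h3, e1⟩, .inr h3]
  · rcases h1 a ha _ (mul_mem ha hb) e1 with (h3 | h3) | h3
    exacts [.inl ⟨a, b, h3, h2, e⟩, .inl ⟨b, _, h2, h3, e2⟩, .inr h3]
  · exact .inr h2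

theorem IsD2.good_mul (h : IsD2 P z) (ha : a ∈ P) (hb : b ∈ P) (h1 : a * a = 1) (h2 : b * b = 1)
    (e : b * a ≠ a * b) : a * b * (a * b) = z ∧ Good P z (a * b) :=
  have := (h.mul_sq ha hb e).trans (by simp [h1, h2] : _ = z)
  ⟨this, mul_mem ha hb, fun e' => e (by simpa [mul_assoc] using (e' a ha).symm),
    .inr ⟨_, mul_mem ha hb, rfl, this⟩⟩

theorem IsZ4.exists_good (h : IsZ4 P z) : ∃ a, Good P z a := h.good_cases.elim
  (fun ⟨a, _, h, _⟩ => ⟨a, h⟩) fun ⟨_, ha, _, hb, h1, h2, e, _⟩ => ⟨_, (h.good_mul ha hb h1 h2 e).2⟩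

theorem IsZ4.isDbl (h : IsZ4 P z) (hP : IsPGroup 2 P) (hc : c ∈ P ⊓ C(P)) (hc' : c ∉ zpowers z)
    (hZ : ∀ a ∈ P ⊓ C(P), a = 1 ∨ a = z ∨ a = c ∨ a = c * z) (ha : a ∈ P) (hb : b ∈ P)
    (h1 : a * a = 1) (h2 : b * b = 1) (e : b * a ≠ a * b) (h3 : ∀ v ∈ P ⊓ C(P), v * v ≠ z) :
    IsDbl 0 P (P ⊓ C(zpowers (a * b))) (a * b) c z ∧
      ∀ w ∈ P, w ∉ P ⊓ C(zpowers (a * b)) → w * w = 1 := by
  obtain ⟨h4, hx, hx', -⟩ := h.good_mul ha hb h1 h2 e
  have h5 : a ∉ P ⊓ C(zpowers (a * b)) := fun e' => e (by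
    simpa [mul_assoc] using (mem_cent_zpowers.1 e'.2).symm)
  have h6 : ∀ v ∈ P ⊓ C(P), v * v = 1 := fun v hv => by
    have h7 : c * z * (c * z) = c * c := by
      rw [mul_assoc, ← mul_assoc z, hc.2 z h.mem, mul_assoc, h.sq, mul_one]
    have h8 : c * c = 1 := by
      rcases hZ _ (mul_mem hc hc) with e | e | e | e
      exacts [e, absurd e (h3 c hc), absurd ((mul_eq_left.1 e) ▸ one_mem _) hc',
        absurd (mul_left_cancel e ▸ mem_zpowers _) hc']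
    rcases hZ v hv with e | e | e | e <;> simp [e, h.sq, h7, h8]
  have h7 : ∀ a ∈ P, a * a = 1 → ∀ w ∈ P, a * w ∈ C(P) → w * w = 1 := fun a ha h1 w hw e => by
    have := h6 _ ⟨mul_mem ha hw, e⟩
    rwa [mul_assoc, e w hw, ← mul_assoc, ← mul_assoc, h1, one_mul] at this
  have H : ∀ w ∈ P, w ∉ P ⊓ C(zpowers (a * b)) → w * w = 1 := fun w hw hw' => by
    have h8 := (h.idx2 hx).mul _ ha _ hw h5 hw'
    rcases h.cases _ hx hx' _ h8.1 (mem_cent_zpowers.1 h8.2) with e' | e'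
    · exact h7 a ha h1 w hw e'
    · refine h7 b hb h2 w hw ((mul_mem_cancel_right h.cent).1 ?_)
      rwa [mul_assoc, h.cent w hw, ← mul_assoc, ← h.conj_of_ne ha hb e.symm,
        inv_eq_of_mul_eq_one_right h1, mul_assoc]
  have hz : z ∈ zpowers (a * b) := h4 ▸ mul_mem (mem_zpowers _) (mem_zpowers _)
  have ho : orderOf (a * b) = 2 ^ (1 + 1) := orderOf_eq_prime_pow (by simpa [sq, h4] using h.ne)
    (by rw [pow_add, pow_mul, pow_one, sq, sq, h4, h.sq])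
  refine ⟨⟨hP, h.idx2 hx, h.comm hx hx', ⟨hx, mem_cent_zpowers.2 rfl⟩,
    ⟨hc.1, mem_cent_zpowers.2 (hc.2 _ hx).symm⟩, ho, by simp [sq, h4], h6 c hc, fun e => ?_, hc.2,
    fun v hv => ?_, fun w hw hw' => ?_, fun w hw hw' => H w hw hw' ▸ h.ne.symm, .inr H, a, ha, h5⟩, H⟩
  · rcases eq_one_or_half ho e (h6 c hc) with e | e
    exacts [hc' (e ▸ one_mem _), hc' (by rw [e, pow_one, sq, h4]; exact mem_zpowers _)]
  · have key : ∀ v ∈ P ⊓ C(P), v ∈ zpowers (a * b) ∨ c * v ∈ zpowers (a * b) := fun v hv => by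
      rcases hZ v hv with e | e | e | e <;> simp [e, hz, ← mul_assoc, h6 c hc]
    rcases h.cases _ hx hx' v hv.1 (mem_cent_zpowers.1 hv.2) with e | e
    · exact key v ⟨hv.1, e⟩
    · refine (key _ ⟨mul_mem hx hv.1, e⟩).imp (mul_mem_cancel_left (mem_zpowers _)).1 fun e => ?_
      rwa [← mul_assoc, ← hc.2 _ hx, mul_assoc, mul_mem_cancel_left (mem_zpowers _)] at e
  · rw [pow_zero, pow_one, h.conj_of_ne hw hx fun e => hw' ⟨hw, mem_cent_zpowers.2 e⟩,
      eq_inv_iff_mul_eq_one, mul_assoc, ← h.cent _ hx, ← mul_assoc, h4, h.sq]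

section Field

variable {k : Type w} [Field k] [CharP k 2] {b₀ e f : k[G]}

theorem IsD2.eq_of_nc (h : IsD2 P z) (hP : IsBPair 2 P e) (hQ : IsCrit 2 P e Q f) (hn : ¬ Q ≤ C(Q)) :
    Q = P :=
  have hz := hQ.mem_of_cent h.mem h.cent
  have D : IsD2 Q z := ⟨hz, h.ne, h.sq, centralizer_anti hQ.le.le h.cent,
    fun g hg a ha => h.conj g (hQ.le.le hg) a (hQ.le.le ha), hn⟩
  h.eq_of_series hP hQ (S := {1, z}) (by rintro _ (rfl | rfl); exacts [one_mem _, hz])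
    (by rintro g hg _ (rfl | rfl); exacts [by simp, .inr (D.fix hg.1)])
    (by rintro _ (rfl | rfl); exacts [one_mem _, h.cent]) (.inl rfl) (.inr rfl)

theorem Good.eq (h : Good P z u) (Z : IsZ4 P z) (hP : IsBPair 2 P e) (hQ : IsCrit 2 P e Q f)
    (hu : u ∈ Q) : Q = P :=
  (em _).elim (fun H => h.2.2.elim (fun h1 => Z.eq_of_inv hP hQ fun v hv => h1 v (hQ.le.le hv)
    (H hu v hv)) fun ⟨v, h1, h2, h3⟩ => Z.eq_of_sq hP hQ (hQ.centric ⟨h1, fun q hq =>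
      Z.comm h.1 h.2.1 ⟨h1, mem_cent_zpowers.2 h2⟩ q ⟨hQ.le.le hq, mem_cent_zpowers.2 (H hu q hq)⟩⟩) h3)
    (Z.eq_of_nc hP hQ)

variable [IsAlgClosed k]

theorem Good.exists_regular (Z : IsZ4 P z) (hP : IsMaxPair 2 b₀ P e) {u v : P} (h : Good P z u)
    (hv : v ∈ fClass 2 P e u) : ∃ t ∈ P, ∃ x ∈ N(P) ⊓ cjStab e, IsPRegular 2 x ∧
      (v : G) = t * (x * u * x⁻¹) * t⁻¹ := by
  obtain ⟨g, hg, h1⟩ := hP.of_mem_fClass (T := fun v => ∃ g ∈ N(P) ⊓ cjStab e, v = g * u * g⁻¹)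
    (by rintro s hs _ - ⟨c, hc, rfl⟩
        exact ⟨s * c, mul_mem ((bFus_of_mem hP.pair le_rfl hs).mem_stab hP.pair) hc, by group⟩)
    (by rintro s hs - _ - ⟨c, hc, rfl⟩; exact ⟨s * c, mul_mem hs hc, by group⟩)
    (by rintro Q f hQ h1 g - _ h2 ⟨c, hc, rfl⟩
        exact absurd ((h.conj Z.toIsD2 hc.1).eq Z hP.pair hQ h2) h1) hv ⟨1, one_mem _, by simp⟩
  obtain ⟨t, ht, x, hx, hr, h2⟩ := hP.exists_regular hg
  exact ⟨t, ht, x, hx, hr, h1.trans (h2 u u.2)⟩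

theorem Good.of_mem_fClass (Z : IsZ4 P z) (hP : IsMaxPair 2 b₀ P e) {u v : P} (h : Good P z u)
    (hv : v ∈ fClass 2 P e u) : Good P z v :=
  let ⟨_, ht, _, hx, _, e⟩ := h.exists_regular Z hP hv
  e ▸ (h.conj Z.toIsD2 hx.1).conj Z.toIsD2 (le_normalizer ht)

end Field

variable {M : Ideal AlgInt} {B : Set (IrrCharacter G)} [CharP (ResK M) 2] {e : (ResK M)[G]}

namespace IsPModular

variable (hM : IsPModular 2 M) (hB : IsPBlock M B) (hP : IsMaxPair 2 (blockIdem M B) P e)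
include hM hB hP

theorem rank_le_of_isZ4 (Z : IsZ4 P z) (h16 : Nat.card P = 16) : blockRank 2 B ≤ 3 := by
  obtain ⟨a, ha⟩ := Z.exists_good
  have hz : z ∈ P ⊓ C(P) := ⟨Z.mem, Z.cent⟩
  have h4 : Nat.card (P ⊓ C(P) : Subgroup G) = 4 := by have := Z.card_eq' ha.1 ha.2.1; omega
  obtain ⟨c, hc, hc', hZ⟩ := exists_four h4 hz Z.ne Z.sq
  have h1 : ∀ g ∈ N(P), IsPRegular 2 g → ∀ s ∈ P, s ∈ C(P) → g * s * g⁻¹ = s := fun g hg hr s hs hs' =>
    mem_centralizer_sub_conj'.1 (mem_centralizer_of_card_le_four (hP.pair.isPGroup.to_le inf_le_left)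
      h4.le hz Z.ne (mem_normalizer_fintype fun a ha => ⟨conj_mem_of_mem_normalizer hg ha.1,
        conj_mem_cent hg ha.2⟩) (Z.fix hg) hr) s ⟨hs, hs'⟩
  have hk := hM.kz_le_of_forall hB hP (u := ⟨a, ha.1⟩) (N := 8) (by
    have := two_le_orderOf (g := a) fun e => ha.2.1 (e ▸ one_mem _); simp only; omega) fun v hv => by
      have := Z.card_eq v.2 (ha.of_mem_fClass Z hP hv).2.1; omega
  have h2 : c ≠ 1 := fun e => hc' (e ▸ one_mem _)
  have h3 : c ≠ z := fun e => hc' (e ▸ mem_zpowers _)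
  have h5 : c * z ≠ 1 := fun e => hc' ((mul_mem_cancel_right (mem_zpowers z)).1 (e ▸ one_mem _))
  have h6 := mul_mem hc hz
  have count : ∀ L : List P, (∀ u ∈ L, Good P z u) → (L.Pairwise fun u v => v ∉ fClass 2 P e u) →
      blockRank 2 B + lrk 2 M P e (zpowers z) + lrk 2 M P e (zpowers c) +
        lrk 2 M P e (zpowers (c * z)) + L.length ≤ Nat.card B := fun L h7 h8 => by
    have h9 : ∀ u ∈ [(1 : P), ⟨z, hz.1⟩, ⟨c, hc.1⟩, ⟨_, h6.1⟩], (u : G) ∈ C(P) := by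
      simpa using ⟨hz.2, hc.2, h6.2⟩
    have := hM.sum_lrk_le hB hP ([1, ⟨z, hz.1⟩, ⟨c, hc.1⟩, ⟨_, h6.1⟩] ++ L)
      (List.pairwise_append.2 ⟨List.Pairwise.imp_of_mem (R := fun u v : P => (u : G) ≠ v)
        (fun hu hv e e' => e (congrArg _ (hP.eq_of_cent (h9 _ hu) (h9 _ hv) e' fun g hg hr =>
          h1 g hg.1 hr _ (Subtype.prop _) (h9 _ hu)).symm)) (by
          simp [-SetLike.coe_eq_coe, Z.ne.symm, h2.symm, h5.symm, h3.symm, Z.ne, h2]), h8,
        fun u hu v hv e => ((h7 v hv).of_mem_fClass Z hP (mem_fClass_symm e)).2.1 (h9 u hu)⟩)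
    have h10 := List.card_nsmul_le_sum (L.map fun u : P => lrk 2 M P e (zpowers (u : G))) 1
      fun a ha => by
        obtain ⟨u, -, rfl⟩ := List.mem_map.1 ha
        exact hM.lrk_pos hP.pair (zpowers_le.2 u.2)
    simp only [List.map_append, List.sum_append, List.map_cons, List.sum_cons, coe_one,
      hM.lrk_one hB hP, List.map_nil, List.sum_nil, smul_eq_mul, List.length_map] at this h10
    omega
  have h7 : ∀ a (ha : Good P z a), ⟨a * c, mul_mem ha.1 hc.1⟩ ∉ fClass 2 P e ⟨a, ha.1⟩ := fun a ha e => by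
    obtain ⟨t, ht, x, hx, hr, e⟩ := Good.exists_regular Z hP ha e
    have h8 := conj_mem_of_mem_normalizer hx.1 ha.1
    rw [conj_eq_iff_comm.2 (Z.mem_cent_of_regular ha.1 ha.2.1 hP.pair.isPGroup hr hx.1 (h1 x hx.1 hr) (by
      rcases Z.conj t ht _ h8 with e' | e' <;> rw [e'] at e
      · simpa [← e] using hc.2
      · rw [← mul_mem_cancel_right Z.cent, mul_assoc, ← e]; simpa using hc.2) a ha.1).symm] at e
    rcases Z.conj t ht a ha.1 with e' | e'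
    exacts [h2 (by simpa [e'] using e), h3 (by simpa [e'] using e)]
  have h8 := count [⟨a, ha.1⟩, ⟨a * c, mul_mem ha.1 hc.1⟩] (by simpa using ⟨ha, ha.mul hc⟩)
    (List.pairwise_pair.2 (h7 a ha))
  obtain ⟨H', _, _, Q, _, _, f', π, b', s', P', ρ, c', e', hR⟩ := hM.exists_red hB hP hz.1
    (le_cent_zpowers hz.2)
  have hz' : ρ ⟨z, hz.1⟩ = 1 := hR.eq_one_iff.2 (mem_zpowers z)
  letI : CommGroup P' := { (inferInstance : Group P') with
    mul_comm := fun a b => by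
      obtain ⟨a, rfl⟩ := hR.surj a
      obtain ⟨b, rfl⟩ := hR.surj b
      rw [← mul_inv_eq_iff_eq_mul, ← map_inv, ← map_mul, ← map_mul]
      rcases Z.conj a a.2 b b.2 with e | e
      · exact congrArg ρ (Subtype.ext e)
      · rw [show a * b * a⁻¹ = b * ⟨z, hz.1⟩ from Subtype.ext e, map_mul, hz', mul_one] }
  have hab : P' ≤ C(P') := fun a ha b hb => congrArg Subtype.val (mul_comm (⟨b, hb⟩ : P') ⟨a, ha⟩)
  have h9 := hR.card_mul
  rw [orderOf_eq_two_of_mul_self Z.sq Z.ne] at h9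
  obtain ⟨W, hW, h10⟩ := (faith_ker hR.max.pair.isPGroup (hR.max.not_dvd_card_iAut hM hab)).exists_compl'
    (t := ρ ⟨c, hc.1⟩) (by
      rw [MonoidHom.mem_ker, powMonoidHom_apply, ← map_pow, hR.eq_one_iff, coe_pow, sq]
      exact (idx2_of_card (zpowers_le.2 hz) (by
        rw [h4, Nat.card_zpowers, orderOf_eq_two_of_mul_self Z.sq Z.ne])).sq_mem hc)
    (mt hR.eq_one_iff.1 hc') fun σ hσ => by
      obtain ⟨σ, h11, -, h12⟩ := hR.bwd_iAut hσ
      obtain ⟨g, hg, h13⟩ := mem_iAut.1 h11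
      obtain ⟨t, ht, x, hx, hr, h14⟩ := hP.exists_regular hg
      refine (h12 _).trans (congrArg ρ (Subtype.ext ?_))
      rw [h13, h14 c hc.1, h1 x hx.1 hr c hc.1 hc.2, conj_eq_of_mem_cent hc.2 ht]
  have h11 := hW.dvd_three (by have := (powMonoidHom 2 : P' →* P').ker.card_le_card_group; omega)
  have h12 := hR.rank ▸ hR.max.blockRank_eq_card_iAut hM hR.block hab (Nat.le_of_dvd three_pos h11)
  have h13 := hM.lrk_pos hP.pair (zpowers_le.2 hc.1)
  have h14 := hM.lrk_pos hP.pair (zpowers_le.2 h6.1)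
  simp only [List.length_cons, List.length_nil] at h8
  rcases (Nat.dvd_prime Nat.prime_three).1 h11 with h15 | h15
  swap
  · have := (hM.four_mul_card_le hB hP hz.1 (le_cent_zpowers hz.2) (by omega)).1
    have := fun e => hM.four_mul_card_le_of_two hB hP hc.1 hc.2 e (by omega)
    have := fun e => hM.four_mul_card_le_of_two hB hP h6.1 h6.2 e (by omega)
    omega
  have h16 := hM.four_mul_card_le_of_one hB hP hz.1 hz.2 (h12.trans h15)
  have h17 : ∀ g ∈ N(P) ⊓ cjStab e, IsPRegular 2 g → g ∈ C(P) := fun g hg hr =>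
    mem_cent_of_series hP.pair.isPGroup (zpowers_le.2 hz.1) hr
      (fun s hs => conj_eq_iff_comm.2 (comm_of_mem_zpowers (conj_eq_iff_comm.1 (Z.fix hg.1)) hs))
      fun q hq => by
        obtain ⟨σ, h18, h19⟩ := exists_mem_iAut hg
        obtain ⟨σ', h20, h21⟩ := hR.fwd_iAut h18 (Subtype.ext ((h19 _).trans (Z.fix hg.1)))
        rw [card_eq_one.1 h15, mem_bot] at h20
        exact h19 ⟨q, hq⟩ ▸ hR.eq_one_iff (x := (⟨q, hq⟩ : P)⁻¹ * σ ⟨q, hq⟩).1 (by simp [← h21, h20])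
  rcases Z.good_cases with ⟨a, b, ha, hb, hab⟩ | ⟨a, ha, b, hb, h18, h19, e, h20⟩
  · have h18 : ∀ u v : P, Good P z u → (v : G) * u ≠ u * v → v ∉ fClass 2 P e u := fun u v hu e e' => by
      obtain ⟨t, ht, x, hx, hr, e'⟩ := hu.exists_regular Z hP e'
      rw [conj_eq_iff_comm.2 (h17 x hx hr u u.2).symm] at e'
      rcases Z.conj t ht u u.2 with h | h <;> refine e ?_ <;> rw [e', h]
      rw [mul_assoc, Z.cent u u.2]
    have h19 : ∀ a ∈ P, ∀ b ∈ P, b * a ≠ a * b → b * c * a ≠ a * (b * c) := fun a ha b hb e => by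
      rwa [mul_assoc, ← hc.2 a ha, ← mul_assoc, ← mul_assoc, Ne, mul_left_inj]
    have h20 := (h19 b hb.1 a ha.1 hab.symm).symm
    have := count [⟨a, ha.1⟩, ⟨a * c, mul_mem ha.1 hc.1⟩, ⟨b, hb.1⟩, ⟨b * c, mul_mem hb.1 hc.1⟩]
      (by simpa using ⟨ha, ha.mul hc, hb, hb.mul hc⟩) (by
        simpa using ⟨⟨h7 a ha, h18 _ _ ha hab, h18 _ _ ha (h19 a ha.1 b hb.1 hab)⟩, ⟨h18 _ _ (ha.mul hc) h20,
          h18 _ _ (ha.mul hc) (h19 _ (ha.mul hc).1 b hb.1 h20)⟩, h7 b hb⟩)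
    simp only [List.length_cons, List.length_nil] at this
    omega
  · obtain ⟨D, H⟩ := Z.isDbl hP.pair.isPGroup hc hc' hZ ha hb h18 h19 e h20
    exact D.rank_le_three hM hB hP H

theorem rank_le_of_index (h : (commutator P).index ≤ 4) : blockRank 2 B ≤ 3 :=
  let ⟨x, hx⟩ := taussky hP.pair.isPGroup h
  hM.rank_le_of_cyc hB hP x.2 (orderOf_coe x ▸ hx)

theorem rank_le_of_sixteen (hn : ¬ P ≤ C(P)) (h16 : Nat.card P ≤ 16) : blockRank 2 B ≤ 3 := by
  refine (le_or_gt _ _).elim (hM.rank_le_of_index hB hP) fun h => ?_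
  have h1 := (commutator P).card_mul_index
  have h2 : Nat.card (commutator P) ≠ 1 := fun e => hn fun a ha b hb => congrArg Subtype.val
    (commutator_eq_bot_iff_le_centralizer.1 (card_eq_one.1 e) (mem_top (⟨a, ha⟩ : P)) ⟨b, hb⟩ trivial)
  have h3 := card_two_cases (hP.pair.isPGroup.to_subgroup (commutator P))
    ((card_le_card_group _).trans (by omega))
  have h4 : Nat.card (commutator P) = 2 := by
    rcases h3 with e | e | e | e | e | e | e <;> rw [e] at h1 <;> omega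
  obtain ⟨z, D⟩ := exists_isD2 h4
  have h5 := card_two_cases hP.pair.isPGroup (by omega)
  have := card_le_of_le ((zpowers_le (H := P ⊓ C(P))).2 ⟨D.mem, D.cent⟩)
  rw [Nat.card_zpowers, orderOf_eq_two_of_mul_self D.sq D.ne] at this
  exact hM.rank_le_of_isZ4 hB hP (D.isZ4 (by omega)) (by rw [h4] at h1; omega)

end IsPModular

end Cfsg

set_option linter.all false in
theorem Cfsg.Rz.Blk_RankSixteen_0 : True := by
  have := @_root_.Cfsg.Good.eq_def.{0}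
  have := @_root_.Cfsg.Good.fun_cases
  trivial
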