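import Cfsg.Agent.Blk.Local

/-!
# Real `2`-blocks of full defect are principal
-/

set_option autoImplicit false
set_option linter.unusedSectionVars false
set_option linter.unusedVariables false

namespace Cfsg

open MonoidAlgebra GA
open scoped ComplexConjugate

universe u v w

variable {G : Type u} [Group G] [Finite G] {M : Ideal AlgInt}

theorem eq_one_of_inv_eq_of_odd {g : G} (hg : ¬ 2 ∣ orderOf g) (h : g⁻¹ = g) : g = 1 := by
  have h2 : orderOf g ∣ 2 := orderOf_dvd_of_pow_eq_one (by
    rw [pow_two]; nth_rewrite 1 [← h]; exact inv_mul_cancel g)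
  rcases (Nat.dvd_prime Nat.prime_two).1 h2 with h1 | h1
  · exact orderOf_eq_one_iff.1 h1
  · exact absurd (h1 ▸ dvd_rfl) hg

/-- A nontrivial real element of odd order has a class of even size. -/
theorem two_dvd_index_centralizer_of_isConj_inv {g : G} (hg : ¬ 2 ∣ orderOf g) (h1 : g ≠ 1)
    (h : IsConj g g⁻¹) : 2 ∣ (Subgroup.centralizer ({g} : Set G)).index := by
  classical
  cases nonempty_fintype G
  have hc : (Subgroup.centralizer ({g} : Set G)).index =
      (Finset.univ.filter (IsConj g)).card := by
    have := (IsClassFunction.const (G := G) 1).centralChar_eq_sum g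
    rw [centralChar_one_fun] at this
    simpa using this
  rw [← ZMod.natCast_eq_zero_iff, hc, Finset.card_eq_sum_ones, Nat.cast_sum]
  refine Finset.sum_involution (fun y _ => y⁻¹) (fun y _ => by decide) (fun y hy _ h0 => ?_)
    (fun y hy => ?_) fun y _ => inv_inv y
  · have hy' := (Finset.mem_filter.1 hy).2
    have : y = 1 := eq_one_of_inv_eq_of_odd ((isPRegular_iff_of_isConj (p := 2) hy').1 hg) h0
    exact h1 (isConj_one_left.1 (this ▸ hy'))
  · obtain ⟨c, rfl⟩ := isConj_iff.1 (Finset.mem_filter.1 hy).2
    refine Finset.mem_filter.2 ⟨Finset.mem_univ _, h.trans (isConj_iff.2 ⟨c, by group⟩)⟩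

/-- A character of odd degree whose central character is real modulo `2` on the elements of odd
order lies in the principal `2`-block. -/
theorem IsPModular.mem_principalBlock_of_real (hM : IsPModular 2 M) {χ : IrrCharacter G}
    (hodd : ¬ 2 ∣ charDegree χ.1)
    (h : ∀ g, ¬ 2 ∣ orderOf g → red M (centralChar χ.1 g⁻¹) = red M (centralChar χ.1 g)) :
    χ ∈ principalBlock M G := by
  classical
  have := hM.charP
  have := Fintype.ofFinite (ConjClasses G)
  rw [← lam_regSum_ne_zero_iff hM, lam_apply, ← Finset.add_sum_erase _ _ (Finset.mem_univ 1)]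
  have hout : ∀ g : G, IsConj g (ConjClasses.mk g).out := fun g =>
    ConjClasses.mk_eq_mk_iff_isConj.1 (Quotient.out_eq _).symm
  have h1 : (1 : ConjClasses G).out = 1 := isConj_one_right.1 (hout 1)
  have hcl := χ.isClassFunction.centralChar
  rw [Finset.sum_involution (fun K _ => ConjClasses.mk K.out⁻¹), h1, coeff_regSum,
    if_pos isPRegular_one, χ.centralChar_apply_one]
  · simp
  · intro K _
    rw [coeff_regSum, coeff_regSum, ← hcl.eq_of_isConj (hout _)]
    by_cases hK : IsPRegular 2 K.out
    · rw [if_pos hK, if_pos ((isPRegular_iff_of_isConj (hout _)).1 (isPRegular_inv_iff.2 hK)),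
        h _ hK]
      exact CharTwo.add_self_eq_zero _
    · rw [if_neg hK, if_neg fun h' =>
        hK (isPRegular_inv_iff.1 ((isPRegular_iff_of_isConj (hout _)).2 h'))]
      simp
  · intro K hK h0 heq
    rw [coeff_regSum] at h0
    have hreg : IsPRegular 2 K.out := by
      by_contra h'
      rw [if_neg h', zero_mul] at h0
      exact h0 rfl
    have hc : IsConj K.out K.out⁻¹ := by
      have := hout K.out⁻¹
      rw [heq] at this
      exact this.symm
    have hne : K.out ≠ 1 := fun h' => (Finset.mem_erase.1 hK).1 (by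
      rw [← Quotient.out_eq K, h']; rfl)
    have h2 := hM.factorization_index_le (right_ne_zero_of_mul h0)
    rw [Nat.factorization_eq_zero_of_not_dvd hodd] at h2
    have h3 := (Nat.prime_two.dvd_iff_one_le_factorization Subgroup.index_ne_zero_of_finite).1
      (two_dvd_index_centralizer_of_isConj_inv hreg hne hc)
    omega
  · intro K hK
    refine Finset.mem_erase.2 ⟨fun h' => (Finset.mem_erase.1 hK).1 ?_, Finset.mem_univ _⟩
    have := hout K.out⁻¹
    rw [h', h1, isConj_one_left, inv_eq_one] at this
    rw [← Quotient.out_eq K, this]; rfl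
  · intro K _
    rw [← Quotient.out_eq K]
    refine ConjClasses.mk_eq_mk_iff_isConj.2 ?_
    obtain ⟨c, hc⟩ := isConj_iff.1 (hout K.out⁻¹)
    rw [Quotient.out_eq K, ← hc]
    exact isConj_iff.2 ⟨c⁻¹, by group⟩

/-- A `2`-block of full defect in which some `ψ` agrees with some `conj χ` on the elements of odd
order, for all `χ`, is principal. -/
theorem IsPBlock.eq_principal_of_real (hM : IsPModular 2 M) {B : Set (IrrCharacter G)}
    (hB : IsPBlock M B) (hd : blockDefect 2 B = (Nat.card G).factorization 2)
    (h : ∀ χ ∈ B, ∃ ψ ∈ B, ∀ g, ¬ 2 ∣ orderOf g → ψ g = χ g⁻¹) : B = principalBlock M G := by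
  obtain ⟨χ, hχ, hodd⟩ := (hB.blockDefect_eq_iff hM).1 hd
  obtain ⟨ψ, hψ, hψχ⟩ := h χ hχ
  refine hB.eq_of_mem isPBlock_principalBlock hM hχ (hM.mem_principalBlock_of_real hodd
    fun g hg => ?_)
  rw [hB.red_centralChar_eq hM hχ hψ g]
  have h1 : ψ.1 1 = χ.1 1 := by simpa using hψχ 1 (by simp)
  have hc : Subgroup.centralizer ({g⁻¹} : Set G) = Subgroup.centralizer {g} := by
    ext x
    simp only [Subgroup.mem_centralizer_singleton_iff]
    exact (Commute.inv_right_iff (a := x) (b := g))
  simp only [centralChar, hc, h1, hψχ g hg]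

end Cfsg
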