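import Cfsg.Agent.Blk.QuotPair
import Cfsg.Agent.Blk.Quat
import Cfsg.Agent.Blk.CycBound
import Cfsg.Agent.Blk.Watanabe
import Cfsg.Agent.S4541

/-!
# The block dominated by a major subsection
-/

set_option autoImplicit false
set_option linter.unusedSectionVars false
set_option linter.style.haveILetI false

namespace Cfsg

open MonoidAlgebra GA Subgroup
open scoped ComplexConjugate

universe u v w

local notation "C(" Q ")" => Subgroup.centralizer ((Q : Subgroup _) : Set _)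
local notation "N(" Q ")" => Subgroup.normalizer ((Q : Subgroup _) : Set _)

variable {G : Type u} [Group G] [Finite G] {H : Type v} [Group H] [Finite H] {Q : Type w} [Group Q]
  [Finite Q] {p : ℕ} [Fact p.Prime] {M : Ideal AlgInt} {P : Subgroup G} {B : Set (IrrCharacter G)}

/-- The number of characters of height zero. -/
noncomputable def kz (p : ℕ) (B : Set (IrrCharacter G)) : ℕ :=
  Nat.card {χ : IrrCharacter G // χ ∈ B ∧ blockHeight p B χ.1 = 0}

/-- The automorphisms of `P` induced by the inertial group of `(P, e)`. -/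
def iAut {k : Type v} [Field k] (P : Subgroup G) (e : k[G]) : Subgroup (MulAut P) :=
  autOf P.subtype (N(P) ⊓ cjStab e)

theorem mem_iAut {k : Type v} [Field k] {e : k[G]} {σ : MulAut P} :
    σ ∈ iAut P e ↔ ∃ g ∈ N(P) ⊓ cjStab e, ∀ a, (σ a : G) = g * a * g⁻¹ := Iff.rfl

theorem exists_mem_iAut {k : Type v} [Field k] {e : k[G]} {g : G} (hg : g ∈ N(P) ⊓ cjStab e) :
    ∃ σ ∈ iAut P e, ∀ a, (σ a : G) = g * a * g⁻¹ :=
  ⟨P.normalizerMonoidHom ⟨g, hg.1⟩, ⟨g, hg, fun _ => rfl⟩, fun _ => rfl⟩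

variable [CharP (ResK M) p] {e : (ResK M)[G]}

variable (p M B P e) in
/-- `c` is the block of `C(u)/⟨u⟩` dominated by the major subsection at `u`. -/
structure Red (u : G) (f : H →* G) (π : H →* Q) (b : Set (IrrCharacter H)) (s : (ResK M)[H])
    (P' : Subgroup Q) (ρ : P →* P') (c : Set (IrrCharacter Q)) (e' : (ResK M)[Q]) : Prop where
  modular : IsPModular p M
  hB : IsPBlock M B
  hP : IsMaxPair p (blockIdem M B) P e
  cent : P ≤ C(zpowers u)
  loc : IsLoc p M P e (zpowers u) f b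
  max₁ : IsMaxPair p (blockIdem M b) (P.comap f) s
  le : BPLe p ((P.comap f).map f) (emb f s) P e
  quot : IsCQuot p π
  ker₁ : π.ker = (zpowers u).comap f
  P_eq : P' = (P.comap f).map π
  apply : ∀ (x : P) (y : H), f y = x → (ρ x : Q) = π y
  c_eq : c = IrrCharacter.inflate π quot.surj ⁻¹' b
  e_eq : e' = qId π (P.comap f) s

theorem IsPModular.exists_red (hM : IsPModular p M) (hB : IsPBlock M B)
    (hP : IsMaxPair p (blockIdem M B) P e) {u : G} (hu : u ∈ P) (hc : P ≤ C(zpowers u)) :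
    ∃ (H : Type u) (_ : Group H) (_ : Finite H) (Q : Type u) (_ : Group Q) (_ : Finite Q)
      (f : H →* G) (π : H →* Q) (b : Set (IrrCharacter H)) (s : (ResK M)[H]) (P' : Subgroup Q)
      (ρ : P →* P') (c : Set (IrrCharacter Q)) (e' : (ResK M)[Q]),
      Red p M P B e u f π b s P' ρ c e' := by
  obtain ⟨b, hb⟩ := hM.exists_isLoc_subtype hP.pair (zpowers_le.2 hu)
  obtain ⟨s, hs, hs'⟩ := hb.exists_isMaxPair hM hP.pair (zpowers_le_centralizer_zpowers u)
    (hb.isDefGrp_of_le hM hP hc)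
  have hE := hb.isCentEmb_zpowers hP.pair
  obtain ⟨Q, _, _, π, hπ, hk⟩ := exists_surjective_ker_eq hE.comap_le_center
  exact ⟨_, _, inferInstance, Q, _, inferInstance, _, π, b, s, _,
    (π.comp (inclusion hc)).codRestrict ((P.comap (C(zpowers u)).subtype).map π) fun x => ⟨_, x.2, rfl⟩, _, _,
    hM, hB, hP, hc, hb, hs, hs', ⟨hπ, hk ▸ hE.isPGroup_comap, hk ▸ hE.comap_le_center⟩, hk, rfl,
    fun x y h => congrArg π (Subtype.ext h.symm), rfl, rfl⟩

namespace Red

variable {u : G} {f : H →* G} {π : H →* Q} {b : Set (IrrCharacter H)} {s : (ResK M)[H]}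
  {P' : Subgroup Q} {ρ : P →* P'} {c : Set (IrrCharacter Q)} {e' : (ResK M)[Q]}
  (h : Red p M P B e u f π b s P' ρ c e')
include h

theorem mem : u ∈ P := zpowers_le.1 h.loc.le'

theorem centEmb : IsCentEmb p f (zpowers u) := h.loc.isCentEmb_zpowers h.hP.pair

theorem exists_eq {g : G} (hg : g ∈ C(zpowers u)) : ∃ y, f y = g := by
  rwa [← h.loc.range_eq] at hg

theorem surj : Function.Surjective ρ := fun ⟨x, hx⟩ => by
  obtain ⟨y, hy, rfl⟩ := h.P_eq ▸ hx
  exact ⟨⟨f y, hy⟩, Subtype.ext (h.apply _ y rfl)⟩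

theorem eq_one_iff {x : P} : ρ x = 1 ↔ (x : G) ∈ zpowers u := by
  obtain ⟨y, hy⟩ := h.exists_eq (h.cent x.2)
  rw [Subtype.ext_iff, h.apply x y hy, ← hy, ← mem_comap, ← h.ker₁]
  rfl

theorem card_mul : Nat.card P' * orderOf u = Nat.card P := by
  have h1 := card_map_mul_card_ker (π := ρ) (P := ⊤) le_top
  have h2 : ρ.ker = (zpowers u).subgroupOf P := Subgroup.ext fun _ => h.eq_one_iff
  rwa [map_top_of_surjective _ h.surj, h2, card_top, card_top,
    Nat.card_congr (subgroupOfEquivOfLe h.loc.le').toEquiv, Nat.card_zpowers] at h1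

theorem max : IsMaxPair p (blockIdem M c) P' e' :=
  h.P_eq ▸ h.c_eq ▸ h.e_eq ▸ h.quot.isMaxPair h.modular h.loc.block h.max₁

theorem block : IsPBlock M c :=
  h.c_eq ▸ (((h.loc.block.isDefectGroup_iff h.modular _).2 h.max₁.defect).central_quotient
    h.loc.block h.modular h.quot.surj h.quot.pgrp h.quot.cent).1

theorem rank₁ : blockRank p c = blockRank p b :=
  h.c_eq ▸ (((h.loc.block.isDefectGroup_iff h.modular _).2 h.max₁.defect).central_quotient
    h.loc.block h.modular h.quot.surj h.quot.pgrp h.quot.cent).2.2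

theorem rank : blockRank p c = lrk p M P e (zpowers u) :=
  h.rank₁.trans (h.loc.lrk_eq h.modular h.hP.pair).symm

theorem aux {R : Subgroup P} (hR : ∀ x : P, (x : G) ∈ zpowers u → x ∈ R) :
    π.ker ≤ (R.map P.subtype).comap f ∧
      ((R.map P.subtype).comap f).map f ⊔ zpowers u = R.map P.subtype ∧
      ((R.map P.subtype).comap f).map π = (R.map ρ).map P'.subtype := by
  have h1 : zpowers u ≤ R.map P.subtype := fun x hx => ⟨⟨x, h.loc.le' hx⟩, hR _ hx, rfl⟩
  refine ⟨h.ker₁ ▸ comap_mono h1, ?_, le_antisymm ?_ ?_⟩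
  · rw [h.centEmb.map_comap, inf_eq_left.2 ((map_subtype_le R).trans h.cent), sup_eq_left.2 h1]
  · rintro _ ⟨y, ⟨x, hx, hy⟩, rfl⟩
    exact ⟨_, ⟨x, hx, rfl⟩, h.apply x y hy.symm⟩
  · rintro _ ⟨_, ⟨x, hx, rfl⟩, rfl⟩
    obtain ⟨y, hy⟩ := h.exists_eq (h.cent x.2)
    exact ⟨y, ⟨x, hx, hy.symm⟩, (h.apply x y hy).symm⟩

theorem apply_conj {g : H} {x y : P} (hy : (y : G) = f g * x * (f g)⁻¹) :
    (ρ y : Q) = π g * ρ x * (π g)⁻¹ := by
  obtain ⟨z, hz⟩ := h.exists_eq (h.cent x.2)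
  rw [h.apply x z hz, h.apply y (g * z * g⁻¹) (by simp [hz, hy])]
  simp

theorem fwd {R : Subgroup P} (hR : ∀ x : P, (x : G) ∈ zpowers u → x ∈ R) {g : G}
    (hg : g ∈ C(zpowers u)) (hf : BFus p P e (R.map P.subtype) g) :
    ∃ g', BFus p P' e' ((R.map ρ).map P'.subtype) g' ∧ (IsPRegular p g → IsPRegular p g') ∧
      ∀ x y : P, (y : G) = g * x * g⁻¹ → (ρ y : Q) = g' * ρ x * g'⁻¹ := by
  obtain ⟨g, rfl⟩ := h.exists_eq hg
  obtain ⟨h1, h2, h3⟩ := h.aux hR
  rw [← h2, h.centEmb.bFus_iff h.hP.pair h.loc.le' h.le] at hf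
  refine ⟨π g, ?_, fun hr => .map ?_ π, fun x y => h.apply_conj⟩
  · rw [← h3, h.P_eq, h.e_eq]
    exact h.quot.bFus h.modular h1 h.max₁.pair hf
  · rwa [IsPRegular, orderOf_injective f h.loc.inj] at hr

theorem bwd {R : Subgroup P} (hR : ∀ x : P, (x : G) ∈ zpowers u → x ∈ R) {g' : Q}
    (hf : BFus p P' e' ((R.map ρ).map P'.subtype) g') :
    ∃ g ∈ C(zpowers u), BFus p P e (R.map P.subtype) g ∧
      ∀ x ∈ R, ∀ y : P, (y : G) = g * x * g⁻¹ → (ρ y : Q) = g' * ρ x * g'⁻¹ := by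
  obtain ⟨g, rfl⟩ := h.quot.surj g'
  obtain ⟨h1, h2, h3⟩ := h.aux hR
  rw [← h3, h.P_eq, h.e_eq] at hf
  obtain ⟨z, hz, h4⟩ := h.quot.exists_bFus h.modular h1 h.max₁.pair
    (comap_mono (map_subtype_le R)) hf
  rw [← h.centEmb.bFus_iff h.hP.pair h.loc.le' h.le, h2] at h4
  refine ⟨_, h.loc.range_eq ▸ ⟨_, rfl⟩, h4, fun x hx y hy => ?_⟩
  rw [map_cjS, h3] at hz
  rw [h.apply_conj hy, ← mem_centralizer_sub_conj'.1 hz _
    (conj_mem_cjS.2 (show (ρ x : Q) ∈ _ from ⟨_, ⟨x, hx, rfl⟩, rfl⟩)), map_mul]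
  simp [mul_assoc]

theorem map_top' : ((⊤ : Subgroup P).map ρ).map P'.subtype = P' := by
  rw [map_top_of_surjective _ h.surj, ← MonoidHom.range_eq_map, range_subtype]

theorem fwd_iAut {σ : MulAut P} (hσ : σ ∈ iAut P e) (hu : σ ⟨u, h.mem⟩ = ⟨u, h.mem⟩) :
    ∃ σ' ∈ iAut P' e', ∀ x, σ' (ρ x) = ρ (σ x) := by
  obtain ⟨g, hg, h1⟩ := hσ
  obtain ⟨g', h2, -, h3⟩ := h.fwd (R := ⊤) (fun _ _ => trivial) (g := g) (by
    rw [centralizer_zpowers, mem_centralizer_singleton_iff, ← mul_inv_eq_iff_eq_mul]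
    exact (h1 ⟨u, h.mem⟩).symm.trans (congrArg Subtype.val hu))
    (bFus_of_mem_stab h.hP.pair (map_subtype_le _) hg.1 hg.2)
  rw [h.map_top'] at h2
  obtain ⟨σ', h4, h5⟩ := exists_mem_iAut (h2.mem_stab h.max.pair)
  exact ⟨σ', h4, fun x => Subtype.ext ((h5 _).trans (h3 x _ (h1 x)).symm)⟩

theorem bwd_iAut {σ' : MulAut P'} (hσ : σ' ∈ iAut P' e') :
    ∃ σ ∈ iAut P e, σ ⟨u, h.mem⟩ = ⟨u, h.mem⟩ ∧ ∀ x, σ' (ρ x) = ρ (σ x) := by
  obtain ⟨g', hg, h1⟩ := hσ
  obtain ⟨g, h2, h3, h4⟩ := h.bwd (R := ⊤) (fun _ _ => trivial) (g' := g')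
    (bFus_of_mem_stab h.max.pair (map_subtype_le _) hg.1 hg.2)
  rw [← MonoidHom.range_eq_map, range_subtype] at h3
  obtain ⟨σ, h5, h6⟩ := exists_mem_iAut (h3.mem_stab h.hP.pair)
  refine ⟨σ, h5, Subtype.ext ((h6 _).trans ?_),
    fun x => Subtype.ext ((h1 _).trans (h4 x trivial _ (h6 x)).symm)⟩
  exact mem_centralizer_sub_conj'.1 h2 u (mem_zpowers u)

theorem mem_fClass {x y : P} {g : G} (hg : g ∈ C(zpowers u)) {R : Subgroup G} (hx : (x : G) ∈ R)
    (hu : u ∈ R) (hf : BFus p P e R g) (hy : (y : G) = g * x * g⁻¹) :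
    ρ y ∈ fClass p P' e' (ρ x) := by
  obtain ⟨g', h1, -, h2⟩ := h.fwd (R := R.subgroupOf P) (fun x hx => zpowers_le.2 hu hx) hg
    (by rwa [subgroupOf_map_subtype, inf_eq_left.2 hf.le])
  exact ⟨g', h1.mono h.max.pair (zpowers_le.2 ⟨_, ⟨x, hx, rfl⟩, rfl⟩), h2 x y hy⟩

theorem induces : Induces M f b B :=
  h.modular.induces_of_bpLe h.hB h.hP (h.loc.isSec h.hP.pair) h.loc.block h.loc.le

theorem defect_eq : blockDefect p b = blockDefect p B :=
  h.loc.blockDefect_eq_of_le h.modular h.hB h.hP h.cent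

theorem card_eq : Nat.card P = p ^ blockDefect p B :=
  ((h.hB.isDefectGroup_iff h.modular _).2 h.hP.defect).card_eq h.hB h.modular

theorem card_ker : Nat.card π.ker = orderOf u := by
  rw [h.ker₁, h.loc.card_comap, inf_eq_left.2 (zpowers_le_centralizer_zpowers u), Nat.card_zpowers]

theorem pow_mul_ip {η : Q → ℂ} (hη : η ∈ regLat p c) :
    (p : ℂ) ^ blockDefect p b * ip (pRegularPart p (η ∘ π)) (pRegularPart p (η ∘ π)) =
      Nat.card P' * ip η η := by
  rw [← ip_pRegularPart_eq_both_left, ← Nat.cast_pow, h.defect_eq, ← h.card_eq, ← h.card_mul,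
    ← h.card_ker, Nat.cast_mul, mul_assoc,
    card_ker_mul_ip_pRegularPart h.quot.surj h.quot.pgrp h.quot.cent, regLat_pRegularPart hη]

/-- The Cartan method in its simplest form. -/
theorem card_mul_le {m : ℕ} (hm : ∀ η ∈ regLat p c, η ≠ 0 → (m : ℝ) ≤ (Nat.card P' * ip η η).re) :
    Nat.card B * m ≤ Nat.card P * blockRank p c := by
  have hs := h.loc.isSec h.hP.pair
  rw [h.rank₁, h.card_eq, ← h.defect_eq]
  refine hs.card_mul_le h.modular h.induces (fun χ hχ =>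
    ⟨hχ, hs.subPart_ne_zero_of_major h.modular h.induces h.defect_eq hχ⟩) fun η hη h0 => ?_
  obtain ⟨η', h3, rfl⟩ := h.loc.block.exists_regLat_preimage_inflate h.modular h.quot.surj
    h.quot.pgrp (h.c_eq ▸ h.block) hη
  rw [← h.c_eq] at h3
  rw [h.pow_mul_ip h3]
  exact hm _ h3 (by rintro rfl; exact h0 pRegularPart_zero)

theorem card_le_of_min
    (hm : ∀ η ∈ regLat p c, η ≠ 0 → (blockRank p c : ℝ) ≤ (Nat.card P' * ip η η).re) :
    Nat.card B ≤ Nat.card P :=
  Nat.le_of_mul_le_mul_right (h.card_mul_le hm) (h.block.blockRank_pos h.modular)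

theorem card_le_of_one {χ : IrrCharacter Q} (hχ : χ ∈ c)
    (h1 : Nat.card P' * ip (pRegularPart p χ.1) (pRegularPart p χ.1) = 1) :
    Nat.card B ≤ Nat.card P := by
  classical
  have h2 : pRegularPart p (pRegularPart p χ.1 ∘ π) = pRegularPart p (χ.inflate π h.quot.surj).1 :=
    pRegularPart_eq_iff.2 fun g hg => pRegularPart_of_reg (hg.map π)
  have := (h.loc.isSec h.hP.pair).sum_pow_height_le_of_regLat h.modular h.induces h.defect_eq
    (η := pRegularPart p (pRegularPart p χ.1 ∘ π)) (q := 1)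
    (h2 ▸ pRegularPart_mem_regLat (by rwa [h.c_eq] at hχ))
    (by rw [h.pow_mul_ip (pRegularPart_mem_regLat hχ), h1, Nat.cast_one])
    (Nat.Prime.not_dvd_one Fact.out)
  rw [mul_one, ← h.card_eq] at this
  exact (card_le_sum_pow_height B).trans this

end Red

section Two

variable [CharP (ResK M) 2] {u : G}

theorem card_eq_kz_add (B : Set (IrrCharacter G)) [DecidablePred (· ∈ B)] : Nat.card B = kz p B +
    (Finset.univ.filter fun χ : IrrCharacter G => χ ∈ B ∧ blockHeight p B χ.1 ≠ 0).card := by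
  classical
  rw [natCard_eq_card_filter, kz, Nat.card_eq_fintype_card, Fintype.card_subtype,
    ← Finset.filter_filter, ← Finset.filter_filter, Finset.card_filter_add_card_filter_not]

theorem sum_ite_height (B : Set (IrrCharacter G)) [DecidablePred (· ∈ B)] (a : ℕ) :
    ∑ χ : IrrCharacter G with χ ∈ B, (if blockHeight p B χ.1 = 0 then a else 4) + 4 * kz p B =
      4 * Nat.card B + a * kz p B := by
  classical
  rw [Finset.sum_ite, Finset.filter_filter, Finset.filter_filter, Finset.sum_const,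
    Finset.sum_const, card_eq_kz_add (p := p) B, kz, Nat.card_eq_fintype_card, Fintype.card_subtype]
  simp only [smul_eq_mul, ne_eq]
  ring

/-- Brauer's trichotomy for a major subsection of a `2`-block. -/
theorem IsPModular.exists_odd_bound (hM : IsPModular 2 M) (hB : IsPBlock M B)
    (hP : IsMaxPair 2 (blockIdem M B) P e) (hu : u ∈ P) (hc : P ≤ C(zpowers u)) :
    ∃ c, Odd c ∧ 4 * Nat.card B ≤ Nat.card P * c + 3 * kz 2 B ∧
      4 * Nat.card B + c * kz 2 B ≤ Nat.card P * lrk 2 M P e (zpowers u) + 4 * kz 2 B := by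
  classical
  obtain ⟨H, _, _, f, b, hb⟩ : ∃ (H : Type u) (_ : Group H) (_ : Finite H) (f : H →* G)
      (b : Set (IrrCharacter H)), IsLoc 2 M P e (zpowers u) f b :=
    ⟨_, _, inferInstance, _, hM.exists_isLoc_subtype hP.pair (zpowers_le.2 hu)⟩
  have h := hb.isSec hP.pair
  have hi := hM.induces_of_bpLe hB hP h hb.block hb.le
  have hd := hb.blockDefect_eq_of_le hM hB hP hc
  obtain ⟨n, hx⟩ := h.pElt.exists_pow_succ_eq_one
  obtain ⟨χ₀, hχ₀⟩ := exists_blockHeight_eq_zero (p := 2) (hB.nonempty hM)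
  obtain ⟨χ, hχ, hmin⟩ := Finset.exists_min_image (Finset.univ.filter fun χ : IrrCharacter G =>
    χ ∈ B ∧ blockHeight 2 B χ.1 = 0) (fun χ => avgC 2 n f u b χ.1) ⟨χ₀, by simpa using hχ₀⟩
  obtain ⟨hχB, h0⟩ := (Finset.mem_filter.1 hχ).2
  obtain ⟨c, hN, hodd⟩ := h.exists_avgC_odd hM hx hi hχB h0
  have h1 := h.sum_pow_height_le hM hx hi hd hχB h0
  have h2 := h.sum_avgC (n := n) hM hi
  rw [hb.lrk_eq hM hP.pair, ((hB.isDefectGroup_iff hM _).2 hP.defect).card_eq hB hM]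
  refine ⟨c, hodd, ?_, ?_⟩
  · have h3 := sum_ite_height (p := 2) B 1
    have h4 : ∑ ψ : IrrCharacter G with ψ ∈ B, 2 ^ (2 * blockHeight 2 B ψ.1) ≤
        2 ^ blockDefect 2 B * c := by rw [hN] at h1; exact_mod_cast h1
    have h5 := (Finset.sum_le_sum fun ψ _ => show (if blockHeight 2 B ψ.1 = 0 then 1 else 4) ≤
      2 ^ (2 * blockHeight 2 B ψ.1) by
        split_ifs with h0
        · exact Nat.one_le_two_pow
        · exact le_trans (by norm_num) (Nat.pow_le_pow_right two_pos (by omega : 2 ≤ _))).trans h4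
    omega
  · rw [← sum_ite_height, Nat.add_le_add_iff_right]
    have h3 := Finset.sum_le_sum (s := Finset.univ.filter (· ∈ B))
      (f := fun χ : IrrCharacter G => ((if blockHeight 2 B χ.1 = 0 then c else 4 : ℕ) : ℝ))
      (g := fun χ => avgC 2 n f u b χ.1) fun χ hχ => by
      have hχ' := (Finset.mem_filter.1 hχ).2
      split_ifs with h0
      · exact hN ▸ hmin χ (by simpa using ⟨hχ', h0⟩)
      · obtain ⟨c, hc, hc'⟩ := h.exists_avgC_even hM hx hi hd hχ' h0
        rw [hc]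
        exact_mod_cast (le_trans (by norm_num) (Nat.pow_le_pow_right two_pos (by omega : 2 ≤ _))).trans
          (Nat.le_mul_of_pos_right _ hc')
    rw [h2, hd] at h3
    exact_mod_cast h3

theorem kz_le_card (B : Set (IrrCharacter G)) : kz p B ≤ Nat.card B := by
  classical
  rw [card_eq_kz_add (p := p) B]; omega

theorem IsPModular.four_mul_card_le (hM : IsPModular 2 M) (hB : IsPBlock M B)
    (hP : IsMaxPair 2 (blockIdem M B) P e) (hu : u ∈ P) (hc : P ≤ C(zpowers u))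
    (hl : lrk 2 M P e (zpowers u) ≤ 3) :
    4 * Nat.card B ≤ 3 * Nat.card P + kz 2 B ∧ Nat.card B ≤ Nat.card P := by
  obtain ⟨c, ⟨c, rfl⟩, h1, h2⟩ := hM.exists_odd_bound hB hP hu hc
  have h3 := kz_le_card (p := 2) B
  have h4 := Nat.mul_le_mul_left (Nat.card P) hl
  rcases c with _ | c
  · omega
  · have := Nat.mul_le_mul_right (kz 2 B) (by omega : 3 ≤ 2 * (c + 1) + 1)
    omega

theorem IsPModular.card_le_of_lrk_le_four (hM : IsPModular 2 M) (hB : IsPBlock M B)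
    (hP : IsMaxPair 2 (blockIdem M B) P e) (hu : u ∈ P) (hc : P ≤ C(zpowers u))
    (hl : lrk 2 M P e (zpowers u) ≤ 4) (hk : 3 * kz 2 B ≤ Nat.card P) :
    Nat.card B ≤ Nat.card P := by
  obtain ⟨c, ⟨c, rfl⟩, h1, h2⟩ := hM.exists_odd_bound hB hP hu hc
  have h4 := Nat.mul_le_mul_left (Nat.card P) hl
  rcases le_or_gt c 1 with h | h
  · have := Nat.mul_le_mul_left (Nat.card P) (by omega : 2 * c + 1 ≤ 3)
    omega
  · have := Nat.mul_le_mul_right (kz 2 B) (by omega : 4 ≤ 2 * c + 1)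
    omega

theorem IsPModular.kz_le (hM : IsPModular 2 M) (hB : IsPBlock M B)
    (hP : IsMaxPair 2 (blockIdem M B) P e) (hu : u ∈ P) (hl : lrk 2 M P e (zpowers u) ≤ 3)
    (hD : ∀ g, BFus 2 P e (zpowers u) g → Nat.card (P ⊓ C(cjS g (zpowers u)) : Subgroup G) ≤
      Nat.card (P ⊓ C(zpowers u) : Subgroup G)) :
    kz 2 B ≤ Nat.card (P ⊓ C(zpowers u) : Subgroup G) := by
  obtain ⟨b, hb⟩ := hM.exists_isLoc_subtype hP.pair (zpowers_le.2 hu)
  have h := hb.isSec hP.pair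
  rw [hb.lrk_eq hM hP.pair] at hl
  have h1 := (Agent.S4541.aux hM h (hM.induces_of_bpLe hB hP h hb.block hb.le)).1
  have h2 := hb.block.blockRank_pos hM
  rw [show Nat.sqrt (blockRank 2 b) = 1 by symm; rw [Nat.eq_sqrt]; omega, one_mul,
    hb.pow_blockDefect_eq hM ((hP.isDefGrp_centralizer_iff hb.le).2 hD)] at h1
  exact h1 odd_one

end Two

end Cfsg

set_option linter.all false in
theorem Cfsg.Rz.Blk_Red_0 : True := by
  have := @_root_.Cfsg.iAut.eq_def.{0, 0}
  have := @_root_.Cfsg.iAut.eq_1.{0, 0}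
  have := @_root_.Cfsg.iAut.fun_cases
  have := @_root_.Cfsg.kz.eq_def.{0}
  have := @_root_.Cfsg.kz.fun_cases
  have := @_root_.Cfsg.Red.mk.congr_simp.{0, 0, 0}
  have := @_root_.Cfsg.Red.congr_simp.{0, 0, 0}
  trivial
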