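import Cfsg.Agent.Blk.PrinInd
import Cfsg.Agent.Blk.Principal
import Cfsg.Agent.Blk.Quot
import Cfsg.Agent.Char.GalClifford
import Cfsg.Agent.Char.Extend
import Cfsg.Agent.Char.Abelian
import Cfsg.Agent.Grp.Tate

/-!
# Characters of the principal `2`-block fixed by a Galois automorphism of `2`-power order
-/

set_option autoImplicit false
set_option linter.unusedSectionVars false

namespace Cfsg

open scoped ComplexConjugate

universe u v

variable {G : Type u} [Group G] [Finite G] {N : Type v} [Group N] [Finite N]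

theorem card_modEq_card_fixed_perm {α : Type*} [Finite α] {p : ℕ} [Fact p.Prime]
    (Γ : Subgroup (Equiv.Perm α)) (hΓ : IsPGroup p Γ) (A : α → Prop)
    (hA : ∀ γ ∈ Γ, ∀ a, A a → A (γ a)) :
    Nat.card {a // A a} ≡ Nat.card {a // A a ∧ ∀ γ ∈ Γ, γ a = a} [MOD p] := by
  let X : SubMulAction Γ α := ⟨{a | A a}, fun γ a ha => hA γ γ.2 a ha⟩
  have h := hΓ.card_modEq_card_fixedPoints X
  have e : MulAction.fixedPoints Γ X ≃ {a // A a ∧ ∀ γ ∈ Γ, γ a = a} :=
    { toFun := fun x => ⟨x.1.1, x.1.2, fun γ hγ => congrArg Subtype.val (x.2 ⟨γ, hγ⟩)⟩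
      invFun := fun a => ⟨⟨a.1, a.2.1⟩, fun γ => Subtype.ext (a.2.2 γ γ.2)⟩
      left_inv := fun _ => rfl
      right_inv := fun _ => rfl }
  rw [Nat.card_congr e] at h
  exact h

theorem IsPBlock.dvd_finsum_charDegree_sq {p : ℕ} {M : Ideal AlgInt} {B : Set (IrrCharacter G)}
    (hB : IsPBlock M B) (hM : IsPModular p M) (hp : p ∣ Nat.card G) :
    p ∣ ∑ᶠ χ ∈ B, charDegree χ.1 ^ 2 := by
  rw [← hM.vM_natCast_lt_one_iff, finsum_charDegree_sq_eq]
  exact vM_mul_lt_one ((hM.vM_natCast_lt_one_iff _).2 hp) (hB.blockCoeff_mem hM 1)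

theorem IsPBlock.even_card_odd_degree {M : Ideal AlgInt} {B : Set (IrrCharacter G)}
    (hB : IsPBlock M B) (hM : IsPModular 2 M) (hp : 2 ∣ Nat.card G) :
    2 ∣ Nat.card {χ : IrrCharacter G // χ ∈ B ∧ Odd (charDegree χ.1)} := by
  classical
  have h := hB.dvd_finsum_charDegree_sq hM hp
  rw [finsum_mem_eq_sum_of_inter_support_eq (t := Finset.univ.filter (· ∈ B)) _ (by simp),
    ← even_iff_two_dvd, Finset.even_sum_iff_even_card_odd] at h
  rw [Nat.card_eq_fintype_card, Fintype.card_subtype, ← even_iff_two_dvd]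
  rw [Finset.filter_filter] at h
  simpa [Nat.odd_pow_iff] using h

/-- `σ` has `2`-power order on the `n`-th roots of unity and fixes those of odd order. -/
structure IsTwoGal (n : ℕ) (σ : ℂ ≃+* ℂ) : Prop where
  odd : ∀ (z : ℂ) (m : ℕ), Odd m → m ∣ n → z ^ m = 1 → σ z = z
  pow : ∃ j : ℕ, ∀ z : ℂ, z ^ n = 1 → (σ ^ 2 ^ j) z = z

theorem IsTwoGal.of_dvd {n m : ℕ} {σ : ℂ ≃+* ℂ} (h : IsTwoGal n σ) (hm : m ∣ n) :
    IsTwoGal m σ := by
  refine ⟨fun z l hl hlm hz => h.odd z l hl (hlm.trans hm) hz, ?_⟩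
  obtain ⟨j, hj⟩ := h.pow
  obtain ⟨c, rfl⟩ := hm
  exact ⟨j, fun z hz => hj z (by rw [pow_mul, hz, one_pow])⟩

theorem IsTwoGal.pow_smul {σ : ℂ ≃+* ℂ} (h : IsTwoGal (Nat.card G) σ) :
    ∃ j : ℕ, ∀ χ : IrrCharacter G, σ ^ 2 ^ j • χ = χ := by
  obtain ⟨j, hj⟩ := h.pow
  exact ⟨j, IrrCharacter.gal_smul_eq_self_of_fix (fun g => pow_card_eq_one') hj⟩

/-- The automorphism raising the `2`-power roots of unity to the odd power `c` and fixing those of
odd order. -/
theorem exists_isTwoGal {k c : ℕ} (hc : Odd c)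
    (hk₁ : ∀ g : G, (∃ j : ℕ, orderOf g = 2 ^ j) → g ^ k = g ^ c)
    (hk₂ : ∀ g : G, Odd (orderOf g) → g ^ k = g) :
    ∃ σ : ℂ ≃+* ℂ, IsTwoGal (Nat.card G) σ ∧
      ∀ θ : G → ℂ, IsGeneralizedCharacter G θ → ∀ g, θ (g ^ k) = σ (θ g) := by
  have hn : Nat.card G ≠ 0 := Nat.card_pos.ne'
  obtain ⟨a, m, hm, hnm⟩ := Nat.exists_eq_two_pow_mul_odd hn
  have hcop : (2 ^ a).Coprime m := (Nat.coprime_two_left.2 hm).pow_left a
  obtain ⟨l, hl1, hl2⟩ := Nat.chineseRemainder hcop c 1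
  have hc2 : c.Coprime (2 ^ a) := (Nat.coprime_two_right.2 hc).pow_right a
  have hl : l.Coprime (Nat.card G) := by
    rw [hnm]
    refine Nat.Coprime.mul_right ?_ ?_
    · rw [Nat.Coprime, hl1.gcd_eq]; exact hc2
    · rw [Nat.Coprime, hl2.gcd_eq]; exact Nat.coprime_one_left m
  obtain ⟨σ, hσ, hσ'⟩ := exists_ringEquiv_apply_pow hl
  have hkl : ∀ g : G, g ^ k = g ^ l := by
    intro g
    have h1 := isPElt_pPart (p := 2) g
    have h2 := isPRegular_pPrimePart (p := 2) g
    have h2' : Odd (orderOf (pPrimePart 2 g)) := by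
      rw [← Nat.not_even_iff_odd, even_iff_two_dvd]; exact h2
    have hcm := commute_pPart_pPrimePart (p := 2) g
    have e1 : pPart 2 g ^ l = pPart 2 g ^ c := by
      rw [pow_eq_pow_iff_modEq]
      refine hl1.of_dvd ?_
      obtain ⟨j, hj⟩ := h1
      have := orderOf_dvd_natCard (pPart 2 g)
      rw [hnm] at this
      refine Nat.Coprime.dvd_of_dvd_mul_right ?_ this
      rw [hj]; exact (Nat.coprime_two_left.2 hm).pow_left j
    have e2 : pPrimePart 2 g ^ l = pPrimePart 2 g := by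
      conv_rhs => rw [← pow_one (pPrimePart 2 g)]
      rw [pow_eq_pow_iff_modEq]
      refine hl2.of_dvd ?_
      have := orderOf_dvd_natCard (pPrimePart 2 g)
      rw [hnm] at this
      exact Nat.Coprime.dvd_of_dvd_mul_left
        ((Nat.coprime_two_right.2 h2').pow_right a) this
    conv_lhs => rw [← pPart_mul_pPrimePart (p := 2) g]
    conv_rhs => rw [← pPart_mul_pPrimePart (p := 2) g]
    rw [hcm.mul_pow, hcm.mul_pow, hk₁ _ h1, hk₂ _ h2', e1, e2]
  refine ⟨σ, ⟨fun z r hr hrn hz => ?_, a, fun z hz => ?_⟩, fun θ hθ g => ?_⟩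
  · have hrm : r ∣ m := by
      rw [hnm] at hrn
      exact Nat.Coprime.dvd_of_dvd_mul_left ((Nat.coprime_two_right.2 hr).pow_right a) hrn
    obtain ⟨s, hs⟩ := hrn
    rw [hσ z (by rw [hs, pow_mul, hz, one_pow])]
    exact (pow_eq_pow_of_modEq (hl2.of_dvd hrm) hz).trans (pow_one z)
  · rw [ringEquiv_pow_apply_of_pow_eq_one hσ _ hz]
    refine (pow_eq_pow_of_modEq (?_ : _ ≡ 1 [MOD Nat.card G]) hz).trans (pow_one z)
    rw [hnm]
    refine (Nat.modEq_and_modEq_iff_modEq_mul hcop).1 ⟨?_, ?_⟩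
    · refine (hl1.pow _).trans ?_
      have h1 := Nat.ModEq.pow_totient hc2
      have h2 : (2 ^ a).totient ∣ 2 ^ a := by
        rcases a with _ | a
        · simp
        · rw [Nat.totient_prime_pow_succ Nat.prime_two]
          simp [pow_succ]
      obtain ⟨s, hs⟩ := h2
      conv_lhs => rw [hs, pow_mul]
      simpa using h1.pow s
    · simpa using hl2.pow (2 ^ a)
  · rw [hkl, hσ' θ hθ]

theorem exists_linear_smul_of_liesOver {f : N →* G} [IsNormalEmb f] (hab : commutator G ≤ f.range)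
    {χ χ' : IrrCharacter G} {θ : IrrCharacter N} (h : LiesOver f χ.1 θ.1)
    (h' : LiesOver f χ'.1 θ.1) :
    ∃ lam : G →* ℂˣ, (∀ n, lam (f n) = 1) ∧ lam • χ = χ' := by
  classical
  have h1 : ip (χ.1 ∘ f) (χ'.1 ∘ f) ≠ 0 :=
    (χ.isCharacter.comp f).ip_ne_zero_of_common_constituent (χ'.isCharacter.comp f) θ h h'
  rw [← ip_ind_left _ _ χ'.isClassFunction, ind_comp_self _ χ.isClassFunction,
    ind_one_eq_regChar_comp IsNormalEmb.injective (QuotientGroup.mk'_surjective f.range)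
      (QuotientGroup.ker_mk' _), regChar_eq_sum] at h1
  have h2 : (∑ β : IrrCharacter (G ⧸ f.range), β 1 • β.1) ∘ QuotientGroup.mk' f.range * χ.1 =
      ∑ β : IrrCharacter (G ⧸ f.range), β 1 • (β.1 ∘ QuotientGroup.mk' f.range * χ.1) := by
    funext g
    simp [Finset.sum_apply, Finset.sum_mul, mul_assoc]
  rw [h2, ip_sum_left] at h1
  obtain ⟨β, -, hβ⟩ := Finset.exists_ne_zero_of_sum_ne_zero h1
  have hcomm : ∀ a b : G ⧸ f.range, a * b = b * a :=
    (Subgroup.Normal.quotient_commutative_iff_commutator_le.2 hab).is_comm.comm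
  obtain ⟨mu, rfl⟩ := IrrCharacter.ofLinear_surjective_of_comm hcomm β
  refine ⟨mu.comp (QuotientGroup.mk' f.range), fun n => ?_, ?_⟩
  · have : QuotientGroup.mk' f.range (f n) = 1 := (QuotientGroup.eq_one_iff _).2 ⟨n, rfl⟩
    rw [MonoidHom.comp_apply, this, map_one]
  · rw [ip_smul_left] at hβ
    exact IrrCharacter.eq_of_ip_ne_zero (right_ne_zero_of_mul hβ)

theorem IsTwoGal.smul_eq_of_liesOver {σ : ℂ ≃+* ℂ} (hσ : IsTwoGal (Nat.card G) σ) {f : N →* G}
    [IsNormalEmb f] (hab : commutator G ≤ f.range) (hodd : Odd f.range.index)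
    {χ : IrrCharacter G} {θ : IrrCharacter N} (h : LiesOver f χ.1 θ.1) (hθ : σ • θ = θ) :
    σ • χ = χ := by
  have h' : LiesOver f (σ • χ).1 θ.1 := by
    rw [← hθ, IrrCharacter.liesOver_gal_smul]; exact h
  obtain ⟨lam, h1, h2⟩ := exists_linear_smul_of_liesOver hab h h'
  obtain ⟨j, hj⟩ := hσ.pow_smul
  refine Subtype.ext (funext fun g => ?_)
  have h3 : σ (χ g) = lam g * χ g := (congrFun (congrArg Subtype.val h2) g).symm
  have h4 : (lam g : ℂ) ^ f.range.index = 1 := by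
    rw [← Units.val_pow_eq_pow_val, linear_pow_index_range h1, Units.val_one]
  have h5 : σ (lam g) = lam g := hσ.odd _ _ hodd f.range.index_dvd_card h4
  have h6 : ∀ i : ℕ, (σ ^ i) (χ g) = (lam g : ℂ) ^ i * χ g := by
    intro i
    induction i with
    | zero => simp
    | succ i ih =>
      rw [pow_succ', RingAut.mul_apply, ih, map_mul, map_pow, h5, h3]
      ring
  have h7 : (σ ^ 2 ^ j) (χ g) = χ g := congrFun (congrArg Subtype.val (hj χ)) g
  change σ (χ g) = χ g
  by_cases h0 : χ g = 0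
  · rw [h0, map_zero]
  rw [h6] at h7
  have h8 : (lam g : ℂ) ^ 2 ^ j = 1 := (mul_eq_right₀ h0).1 h7
  have h9 : (lam g : ℂ) = 1 := by
    have := pow_gcd_eq_one.2 ⟨h8, h4⟩
    rwa [((Nat.coprime_two_left.2 hodd).pow_left j).gcd_eq_one, pow_one] at this
  rw [h3, h9, one_mul]

variable {M : Ideal AlgInt}

theorem IsTwoGal.even_card_fixed {σ : ℂ ≃+* ℂ} (hσ : IsTwoGal (Nat.card N) σ)
    (hM : IsPModular 2 M) (f : N →* G) [IsNormalEmb f]
    (h : ∀ x : G, ∃ n : ℕ, x ^ 2 ^ n ∈ f.range) (hN : 2 ∣ Nat.card N) :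
    2 ∣ Nat.card {θ : IrrCharacter N // θ ∈ principalBlock M N ∧ Odd (charDegree θ.1) ∧
      inertia f θ = ⊤ ∧ σ • θ = θ} := by
  have h0 := (isPBlock_principalBlock (M := M) (G := N)).even_card_odd_degree hM hN
  let φ : G →* Equiv.Perm (IrrCharacter N) :=
    (MulAction.toPermHom (MulAut N) (IrrCharacter N)).comp (conjAut f)
  have hφ : IsPGroup 2 φ.range := by
    rintro ⟨_, x, rfl⟩
    obtain ⟨n, y, hy⟩ := h x
    refine ⟨n, Subtype.ext ?_⟩
    change φ x ^ 2 ^ n = 1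
    rw [← map_pow, ← hy]
    ext1 θ
    exact conjAut_map_smul f y θ
  have h1 := card_modEq_card_fixed_perm φ.range hφ
    (fun θ => θ ∈ principalBlock M N ∧ Odd (charDegree θ.1)) (by
      rintro _ ⟨x, rfl⟩ θ ⟨h1, h2⟩
      refine ⟨?_, ?_⟩
      · exact (blockStab_eq_top_iff.1 (blockStab_principalBlock f)) x θ h1
      · change Odd (charDegree (conjAut f x • θ).1)
        rwa [IrrCharacter.charDegree_smul])
  obtain ⟨j, hj⟩ := hσ.pow_smul
  let τ : Equiv.Perm (IrrCharacter N) := MulAction.toPermHom (ℂ ≃+* ℂ) (IrrCharacter N) σ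
  have hτ : IsPGroup 2 (Subgroup.zpowers τ) := by
    rw [← isPElt_iff_isPGroup_zpowers, isPElt_iff_pow_eq_one]
    refine ⟨j, ?_⟩
    rw [← map_pow]
    ext1 θ
    exact hj θ
  have h2 := card_modEq_card_fixed_perm (Subgroup.zpowers τ) hτ
    (fun θ => (θ ∈ principalBlock M N ∧ Odd (charDegree θ.1)) ∧ ∀ γ ∈ φ.range, γ θ = θ) (by
      rintro _ ⟨i, rfl⟩ θ ⟨⟨h1, h2⟩, h3⟩
      have e : (τ ^ i) θ = (σ ^ i) • θ := by rw [← map_zpow]; rfl
      simp only [e]
      refine ⟨⟨(gal_smul_mem_principalBlock_iff hM _ _).2 h1, ?_⟩, ?_⟩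
      · rwa [IrrCharacter.charDegree_gal_smul]
      · rintro _ ⟨x, rfl⟩
        change conjAut f x • (σ ^ i) • θ = _
        rw [← IrrCharacter.gal_smul_conjAut_smul]
        exact congrArg _ (h3 _ ⟨x, rfl⟩))
  have h3 := ((h1.trans h2).dvd_iff (dvd_refl 2)).1 h0
  convert h3 using 1
  refine Nat.card_congr (Equiv.subtypeEquivRight fun θ => ?_)
  rw [inertia_eq_top_iff]
  constructor
  · rintro ⟨a, b, c, d⟩
    refine ⟨⟨⟨a, b⟩, ?_⟩, ?_⟩
    · rintro _ ⟨x, rfl⟩; exact c x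
    · intro γ hγ
      exact (Subgroup.zpowers_le_of_mem (g := τ)
        (H := MulAction.stabilizer (Equiv.Perm (IrrCharacter N)) θ) d) hγ
  · rintro ⟨⟨⟨a, b⟩, c⟩, d⟩
    exact ⟨a, b, fun x => c _ ⟨x, rfl⟩, d τ (Subgroup.mem_zpowers τ)⟩

theorem IsTwoGal.exists_fixed_ne_one {σ : ℂ ≃+* ℂ} (hσ : IsTwoGal (Nat.card N) σ)
    (hM : IsPModular 2 M) (f : N →* G) [IsNormalEmb f]
    (h : ∀ x : G, ∃ n : ℕ, x ^ 2 ^ n ∈ f.range) (hN : 2 ∣ Nat.card N) :
    ∃ θ ∈ principalBlock M N, θ ≠ IrrCharacter.one N ∧ Odd (charDegree θ.1) ∧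
      inertia f θ = ⊤ ∧ σ • θ = θ := by
  have h0 := hσ.even_card_fixed hM f h hN
  by_contra hne
  push Not at hne
  have : Nat.card {θ : IrrCharacter N // θ ∈ principalBlock M N ∧ Odd (charDegree θ.1) ∧
      inertia f θ = ⊤ ∧ σ • θ = θ} = 1 := by
    rw [Nat.card_eq_one_iff_exists]
    refine ⟨⟨IrrCharacter.one N, hM.one_mem_principalBlock, by simp, inertia_one f,
      IrrCharacter.gal_smul_one σ⟩, fun θ => Subtype.ext ?_⟩
    by_contra h1
    exact hne θ.1 θ.2.1 h1 θ.2.2.1 θ.2.2.2.1 θ.2.2.2.2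
  omega

theorem IsTwoGal.hasNormalPComplement {σ : ℂ ≃+* ℂ} (hσ : IsTwoGal (Nat.card G) σ)
    (hM : IsPModular 2 M)
    (H : ∀ χ ∈ principalBlock M G, Odd (charDegree χ.1) → σ • χ = χ → charDegree χ.1 = 1) :
    HasNormalPComplement 2 G := by
  obtain ⟨P⟩ : Nonempty (Sylow 2 G) := inferInstance
  set T : Subgroup G := (P : Subgroup G) ⊔ commutator G with hT
  haveI : T.Normal := Subgroup.Normal.of_commutator_le _ le_sup_right
  have hTi : ¬ 2 ∣ T.index := fun h =>
    P.not_dvd_index (h.trans (Subgroup.index_dvd_of_le le_sup_left))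
  have hTi' : ¬ 2 ∣ T.subtype.range.index := by rwa [Subgroup.range_subtype]
  -- step (a)
  have ha : ∀ η ∈ principalBlock M T, Odd (charDegree η.1) → σ • η = η →
      ∃ lam : G →* ℂˣ, ∀ t : T, η t = lam t := by
    intro η hη hd hs
    obtain ⟨χ, hχ, hχd, hχη⟩ := exists_principalBlock_liesOver_of_not_dvd hM T.subtype_injective
      hTi' hη (by rwa [← even_iff_two_dvd, Nat.not_even_iff_odd])
    have h1 := H χ hχ (by rwa [← Nat.not_even_iff_odd, even_iff_two_dvd])
      (hσ.smul_eq_of_liesOver (by rw [Subgroup.range_subtype]; exact le_sup_right)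
        (by rwa [← Nat.not_even_iff_odd, even_iff_two_dvd]) hχη hs)
    have h2 := hχη.comp_eq_of_charDegree_le χ.isCharacter (by rw [h1]; exact η.charDegree_pos)
    obtain ⟨lam, rfl⟩ := IrrCharacter.exists_ofLinear_eq_of_charDegree h1
    exact ⟨lam, fun t => (congrFun h2 t).symm⟩
  -- step (b)
  set K : Subgroup T := pResidual 2 T with hK
  obtain ⟨e, he⟩ := exists_index_pResidual 2 T
  have hpow : ∀ x : T, ∃ n : ℕ, x ^ 2 ^ n ∈ K.subtype.range := fun x =>
    ⟨e, by rw [Subgroup.range_subtype, ← he]; exact Subgroup.pow_index_mem _ x⟩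
  have hKc : K ≤ (commutator G).subgroupOf T := by
    rw [hK, pResidual_le_iff]
    intro x
    induction x using QuotientGroup.induction_on with
    | H t =>
      have ht : (t : G) ∈ (((P : Subgroup G) ⊔ commutator G : Subgroup G) : Set G) := t.2
      rw [Subgroup.mul_normal] at ht
      obtain ⟨u, hu, c, hc, huc⟩ := ht
      obtain ⟨n, hn⟩ := P.isPGroup' ⟨u, hu⟩
      refine ⟨n, ?_⟩
      rw [← QuotientGroup.mk_pow, QuotientGroup.eq_one_iff, Subgroup.mem_subgroupOf,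
        ← QuotientGroup.eq_one_iff, Subgroup.coe_pow, QuotientGroup.mk_pow, ← huc]
      have h1 : ((c : G) : G ⧸ commutator G) = 1 := (QuotientGroup.eq_one_iff _).2 hc
      have h2 : u ^ 2 ^ n = 1 := congrArg Subtype.val hn
      simp only [QuotientGroup.mk_mul, h1, mul_one]
      rw [← QuotientGroup.mk_pow, h2, QuotientGroup.mk_one]
  have hKodd : ¬ 2 ∣ Nat.card K := by
    intro hev
    have hσK : IsTwoGal (Nat.card K) σ :=
      hσ.of_dvd (K.card_subgroup_dvd_card.trans T.card_subgroup_dvd_card)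
    obtain ⟨θ, hθ, hne, hd, hI, hs⟩ := hσK.exists_fixed_ne_one hM K.subtype hpow hev
    have hdet : ¬ 2 ∣ detOrder θ.1 := fun h =>
      pResidual_eq_top_iff_not_dvd_index_commutator.1 (pResidual_pResidual (p := 2) (G := T))
        (h.trans (detOrder_dvd_index_commutator θ.1))
    have hcop : (charDegree θ.1 * detOrder θ.1).Coprime K.subtype.range.index := by
      rw [Subgroup.range_subtype, he]
      refine Nat.Coprime.pow_right _ (Nat.coprime_two_right.2 (hd.mul ?_))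
      rwa [← Nat.not_even_iff_odd, even_iff_two_dvd]
    obtain ⟨η, ⟨hη1, hη2⟩, hη3⟩ := existsUnique_extension_of_coprime hI hcop
    have hηs : σ • η = η := by
      refine hη3 _ ⟨?_, ?_⟩
      · rw [← hs, IrrCharacter.gal_smul_coe, IrrCharacter.gal_smul_coe, ← hη1]; rfl
      · rwa [IrrCharacter.gal_smul_coe', η.isCharacter.detOrder_map_ringHom]
    have hηB : η ∈ principalBlock M T := by
      rw [principalBlock_eq_irrOver_of_pow_mem hM hpow]
      exact ⟨θ, hθ, liesOver_of_comp_eq hη1⟩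
    obtain ⟨lam, hlam⟩ := ha η hηB (by rwa [charDegree_eq_of_comp_eq hη1]) hηs
    refine hne (Subtype.ext (funext fun n => ?_))
    have := linear_apply_of_mem_commutator lam (g := ((K.subtype n : T) : G)) (hKc n.2)
    rw [← hη1, Function.comp_apply, hlam, this]
    rfl
  -- step (c)
  have hc : (pResidual 2 G).subgroupOf T = K := by
    refine pResidual_subgroupOf_eq_of_forall_le hTi fun W hW hWi t ht => ?_
    by_contra htW
    obtain ⟨mu, hmu, hmut⟩ := exists_linear_ne_one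
      (commutator_le_of_prime_index (M := W) (hWi ▸ Nat.prime_two)) htW
    have hsq : ∀ x, (mu x : ℂ) ^ 2 = 1 := fun x => by
      rw [← Units.val_pow_eq_pow_val, ← map_pow, hmu _ (hWi ▸ W.pow_index_mem x), Units.val_one]
    have hB : IrrCharacter.ofLinear mu ∈ principalBlock M T := by
      rw [principalBlock_eq_irrOver_of_pow_mem hM (f := W.subtype) (fun x =>
        ⟨1, by rw [Subgroup.range_subtype, pow_one, ← hWi]; exact W.pow_index_mem x⟩)]
      refine ⟨IrrCharacter.one W, hM.one_mem_principalBlock, liesOver_of_comp_eq ?_⟩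
      funext w
      simp [hmu w w.2]
    obtain ⟨lam, hlam⟩ := ha _ hB (by simp) (Subtype.ext (funext fun x => by
      change σ (mu x) = mu x
      rcases sq_eq_one_iff.1 (hsq x) with h | h <;> simp [h]))
    obtain ⟨a, m, hm, hnm⟩ := Nat.exists_eq_two_pow_mul_odd (Nat.card_pos (α := G)).ne'
    have h1 : pResidual 2 G ≤ (lam ^ m).ker := by
      rw [pResidual, Subgroup.closure_le]
      intro g hg
      have h2 : orderOf g ∣ m := by
        have := orderOf_dvd_natCard g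
        rw [hnm] at this
        exact Nat.Coprime.dvd_of_dvd_mul_left (Nat.Coprime.pow_right a hg) this
      change (lam ^ m) g = 1
      rw [MonoidHom.pow_apply, ← map_pow, orderOf_dvd_iff_pow_eq_one.1 h2, map_one]
    have h2 : lam t ^ m = 1 := h1 ht
    have h3 : mu t = lam t := Units.ext (hlam t)
    have h4 : mu t ^ 2 = 1 := Units.ext (by simpa using hsq t)
    have := pow_gcd_eq_one.2 ⟨h4, h3 ▸ h2⟩
    rw [(Nat.coprime_two_left.2 hm).gcd_eq_one, pow_one] at this
    exact hmut this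
  rw [hasNormalPComplement_iff_not_dvd_card_pResidual]
  intro h
  have h1 : Nat.card (T.subgroupOf (pResidual 2 G)) = Nat.card K := by
    rw [← hc, ← Subgroup.inf_subgroupOf_right, ← Subgroup.inf_subgroupOf_right (pResidual 2 G),
      Nat.card_congr (Subgroup.subgroupOfEquivOfLe inf_le_right).toEquiv,
      Nat.card_congr (Subgroup.subgroupOfEquivOfLe inf_le_right).toEquiv, inf_comm]
  rw [← (T.subgroupOf (pResidual 2 G)).card_mul_index, h1] at h
  rcases (Nat.Prime.dvd_mul Nat.prime_two).1 h with h | h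
  · exact hKodd h
  · exact hTi (h.trans (Subgroup.relIndex_dvd_index_of_normal _ _))

end Cfsg

set_option linter.all false in
theorem Cfsg.Rz.Blk_SigmaFix_0 : True := by
  have := @_root_.Cfsg.IsTwoGal.mk.congr_simp
  trivial
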