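import Cfsg.Agent.Blk.SmallQuot
import Cfsg.Agent.Blk.PrimeTwo
import Cfsg.Agent.Grp.Scott

/-!
# Perfect groups with a faithful character of degree three and order divisible by five
-/

set_option autoImplicit false
set_option linter.unusedSectionVars false
set_option linter.unusedVariables false
set_option linter.style.haveILetI false

namespace Cfsg

open Exc Subgroup
open scoped ComplexConjugate Classical

universe u v w

variable {G : Type u} [Group G] [Finite G]

local notation "C(" Q ")" => Subgroup.centralizer ((Q : Subgroup G) : Set G)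
local notation "N(" Q ")" => Subgroup.normalizer ((Q : Subgroup G) : Set G)

theorem detChar_eq_one_of_perfect (hG : commutator G = ⊤) (χ : G → ℂ) (g : G) :
    detChar χ g = 1 := by
  have := Abelianization.commutator_subset_ker (detHom χ) (hG ▸ mem_top g)
  rw [← coe_detHom, MonoidHom.mem_ker.1 this, Units.val_one]

theorem IrrCharacter.apply_mul_self_three (hG : commutator G = ⊤) {β : IrrCharacter G}
    (h : charDegree β.1 = 3) (g : G) : β (g * g) = β g ^ 2 - 2 * conj (β g) := by
  obtain ⟨ε, h1, h2, h3⟩ := β.isCharacter.exists_roots g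
  have h4 := h3 1
  rw [detChar_eq_one_of_perfect hG] at h4
  have h5 := h2 1
  have h6 := h2 2
  have hc : ∀ i, ε i * conj (ε i) = 1 := fun i => by
    rw [Complex.mul_conj, Complex.normSq_eq_norm_sq,
      Complex.norm_eq_one_of_pow_eq_one (h1 i) (orderOf_pos g).ne']
    simp
  rw [← (finCongr h.symm).sum_comp, Fin.sum_univ_three] at h5 h6
  rw [← (finCongr h.symm).prod_comp, Fin.prod_univ_three] at h4
  simp only [pow_one] at h4 h5
  rw [← sq, h6, h5]
  simp only [map_add]
  have e0 := hc (finCongr h.symm 0)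
  have e1 := hc (finCongr h.symm 1)
  have e2 := hc (finCongr h.symm 2)
  generalize ε (finCongr h.symm 0) = a at *
  generalize ε (finCongr h.symm 1) = b at *
  generalize ε (finCongr h.symm 2) = c at *
  linear_combination (2 * b * c) * e0 + (2 * a * c) * e1 + (2 * a * b) * e2 +
    2 * (conj a + conj b + conj c) * h4

theorem IrrCharacter.apply_invol_three (hG : commutator G = ⊤) {β : IrrCharacter G}
    (h : charDegree β.1 = 3) (hf : ∀ g, β g = β 1 → g = 1) {t : G} (ht : orderOf t = 2) :
    β t = -1 := by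
  have h1 : t ^ 2 = 1 := by rw [← ht, pow_orderOf_eq_one]
  obtain ⟨m, hm, -⟩ := β.isCharacter.exists_int_of_sq_eq_one h1
  have h2 := β.apply_mul_self_three hG h t
  have h3 : β t ≠ β 1 := fun e => by simp [hf t e] at ht
  rw [← sq, h1] at h2
  rw [β.apply_one, h, hm] at h2 h3
  rw [map_intCast] at h2
  have : (β t + 1) * ((m : ℂ) - (3 : ℕ)) = 0 := by rw [hm]; push_cast at h2 ⊢; linear_combination -h2
  exact eq_neg_of_add_eq_zero_left ((mul_eq_zero.1 this).resolve_right (sub_ne_zero.2 h3))

namespace SmallDeg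

variable [Fact (Nat.Prime 5)] {P : Sylow 5 G} {χ : IrrCharacter G} (h : SmallDeg 5 P χ)
  (hG : commutator G = ⊤) (hd : charDegree χ.1 = 3)
include h hG hd

theorem five_eq_zero {g : G} (hg : IsPElt 3 (g : G ⧸ center G)) (hz : g ∉ center G) : χ g = 0 := by
  have hZ := hd ▸ χ.card_center_dvd_of_perfect h.faith hG
  obtain ⟨k, hk⟩ := isPElt_iff_pow_eq_one.1 hg
  rw [← QuotientGroup.mk_pow, QuotientGroup.eq_one_iff] at hk
  have h1 : g ^ 3 ^ (k + 1) = 1 := by
    rw [pow_succ, pow_mul]
    exact orderOf_dvd_iff_pow_eq_one.1 (((center G).orderOf_dvd_natCard hk).trans hZ)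
  have h2 := orderOf_dvd_of_pow_eq_one h1
  obtain ⟨n, hn⟩ : ∃ n, 3 ^ (k + 1) = 3 * n + 3 := ⟨3 ^ k - 1, by
    have := Nat.one_le_pow k 3 (by decide)
    rw [pow_succ]; omega⟩
  have h3 := h.apply_pow (g := g) (k := 6 * n + 4) (Nat.Coprime.coprime_dvd_right h2
    (Nat.Coprime.pow_right _ ((Nat.coprime_comm.1 ((Nat.Prime.coprime_iff_not_dvd
      Nat.prime_three).2 (by omega)))))) (Nat.ModEq.of_dvd (n := 3) (by
      refine Nat.Coprime.dvd_of_dvd_mul_left ?_
        ((Nat.gcd_dvd_left _ _).trans (mul_dvd_mul_left 5 hZ))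
      exact Nat.Coprime.coprime_dvd_left ((Nat.gcd_dvd_right _ _).trans h2)
        (Nat.Coprime.pow_left _ (by decide))) (by rw [Nat.ModEq]; omega))
  have h4 : g ^ (6 * n + 4) = (g * g)⁻¹ := by
    rw [eq_inv_iff_mul_eq_one, ← sq, ← pow_add, show 6 * n + 4 + 2 = (3 * n + 3) * 2 by ring,
      pow_mul, ← hn, h1, one_pow]
  rw [h4, χ.isCharacter.isGen.apply_inv, χ.apply_mul_self_three hG hd] at h3
  have h5 : conj (χ g) ^ 2 = 3 * χ g := by simp [map_ofNat] at h3; linear_combination h3
  have h6 := congrArg norm h5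
  rw [norm_pow, norm_mul, Complex.norm_conj, sq] at h6
  by_contra h0
  refine hz (χ.charCenter_eq_center_of_faithful h.faith ▸ χ.mem_charCenter.2 ?_)
  rw [mul_right_cancel₀ (norm_ne_zero_iff.2 h0) h6, hd]
  simp

theorem five_not_dvd {q : ℕ} (hq : q.Prime) (h7 : 7 ≤ q) : ¬ q ∣ Nat.card G := fun hdvd => by
  have := Fact.mk hq
  have hZ := hd ▸ χ.card_center_dvd_of_perfect h.faith hG
  obtain ⟨g, hg⟩ := exists_prime_orderOf_dvd_card' q hdvd
  obtain ⟨n, hn⟩ := h.exists_int (g := g) (Nat.Coprime.coprime_dvd_left (mul_dvd_mul_left 5 hZ) (by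
    rw [hg]
    exact Nat.Coprime.mul_left ((Nat.coprime_primes (by norm_num) hq).2 (by omega))
      ((Nat.coprime_primes (by norm_num) hq).2 (by omega))))
  have h1 := (χ.isCharacter.int_modEq_charDegree hq (k := 1)
    (by rw [pow_one, ← hg, pow_orderOf_eq_one]) hn).dvd
  have h2 := χ.norm_le g
  rw [hn, hd, Complex.norm_intCast] at h2
  have h3 : |n| ≤ 3 := by exact_mod_cast h2
  rw [abs_le] at h3
  have h4 := Int.eq_zero_of_abs_lt_dvd h1 (by rw [hd, abs_lt]; omega)
  have h5 := h.eq_one g (by rw [hn, χ.apply_one, show n = charDegree χ.1 by omega]; simp)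
  rw [h5, orderOf_one] at hg
  omega

theorem five_three : Nonempty (G ⧸ center G ≃* Matrix.ProjectiveSpecialLinearGroup (Fin 2) (ZMod 5))
    ∨ Nonempty (G ⧸ center G ≃* alternatingGroup (Fin 6)) := by
  obtain ⟨x, hx, hx1⟩ := h.exists_ne_one
  let _ := Fintype.ofFinite (zpowers (x : G ⧸ center G))
  have he : (C(P)).relIndex N(P) = 2 := by have := h.le_relIndex; omega
  obtain ⟨Θ, X, Y, ζ, δ, a, b, hX, hΘ, h1, h2, h3⟩ := h.exists_quot hG Nat.prime_two he hx hx1
  have := h.isSimpleGroup_quot hG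
  have hna := h.not_comm_quot
  have hS := h.selfCent hx hx1
  have hZ := hd ▸ χ.card_center_dvd_of_perfect h.faith hG
  have hH : commutator (G ⧸ center G) = ⊤ :=
    (IsSimpleGroup.eq_bot_or_eq_top_of_normal _ inferInstance).resolve_left fun e =>
      hna ((commutator_eq_bot_iff _).1 e)
  have hΘ1 : charDegree Θ = 9 := charDegree_eq_of_apply_one (by
    rw [← QuotientGroup.mk_one, h1, χ.apply_one, map_natCast, hd]; norm_num)
  have h27 : ¬ 27 ∣ Nat.card (G ⧸ center G) := fun e => by
    obtain ⟨A, hA⟩ := Sylow.exists_subgroup_card_pow_prime 3 (n := 3) e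
    have := hΘ.card_subgroup_dvd_of_vanish A fun g hg hg1 => by
      obtain ⟨g, rfl⟩ := QuotientGroup.mk_surjective g
      rw [h1, h.five_eq_zero hG hd (isPElt_iff_pow_eq_one.2 ⟨3, orderOf_dvd_iff_pow_eq_one.1
        (hA ▸ A.orderOf_dvd_natCard hg)⟩) fun e => hg1 ((QuotientGroup.eq_one_iff _).2 e), zero_mul]
    rw [hA, hΘ1] at this
    norm_num at this
  obtain ⟨α, hα, α1⟩ := Finset.exists_mem_ne (by omega : 1 < X.card) (IrrCharacter.one _)
  obtain ⟨ht, m1, hs⟩ := b.eq_pair (by decide) (IsClassFunction.const 1) hX hα α1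
  obtain ⟨η, hη, hη'⟩ : ∃ η ∈ Y, ipNat Θ η.1 ≠ 0 := by
    by_contra hn
    push Not at hn
    rw [Finset.sum_eq_zero hn, hd] at h3
    omega
  have η1 : η ≠ IrrCharacter.one _ := fun e => Finset.disjoint_left.1 b.disj m1 (e ▸ hη)
  have h4 := hΘ.sum_ipNat_mul_le (X ∪ Y)
  have h5 := b.deg_rel hη
  have h6 := b.modEq_X hα
  have h7 := α.one_lt_charDegree_of_isSimpleGroup hna α1
  have h8 := Finset.single_le_sum (f := fun η => ipNat Θ η.1) (fun _ _ => Nat.zero_le _) hη
  rw [Finset.sum_union b.disj, hs, h2, Finset.sum_congr rfl fun η' hη' => by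
    rw [b.deg_eq hη' hη], ← Finset.sum_mul, hΘ1] at h4
  rw [hs, b.a_one m1] at h3 h5
  rw [h2, hd] at h3
  have h9 := Nat.mul_le_mul_right (charDegree η.1) ((Nat.pos_of_ne_zero hη').trans_le h8)
  simp only [IrrCharacter.charDegree_one, Int.ModEq] at h4 h5 h6
  obtain ⟨hδ, ha, h10⟩ : δ = -1 ∧ a α = -1 ∧ (charDegree η.1 = 3 ∧ charDegree α.1 = 4 ∨
      charDegree η.1 = 8 ∧ charDegree α.1 = 9) := by
    have := (Nat.eq_zero_or_pos (ipNat Θ α.1)).imp_right (Nat.le_mul_of_pos_left (charDegree α.1))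
    rcases b.sign with e | e <;> rcases b.asign α hα with e' | e' <;> rw [e, e'] at h3 h5 <;>
      rw [e'] at h6 <;> omega
  have hu : (⟨x, mem_zpowers _⟩ : zpowers (x : G ⧸ center G)) ≠ 1 :=
    fun e => hS.ne_one (congrArg Subtype.val e)
  have hrel : ∀ g, IsPRegular 5 g → α g = η g + 1 := fun g hg => by
    have := b.reg_rel η hη g hg
    rw [hs, b.a_one m1, ha, hδ] at this
    simp only [IrrCharacter.one_apply] at this
    push_cast at this
    linear_combination this
  have hsum : ∀ g k, IsPRegular 5 g → IsPRegular 5 k →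
      ∑ φ : IrrCharacter _, φ g * φ k * conj (φ (x : G ⧸ center G)) / φ 1 =
        1 - α g * α k / charDegree α.1 + η g * η k / charDegree η.1 := fun g k hg hk => by
    rw [b.sum_mul_conj (fun φ => φ.isClassFunction) hg hk hu hη, hs, b.a_one m1, ha, hδ,
      α.apply_one, η.apply_one]
    simp [sub_eq_add_neg]
  obtain ⟨z, hz, hz'⟩ := exists_invol_sylow_le (G := G ⧸ center G) (by
    rcases h10 with ⟨-, e⟩ | ⟨e, -⟩
    exacts [(e ▸ by decide : 2 ∣ _).trans α.charDegree_dvd_card,
      (e ▸ by decide : 2 ∣ _).trans η.charDegree_dvd_card])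
  have hzr : IsPRegular 5 z := by rw [IsPRegular, hz]; decide
  have hc := (centralizer {z}).card_mul_index
  have hc5 := hS.not_dvd_card_centralizer hzr fun e => by simp [e] at hz
  have key : ∀ c m n, Nat.card (centralizer {z}) = m * c → (centralizer {z}).index = 3 * n * c →
      c = 1 := fun c m n e1 e2 => by
    by_contra hc1
    obtain ⟨q, hq, t, rfl⟩ := Nat.exists_prime_and_dvd hc1
    have q2 : q ≠ 2 := fun e => hz' (e2 ▸ e ▸ (dvd_mul_right _ _).mul_left _)
    have q5 : q ≠ 5 := fun e => hc5 (e1 ▸ e ▸ (dvd_mul_right _ _).mul_left _)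
    have q3 : q ≠ 3 := fun e => h27 ⟨m * n * t * t, by rw [← hc, e1, e2, e]; ring⟩
    have q7 : ¬ 7 ≤ q := fun e => h.five_not_dvd hG hd hq e (by
      rw [card_eq_card_quotient_mul_card_subgroup (center G), ← hc, e1]
      exact (((dvd_mul_right _ _).mul_left _).mul_right _).mul_right _)
    have := hq.two_le
    interval_cases q <;> first | omega | norm_num at hq
  have hcm := fun h0 => (hS.class_mul (by decide) hz h0).1
  have hpos := Nat.card_pos (α := centralizer {z})
  rw [hsum z z hzr hzr, hrel z hzr, ← hc, Nat.cast_mul] at hcm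
  rcases h10 with ⟨e, e'⟩ | ⟨e, e'⟩
  · rw [η.apply_invol_three hH e (η.faithful_of_isSimpleGroup η1) hz, e, e'] at hcm
    have h11 : 15 * Nat.card (centralizer {z}) = 4 * (centralizer {z}).index :=
      Nat.eq_of_mul_eq_mul_left hpos (by
        exact_mod_cast (by push_cast; linear_combination 3 * hcm (by norm_num) :
          ((Nat.card (centralizer {z}) * (15 * Nat.card (centralizer {z})) : ℕ) : ℂ) =
            (Nat.card (centralizer {z}) * (4 * (centralizer {z}).index) : ℕ)))
    have h12 := key (Nat.card (centralizer {z}) / 4) 4 5 (by omega) (by omega)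
    exact Or.inl (Four.nonempty_equiv_psl (by
      rw [← hc, show Nat.card (centralizer {z}) = 4 by omega,
        show (centralizer {z}).index = 15 by omega]) hH)
  have hη2 : ∀ g : G, η g = χ g * conj (χ g) - 1 := fun g => by
    have := hΘ.eq_sum_of_le (Y := {IrrCharacter.one _, η}) (by
      simp only [Finset.mem_insert, Finset.mem_singleton]
      rintro _ (rfl | rfl) <;> rw [← hΘ.ipNat_cast (IrrCharacter.isCharacter _)]
      · simp [h2]
      · exact_mod_cast hη') (by rw [Finset.sum_pair η1.symm, hΘ1, e]; simp)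
    rw [← h1, this, Finset.sum_pair η1.symm]
    simp
  have hz0 : η z = 0 := by
    obtain ⟨g, rfl⟩ := QuotientGroup.mk_surjective z
    have h11 : (g : G ⧸ center G) ^ 2 = 1 := by rw [← hz, pow_orderOf_eq_one]
    have h12 : ((g ^ 3 : G) : G ⧸ center G) = g := by
      rw [QuotientGroup.mk_pow, pow_succ, h11, one_mul]
    rw [← QuotientGroup.mk_pow, QuotientGroup.eq_one_iff] at h11
    rw [← h12, hη2, χ.apply_invol_three hG hd h.eq_one (orderOf_eq_prime (by
      rw [← pow_mul, mul_comm, pow_mul]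
      exact orderOf_dvd_iff_pow_eq_one.1 (((center G).orderOf_dvd_natCard h11).trans hZ))
      fun e => by simp [← h12, e] at hz)]
    simp
  rw [hz0, e, e'] at hcm
  have h11 : 45 * Nat.card (centralizer {z}) = 8 * (centralizer {z}).index :=
    Nat.eq_of_mul_eq_mul_left hpos (by
      exact_mod_cast (by push_cast; linear_combination 9 * hcm (by norm_num) :
        ((Nat.card (centralizer {z}) * (45 * Nat.card (centralizer {z})) : ℕ) : ℂ) =
          (Nat.card (centralizer {z}) * (8 * (centralizer {z}).index) : ℕ)))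
  have h12 := key (Nat.card (centralizer {z}) / 8) 8 15 (by omega) (by omega)
  have h13 : Nat.card (G ⧸ center G) = 360 := by
    rw [← hc, show Nat.card (centralizer {z}) = 8 by omega,
      show (centralizer {z}).index = 45 by omega]
  obtain ⟨w, hw⟩ := exists_prime_orderOf_dvd_card' (G := G ⧸ center G) 3 (by rw [h13]; decide)
  have hwr : IsPRegular 5 w := by rw [IsPRegular, hw]; decide
  have hw0 : α w = 0 := by
    obtain ⟨g, rfl⟩ := QuotientGroup.mk_surjective w
    rw [hrel _ hwr, hη2, h.five_eq_zero hG hd ⟨1, hw⟩ fun e => by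
      simp [(QuotientGroup.eq_one_iff _).2 e] at hw]
    simp
  have h14 := card_class_mul_eq_sum z w (x : G ⧸ center G)
  rw [hsum z w hzr hwr, hz0, hw0] at h14
  obtain ⟨⟨⟨s, t⟩, hs, ht, e⟩⟩ := (Nat.card_ne_zero.1 fun e => by
    rw [e, h13] at h14
    have i1 := index_ne_zero_of_finite (H := centralizer {z})
    have i2 := index_ne_zero_of_finite (H := centralizer {w})
    simpa [i1, i2] using h14.symm).1
  have h15 := (closure {s, t}).card_mul_index
  rw [card_closure_eq_sixty (orderOf_eq_of_isConj' hs ▸ hz) (orderOf_eq_of_isConj' ht ▸ hw)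
    (e ▸ hS.order), h13] at h15
  obtain ⟨f, hf⟩ := exists_injective_perm_of_index (H := closure {s, t}) (n := 6) (by omega)
    (by decide)
  exact Or.inr (nonempty_equiv_alternatingGroup_of_injective (by decide) hH f hf (by rw [h13]; decide))

end SmallDeg

end Cfsg
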