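import Cfsg.Agent.Blk.SmallRed

/-!
# Reduction of faithful irreducible characters of degree at most `p - 2` to perfect groups with a
Sylow `p`-subgroup of order `p`
-/

set_option autoImplicit false
set_option linter.unusedSectionVars false
set_option linter.unusedVariables false
set_option linter.style.haveILetI false

namespace Cfsg

open Exc Subgroup
open scoped ComplexConjugate Classical commutatorElement

universe u v w

variable {G : Type u} [Group G] [Finite G] {p : ℕ} [hp : Fact p.Prime]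

theorem IrrCharacter.pCore_le_center_of_small (χ : IrrCharacter G) (hf : charKer χ.1 = ⊥)
    (hp5 : 5 ≤ p) (hd : charDegree χ.1 + 2 ≤ p) (P : Sylow p G)
    (hnn : ¬ (P : Subgroup G).Normal) : pCore p G ≤ center G := by
  obtain ⟨K, hK⟩ : ∃ K, normalClosure ((P : Subgroup G) : Set G) = K := ⟨_, rfl⟩
  have : K.Normal := hK ▸ inferInstance
  have hPK : (P : Subgroup G) ≤ K := hK ▸ le_normalClosure
  have hgen : PGen p K := hK ▸ pGen_closure fun x hx => by
    obtain ⟨a, ha, h⟩ := Group.mem_conjugatesOfSet_iff.1 hx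
    exact (isPElt_iff_of_isConj h).1 (isPElt_of_mem P.isPGroup' ha)
  have h2 := χ.isCharacter.comp K.subtype
  have h3 : ∀ g, (χ.1 ∘ K.subtype) g = (χ.1 ∘ K.subtype) 1 → g = 1 :=
    fun g hg => Subtype.ext (χ.isCharacter.charKer_eq_bot_iff.1 hf _ hg)
  have h4 : charDegree (χ.1 ∘ K.subtype) + 2 ≤ p := by rwa [charDegree_comp]
  obtain ⟨-, a, k, ψ, ν, h5, h6, h7, h8, -⟩ := hgen.exists_decomp hp5 h2 h3 h4 (fun e => hnn (by
    rw [← normalizer_eq_top_iff, ← P.normalizer_sup_eq_top' hPK]
    refine left_eq_sup.2 fun x hx => centralizer_le_normalizer _ fun y hy => ?_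
    have := commutator_mem_commutator (mem_top (⟨y, hPK hy⟩ : K)) (mem_top ⟨x, hx⟩)
    rw [← _root_.commutator_def, e, mem_bot, commutatorElement_eq_one_iff_mul_comm] at this
    exact congrArg Subtype.val this)) (h2.not_sq_dvd_index_pCore h3 hp5 h4)
  have h9 : χ.1 ∘ K.subtype = ψ.1 + ∑ i, (IrrCharacter.ofLinear (ν i)).1 := by
    ext g
    simpa using h8 g
  have h10 : ∀ φ : IrrCharacter K, (φ = ψ ∨ ∃ i, φ = .ofLinear (ν i)) →
      LiesOver K.subtype χ.1 φ.1 := fun φ hφ e => by
    rw [h9, ip_add_left, ip_sum_left] at e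
    simp only [IrrCharacter.ip_eq] at e
    norm_cast at e
    rw [add_eq_zero, Finset.sum_eq_zero_iff] at e
    rcases hφ with rfl | ⟨i, rfl⟩
    · simpa using e.1
    · simpa using e.2 i (Finset.mem_univ i)
  obtain rfl : k = 0 := by
    by_contra hk
    obtain ⟨g, hg⟩ := (h10 ψ (Or.inl rfl)).exists_conjAut_smul_eq
      (h10 _ (Or.inr ⟨⟨0, Nat.pos_of_ne_zero hk⟩, rfl⟩))
    have := congrArg (fun φ : IrrCharacter K => charDegree φ.1) hg
    simp only [IrrCharacter.charDegree_smul, IrrCharacter.charDegree_ofLinear] at this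
    omega
  intro z hz
  have hzK := hPK (pCore_le_sylow P hz)
  refine χ.isCharacter.charCenter_le_center_of_faithful hf (χ.mem_charCenter.2 ?_)
  have h11 := ψ.mem_charCenter.1 (ψ.center_le_charCenter (hgen.pCore_le_center h2 h3 (by omega)
    (x := ⟨z, hzK⟩) (pCore_subgroupOf_le K hz)))
  have h12 := h8 ⟨z, hzK⟩
  rw [charDegree_comp] at h6
  simp only [Finset.univ_eq_empty, Finset.sum_empty, add_zero] at h12
  rw [← h6, add_zero, ← h5, ← h11, ← h12]
  rfl

theorem IrrCharacter.exists_smallDeg_commutator (χ : IrrCharacter G) (hf : charKer χ.1 = ⊥)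
    (hp5 : 5 ≤ p) (hd : charDegree χ.1 + 2 ≤ p) (P : Sylow p G)
    (hnn : ¬ (P : Subgroup G).Normal) : ∃ h : commutator G ⊔ center G = ⊤,
      ∀ Q : Sylow p (commutator G), SmallDeg p Q ⟨_, χ.isIrr_comp_of_sup_center h⟩ := by
  have hf' := χ.isCharacter.charKer_eq_bot_iff.1 hf
  have hD := χ.pCore_le_center_of_small hf hp5 hd P hnn
  have hsq := χ.isCharacter.not_sq_dvd_index_pCore hf' hp5 hd
  obtain ⟨n, hn⟩ := (isPGroup_pCore p G).exists_card_eq
  obtain ⟨μ, hμ⟩ := χ.exists_linear_smul_central (m := p ^ n) (Nat.Coprime.pow_right _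
    (Nat.coprime_of_lt_prime χ.charDegree_pos.ne' (by omega) hp.out).symm)
  have h2 : pCore p G ≤ charKer (μ • χ).1 := fun z hz => hμ z (hD hz) (by
    rw [← hn]
    exact congrArg Subtype.val (pow_card_eq_one' (x := (⟨z, hz⟩ : pCore p G))))
  obtain ⟨φ, h3, h4⟩ := (μ • χ).exists_faithful_quotient
  have h5 : charDegree φ.1 = charDegree χ.1 := by
    rw [← charDegree_comp φ.1 (QuotientGroup.mk' _), h3, IrrCharacter.charDegree_linear_smul]
  have h6 : charCenter (μ • χ).1 ≤ center G := fun g hg =>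
    χ.isCharacter.charCenter_le_center_of_faithful hf (χ.mem_charCenter.2 (by
      have := (μ • χ).mem_charCenter.1 hg
      rwa [IrrCharacter.linear_smul_apply, norm_mul, linear_norm_apply, one_mul,
        IrrCharacter.charDegree_linear_smul] at this))
  have h7 : charKer (μ • χ).1 ⊓ commutator G = ⊥ := eq_bot_iff.2 fun g hg => hf' g (by
    simpa [show μ g = 1 from Abelianization.commutator_subset_ker μ hg.2]
      using (μ • χ).mem_charKer.1 hg.1)
  let R := P.mapSurjective (QuotientGroup.mk'_surjective (charKer (μ • χ).1))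
  have h8 : ¬ R.toSubgroup.Normal := fun e => hnn ⟨fun u hu g => by
    obtain ⟨v, hv, e'⟩ := e.conj_mem _ (mem_map_of_mem (QuotientGroup.mk' _) hu) g
    refine (((isPElt_iff_isPGroup_zpowers.1 (isPElt_conj_iff.2 (isPElt_of_mem P.isPGroup' hu)
      )).inf_normalizer_sylow P).le ⟨mem_zpowers _, ?_⟩).2
    have h9 : v⁻¹ * (g * u * g⁻¹) ∈ center G :=
      h6 (charKer_le_charCenter _ (QuotientGroup.eq.1 e'))
    rw [← mul_inv_cancel_left v (g * u * g⁻¹)]
    exact mul_mem (le_normalizer hv) (center_le_normalizer _ h9)⟩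
  have hcard : ∀ {H : Type u} [Group H] [Finite H] (Q : Sylow p H), ¬ Q.toSubgroup.Normal →
      ¬ p ^ 2 ∣ Nat.card H → Nat.card Q = p := fun Q h1 h2 => by
    obtain ⟨k, hk⟩ := Q.isPGroup'.exists_card_eq
    rcases k with _ | _ | k
    · exact (h1 (by rw [eq_bot_of_card_eq _ hk]; infer_instance)).elim
    · exact hk.trans (pow_one p)
    · exact (h2 ((pow_dvd_pow p (by omega)).trans (hk.symm.dvd.trans
        (card_subgroup_dvd_card _)))).elim
  have hR : SmallDeg p R φ := ⟨hcard R h8 fun e => hsq (e.trans (index_dvd_of_le h2)), hp5, h8, h4,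
    by omega⟩
  have hmap : (commutator G).map (QuotientGroup.mk' (charKer (μ • χ).1)) = commutator _ := by
    rw [_root_.commutator_def, map_commutator, map_top_of_surjective _
      (QuotientGroup.mk'_surjective _), _root_.commutator_def]
  have h9 : commutator G ⊔ center G = ⊤ := by
    have := congrArg (comap (QuotientGroup.mk' _)) hR.sup_center
    rw [comap_top, ← comap_sup_eq _ _ _ (QuotientGroup.mk'_surjective _), ← hmap, comap_map_eq,
      QuotientGroup.ker_mk', ← IrrCharacter.charCenter_eq_comap] at this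
    exact eq_top_iff.2 (this.ge.trans (sup_le (sup_le le_sup_left
      ((charKer_le_charCenter _).trans (h6.trans le_sup_right))) (h6.trans le_sup_right)))
  refine ⟨h9, fun Q => ?_⟩
  have h10 : ¬ Q.toSubgroup.Normal := fun e => by
    have h11 : p ∣ Nat.card (commutator G) :=
      ((hR.card.symm.dvd.trans (card_dvd_of_le hR.le_commutator)).trans (hmap ▸ card_map_dvd _ _))
    have h12 := pCore_eq_of_normal Q
    rw [pCore_eq_subgroupOf_of_normal, subgroupOf_eq_bot.2 (disjoint_iff.2 (eq_bot_iff.2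
      ((inf_le_inf_right _ h2).trans h7.le)))] at h12
    exact Q.not_dvd_index (by rwa [← h12, index_bot])
  refine ⟨hcard Q h10 fun e => hsq (e.trans ?_), hp5, h10,
    by rw [χ.isCharacter.charKer_comp, hf, MonoidHom.comap_bot, ker_subtype],
    by rwa [charDegree_comp]⟩
  rw [← relIndex_bot_left, ← (eq_bot_iff.2 ((inf_le_inf_right _ h2).trans h7.le) :),
    inf_relIndex_right]
  exact relIndex_dvd_index_of_normal _ _

theorem nonempty_quotient_center_equiv {K : Subgroup G} (h : K ⊔ center G = ⊤) :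
    Nonempty (G ⧸ center G ≃* K ⧸ center K) := by
  have h1 : Function.Surjective ((QuotientGroup.mk' (center G)).comp K.subtype) := fun x => by
    obtain ⟨g, rfl⟩ := QuotientGroup.mk'_surjective _ x
    obtain ⟨y, hy, z, hz, rfl⟩ := mem_sup_of_normal_right.1 (h.ge (mem_top g))
    exact ⟨⟨y, hy⟩, by simp [(QuotientGroup.eq_one_iff z).2 hz]⟩
  refine ⟨(QuotientGroup.quotientKerEquivOfSurjective _ h1).symm.trans
    (QuotientGroup.quotientMulEquivOfEq (Subgroup.ext fun x => ?_))⟩
  rw [MonoidHom.mem_ker, MonoidHom.comp_apply, QuotientGroup.mk'_apply, QuotientGroup.eq_one_iff,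
    mem_center_iff, mem_center_iff]
  refine ⟨fun e g => Subtype.ext (e g), fun e g => ?_⟩
  obtain ⟨y, hy, z, hz, rfl⟩ := mem_sup_of_normal_right.1 (h.ge (mem_top g))
  rw [mul_assoc, ← mem_center_iff.1 hz, ← mul_assoc, ← mul_assoc]
  exact congrArg (· * z) (congrArg Subtype.val (e ⟨y, hy⟩))

theorem nonempty_equiv_prod_center {K : Subgroup G} (h : K ⊔ center G = ⊤) (h' : center K = ⊥) :
    Nonempty (G ≃* K × center G) := by
  refine ⟨(MulEquiv.ofBijective (mulCenterHom K) ⟨(injective_iff_map_eq_one _).2 ?_,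
    mulCenterHom_surjective h⟩).symm⟩
  rintro ⟨k, z⟩ h6
  have h7 : (k : G) = (z : G)⁻¹ := eq_inv_of_mul_eq_one_left h6
  obtain rfl : k = 1 := mem_bot.1 (h'.le (mem_center_iff.2 fun g => Subtype.ext (by
    rw [Subgroup.coe_mul, Subgroup.coe_mul, h7]
    exact mem_center_iff.1 (inv_mem z.2) _)))
  exact Prod.ext rfl (Subtype.ext (inv_eq_one.1 h7.symm))

/-- In a perfect group the order of the centre divides the degree of a faithful irreducible
character. -/
theorem IrrCharacter.card_center_dvd_of_perfect (χ : IrrCharacter G) (hf : charKer χ.1 = ⊥)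
    (hG : commutator G = ⊤) : Nat.card (center G) ∣ charDegree χ.1 := by
  have := χ.isCyclic_center_of_faithful hf
  obtain ⟨z, hz⟩ := IsCyclic.exists_ofOrder_eq_natCard (α := center G)
  obtain ⟨f, hf1, hf2⟩ := χ.exists_monoidHom_center
  rw [hf, bot_subgroupOf, MonoidHom.ker_eq_bot_iff] at hf2
  rw [← hz, ← orderOf_injective f hf2, orderOf_dvd_iff_pow_eq_one]
  have h1 := χ.isCharacter.detChar_of_mem_charCenter (χ.center_le_charCenter z.2)
  have h2 := hf1 z 1
  rw [mul_one] at h2
  rw [← coe_detHom, show detHom χ.1 z = 1 from Abelianization.commutator_subset_ker _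
    (hG.ge trivial), h2, mul_div_cancel_right₀ _ χ.apply_one_ne_zero] at h1
  exact Units.ext (by rw [Units.val_pow_eq_pow_val, ← h1])

end Cfsg
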