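import Cfsg.Agent.Blk.PrimeCoreA
import Cfsg.Agent.Blk.PrimeSimple
import Cfsg.Agent.Blk.SmallRedB
import Cfsg.Agent.Char.SimpleLin
import Cfsg.Agent.Char.FourC
import Cfsg.Agent.S4721

/-!
# Small faithful characters: the central quotient and its principal block
-/

set_option autoImplicit false
set_option linter.unusedSectionVars false
set_option linter.unusedVariables false
set_option linter.style.haveILetI false

namespace Cfsg

open Exc Subgroup
open scoped ComplexConjugate Classical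

universe u v w

variable {G : Type u} [Group G] [Finite G] {p : ℕ} [hp : Fact p.Prime]

local notation "C(" Q ")" => Subgroup.centralizer ((Q : Subgroup G) : Set G)
local notation "N(" Q ")" => Subgroup.normalizer ((Q : Subgroup G) : Set G)

namespace PBlk

variable {P : Subgroup G} [Fintype P] {Q : (G → ℂ) → Prop} {X Y : Finset (IrrCharacter G)}
  {ζ : (P →* ℂˣ) → IrrCharacter G} {δ : ℤ} {a : IrrCharacter G → ℤ}
  (h : PBlk p P Q X Y ζ δ a)
include h

theorem sum_dec {Θ : G → ℂ} (hΘ : IsCharacter G Θ) (hq : Q Θ) :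
    Θ 1 - ∑ u : P, Θ u = δ * X.card * (∑ η ∈ Y, ipNat Θ η.1 : ℕ) -
      (p - 1) * (∑ χ ∈ X, a χ * ipNat Θ χ.1 : ℤ) := by
  let _ := Fintype.ofFinite (P →* ℂˣ)
  have h1 := PM.sum_coef h.comm (fun u : P => Θ u)
  have h2 := h.sum_zeta fun η => δ * ip Θ η.1 - ∑ χ ∈ X, a χ * ip Θ χ.1
  have h3 : ((X.card * Y.card + 1 : ℕ) : ℂ) = p := by rw [h.cardY]
  rw [← Finset.sum_filter_add_sum_filter_not _ (fun lam => lam ≠ 1),
    Finset.sum_eq_zero (s := Finset.univ.filter fun lam => ¬ lam ≠ 1) fun lam hl => by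
      simp only [ne_eq, not_not, Finset.mem_filter] at hl
      simp [hl.2], add_zero,
    Finset.sum_congr rfl fun lam hl => h.dec Θ hΘ.isClassFunction hq lam (Finset.mem_filter.1 hl).2,
    h2, Finset.sum_sub_distrib, Finset.sum_const, ← Finset.mul_sum, OneMemClass.coe_one] at h1
  rw [← h1, ← h3]
  simp only [← hΘ.ipNat_cast (IrrCharacter.isCharacter _)]
  push_cast
  ring

theorem eq_of_eq_on (ht : 2 ≤ Y.card) {η φ : IrrCharacter G} (hη : η ∈ Y) (hφ : Q φ.1)
    (e : ∀ u : P, u ≠ 1 → φ u = η u) : φ = η := by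
  by_contra hne
  obtain ⟨η', hη', hne'⟩ := Finset.exists_mem_ne (by omega : 1 < Y.card) η
  obtain ⟨lam, hl, rfl⟩ := h.surj η hη
  obtain ⟨mu, hm, rfl⟩ := h.surj η' hη'
  have h1 := h.dec _ φ.isClassFunction hφ lam hl
  have h2 := h.dec _ φ.isClassFunction hφ mu hm
  have h3 := h.dec _ (ζ lam).isClassFunction (h.prop _ (Or.inr hη)) lam hl
  have h4 := h.dec _ (ζ lam).isClassFunction (h.prop _ (Or.inr hη)) mu hm
  rw [coef_congr e] at h1 h2
  rw [IrrCharacter.ip_of_ne hne] at h1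
  rw [IrrCharacter.ip_self] at h3
  rw [IrrCharacter.ip_of_ne hne'.symm] at h4
  have h5 : (δ : ℂ) * (ip φ.1 (ζ mu).1 + 1) = 0 := by linear_combination h1 - h2 - h3 + h4
  have h6 : (δ : ℂ) ≠ 0 := by rcases h.sign with e | e <;> simp [e]
  have h7 := (mul_eq_zero.1 h5).resolve_left h6
  rw [← φ.isCharacter.ipNat_cast (IrrCharacter.isCharacter _)] at h7
  exact Nat.cast_add_one_ne_zero _ h7

theorem gal_smul_eq (ht : 2 ≤ Y.card) {η : IrrCharacter G} (hη : η ∈ Y) {σ : ℂ ≃+* ℂ}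
    (hσ : ∀ z : ℂ, z ^ p = 1 → σ z = z) (hQ : Q (σ • η).1) : σ • η = η :=
  h.eq_of_eq_on ht hη hQ fun u hu =>
    η.isCharacter.isGen.ringHom_apply_eq_self σ.toRingHom fun z hz =>
      hσ z (by rwa [h.orderOf_eq hu] at hz)

theorem apply_pow_eq' (ht : 2 ≤ Y.card) {η : IrrCharacter G} (hη : η ∈ Y) {m : ℕ} (hm : m ≠ 0)
    (hpm : p ∣ m) (hQ : ∀ σ : ℂ ≃+* ℂ, (∀ z : ℂ, z ^ m = 1 → σ z = z) → Q (σ • η).1) {g : G}
    {k : ℕ} (hk : k.Coprime (orderOf g)) (hg : k ≡ 1 [MOD m.gcd (orderOf g)]) :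
    η (g ^ k) = η g := by
  have hn := (orderOf_pos g).ne'
  obtain ⟨l, h1, h2, h3⟩ := exists_coprime_modEq_modEq_one hm hn hk hg
  obtain ⟨σ, hσ⟩ := exists_ringEquiv_pow (mul_ne_zero hm hn) h1
  have h4 : ∀ z : ℂ, z ^ m = 1 → σ z = z := fun z hz => by
    rw [hσ z (by rw [pow_mul, hz, one_pow]), pow_eq_pow_of_modEq h2 hz, pow_one]
  have h5 := h.gal_smul_eq ht hη (fun z hz => h4 z (by
    obtain ⟨c, rfl⟩ := hpm
    rw [pow_mul, hz, one_pow])) (hQ σ h4)
  rw [← pow_eq_pow_iff_modEq.2 h3, η.isCharacter.apply_pow_eq σ.toRingHom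
    (n := m * orderOf g) (by rw [mul_comm, pow_mul, pow_orderOf_eq_one, one_pow]) hσ]
  exact congrFun (congrArg Subtype.val h5) g

theorem apply_pow_eq (ht : 2 ≤ Y.card) {η : IrrCharacter G} (hη : η ∈ Y) {m : ℕ} (hm : m ≠ 0)
    (hpm : p ∣ m) (hQ : ∀ σ : ℂ ≃+* ℂ, (∀ z : ℂ, z ^ m = 1 → σ z = z) → Q (σ • η).1) {g : G}
    (hg : m.Coprime (orderOf g)) {k : ℕ} (hk : k.Coprime (orderOf g)) : η (g ^ k) = η g :=
  h.apply_pow_eq' ht hη hm hpm hQ hk (by rw [hg]; exact Nat.modEq_one)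

theorem exists_int (ht : 2 ≤ Y.card) {η : IrrCharacter G} (hη : η ∈ Y) {m : ℕ} (hm : m ≠ 0)
    (hpm : p ∣ m) (hQ : ∀ σ : ℂ ≃+* ℂ, (∀ z : ℂ, z ^ m = 1 → σ z = z) → Q (σ • η).1) {g : G}
    (hg : m.Coprime (orderOf g)) : ∃ n : ℤ, η g = n :=
  η.isCharacter.isGen.exists_int_of_forall_pow fun k hk =>
    h.apply_pow_eq ht hη hm hpm hQ hg hk

theorem sum_eq_zero_of_odd {x : G} (hS : SelfCent p x) (hp2 : p ≠ 2) (hx : x ∈ P)
    (he : Odd X.card) {z : G} (hz : orderOf z = 2) :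
    ∑ χ : IrrCharacter G, χ z * χ z * conj (χ x) / χ 1 = 0 := by
  by_contra h0
  obtain ⟨-, R, hR⟩ := hS.class_mul hp2 hz h0
  have h1 := hS.card_eq h.card hx
  have h2 := R.card_eq_index_normalizer
  have h3 := (normalizer (R : Set G)).card_mul_index
  rw [← h2, h1, ← h.cardX] at h3
  have h4 := Nat.eq_of_mul_eq_mul_right Nat.card_pos h3
  have h5 := (normalizer (R : Set G)).orderOf_dvd_natCard (Sylow.smul_eq_iff_mem_normalizer.1 hR)
  rw [hz, h4] at h5
  exact ((hp.out.odd_of_ne_two hp2).mul he).not_two_dvd_nat h5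

theorem three [IsSimpleGroup G] (hna : ¬ IsMulCommutative G) {x : G} (hS : SelfCent p x)
    (hx : x ∈ P) (hQ : ∀ φ : IrrCharacter G, Q φ.1) (he : X.card = 3) (hp4 : 4 < p)
    (hev : 2 ∣ Nat.card G) {η : IrrCharacter G} (hη : η ∈ Y) :
    ∃ α ∈ X, ∃ β ∈ X, α ≠ IrrCharacter.one G ∧ β ≠ IrrCharacter.one G ∧
      (∀ {R : Type} [AddCommMonoid R] (F : IrrCharacter G → R),
        ∑ φ ∈ X, F φ = F (IrrCharacter.one G) + F α + F β) ∧ a α = δ ∧ a β = -1 ∧
      IsSquare (charDegree η.1 * (charDegree α.1 * charDegree β.1)) := by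
  have ht : 2 ≤ Y.card := by have := h.cardY; rw [he] at this; omega
  have h1 := h.mem_X_of_const ht (φ := IrrCharacter.one G) (hQ _) one_ne_zero fun _ _ => rfl
  have key : ∀ α β, α ≠ IrrCharacter.one G → β ≠ IrrCharacter.one G → α ∈ X → β ∈ X → α ≠ β →
      ∀ {R : Type} [AddCommMonoid R] (F : IrrCharacter G → R),
        ∑ φ ∈ X, F φ = F (IrrCharacter.one G) + F α + F β := fun α β a1 b1 ha hb hab R _ F => by
    rw [← Finset.eq_of_subset_of_card_le (s := {IrrCharacter.one G, α, β}) (t := X)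
      (by simp [Finset.insert_subset_iff, h1, ha, hb])
      (by rw [he, Finset.card_eq_three.2 ⟨_, _, _, a1.symm, b1.symm, hab, rfl⟩]),
      Finset.sum_insert (by simp [a1.symm, b1.symm]), Finset.sum_pair hab, add_assoc]
  obtain ⟨α, β, hab, e⟩ := Finset.card_eq_two.1 (by rw [Finset.card_erase_of_mem h1, he] :
    (X.erase (IrrCharacter.one G)).card = 2)
  obtain ⟨a1, ha⟩ := Finset.mem_erase.1 (e ▸ Finset.mem_insert_self α {β})
  obtain ⟨b1, hb⟩ := Finset.mem_erase.1
    (e ▸ Finset.mem_insert_of_mem (Finset.mem_singleton_self β) : β ∈ X.erase _)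
  obtain ⟨t, ht2⟩ := exists_prime_orderOf_dvd_card' 2 hev
  have ht1 : t ≠ 1 := fun e => by simp [e] at ht2
  have hr : IsPRegular p t := by
    rw [IsPRegular, ht2]
    exact fun e => absurd (Nat.le_of_dvd two_pos e) (by omega)
  have hu : (⟨x, hx⟩ : P) ≠ 1 := fun e => hS.ne_one (congrArg Subtype.val e)
  have e3 := h.sum_mul_conj hQ hr hr hu hη
  have e1 := h.reg_rel η hη 1 isPRegular_one
  have e2 := h.reg_rel η hη t hr
  rw [h.sum_eq_zero_of_odd hS (by omega) hx (by rw [he]; decide) ht2, key α β a1 b1 ha hb hab] at e3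
  rw [key α β a1 b1 ha hb hab] at e1 e2
  have hη1 : η ≠ IrrCharacter.one G := fun e => Finset.disjoint_left.1 h.disj h1 (e ▸ hη)
  have hv : ∀ φ : IrrCharacter G, φ ≠ IrrCharacter.one G →
      ∃ n : ℤ, φ t = n ∧ n < charDegree φ.1 := fun φ hφ => by
    obtain ⟨n, h2, -, h3⟩ := φ.isCharacter.exists_int_of_sq_eq_one
      (by rw [← ht2, pow_orderOf_eq_one] : t ^ 2 = 1)
    refine ⟨n, h2, lt_of_le_of_ne (le_of_abs_le h3) fun e => ht1 ?_⟩
    exact φ.faithful_of_isSimpleGroup hφ t (by rw [h2, e, φ.apply_one, Int.cast_natCast])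
  obtain ⟨x₂, v₂, b₂⟩ := hv α a1
  obtain ⟨x₃, v₃, b₃⟩ := hv β b1
  obtain ⟨x₄, v₄, b₄⟩ := hv η hη1
  have n₂ : (charDegree α.1 : ℂ) ≠ 0 := by exact_mod_cast α.charDegree_pos.ne'
  have n₃ : (charDegree β.1 : ℂ) ≠ 0 := by exact_mod_cast β.charDegree_pos.ne'
  have n₄ : (charDegree η.1 : ℂ) ≠ 0 := by exact_mod_cast η.charDegree_pos.ne'
  simp only [h.a_one h1, IrrCharacter.one_apply, α.apply_one, β.apply_one, η.apply_one, v₂, v₃,
    v₄] at e1 e2 e3
  obtain ⟨h2, h3⟩ := Agent.S4721.arith (s₂ := a α) (s₃ := a β) (s₄ := -δ) α.charDegree_pos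
    β.charDegree_pos η.charDegree_pos (h.asign α ha) (h.asign β hb)
    (by rcases h.sign with e | e <;> simp [e]) b₂ b₃ b₄
    (by exact_mod_cast (by push_cast; linear_combination -e1 : ((1 + a α * charDegree α.1 +
      a β * charDegree β.1 + -δ * charDegree η.1 : ℤ) : ℂ) = 0))
    (by exact_mod_cast (by push_cast; linear_combination -e2 :
      ((1 + a α * x₂ + a β * x₃ + -δ * x₄ : ℤ) : ℂ) = 0))
    (by
      field_simp at e3
      exact_mod_cast (by push_cast; linear_combination -e3 :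
        ((charDegree α.1 * charDegree β.1 * charDegree η.1 +
        a α * x₂ ^ 2 * charDegree β.1 * charDegree η.1 +
        a β * x₃ ^ 2 * charDegree α.1 * charDegree η.1 +
        -δ * x₄ ^ 2 * charDegree α.1 * charDegree β.1 : ℤ) : ℂ) = 0))
  by_cases hc : a α = δ ∧ a β = -1
  · exact ⟨α, ha, β, hb, a1, b1, key α β a1 b1 ha hb hab, hc.1, hc.2, h3⟩
  · have s1 := h.asign α ha
    have s2 := h.asign β hb
    have s3 := h.sign
    refine ⟨β, hb, α, ha, b1, a1, key β α b1 a1 hb ha hab.symm, ?_, ?_,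
      by rwa [mul_comm (charDegree β.1)]⟩ <;> split_ifs at h2 <;> omega

end PBlk

namespace SmallDeg

variable {P : Sylow p G} {χ : IrrCharacter G} (h : SmallDeg p P χ)
include h

theorem not_mem_center {x : G} (hx : x ∈ (P : Subgroup G)) (hx1 : x ≠ 1) : x ∉ center G :=
  fun hz => h.nn (h.zpowers_eq hx hx1 ▸ normal_of_le_center (zpowers_le.2 hz))

theorem not_dvd_card_center : ¬ p ∣ Nat.card (center G) := fun hd => by
  obtain ⟨z, hz⟩ := exists_prime_orderOf_dvd_card' p hd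
  obtain ⟨g, hg⟩ := (isPElt_iff_pow_eq_one.2 ⟨1, by
    rw [pow_one, ← hz, ← orderOf_coe, pow_orderOf_eq_one]⟩ : IsPElt p (z : G)).exists_conj_mem P
  rw [mem_center_iff.1 z.2 g, mul_inv_cancel_right] at hg
  refine h.not_mem_center hg (fun e => hp.out.one_lt.ne ?_) z.2
  rw [← hz, ← orderOf_coe, e, orderOf_one]

theorem selfCent {x : G} (hx : x ∈ (P : Subgroup G)) (hx1 : x ≠ 1) :
    SelfCent p (x : G ⧸ center G) := by
  have h1 : x ^ p = 1 := by rw [← h.orderOf_eq hx hx1, pow_orderOf_eq_one]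
  refine ⟨orderOf_eq_prime (by rw [← QuotientGroup.mk_pow, h1, QuotientGroup.mk_one])
    fun e => h.not_mem_center hx hx1 ((QuotientGroup.eq_one_iff _).1 e),
    le_antisymm (fun g hg => ?_) (zpowers_le.2 (mem_centralizer_singleton_iff.2 rfl))⟩
  obtain ⟨g, rfl⟩ := QuotientGroup.mk_surjective g
  rw [mem_centralizer_singleton_iff, ← QuotientGroup.mk_mul, ← QuotientGroup.mk_mul,
    QuotientGroup.eq] at hg
  obtain ⟨z, hz⟩ : ∃ z, (g * x)⁻¹ * (x * g) = z := ⟨_, rfl⟩
  rw [hz] at hg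
  have h2 : g⁻¹ * x * g = x * z := by rw [← hz]; group
  have h3 : z ^ p = 1 := by
    have := congrArg (· ^ p) h2
    have e : g⁻¹ * x * g = g⁻¹ * x * g⁻¹⁻¹ := by rw [inv_inv]
    simp only [e, conj_pow, h1] at this
    rw [Commute.mul_pow (mem_center_iff.1 hg x), h1] at this
    simpa using this.symm
  have h4 : z = 1 := orderOf_eq_one_iff.1 (Nat.eq_one_of_dvd_coprimes
    ((Nat.Prime.coprime_iff_not_dvd hp.out).2 h.not_dvd_card_center)
    (orderOf_dvd_of_pow_eq_one h3) ((center G).orderOf_dvd_natCard hg))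
  have h5 : g ∈ C(P) := by
    rw [← h.centralizer_eq hx hx1, mem_centralizer_singleton_iff]
    rw [h4, inv_mul_eq_one] at hz
    exact hz
  refine h.centralizer_le (H := (zpowers (x : G ⧸ center G)).comap (QuotientGroup.mk' _)) ?_
    (fun z hz => ?_) h5
  · rw [← h.zpowers_eq hx hx1, zpowers_le]
    exact mem_zpowers _
  · rw [mem_comap, QuotientGroup.mk'_apply, (QuotientGroup.eq_one_iff _).2 hz]
    exact one_mem _

theorem not_comm_quot : ¬ IsMulCommutative (G ⧸ center G) := fun hc => by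
  obtain ⟨x, hx, hx1⟩ := h.exists_ne_one
  refine h.not_mem_center hx hx1 ?_
  exact Normal.quotient_commutative_iff_commutator_le.1 hc (h.le_commutator hx)

theorem isSimpleGroup_quot (hG : commutator G = ⊤) : IsSimpleGroup (G ⧸ center G) := by
  obtain ⟨x, hx, hx1⟩ := h.exists_ne_one
  have hS := h.selfCent hx hx1
  have : Nontrivial (G ⧸ center G) := ⟨_, _, hS.ne_one⟩
  refine ⟨fun S _ => ?_⟩
  by_cases hd : p ∣ Nat.card S
  · refine Or.inr (eq_top_iff.2 (le_trans ?_ (hS.commutator_le hd)))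
    rw [← map_top_of_surjective _ (QuotientGroup.mk'_surjective (center G)), ← hG,
      _root_.commutator_def, map_commutator]
    exact commutator_mono le_top le_top
  · have h1 := h.le_center (S.comap (QuotientGroup.mk' (center G))) fun h1 => by
      rw [card_comap_mk'] at h1
      exact ((Nat.Prime.dvd_mul hp.out).1 h1).elim hd h.not_dvd_card_center
    refine Or.inl (eq_bot_iff.2 fun g hg => ?_)
    obtain ⟨g, rfl⟩ := QuotientGroup.mk_surjective g
    exact (QuotientGroup.eq_one_iff _).2 (h1 hg)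

theorem sum_mul_conj [Fintype (P : Subgroup G)] :
    ∑ u : (P : Subgroup G), χ u * conj (χ u) = p * charDegree χ.1 := by
  obtain ⟨f, hf, h1, -⟩ := h.exists_eigen
  have h2 : ∀ u : (P : Subgroup G), χ u * conj (χ u) =
      ∑ j, (∑ i, (f i u : ℂ)) * conj (f j u : ℂ) := fun u => by
    rw [← Finset.mul_sum, ← map_sum, h1]
  rw [Finset.sum_congr rfl fun u _ => h2 u, Finset.sum_comm,
    Finset.sum_congr rfl fun j _ => sum_sum_linear_mul_conj f (f j), h.card,
    Finset.sum_congr rfl fun j _ => by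
      rw [Multiset.count_map_eq_count' f _ hf, Multiset.count_univ]]
  simp [mul_comm]

theorem exists_pBlk [Fintype (P : Subgroup G)] : ∃ X Y ζ δ a,
    PBlk p (P : Subgroup G) (OverCenter p χ.1) X Y ζ δ a ∧ χ ∈ Y := by
  have h1 := h.deg
  have h2 := χ.charDegree_pos
  have hd : ¬ p ∣ charDegree χ.1 := fun e => absurd (Nat.le_of_dvd h2 e) (by omega)
  obtain ⟨X, Y, ζ, δ, a, b⟩ := exists_pBlk_central P h.card (fun y => h.cent) χ hd
  refine ⟨X, Y, ζ, δ, a, b, ?_⟩
  obtain ⟨u, hu⟩ := b.exists_ne_one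
  refine (b.mem_of_ne_zero (fun y hy _ g => ?_) hu fun e => hd ?_).resolve_left fun hX => ?_
  · exact (mul_comm _ _).trans (χ.apply_mul_of_mem_center hy g)
  · exact χ.isCharacter.dvd_charDegree_of_eq_zero hp.out (k := 1)
      (by rw [pow_one, b.pow_eq_one]) e
  · have h3 := b.valX χ hX u hu
    have h4 := (b.modEq_X hX).dvd
    rcases b.asign χ hX with e | e
    · have h5 := Int.eq_zero_of_abs_lt_dvd h4 (by rw [e, abs_lt]; omega)
      refine hu (Subtype.ext (h.eq_one _ ?_))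
      rw [h3, χ.apply_one, show a χ = charDegree χ.1 by omega, Int.cast_natCast]
    · have h5 := Int.eq_zero_of_abs_lt_dvd h4 (by rw [e, abs_lt]; omega)
      omega

theorem apply_pow {g : G} {k : ℕ} (hk : k.Coprime (orderOf g))
    (hg : k ≡ 1 [MOD (p * Nat.card (center G)).gcd (orderOf g)]) : χ (g ^ k) = χ g := by
  let _ := Fintype.ofFinite (P : Subgroup G)
  obtain ⟨X, Y, ζ, δ, a, b, hχ⟩ := h.exists_pBlk
  have h1 := b.cardY
  have h2 := h.relIndex_le
  have h3 := h.deg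
  have h4 := Finset.card_pos.2 b.Y_nonempty
  rw [← b.cardX] at h2
  refine b.apply_pow_eq' (by
    by_contra h5
    rw [show Y.card = 1 by omega] at h1
    omega) hχ (mul_ne_zero hp.out.ne_zero Nat.card_pos.ne') (dvd_mul_right _ _)
    (fun σ hσ y hy hy' g => ?_) hk hg
  have h5 := congrArg σ (b.prop χ (Or.inr hχ) y hy hy' g)
  have h6 := χ.isCharacter.isGen.ringHom_apply_eq_self σ.toRingHom (g := y) fun z hz => hσ z (by
    obtain ⟨c, hc⟩ := ((center G).orderOf_dvd_natCard hy).mul_left p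
    rw [hc, pow_mul, hz, one_pow])
  rw [map_mul, map_mul, χ.gal_smul_apply_one] at h5
  exact h5.trans (congrArg _ h6)

theorem exists_int {g : G} (hg : (p * Nat.card (center G)).Coprime (orderOf g)) :
    ∃ n : ℤ, χ g = n :=
  χ.isCharacter.isGen.exists_int_of_forall_pow fun k hk =>
    h.apply_pow hk (by rw [hg]; exact Nat.modEq_one)

theorem exists_quot (hG : commutator G = ⊤) {e : ℕ} (he : e.Prime)
    (he' : (C(P)).relIndex N(P) = e) {x : G} (hx : x ∈ (P : Subgroup G)) (hx1 : x ≠ 1)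
    [Fintype (zpowers (x : G ⧸ center G))] :
    ∃ (Θ : G ⧸ center G → ℂ) (X Y : _) (ζ : _) (δ : _) (a : _),
      PBlk p (zpowers (x : G ⧸ center G)) (IsClassFunction _) X Y ζ δ a ∧ X.card = e ∧
      IsCharacter _ Θ ∧ (∀ g : G, Θ g = χ g * conj (χ g)) ∧
      ipNat Θ (IrrCharacter.one _).1 = 1 ∧ (charDegree χ.1 : ℤ) ^ 2 - p * charDegree χ.1 =
        δ * e * (∑ η ∈ Y, ipNat Θ η.1 : ℕ) - (p - 1) * ∑ φ ∈ X, a φ * ipNat Θ φ.1 := by
  let _ := Fintype.ofFinite (P : Subgroup G)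
  have hS := h.selfCent hx hx1
  have := h.isSimpleGroup_quot hG
  obtain ⟨X, Y, ζ, δ, a, b, -⟩ := @exists_pBlk_principal _ _ _ p _ hS.sylow
    ‹Fintype (zpowers (x : G ⧸ center G))› hS.card_zpowers
  change PBlk p (zpowers (x : G ⧸ center G)) (SecConst p (zpowers (x : G ⧸ center G))) X Y ζ δ a at b
  replace b : PBlk p (zpowers (x : G ⧸ center G)) (IsClassFunction _) X Y ζ δ a :=
    { b with
      prop := fun φ _ => φ.isClassFunction
      dec := fun Θ hΘ _ => b.dec Θ hΘ (hS.secConst hS.card_zpowers hΘ) }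
  have h1 := hS.relIndex_quot_dvd (h.orderOf_eq hx hx1) h.not_sq_dvd
  rw [h.centralizer_eq hx hx1, h.zpowers_eq hx hx1, he'] at h1
  have h2 : X.card = e := by
    rw [b.cardX, hS.centralizer_eq]
    refine ((Nat.dvd_prime he).1 h1).resolve_left fun h2 => ?_
    exact not_hasNormalPComplement_of_isSimpleGroup h.not_comm_quot
      (hS.order ▸ orderOf_dvd_natCard _) (hS.hasNormalPComplement
      (le_antisymm (relIndex_eq_one.1 h2) le_normalizer))
  have h3 := χ.isCharacter.mul χ.isCharacter.star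
  obtain ⟨Θ, hΘ, h4⟩ := h3.exists_quotient_of_le_charKer (center G) fun z hz => by
    rw [h3.mem_charKer]
    have := χ.isCharacter.mem_charCenter_iff_mul_conj.1 (χ.center_le_charCenter hz)
    simp only [Pi.mul_apply, Pi.star_apply, χ.isCharacter.apply_one]
    exact this.trans (by simp [sq])
  have h5 : ∀ g : G, Θ g = χ g * conj (χ g) := fun g => congrFun h4 g
  refine ⟨Θ, X, Y, ζ, δ, a, b, h2, hΘ, h5, ?_, ?_⟩
  · have := hΘ.ipNat_cast (IrrCharacter.one _).isCharacter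
    rw [← ip_comp_of_surjective _ (QuotientGroup.mk'_surjective (center G)), h4] at this
    exact_mod_cast this.trans (Four.ip_mul_star_one χ)
  · have h6 := b.sum_dec hΘ hΘ.isClassFunction
    have h7 : ∑ u : zpowers (x : G ⧸ center G), Θ u = p * charDegree χ.1 := by
      rw [← h.sum_mul_conj]
      let f : (P : Subgroup G) →* zpowers (x : G ⧸ center G) :=
        ((QuotientGroup.mk' (center G)).comp (P : Subgroup G).subtype).codRestrict _ fun u => by
          obtain ⟨k, hk⟩ := (h.zpowers_eq hx hx1).ge u.2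
          exact ⟨k, by simp [← hk]⟩
      have hf : Function.Bijective f := by
        rw [Nat.bijective_iff_injective_and_card, h.card, hS.card_zpowers, injective_iff_map_eq_one]
        refine ⟨fun u hu => by_contra fun hu1 => h.not_mem_center u.2
          (fun e => hu1 (Subtype.ext e)) ?_, rfl⟩
        exact (QuotientGroup.eq_one_iff _).1 (congrArg Subtype.val hu)
      exact (Fintype.sum_bijective f hf _ _ fun u => (h5 u).symm).symm
    rw [h7, ← QuotientGroup.mk_one, h5, χ.apply_one, map_natCast, h2, ← sq] at h6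
    exact_mod_cast h6

end SmallDeg

end Cfsg
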