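import Cfsg.Agent.Blk.SmallRedA
import Cfsg.Agent.Char.TILevel
import Cfsg.Agent.Char.Sixty
import Cfsg.Agent.Grp.BaerSuzuki

/-!
# Feit–Thompson: groups with a faithful character of degree less than `p - 1`

If `G` has a faithful character of degree at most `p - 2` then `p ^ 2` does not divide the index of
`O_p(G)`.
-/

set_option autoImplicit false
set_option linter.unusedSectionVars false
set_option linter.unusedVariables false
set_option linter.style.haveILetI false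

namespace Cfsg

open Exc Subgroup
open scoped ComplexConjugate Classical commutatorElement

universe u v w

variable {G : Type u} [Group G] [Finite G] {p : ℕ} [hp : Fact p.Prime]

theorem IsCharacter.pow_mem_pCore {χ : G → ℂ} (hχ : IsCharacter G χ)
    (hf : ∀ g, χ g = χ 1 → g = 1) (hd : charDegree χ ≤ p) {x : G} (hx : IsPElt p x) :
    x ^ p ∈ pCore p G := by
  obtain ⟨M, hM⟩ := exists_isPModular hp.out
  have := hM.charP
  have h : ∀ φ : IBr p M G, decNum χ φ ≠ 0 → φ.rep (x ^ p) = 1 := fun φ hφ => by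
    have h1 : φ.deg ≤ p := ((Nat.le_mul_of_pos_left _ (Nat.pos_of_ne_zero hφ)).trans
      (Finset.single_le_sum (f := fun φ : IBr p M G => decNum χ φ * φ.deg)
        (fun _ _ => Nat.zero_le _) (Finset.mem_univ φ))).trans
      (hχ.charDegree_eq_sum_decNum hM ▸ hd)
    haveI : CharP (Module.End (ResK M) (Fin φ.deg → ResK M)) p :=
      charP_of_injective_algebraMap (algebraMap (ResK M) _).injective p
    obtain ⟨k, hk⟩ := isPElt_iff_pow_eq_one.1 hx
    have h2 : (φ.rep x - 1) ^ p ^ k = 0 := by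
      rw [sub_pow_char_pow_of_commute p k (Commute.one_right _), ← map_pow, hk, map_one, one_pow,
        sub_self]
    have h3 := LinearMap.aeval_self_charpoly (φ.rep x - 1)
    rw [(IsNilpotent.charpoly_eq_X_pow_finrank ⟨_, h2⟩ : (φ.rep x - 1).charpoly = _), map_pow,
      Polynomial.aeval_X, Module.finrank_fin_fun] at h3
    have h4 := pow_eq_zero_of_le h1 h3
    rwa [sub_pow_char_of_commute p (Commute.one_right _), ← map_pow, one_pow, sub_eq_zero] at h4
  refine le_pCore (N := normalClosure {x ^ p}) (isPGroup_iff_forall_isPElt.mpr fun g hg => ?_)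
    (subset_normalClosure rfl)
  rw [← pPrimePart_eq_one_iff]
  refine hf _ ?_
  rw [hχ.apply_eq_sum_decNum hM (isPRegular_pPrimePart p g),
    hχ.apply_eq_sum_decNum hM isPRegular_one]
  refine Finset.sum_congr rfl fun φ _ => ?_
  by_cases hφ : decNum χ φ = 0
  · simp [hφ]
  have h2 : normalClosure {x ^ p} ≤ φ.rep.ker :=
    normalClosure_le_normal (by rintro _ rfl; exact h φ hφ)
  have h3 : φ.rep (pPrimePart p g) = 1 := h2 (pPrimePart_mem p hg)
  congr 1
  rw [← φ.brauerChar_rep, brauerChar_of_reg _ (isPRegular_pPrimePart p g),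
    brauerChar_of_reg _ isPRegular_one, h3, map_one]

theorem IsPElt.mem_pCore_of_commute_conj {x : G} (hx : IsPElt p x)
    (h : ∀ g : G, Commute x (g * x * g⁻¹)) : x ∈ pCore p G :=
  mem_pCore_of_forall_conj fun g => ⟨zpowers x ⊔ zpowers (g * x * g⁻¹),
    (isPElt_iff_isPGroup_zpowers.1 (isPElt_conj_iff.2 hx)).to_sup_of_normal_left'
      (isPElt_iff_isPGroup_zpowers.1 hx) (by
        rw [zpowers_le]
        exact mem_normalizer_zpowers_of_conj_mem (by
          rw [(h g).eq, mul_inv_cancel_right]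
          exact mem_zpowers _)) |>.of_equiv (MulEquiv.subgroupCongr (sup_comm _ _)),
    mem_sup_left (mem_zpowers _), mem_sup_right (mem_zpowers _)⟩

theorem card_filter_sum_elim {ι κ β : Type*} [Fintype ι] [Fintype κ] (f : ι → β) (g : κ → β)
    (Φ : β → Prop) [DecidablePred Φ] :
    (Finset.univ.filter fun i => Φ (Sum.elim f g i)).card =
      (Finset.univ.filter fun i => Φ (f i)).card + (Finset.univ.filter fun i => Φ (g i)).card := by
  simp only [Finset.card_filter, Fintype.sum_sum_type, Sum.elim_inl, Sum.elim_inr]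
  congr

theorem exists_norm_one_add_pow_lt {ω : ℂ} (h : ω ^ 5 = 1) (h1 : ω ≠ 1) :
    ‖1 + ω‖ < 1 ∨ ‖1 + ω ^ 2‖ < 1 := by
  have h2 : ω ^ 4 + ω ^ 3 + ω ^ 2 + ω + 1 = 0 :=
    mul_left_cancel₀ (sub_ne_zero.2 h1) (by linear_combination h)
  have h3 : conj ω = ω ^ 4 := by
    have h4 : ‖ω‖ = 1 := Complex.norm_eq_one_of_pow_eq_one h (by norm_num)
    rw [← Complex.inv_eq_conj h4]
    exact (eq_inv_of_mul_eq_one_left (by linear_combination h)).symm
  have h4 : ((‖1 + ω‖ ^ 2 : ℝ) : ℂ) = 2 + ω + ω ^ 4 := by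
    rw [Complex.ofReal_pow, ← Complex.mul_conj', map_add, h3, map_one]
    linear_combination h
  have h5 : ((‖1 + ω ^ 2‖ ^ 2 : ℝ) : ℂ) = 2 + ω ^ 2 + ω ^ 3 := by
    rw [Complex.ofReal_pow, ← Complex.mul_conj', map_add, map_pow, h3, map_one]
    linear_combination (ω ^ 5 + ω ^ 3 + 1) * h
  have h6 : ‖1 + ω‖ ^ 2 + ‖1 + ω ^ 2‖ ^ 2 = 3 := by
    apply Complex.ofReal_injective
    rw [Complex.ofReal_add, h4, h5]
    push_cast
    linear_combination h2
  have h7 : ‖1 + ω‖ ^ 2 * ‖1 + ω ^ 2‖ ^ 2 = 1 := by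
    apply Complex.ofReal_injective
    rw [Complex.ofReal_mul, h4, h5]
    push_cast
    linear_combination 3 * h2 + (ω ^ 2 + ω) * h
  by_contra! h8
  have h9 := one_le_pow₀ (n := 2) h8.1
  have h10 := one_le_pow₀ (n := 2) h8.2
  nlinarith [mul_nonneg (sub_nonneg.2 h9) (sub_nonneg.2 h10)]

/-- A minimal counterexample. -/
structure SmallMin (p : ℕ) (χ : IrrCharacter G) : Prop where
  faith : ∀ g, χ g = χ 1 → g = 1
  five : 5 ≤ p
  deg : charDegree χ.1 + 2 ≤ p
  one : charDegree χ.1 ≠ 1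
  core : pCore p G = ⊥
  sub : ∀ H : Subgroup G, H ≠ ⊤ → ¬ p ^ 2 ∣ (pCore p H).index

namespace SmallMin

variable {χ : IrrCharacter G} (h : SmallMin p χ)
include h

theorem comm {P : Subgroup G} (hP : IsPGroup p P) : ∀ a ∈ P, ∀ b ∈ P, a * b = b * a :=
  χ.isCharacter.comm_of_isPGroup h.faith (by have := h.deg; omega) hP

theorem exists_not_commute {z : G} (hz : IsPElt p z) (hz1 : z ≠ 1) :
    ∃ g : G, ¬ Commute z (g * z * g⁻¹) := by
  by_contra! h1
  exact hz1 (mem_bot.1 (h.core ▸ hz.mem_pCore_of_commute_conj h1))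

theorem decomp {S : Set G} (hS : ∀ x ∈ S, IsPElt p x) {K : Subgroup G} (hK : closure S = K)
    (h1 : K ≠ ⊤) {x y : G} (hx : x ∈ S) (hy : y ∈ S) (hxy : ¬ Commute x y) :
    PGen p K ∧ pCore p K ≤ center _ ∧ p ∣ Nat.card (commutator K) ∧
    ∃ (a k : ℕ) (ψ : IrrCharacter K) (ν : Fin k → (K →* ℂˣ)),
      charDegree ψ.1 = a ∧ a + k = charDegree χ.1 ∧ p ≤ 2 * a + 1 ∧
      (∀ g : K, χ g = ψ g + ∑ i, (ν i g : ℂ)) ∧
      ∀ (A : Type u) [Group A] (j : A →* K), IsPGroup p A → ∃ f : Fin a → (A →* ℂˣ),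
        (∀ x, ψ (j x) = ∑ i, (f i x : ℂ)) ∧
        (∀ x, j x ∉ pCore p _ → Function.Injective fun i => f i x) ∧
        (∀ x, j x ∈ pCore p _ → ∀ i i', f i x = f i' x) ∧
        (2 * a + 1 = p → ∀ x, j x ∈ commutator _ → j x ≠ 1 → ∀ i, f i x ≠ 1) := by
  subst hK
  have h2 := χ.isCharacter.comp (closure S).subtype
  have h3 : ∀ g, (χ.1 ∘ (closure S).subtype) g = (χ.1 ∘ (closure S).subtype) 1 → g = 1 :=
    fun g hg => Subtype.ext (h.faith _ hg)
  have h4 := h.deg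
  have h5 := (pGen_closure hS).exists_decomp h.five h2 h3 (by rwa [charDegree_comp]) (fun e => by
    have := commutator_mem_commutator (mem_top (⟨x, subset_closure hx⟩ : closure S))
      (mem_top ⟨y, subset_closure hy⟩)
    rw [← _root_.commutator_def, e, mem_bot, commutatorElement_eq_one_iff_mul_comm] at this
    exact hxy (congrArg Subtype.val this)) (h.sub _ h1)
  rw [charDegree_comp] at h5
  exact ⟨pGen_closure hS, (pGen_closure hS).pCore_le_center h2 h3 (by rw [charDegree_comp]; omega),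
    h5⟩

/-- An element with a large eigenspace. -/
theorem eigen {z : G} (hz : IsPElt p z) (hz1 : z ≠ 1) {ι : Type*} [Fintype ι] {ε : ι → ℂ}
    (hε : ∀ k : ℕ, χ (z ^ k) = ∑ i, ε i ^ k) {α : ℂ}
    (hα : p ≤ 2 * (Finset.univ.filter fun i => ε i = α).card + 1) :
    2 * (Finset.univ.filter fun i => ε i = α).card + 1 = p ∧ charDegree χ.1 + 2 = p ∧
      ∃ q : G, IsPElt p q ∧ Commute z q ∧ ∃ (κ : Type) (_ : Fintype κ) (a b : κ → ℂ),
        (∀ m n : ℕ, χ (z ^ m * q ^ n) = ∑ i, a i ^ m * b i ^ n) ∧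
        2 * (Finset.univ.filter fun i => a i = α ∧ b i = 1).card + 3 = p := by
  obtain ⟨t, ht⟩ := h.exists_not_commute hz hz1
  have hd := h.deg
  have hS : ∀ x ∈ ({z, t * z * t⁻¹} : Set G), IsPElt p x := by
    rintro _ (rfl | rfl)
    exacts [hz, isPElt_conj_iff.2 hz]
  obtain ⟨M, hM⟩ : ∃ M, closure ({z, t * z * t⁻¹} : Set G) = M := ⟨_, rfl⟩
  obtain ⟨-, h1, h2, a, k, ψ, ν, -, h3, h4, h5, h6⟩ := h.decomp hS hM
    (hM ▸ χ.closure_ne_top_of_eigen h.one hε (α := α) (by omega) t) (Or.inl rfl) (Or.inr rfl) ht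
  let z' : M := ⟨z, hM.le (subset_closure (Or.inl rfl))⟩
  have hz' : z' ∉ pCore p M := fun e => ht (congrArg Subtype.val
    (mem_center_iff.1 (h1 e) ⟨_, hM.le (subset_closure (Or.inr rfl))⟩)).symm
  obtain ⟨P, hP⟩ := (isPElt_coe_iff.1 (show IsPElt p (z' : G) from hz)).exists_mem_sylow
  obtain ⟨q, hq1, hq2, hq3⟩ : ∃ q ∈ (P : Subgroup M), q ∈ commutator M ∧ q ≠ 1 := by
    obtain ⟨q, hq⟩ := exists_prime_orderOf_dvd_card' p h2
    obtain ⟨s, hs⟩ := IsPElt.exists_conj_mem (p := p) (g := q.1)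
      ⟨1, by rw [orderOf_coe, hq, pow_one]⟩ P
    exact ⟨_, hs, Normal.conj_mem inferInstance _ q.2 s, fun e => hp.out.one_lt.ne' (by
      rw [← hq, ← orderOf_coe, conj_eq_one_iff.1 e, orderOf_one])⟩
  obtain ⟨f, h7, h8, -, h9⟩ := h6 P (P : Subgroup M).subtype P.isPGroup'
  have hF : ∀ m n : ℕ, χ (z ^ m * q ^ n) = ∑ i,
      Sum.elim (fun i => (f i ⟨z', hP⟩ : ℂ)) (fun i => (ν i z' : ℂ)) i ^ m *
      Sum.elim (fun i => (f i ⟨q, hq1⟩ : ℂ)) (fun i => (ν i q : ℂ)) i ^ n := fun m n => by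
    have h10 := h5 (z' ^ m * q ^ n)
    have h11 := h7 (⟨z', hP⟩ ^ m * ⟨q, hq1⟩ ^ n)
    simp only [map_mul, map_pow, Units.val_mul, Units.val_pow_eq_pow_val, coe_subtype] at h10 h11
    rw [Fintype.sum_sum_type]
    exact h10.trans (congrArg₂ (· + ·) h11 rfl)
  have h10 : (Finset.univ.filter fun i => (f i ⟨z', hP⟩ : ℂ) = α).card ≤ 1 :=
    Finset.card_le_one.2 fun i hi i' hi' => h8 ⟨z', hP⟩ hz'
      (Units.ext ((Finset.mem_filter.1 hi).2.trans (Finset.mem_filter.1 hi').2.symm))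
  have h11 := card_filter_eq_of_power_sums (fun m => (hε m).symm.trans
    (by simpa using hF m 0 : χ (z ^ m) = ∑ i,
      Sum.elim (fun i => (f i ⟨z', hP⟩ : ℂ)) (fun i => (ν i z' : ℂ)) i ^ m)) (· = α)
  rw [card_filter_sum_elim _ _ (· = α)] at h11
  have h12 := Finset.card_filter_le Finset.univ fun i => (ν i z' : ℂ) = α
  rw [Finset.card_univ, Fintype.card_fin] at h12
  refine ⟨by omega, by omega, q, isPElt_coe_iff.2 (isPElt_of_mem P.isPGroup' hq1), ?_, _,
    inferInstance, _, _, hF, ?_⟩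
  · exact h.comm (P.isPGroup'.map M.subtype) _ ⟨z', hP, rfl⟩ _ ⟨q, hq1, rfl⟩
  · simp only [Finset.card_filter, Fintype.sum_sum_type, Sum.elim_inl, Sum.elim_inr,
      show ∀ i, ν i q = 1 from fun i => Abelianization.commutator_subset_ker _ hq2,
      Units.val_eq_one, h9 (by omega) ⟨q, hq1⟩ hq2 hq3, and_true, and_false, if_false,
      Finset.sum_const_zero, zero_add]
    simp only [← Finset.card_filter]
    omega

theorem pow_eq_one {z : G} (hz : IsPElt p z) : z ^ p = 1 :=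
  mem_bot.1 (h.core ▸ χ.isCharacter.pow_mem_pCore h.faith (by have := h.deg; omega) hz)

theorem five_aux (hp5 : p = 5) {K : Subgroup G} (hK : PGen p K) {z : K} (hz : IsPElt p z)
    (hz1 : z ≠ 1) (hzc : z ∈ center K) {ψ : IrrCharacter K} (hψ : charDegree ψ.1 = 2)
    {ν : K →* ℂˣ} (hχ : ∀ g : K, χ g = ψ g + ν g) : ψ z = 2 * ν z := by
  by_contra hne
  have hz5 : z ^ 5 = 1 := Subtype.ext (hp5 ▸ h.pow_eq_one (isPElt_coe_iff.2 hz))
  obtain ⟨t, ht⟩ := exists_prime_orderOf_dvd_card' 2 (hψ ▸ ψ.charDegree_dvd_card)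
  have ht1 : t ≠ 1 := fun e => by simp [e] at ht
  have ht2 : t ∈ commutator K := by
    by_contra e
    refine ht1 ((hK.isPElt_of_inf_commutator (K := zpowers t) ?_
      (mem_zpowers t)).eq_one_of_isPRegular (by rw [IsPRegular, ht, hp5]; norm_num))
    exact ((eq_bot_or_eq_of_prime_card (by rw [Nat.card_zpowers, ht]; norm_num)
      inf_le_left).resolve_right
      fun e' => e (e'.ge (mem_zpowers t)).2)
  have h1 : ν t = 1 := Abelianization.commutator_subset_ker _ ht2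
  have h2 : ∀ k : ℕ, ψ (t ^ k) = 2 * (-1) ^ k := by
    obtain ⟨ε, h3, h4, h5⟩ := ψ.isCharacter.exists_roots t
    revert ε
    rw [hψ, ht]
    intro ε h3 h4 h5
    have h6 := h5 1
    rw [pow_one, ← coe_detHom, show detHom ψ.1 t = 1 from
      Abelianization.commutator_subset_ker _ ht2] at h6
    simp only [Fin.prod_univ_two, pow_one, Units.val_one, Fin.sum_univ_two] at h4 h6
    have h7 : ε 1 = ε 0 := by linear_combination (-ε 0) * h6 - ε 1 * h3 0
    rcases sq_eq_one_iff.1 (h3 0) with e | e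
    · refine (ht1 (Subtype.ext (h.faith _ ?_))).elim
      have h8 := h4 1
      have h9 := h4 0
      rw [pow_one] at h8
      rw [pow_zero] at h9
      rw [hχ, h8, h1, ← OneMemClass.coe_one K, hχ, h9, map_one, h7, e]
      simp
    · intro k
      rw [h4, h7, e]
      ring
  obtain ⟨g, hg, -⟩ := ψ.exists_monoidHom_center
  have h3 : ∀ k : ℕ, ∀ x, ψ (z ^ k * x) = g ⟨z, hzc⟩ ^ k * ψ x := fun k x => by
    rw [← Units.val_pow_eq_pow_val, ← map_pow]
    exact hg (⟨z, hzc⟩ ^ k) x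
  have h4 : (g ⟨z, hzc⟩ : ℂ) ^ 5 = 1 := by
    rw [← Units.val_pow_eq_pow_val, ← map_pow, show (⟨z, hzc⟩ : center K) ^ 5 = 1 from
      Subtype.ext hz5, map_one, Units.val_one]
  have h5 : (ν z : ℂ) ^ 5 = 1 := by
    rw [← Units.val_pow_eq_pow_val, ← map_pow, hz5, map_one, Units.val_one]
  have h6 : ψ z = 2 * g ⟨z, hzc⟩ := by
    have := h3 1 1
    rw [pow_one, mul_one, pow_one, ψ.apply_one, hψ] at this
    rw [this, mul_comm, Nat.cast_two]
  have hc : Commute z t := (mem_center_iff.1 hzc t).symm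
  obtain ⟨i, hi, hi'⟩ : ∃ i : ℕ, (i = 1 ∨ i = 2) ∧ ‖1 + ((g ⟨z, hzc⟩ : ℂ) / ν z) ^ i‖ < 1 := by
    rcases exists_norm_one_add_pow_lt (ω := (g ⟨z, hzc⟩ : ℂ) / ν z)
      (by rw [div_pow, h4, h5, div_one])
      (fun e => hne (by rw [h6, (div_eq_one_iff_eq (Units.ne_zero _)).1 e])) with e | e
    exacts [⟨1, Or.inl rfl, by rwa [pow_one]⟩, ⟨2, Or.inr rfl, e⟩]
  have hzi : orderOf (z ^ i) = 5 := by
    have : Fact (Nat.Prime 5) := ⟨by norm_num⟩
    rw [Nat.Coprime.orderOf_pow, orderOf_eq_prime hz5 hz1]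
    rw [orderOf_eq_prime hz5 hz1]
    rcases hi with rfl | rfl <;> norm_num
  have ho : orderOf ((z ^ i * t : K) : G) = 10 := by
    rw [orderOf_coe, (hc.pow_left i).orderOf_mul_eq_mul_orderOf_of_coprime
      (by rw [hzi, ht]; norm_num), hzi, ht]
  have h7 := χ.isCharacter.commute_conj_of_two_eigen h.faith (s := (z ^ i * t : K))
    (ε := ![-(g ⟨z, hzc⟩ : ℂ) ^ i, -(g ⟨z, hzc⟩ : ℂ) ^ i, (ν z : ℂ) ^ i]) (fun k => by
      rw [← coe_pow, hχ, (hc.pow_left i).mul_pow, ← pow_mul, h3, h2, map_mul, map_pow, map_pow,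
        h1, Fin.sum_univ_three]
      simp only [Matrix.cons_val, one_pow, mul_one, Units.val_pow_eq_pow_val, pow_mul]
      rw [neg_pow ((g ⟨z, hzc⟩ : ℂ) ^ i)]
      ring) (α := (ν z : ℂ) ^ i) (β := -(g ⟨z, hzc⟩ : ℂ) ^ i)
    (by rw [ho, ← pow_mul, mul_comm, show 10 = 5 * 2 from rfl, mul_assoc, pow_mul, h5, one_pow])
    (by rw [ho, Even.neg_pow (by norm_num), ← pow_mul, mul_comm, show 10 = 5 * 2 from rfl,
      mul_assoc, pow_mul, h4, one_pow])
    (fun j => by fin_cases j <;> simp) (by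
      have h8 : ‖(ν z : ℂ) ^ i‖ = 1 := by
        rw [norm_pow, Complex.norm_eq_one_of_pow_eq_one h5 (by norm_num), one_pow]
      rw [show -(g ⟨z, hzc⟩ : ℂ) ^ i - (ν z : ℂ) ^ i =
        -((ν z : ℂ) ^ i * (1 + ((g ⟨z, hzc⟩ : ℂ) / ν z) ^ i)) by
          rw [div_pow]; field_simp; ring, norm_neg, norm_mul, h8, one_mul]
      exact hi')
  have h8 : (z ^ i * t) ^ 6 = z ^ i := by
    rw [(hc.pow_left i).mul_pow, show 6 = 2 * 3 from rfl, pow_mul t, ← ht, pow_orderOf_eq_one,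
      one_pow, mul_one, ht, pow_succ', ← hzi, pow_orderOf_eq_one, mul_one]
  obtain ⟨s, hs⟩ := h.exists_not_commute (z := (z ^ i : K)) (isPElt_coe_iff.2 (hz.pow i))
    fun e => by simp [show z ^ i = 1 from Subtype.ext e] at hzi
  refine hs ?_
  have h9 := (h7 s⁻¹).pow_pow 6 6
  rwa [inv_inv, conj_pow, ← coe_pow, h8] at h9

theorem ti (P Q : Sylow p G) (hne : Q ≠ P) : (P : Subgroup G) ⊓ Q = ⊥ := by
  by_contra h0
  obtain ⟨z, ⟨hzP, hzQ⟩, hz1⟩ := (bot_or_exists_ne_one _).resolve_left h0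
  have hz := isPElt_of_mem P.isPGroup' hzP
  obtain ⟨x, hx, y, hy, hxy⟩ : ∃ x ∈ (P : Subgroup G), ∃ y ∈ (Q : Subgroup G), ¬ Commute x y := by
    by_contra! h1
    exact hne (Sylow.ext (P.is_maximal' Q.isPGroup' (Q.is_maximal' P.isPGroup' fun y hy =>
      ((Q.isPGroup'.inf_normalizer_sylow P).le
      ⟨hy, centralizer_le_normalizer _ fun x hx => h1 x hx y hy⟩).2).le))
  have hS : ∀ x ∈ {x | IsPElt p x ∧ Commute z x}, IsPElt p x := fun x hx => hx.1
  obtain ⟨K, hK⟩ : ∃ K, closure {x | IsPElt p x ∧ Commute z x} = K := ⟨_, rfl⟩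
  have hC : K ≤ centralizer {z} :=
    hK ▸ (closure_le _).2 fun x hx => mem_centralizer_singleton_iff.2 hx.2.symm
  obtain ⟨hgen, -, -, a, k, ψ, ν, h1, h3, h4, h5, h6⟩ := h.decomp hS hK (fun e => by
      obtain ⟨t, ht⟩ := h.exists_not_commute hz hz1
      exact ht (mem_centralizer_singleton_iff.1 (hC (e.ge trivial))).symm)
    ⟨isPElt_of_mem P.isPGroup' hx, h.comm P.isPGroup' _ hzP _ hx⟩
    ⟨isPElt_of_mem Q.isPGroup' hy, h.comm Q.isPGroup' _ hzQ _ hy⟩ hxy
  let z' : K := ⟨z, hK.le (subset_closure ⟨hz, Commute.refl z⟩)⟩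
  have hzc : z' ∈ center K := mem_center_iff.2 fun g =>
    Subtype.ext (mem_centralizer_singleton_iff.1 (hC g.2))
  have hz' : z' ∈ pCore p K := (isPElt_coe_iff.1 (show IsPElt p (z' : G) from hz)
    ).mem_pCore_of_commute_conj fun g => (mem_center_iff.1 hzc _).symm
  obtain ⟨g, hg, -⟩ := ψ.exists_monoidHom_center
  have h7 : ∀ k : ℕ, ∀ x, ψ (z' ^ k * x) = g ⟨z', hzc⟩ ^ k * ψ x := fun k x => by
    rw [← Units.val_pow_eq_pow_val, ← map_pow]
    exact hg (⟨z', hzc⟩ ^ k) x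
  have h8 : ∀ m : ℕ, χ (z ^ m) = ∑ i : Fin a ⊕ Fin k,
      Sum.elim (fun _ => (g ⟨z', hzc⟩ : ℂ)) (fun i => (ν i z' : ℂ)) i ^ m := fun m => by
    have h9 := h5 (z' ^ m)
    have h10 := h7 m 1
    rw [mul_one, ψ.apply_one, h1] at h10
    rw [h10] at h9
    simpa [mul_comm] using h9
  have h9 := h.eigen hz hz1 h8 (α := g ⟨z', hzc⟩)
  rw [card_filter_sum_elim _ _ (· = (g ⟨z', hzc⟩ : ℂ)), Finset.filter_true_of_mem fun _ _ => rfl,
    Finset.card_univ, Fintype.card_fin] at h9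
  obtain ⟨h10, h11, q, hq, hzq, κ, _, b, c, h12, h13⟩ := h9 (by omega)
  have h14 : ∀ i, (ν i z' : ℂ) ≠ g ⟨z', hzc⟩ := fun i e => by
    have : 0 < (Finset.univ.filter fun i => (ν i z' : ℂ) = g ⟨z', hzc⟩).card :=
      Finset.card_pos.2 ⟨i, Finset.mem_filter.2 ⟨Finset.mem_univ i, e⟩⟩
    omega
  let q' : K := ⟨q, hK.le (subset_closure ⟨hq, hzq⟩)⟩
  obtain ⟨R, hR⟩ := (isPElt_coe_iff.1 (show IsPElt p (q' : G) from hq)).exists_mem_sylow
  obtain ⟨f, h15, h16, h17, -⟩ := h6 R (R : Subgroup K).subtype R.isPGroup'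
  have h18 := card_filter_eq_of_power_sums₂ (c := Sum.elim (fun _ => (g ⟨z', hzc⟩ : ℂ))
    fun i => (ν i z' : ℂ)) (d := Sum.elim (fun i => (f i ⟨q', hR⟩ : ℂ)) fun i => (ν i q' : ℂ))
    (fun m n => (h12 m n).symm.trans (by
      have h19 := h5 (z' ^ m * q' ^ n)
      have h20 := h15 (⟨q', hR⟩ ^ n)
      simp only [map_pow, Units.val_pow_eq_pow_val, coe_subtype] at h20
      rw [h7, h20, Finset.mul_sum] at h19
      simpa using h19)) fun x y => x = g ⟨z', hzc⟩ ∧ y = 1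
  simp only [Finset.card_filter, Fintype.sum_sum_type, Sum.elim_inl, Sum.elim_inr, h14, false_and,
    true_and, if_false, Finset.sum_const_zero, add_zero] at h18
  simp only [← Finset.card_filter] at h18
  have h19 := h.five
  by_cases hq' : q' ∈ pCore p K
  · obtain ⟨i, hi⟩ := Finset.card_pos.1
      (show 0 < (Finset.univ.filter fun i => (f i ⟨q', hR⟩ : ℂ) = 1).card by omega)
    rw [Finset.filter_true_of_mem (p := fun i => (f i ⟨q', hR⟩ : ℂ) = 1) fun j _ => by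
      rw [h17 ⟨q', hR⟩ hq' j i]; exact (Finset.mem_filter.1 hi).2, Finset.card_univ,
      Fintype.card_fin] at h18
    omega
  have h20 : (Finset.univ.filter fun i => (f i ⟨q', hR⟩ : ℂ) = 1).card ≤ 1 :=
    Finset.card_le_one.2 fun i hi i' hi' => h16 ⟨q', hR⟩ hq'
      (Units.ext ((Finset.mem_filter.1 hi).2.trans (Finset.mem_filter.1 hi').2.symm))
  obtain rfl : k = 1 := by omega
  have h21 := h.five_aux (by omega) hgen (isPElt_coe_iff.1 (show IsPElt p (z' : G)
    from hz)) (fun e => hz1 (congrArg Subtype.val e)) hzc (ψ := ψ) (by omega) (ν := ν 0)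
    (by simpa using h5)
  have h22 := h7 1 1
  rw [pow_one, mul_one, pow_one, ψ.apply_one, h21, show charDegree ψ.1 = 2 by omega] at h22
  exact h14 0 (by push_cast at h22; linear_combination h22 / 2)

theorem not_sq_dvd : ¬ p ^ 2 ∣ Nat.card G := fun hsq => by
  obtain ⟨P⟩ : Nonempty (Sylow p G) := inferInstance
  have h5 := h.five
  have h1 := χ.isCharacter.normal_of_ti h.faith (by omega) h.deg (P := P)
    (fun a b => Subtype.ext (h.comm P.isPGroup' _ a.2 _ b.2))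
    (fun a => Subtype.ext (h.pow_eq_one (isPElt_of_mem P.isPGroup' a.2))) hsq (h.ti P)
    fun f hf z hz α => by
      by_contra h1
      have h2 := h.eigen (isPElt_of_mem P.isPGroup' z.2) (fun e => hz (Subtype.ext e))
        (ε := fun i => f i z) (fun k => by simpa using hf (z ^ k)) (α := α)
      simp only [Units.val_inj] at h2
      have := (h2 (by omega)).1
      omega
  exact P.not_dvd_index (by
    rw [← pCore_eq_of_normal P, h.core, index_bot]
    exact (dvd_pow_self p two_ne_zero).trans hsq)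

end SmallMin

theorem not_sq_dvd_index_pCore_aux (hp5 : 5 ≤ p) (m : ℕ) : ∀ (G : Type u) [Group G] [Finite G],
    Nat.card G = m → ∀ χ : G → ℂ, IsCharacter G χ → (∀ g, χ g = χ 1 → g = 1) →
    charDegree χ + 2 ≤ p → ¬ p ^ 2 ∣ (pCore p G).index := by
  induction m using Nat.strong_induction_on with
  | _ m ih =>
  intro G _ _ hm χ hχ hf hd hsq
  have hsub : ∀ H : Subgroup G, H ≠ ⊤ → ¬ p ^ 2 ∣ (pCore p H).index := fun H hH =>
    ih _ (hm ▸ card_lt_of_ne_top hH) H rfl _ (hχ.comp H.subtype)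
      (fun g hg => Subtype.ext (hf _ hg)) (by rwa [charDegree_comp])
  have hgen : PGen p G := fun K hK h1 => by_contra fun e => by
    obtain ⟨P⟩ : Nonempty (Sylow p G) := inferInstance
    have h2 : (P : Subgroup G) ≤ K := fun x hx => h1 x (isPElt_of_mem P.isPGroup' hx)
    refine hsub K e ?_
    rw [pCore_eq_subgroupOf_of_normal]
    rw [← relIndex_mul_index ((pCore_le_sylow P).trans h2)] at hsq
    exact (Nat.Coprime.pow_left 2 (hp.out.coprime_iff_not_dvd.2 fun e' =>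
      P.not_dvd_index (e'.trans (index_dvd_of_le h2)))).dvd_of_dvd_mul_right hsq
  have hquot : ∀ φ : IrrCharacter G, charDegree φ.1 + 2 ≤ p → charKer φ.1 ≠ ⊥ →
      ∃ φ' : IrrCharacter (G ⧸ charKer φ.1), charDegree φ'.1 = charDegree φ.1 ∧
        charKer φ'.1 = ⊥ ∧ ¬ p ^ 2 ∣ (pCore p (G ⧸ charKer φ.1)).index := fun φ h1 h2 => by
    obtain ⟨φ', h3, h4⟩ := φ.exists_faithful_quotient
    have h5 : charDegree φ'.1 = charDegree φ.1 := by
      rw [← charDegree_comp φ'.1 (QuotientGroup.mk' _), h3]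
    exact ⟨φ', h5, h4, ih _ (hm ▸ card_quotient_lt h2) _ rfl _ φ'.isCharacter
      (φ'.isCharacter.charKer_eq_bot_iff.1 h4) (by omega)⟩
  have hfin : ∀ φ : IrrCharacter G, charDegree φ.1 + 2 ≤ p → charKer φ.1 ⊓ commutator G = ⊥ →
      charKer φ.1 = ⊥ := fun φ h1 h2 => by_contra fun h3 => by
    obtain ⟨-, -, -, h4⟩ := hquot φ h1 h3
    rw [← index_comap_of_surjective _ (QuotientGroup.mk'_surjective _), comap_pCore_quotient
      (isPGroup_iff_forall_isPElt.2 fun g hg => hgen.isPElt_of_inf_commutator h2 hg)] at h4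
    exact h4 hsq
  have hlin : ∀ θ : G → ℂ, IsCharacter G θ → (∀ φ : IrrCharacter G, ip θ φ.1 ≠ 0 →
      charDegree φ.1 = 1) → commutator G ≤ charKer θ := fun θ hθ h1 g hg =>
    hθ.mem_charKer_iff_forall.2 fun φ hφ => φ.commutator_le_charKer_iff.2
      (by rw [φ.apply_one, h1 φ hφ, Nat.cast_one]) hg
  have hna : commutator G ≠ ⊥ := fun e => by
    have h1 : pCore p G = ⊤ := pCore_eq_top_iff.2 (isPGroup_top_iff.1 (isPGroup_iff_forall_isPElt.2
      fun g hg => hgen.isPElt_of_inf_commutator (by rw [e, inf_bot_eq]) hg))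
    rw [h1, index_top] at hsq
    exact hp.out.one_lt.ne' (Nat.eq_one_of_dvd_one ((dvd_pow_self p two_ne_zero).trans hsq))
  obtain ⟨ψ, h1, h2⟩ : ∃ ψ : IrrCharacter G, charDegree ψ.1 + 2 ≤ p ∧ charKer ψ.1 = ⊥ := by
    by_contra! h1
    have hbig : ∀ φ : IrrCharacter G, charDegree φ.1 ≠ 1 → charDegree φ.1 + 2 ≤ p →
        p ≤ 2 * charDegree φ.1 + 1 := fun φ h2 h3 => by
      obtain ⟨φ', h4, h5, h6⟩ := hquot φ h3 (h1 φ h3)
      obtain ⟨-, a, k, -, -, -, h7, h8, -⟩ := (hgen.of_surjective _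
        (QuotientGroup.mk'_surjective _)).exists_decomp hp5 φ'.isCharacter
        (φ'.isCharacter.charKer_eq_bot_iff.1 h5) (by omega) (fun e => h2 (by
          have := φ'.commutator_le_charKer_iff.1 (e ▸ bot_le)
          rwa [φ'.apply_one, Nat.cast_eq_one, h4] at this)) h6
      omega
    obtain ⟨ψ, hψ, hψ1⟩ : ∃ ψ : IrrCharacter G, ip χ ψ.1 ≠ 0 ∧ charDegree ψ.1 ≠ 1 := by
      by_contra! h1
      exact hna (le_bot_iff.1 (hχ.charKer_eq_bot_iff.2 hf ▸ hlin χ hχ h1))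
    have hθ := hχ.sub_irr ψ hψ
    have hdeg := ψ.isCharacter.charDegree_add_B hθ
    rw [add_sub_cancel] at hdeg
    have h2 := hbig ψ hψ1 (by omega)
    have h3 := hlin _ hθ fun φ hφ => by_contra fun e => by
      have := hθ.charDegree_le_of_ip_ne_zero φ hφ
      have := hbig φ e (by omega)
      omega
    refine h1 ψ (by omega) (hfin ψ (by omega) (eq_bot_iff.2 fun g hg => hf g ?_))
    have h4 := hθ.mem_charKer.1 (h3 hg.2)
    simp only [Pi.sub_apply] at h4
    linear_combination h4 + ψ.mem_charKer.1 hg.1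
  have h3 := ψ.isCharacter.charKer_eq_bot_iff.1 h2
  refine SmallMin.not_sq_dvd (χ := ψ) ⟨h3, hp5, h1, fun e => hna (le_bot_iff.1 (h2 ▸
    ψ.commutator_le_charKer_iff.2 (by rw [ψ.apply_one, e, Nat.cast_one]))), ?_, hsub⟩
    (hsq.trans (index_dvd_card _))
  obtain ⟨n, hn⟩ := (isPGroup_pCore p G).exists_card_eq
  obtain ⟨μ, hμ⟩ := ψ.exists_linear_smul_central (m := p ^ n) (Nat.Coprime.pow_right _
    (Nat.coprime_of_lt_prime ψ.charDegree_pos.ne' (by omega) hp.out).symm)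
  have h4 := hfin (μ • ψ) (by rwa [IrrCharacter.charDegree_linear_smul]) (eq_bot_iff.2
    fun g hg => h3 g (by simpa [show μ g = 1 from Abelianization.commutator_subset_ker μ hg.2]
      using (μ • ψ).mem_charKer.1 hg.1))
  refine eq_bot_iff.2 fun z hz => h4.le (hμ z
    (hgen.pCore_le_center ψ.isCharacter h3 (by omega) hz) ?_)
  rw [← hn]
  exact congrArg Subtype.val (pow_card_eq_one' (x := (⟨z, hz⟩ : pCore p G)))

/-- **Feit–Thompson (1961)**. -/
theorem IsCharacter.not_sq_dvd_index_pCore {χ : G → ℂ} (hχ : IsCharacter G χ)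
    (hf : ∀ g, χ g = χ 1 → g = 1) (hp5 : 5 ≤ p) (hd : charDegree χ + 2 ≤ p) :
    ¬ p ^ 2 ∣ (pCore p G).index :=
  not_sq_dvd_index_pCore_aux hp5 _ G rfl χ hχ hf hd

end Cfsg

set_option linter.all false in
theorem Cfsg.Rz.Blk_SmallRed_0 : True := by
  have := @_root_.Cfsg.SmallMin.mk.congr_simp.{0}
  trivial
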