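import Cfsg.Agent.Blk.PrimeRed
import Cfsg.Agent.Char.Blichfeldt

/-!
# Linear groups of degree at most `p - 2` generated by `p`-elements
-/

set_option autoImplicit false
set_option linter.unusedSectionVars false
set_option linter.unusedVariables false
set_option linter.style.haveILetI false

namespace Cfsg

open Exc Subgroup
open scoped ComplexConjugate Classical commutatorElement

universe u v w

variable {G : Type u} [Group G] [Finite G] {p : ℕ} [hp : Fact p.Prime]

local notation "C(" Q ")" => Subgroup.centralizer ((Q : Subgroup G) : Set G)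
local notation "N(" Q ")" => Subgroup.normalizer ((Q : Subgroup G) : Set G)

theorem sum_sum_linear_mul_conj {A : Type*} [Group A] [Fintype A] {ι : Type*} [Fintype ι]
    (f : ι → (A →* ℂˣ)) (lam : A →* ℂˣ) : ∑ a, (∑ i, (f i a : ℂ)) * conj (lam a : ℂ) =
      Nat.card A * Multiset.count lam (Finset.univ.val.map f) := by
  simp only [Finset.sum_mul]
  rw [Finset.sum_comm]
  simp only [sum_mul_conj]
  rw [Multiset.count_map, ← Finset.filter_val, Finset.card_val, Finset.card_filter, Nat.cast_sum,
    Finset.mul_sum]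
  exact Finset.sum_congr rfl fun i _ => by simp [eq_comm]

theorem card_filter_eq_of_sum_linear_eq {A : Type*} [Group A] [Finite A] {ι κ : Type*} [Fintype ι]
    [Fintype κ] {f : ι → (A →* ℂˣ)} {g : κ → (A →* ℂˣ)}
    (h : ∀ a, ∑ i, (f i a : ℂ) = ∑ j, (g j a : ℂ)) (Φ : (A →* ℂˣ) → Prop) [DecidablePred Φ] :
    (Finset.univ.filter fun i => Φ (f i)).card = (Finset.univ.filter fun j => Φ (g j)).card := by
  let _ := Fintype.ofFinite A
  have h2 : Finset.univ.val.map f = Finset.univ.val.map g := Multiset.ext.2 fun lam => by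
    have := sum_sum_linear_mul_conj f lam
    simp only [h] at this
    rw [sum_sum_linear_mul_conj g lam, mul_right_inj' (Nat.cast_ne_zero.2 Nat.card_pos.ne'), Nat.cast_inj] at this
    exact this.symm
  have h3 := congrArg (Multiset.countP Φ) h2
  rwa [Multiset.countP_map, Multiset.countP_map] at h3

theorem card_filter_eq_of_power_sums₂ {ι κ : Type*} [Fintype ι] [Fintype κ] {a b : ι → ℂ}
    {c d : κ → ℂ} (h : ∀ m n : ℕ, ∑ i, a i ^ m * b i ^ n = ∑ j, c j ^ m * d j ^ n)
    (Φ : ℂ → ℂ → Prop) [∀ x y, Decidable (Φ x y)] :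
    (Finset.univ.filter fun i => Φ (a i) (b i)).card =
      (Finset.univ.filter fun j => Φ (c j) (d j)).card := by
  let F : ℂ × ℂ → (Multiplicative ℕ × Multiplicative ℕ →* ℂ) := fun x =>
    (powersHom ℂ x.1).coprod (powersHom ℂ x.2)
  have hF : Function.Injective F := fun x y e => Prod.ext
    (by simpa [F] using DFunLike.congr_fun e (.ofAdd 1, 1))
    (by simpa [F] using DFunLike.congr_fun e (1, .ofAdd 1))
  have h1 := ((linearIndependent_monoidHom _ ℂ).comp F hF).finsuppLinearCombination_injective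
    (a₁ := ∑ i, Finsupp.single (a i, b i) 1) (a₂ := ∑ j, Finsupp.single (c j, d j) 1) (by
      ext x
      simpa [map_sum, F] using h x.1.toAdd x.2.toAdd)
  have h2 : (Finset.univ.val.map fun i => (a i, b i)) = Finset.univ.val.map fun j => (c j, d j) :=
    Multiset.ext.2 fun x => by
      have := DFunLike.congr_fun h1 x
      simp only [Finsupp.finsetSum_apply, Finsupp.single_apply, Finset.sum_boole, Nat.cast_inj]
        at this
      simp only [Multiset.count_map, ← Finset.filter_val, Finset.card_val, eq_comm (a := x)]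
      convert this
  have h3 := congrArg (Multiset.countP fun x : ℂ × ℂ => Φ x.1 x.2) h2
  rwa [Multiset.countP_map, Multiset.countP_map] at h3

theorem card_filter_eq_of_power_sums {ι κ : Type*} [Fintype ι] [Fintype κ] {a : ι → ℂ}
    {c : κ → ℂ} (h : ∀ m : ℕ, ∑ i, a i ^ m = ∑ j, c j ^ m) (Φ : ℂ → Prop) [DecidablePred Φ] :
    (Finset.univ.filter fun i => Φ (a i)).card = (Finset.univ.filter fun j => Φ (c j)).card :=
  card_filter_eq_of_power_sums₂ (b := fun _ => 1) (d := fun _ => 1) (by simpa using h)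
    fun x _ => Φ x

/-- The eigenvalues of the elements of `P` are distinct. -/
theorem SmallDeg.exists_eigen {P : Sylow p G} {χ : IrrCharacter G} (h : SmallDeg p P χ) :
    ∃ f : Fin (charDegree χ.1) → ((P : Subgroup G) →* ℂˣ), Function.Injective f ∧
      (∀ u : (P : Subgroup G), χ u = ∑ i, (f i u : ℂ)) ∧
      (2 * charDegree χ.1 + 1 = p → ∀ i, f i ≠ 1) := by
  let _ := Fintype.ofFinite (P : Subgroup G)
  have : IsCyclic (P : Subgroup G) := isCyclic_of_prime_card h.card
  have hA : ∀ a b : (P : Subgroup G), a * b = b * a := fun a b => mul_comm' a b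
  let _ := Fintype.ofFinite ((P : Subgroup G) →* ℂˣ)
  have hc : Fintype.card ((P : Subgroup G) →* ℂˣ) = p := by
    rw [← Nat.card_eq_fintype_card, card_linear_of_comm hA, h.card]
  obtain ⟨f, -, -, h1, -⟩ := χ.isCharacter.exists_linear_decomp (P : Subgroup G) (one_mem _)
  have hsum : ∑ lam, (Finset.univ.filter fun i => f i = lam).card = charDegree χ.1 := by
    rw [← Finset.card_eq_sum_card_fiberwise (fun _ _ => Finset.mem_univ _), Finset.card_univ,
      Fintype.card_fin]
  have hcoef : ∀ lam, coef (fun u : (P : Subgroup G) => χ u) lam =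
      ((Finset.univ.filter fun i => f i = lam).card : ℂ) -
        (Finset.univ.filter fun i => f i = 1).card := fun lam => by
    have := coef_sum_linear f (fun _ => 1) lam
    simp only [one_mul, Finset.sum_const, nsmul_eq_mul, mul_one] at this
    rw [funext h1]
    convert this
  have hE := isFree_of_card_eq_prime h.card (autOf (P : Subgroup G).subtype N(P))
  have hcE := card_autOf_subtype (P := (P : Subgroup G)) (T := N(P)) le_rfl
  have hle := h.relIndex_le
  rcases h.dichotomy with ⟨h2, -⟩ | ⟨h2, lam, hl, h3⟩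
  · have h3 := h.le_relIndex
    obtain ⟨x, hx, hx1⟩ := h.exists_ne_one
    obtain ⟨i, hi⟩ : ∃ i, f i ≠ 1 := by
      by_contra! h4
      exact hx1 (h.eq_one x ((h1 ⟨x, hx⟩).trans (Eq.trans (by simp [h4]) (h1 1).symm)))
    have h4 : (Finset.univ.filter fun mu => Orb (autOf (P : Subgroup G).subtype N(P)) (f i) mu) ⊆
        Finset.univ.image f := fun mu hm => by
      obtain ⟨σ, hσ, h5⟩ := (Finset.mem_filter.1 hm).2.symm
      obtain ⟨g, -, hg⟩ := mem_autOf.1 hσ
      have h6 := card_filter_eq_of_sum_linear_eq (f := f) (g := fun j => (f j).comp σ.toMonoidHom)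
        (fun a => by
          rw [← h1]
          simp only [MulEquiv.toMonoidHom_eq_coe, MonoidHom.coe_comp, MonoidHom.coe_coe,
            Function.comp_apply, ← h1]
          exact ((congrArg χ.1 (hg a)).trans (χ.isCharacter.isClassFunction _ _)).symm) (· = mu)
      obtain ⟨j, hj⟩ := Finset.card_pos.1 (h6.symm ▸ Finset.card_pos.2 ⟨i, by
        simp only [Finset.mem_filter, Finset.mem_univ, true_and]
        exact MonoidHom.ext h5⟩ :
          0 < (Finset.univ.filter fun i => f i = mu).card)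
      exact Finset.mem_image.2 ⟨j, Finset.mem_univ _, (Finset.mem_filter.1 hj).2⟩
    have h5 := hE.card_orb hA hi
    have h6 := Finset.card_image_le (s := Finset.univ) (f := f)
    rw [Finset.card_univ, Fintype.card_fin] at h6
    have h7 := Finset.eq_of_subset_of_card_le h4 (by omega)
    refine ⟨f, fun a b => Finset.card_image_iff.1 (by
      rw [← h7, Finset.card_univ, Fintype.card_fin]; omega) (Finset.mem_univ a) (Finset.mem_univ b),
      h1, fun _ j => ?_⟩
    exact (Finset.mem_filter.1 (h7.ge (Finset.mem_image_of_mem f (Finset.mem_univ j)))).2.ne_one hi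
  · have h4 : ∀ nu, ((Finset.univ.filter fun i => f i = nu).card : ℤ) =
        (Finset.univ.filter fun i => f i = 1).card -
          if Orb (autOf (P : Subgroup G).subtype N(P)) lam nu then 1 else 0 := by
      intro nu
      have h5 := hcoef nu
      rw [coef_congr (F' := fun u => (-1) * osum _ lam u) fun u hu => by rw [h3 u hu, neg_one_mul],
        coef_mul, coef_osum hl] at h5
      apply Int.cast_injective (α := ℂ)
      push_cast
      linear_combination -h5
    have h5 := congrArg (Nat.cast : ℕ → ℤ) hsum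
    rw [Nat.cast_sum, Finset.sum_congr rfl fun nu _ => h4 nu, Finset.sum_sub_distrib,
      Finset.sum_boole, hE.card_orb hA hl, Finset.sum_const, Finset.card_univ, hc,
      nsmul_eq_mul, hcE] at h5
    have h6 : (Finset.univ.filter fun i => f i = 1).card = 1 := by
      have h7 : (p : ℤ) * (Finset.univ.filter fun i => f i = 1).card = p * 1 := by
        have := congrArg (Nat.cast : ℕ → ℤ) h2
        push_cast at this
        linarith
      exact_mod_cast mul_left_cancel₀ (Nat.cast_ne_zero.2 hp.out.ne_zero) h7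
    refine ⟨f, fun a b e => ?_, h1, fun e => by omega⟩
    have h7 := h4 (f b)
    have h8 : (Finset.univ.filter fun i => f i = f b).card ≤ 1 := by
      split_ifs at h7 <;> omega
    exact Finset.card_le_one.1 h8 a (by simp [e]) b (by simp)

/-- The group is generated by its `p`-elements. -/
def PGen (p : ℕ) (G : Type u) [Group G] : Prop :=
  ∀ K : Subgroup G, K.Normal → (∀ x, IsPElt p x → x ∈ K) → K = ⊤

theorem PGen.eq_top (h : PGen p G) (P : Sylow p G) (K : Subgroup G) [hK : K.Normal]
    (hP : (P : Subgroup G) ≤ K) : K = ⊤ := h K hK fun x hx => by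
  obtain ⟨t, ht⟩ := hx.exists_conj_mem P
  simpa [mul_assoc] using hK.conj_mem _ (hP ht) t⁻¹

theorem PGen.of_surjective (h : PGen p G) {H : Type v} [Group H] [Finite H] (f : G →* H)
    (hf : Function.Surjective f) : PGen p H := fun K hK h1 => by
  rw [← map_comap_eq_self_of_surjective hf K, h (K.comap f) inferInstance fun x hx =>
    h1 _ (hx.map f), map_top_of_surjective f hf]

theorem pGen_closure {S : Set G} (hS : ∀ x ∈ S, IsPElt p x) : PGen p (closure S) := by
  intro K hK h
  have : closure S ≤ K.map (closure S).subtype := (closure_le _).2 fun x hx =>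
    ⟨⟨x, subset_closure hx⟩, h _ (isPElt_coe_iff.1 (hS x hx)), rfl⟩
  refine eq_top_iff.2 fun x _ => ?_
  obtain ⟨y, hy, e⟩ := this x.2
  exact (Subtype.ext e : y = x) ▸ hy

theorem PGen.isPElt_of_inf_commutator (h : PGen p G) {K : Subgroup G} (hK : K ⊓ commutator G = ⊥)
    {x : G} (hx : x ∈ K) : IsPElt p x := by
  obtain ⟨P⟩ : Nonempty (Sylow p G) := inferInstance
  obtain ⟨n, hn⟩ := P.isPGroup'.exists_card_eq
  have : (commutator G ⊔ P).Normal := Normal.of_commutator_le _ le_sup_left
  have h1 : (commutator G).index ∣ p ^ n := by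
    rw [← relIndex_top_right, ← h.eq_top P (commutator G ⊔ P) le_sup_right, relIndex_sup_left, ← hn]
    exact relIndex_dvd_card _ _
  obtain ⟨k, hk⟩ := h1
  refine isPElt_iff_pow_eq_one.2 ⟨n, mem_bot.1 (hK ▸ ⟨K.pow_mem hx _, ?_⟩)⟩
  rw [hk, pow_mul]
  exact pow_mem (pow_index_mem _ x) k

theorem PGen.pCore_le_center (h : PGen p G) {χ : G → ℂ} (hχ : IsCharacter G χ)
    (hf : ∀ g, χ g = χ 1 → g = 1) (hd : charDegree χ < p) : pCore p G ≤ center G := by
  rw [← centralizer_eq_top_iff_subset.trans SetLike.coe_subset_coe]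
  refine h _ inferInstance fun x hx y hy => ?_
  exact hχ.comm_of_isPGroup hf hd ((isPGroup_pCore p G).to_sup_of_normal_left
    (isPElt_iff_isPGroup_zpowers.1 hx)) y (mem_sup_left hy) x (mem_sup_right (mem_zpowers x))

theorem PGen.exists_smallDeg (h : PGen p G) (hp5 : 5 ≤ p) {D : Subgroup G} (hD : D ≤ center G)
    (hD' : IsPGroup p D) (hsq : ¬ p ^ 2 ∣ D.index) (φ : IrrCharacter G) (h1 : charDegree φ.1 ≠ 1)
    (hd : charDegree φ.1 + 2 ≤ p) : ∃ μ : G →* ℂˣ, D ≤ charKer (μ • φ).1 ∧
      ∃ φ' : IrrCharacter (G ⧸ charKer (μ • φ).1), φ'.1 ∘ QuotientGroup.mk' _ = (μ • φ).1 ∧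
        ∀ P : Sylow p (G ⧸ charKer (μ • φ).1), SmallDeg p P φ' := by
  obtain ⟨n, hn⟩ := hD'.exists_card_eq
  obtain ⟨μ, hμ⟩ := φ.exists_linear_smul_central (m := p ^ n) (Nat.Coprime.pow_right _
    (Nat.coprime_of_lt_prime φ.charDegree_pos.ne' (by omega) hp.out).symm)
  have h2 : D ≤ charKer (μ • φ).1 := fun z hz => hμ z (hD hz) (by
    rw [← hn]
    exact congrArg Subtype.val (pow_card_eq_one' (x := (⟨z, hz⟩ : D))))
  obtain ⟨φ', h3, h4⟩ := (μ • φ).exists_faithful_quotient
  have h5 : charDegree φ'.1 = charDegree φ.1 := by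
    rw [← charDegree_comp φ'.1 (QuotientGroup.mk' _), h3, IrrCharacter.charDegree_linear_smul]
  refine ⟨μ, h2, φ', h3, fun P => ?_⟩
  have h6 : ¬ P.toSubgroup.Normal := fun e => h1 (h5 ▸ φ'.charDegree_eq_one_of_comm
    fun a b => by
      have h7 := (h.of_surjective _ (QuotientGroup.mk'_surjective _)).eq_top P P le_rfl
      exact φ'.isCharacter.comm_of_isPGroup (φ'.isCharacter.charKer_eq_bot_iff.1 h4) (by omega)
        P.isPGroup' a (h7.ge trivial) b (h7.ge trivial))
  refine ⟨?_, hp5, h6, h4, by omega⟩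
  obtain ⟨k, hk⟩ := P.isPGroup'.exists_card_eq
  rcases k with _ | _ | k
  · exact (h6 (by rw [eq_bot_of_card_eq _ hk]; infer_instance)).elim
  · exact hk.trans (pow_one p)
  · exact (hsq ((pow_dvd_pow p (by omega)).trans (hk.symm.dvd.trans
      ((card_subgroup_dvd_card _).trans (index_dvd_of_le h2))))).elim

/-- The structure of a non-abelian linear group of degree at most `p - 2`, generated by
`p`-elements, with `p ^ 2` not dividing the index of `O_p`. -/
theorem PGen.exists_decomp (h : PGen p G) (hp5 : 5 ≤ p) {χ : G → ℂ} (hχ : IsCharacter G χ)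
    (hf : ∀ g, χ g = χ 1 → g = 1) (hd : charDegree χ + 2 ≤ p) (hna : commutator G ≠ ⊥)
    (hsq : ¬ p ^ 2 ∣ (pCore p G).index) : p ∣ Nat.card (commutator G) ∧
    ∃ (a k : ℕ) (ψ : IrrCharacter G) (ν : Fin k → (G →* ℂˣ)), charDegree ψ.1 = a ∧
      a + k = charDegree χ ∧ p ≤ 2 * a + 1 ∧ (∀ g, χ g = ψ g + ∑ i, (ν i g : ℂ)) ∧
      ∀ (A : Type u) [Group A] (j : A →* G), IsPGroup p A → ∃ f : Fin a → (A →* ℂˣ),
        (∀ x, ψ (j x) = ∑ i, (f i x : ℂ)) ∧
        (∀ x, j x ∉ pCore p G → Function.Injective fun i => f i x) ∧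
        (∀ x, j x ∈ pCore p G → ∀ i i', f i x = f i' x) ∧
        (2 * a + 1 = p → ∀ x, j x ∈ commutator G → j x ≠ 1 → ∀ i, f i x ≠ 1) := by
  have hD := h.pCore_le_center hχ hf (by omega)
  have key := h.exists_smallDeg hp5 hD (isPGroup_pCore p G) hsq
  have hbig : ∀ φ : IrrCharacter G, charDegree φ.1 ≠ 1 → charDegree φ.1 + 2 ≤ p →
      p ≤ 2 * charDegree φ.1 + 1 := fun φ h1 h2 => by
    obtain ⟨μ, -, φ', h3, h4⟩ := key φ h1 h2
    have h5 := (h4 default).le_relIndex
    have h6 := (h4 default).relIndex_le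
    rw [← charDegree_comp φ'.1 (QuotientGroup.mk' _), h3, IrrCharacter.charDegree_linear_smul]
      at h5 h6
    omega
  have hlin : ∀ θ : G → ℂ, IsCharacter G θ → (∀ φ : IrrCharacter G, ip θ φ.1 ≠ 0 →
      charDegree φ.1 = 1) → commutator G ≤ charKer θ := fun θ hθ h1 g hg =>
    hθ.mem_charKer_iff_forall.2 fun φ hφ => φ.commutator_le_charKer_iff.2
      (by rw [φ.apply_one, h1 φ hφ, Nat.cast_one]) hg
  obtain ⟨ψ, hψ, hψ1⟩ : ∃ ψ : IrrCharacter G, ip χ ψ.1 ≠ 0 ∧ charDegree ψ.1 ≠ 1 := by
    by_contra! h1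
    exact hna (le_bot_iff.1 (hχ.charKer_eq_bot_iff.2 hf ▸ hlin χ hχ h1))
  have hθ := hχ.sub_irr ψ hψ
  have hdeg := ψ.isCharacter.charDegree_add_B hθ
  rw [add_sub_cancel] at hdeg
  have h1 := hbig ψ hψ1 (by omega)
  have h2 := hlin _ hθ fun φ hφ => by_contra fun e => by
    have := hθ.charDegree_le_of_ip_ne_zero φ hφ
    have := hbig φ e (by omega)
    omega
  obtain ⟨θ', hθ', h3⟩ := hθ.exists_quotient_of_le_charKer _ h2
  have : IsMulCommutative (G ⧸ commutator G) :=
    Subgroup.Normal.quotient_commutative_iff_commutator_le.2 le_rfl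
  obtain ⟨ν, hν, -⟩ := hθ'.exists_eq_sum_monoidHom
  obtain ⟨μ, h4, φ', h5, h6⟩ := key ψ hψ1 (by omega)
  have h7 : ∀ g, ψ g = (μ g : ℂ)⁻¹ * φ' (g : G ⧸ charKer (μ • ψ).1) := fun g => by
    rw [eq_inv_mul_iff_mul_eq₀ (Units.ne_zero _)]
    exact (congrFun h5 g).symm
  have h8 : charKer (μ • ψ).1 ⊓ commutator G = ⊥ := eq_bot_iff.2 fun g hg => hf g (by
    have h9 := hθ.mem_charKer.1 (h2 hg.2)
    have h10 := (μ • ψ).mem_charKer.1 hg.1
    simp only [IrrCharacter.linear_smul_apply, map_one, Units.val_one, one_mul,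
      show μ g = 1 from Abelianization.commutator_subset_ker μ hg.2] at h10
    simp only [Pi.sub_apply] at h9
    linear_combination h9 + h10)
  have h9 : charKer (μ • ψ).1 ≤ pCore p G := le_pCore (isPGroup_iff_forall_isPElt.2 fun g hg =>
    h.isPElt_of_inf_commutator h8 hg)
  have h10 : charDegree φ'.1 = charDegree ψ.1 := by
    rw [← charDegree_comp φ'.1 (QuotientGroup.mk' _), h5, IrrCharacter.charDegree_linear_smul]
  refine ⟨?_, charDegree φ'.1, charDegree θ', ψ, fun i => (ν i).comp (QuotientGroup.mk' _),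
    h10.symm, ?_, by omega, fun g => ?_, fun A _ j hA => ?_⟩
  · have h11 := card_dvd_of_le (h6 default).le_commutator
    rw [_root_.commutator_def, ← map_top_of_surjective _ (QuotientGroup.mk'_surjective _),
      ← map_commutator] at h11
    exact ((h6 default).card.symm.dvd.trans h11).trans (card_map_dvd _ _)
  · rw [hdeg, ← h3, charDegree_comp, h10]
  · have h13 := congrFun h3 g
    rw [Function.comp_apply, hν, Pi.sub_apply] at h13
    simp only [MonoidHom.comp_apply, h13, add_sub_cancel]
  obtain ⟨P, hP⟩ := (hA.of_surjective _ ((QuotientGroup.mk' (charKer (μ • ψ).1)).comp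
    j).rangeRestrict_surjective).exists_le_sylow
  obtain ⟨f, hf1, hf2, hf3⟩ := (h6 P).exists_eigen
  let r : A →* P.toSubgroup := ((QuotientGroup.mk' (charKer (μ • ψ).1)).comp j).codRestrict _
    fun x => hP ⟨x, rfl⟩
  have h11 : ∀ {x}, r x ≠ 1 → ∀ g g' : P.toSubgroup →* ℂˣ, g (r x) = g' (r x) → g = g' := by
    intro x hx g g' e
    refine MonoidHom.ext fun y => ?_
    obtain ⟨n, hn⟩ := mem_zpowers_iff.1 (((h6 P).zpowers_eq (r x).2
      fun e => hx (Subtype.ext e)).ge y.2)
    rw [show y = r x ^ n from Subtype.ext hn.symm, map_zpow, map_zpow, e]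
  have h12 : ∀ {x}, r x = 1 ↔ j x ∈ charKer (μ • ψ).1 := by
    intro x
    rw [← QuotientGroup.eq_one_iff, Subtype.ext_iff]
    rfl
  refine ⟨fun i => (μ.comp j)⁻¹ * (f i).comp r, fun x => ?_, fun x hx i i' e => ?_,
    fun x hx i i' => ?_, fun e x hx hx1 i e' => ?_⟩
  · have h14 : φ' (j x : G ⧸ charKer (μ • ψ).1) = _ := hf2 (r x)
    rw [h7, h14, Finset.mul_sum]
    simp only [MonoidHom.mul_apply, MonoidHom.inv_apply, MonoidHom.comp_apply, Units.val_mul,
      Units.val_inv_eq_inv_val]
  · simp only [MonoidHom.mul_apply, mul_right_inj, MonoidHom.comp_apply] at e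
    exact hf1 (h11 (fun e' => hx (h9 (h12.1 e'))) _ _ e)
  · simp only [MonoidHom.mul_apply, MonoidHom.comp_apply, h12.2 (h4 hx), map_one]
  · simp only [MonoidHom.mul_apply, MonoidHom.inv_apply, MonoidHom.comp_apply,
      show μ (j x) = 1 from Abelianization.commutator_subset_ker μ hx, inv_one, one_mul] at e'
    exact hf3 e i (h11 (fun e'' => hx1 (mem_bot.1 (h8 ▸ ⟨h12.1 e'', hx⟩))) _ _ e')

/-- Two conjugates of an element with a large eigenspace do not generate an irreducible group. -/
theorem IrrCharacter.closure_ne_top_of_eigen (χ : IrrCharacter G) (h1 : charDegree χ.1 ≠ 1)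
    {z : G} {ι : Type*} [Fintype ι] {ε : ι → ℂ} (hε : ∀ k : ℕ, χ (z ^ k) = ∑ i, ε i ^ k) {α : ℂ}
    (h : charDegree χ.1 < 2 * (Finset.univ.filter fun i => ε i = α).card) (g : G) :
    closure {z, g * z * g⁻¹} ≠ ⊤ := by
  obtain ⟨χ, d, ρ, hρ, rfl⟩ := χ
  intro htop
  obtain ⟨b, f', -, hb⟩ := rep_exists_eigenbasis ρ z
  rw [card_filter_eq_of_power_sums (c := f') (fun k => (hε k).symm.trans
    (trace_eq_sum_of_eigenbasis b fun i => by
      rw [map_pow]; exact pow_apply_of_apply_eq_smul (hb i) k)) (· = α),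
    charDegree_character] at h
  rw [charDegree_character] at h1
  let E := Module.End.eigenspace (ρ z) α
  have h2 : (Finset.univ.filter fun i => f' i = α).card ≤ Module.finrank ℂ E := by
    rw [← Fintype.card_subtype]
    refine LinearIndependent.fintype_card_le_finrank (b := fun i : {i // f' i = α} =>
      (⟨b i, Module.End.mem_eigenspace_iff.2 ((hb i).trans (by rw [i.2]))⟩ : E)) ?_
    exact (b.linearIndependent.comp _ Subtype.val_injective).of_comp E.subtype
  have h3 : Module.finrank ℂ (E.map (ρ g)) = Module.finrank ℂ E :=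
    (LinearEquiv.finrank_eq (Submodule.equivMapOfInjective _ (ρ.apply_bijective g).1 E)).symm
  have h4 := Submodule.finrank_sup_add_finrank_inf_eq E (E.map (ρ g))
  have h5 := Submodule.finrank_le (E ⊔ E.map (ρ g))
  obtain ⟨v, ⟨hv, w, hw, hwv⟩, hv0⟩ := Submodule.exists_mem_ne_zero_of_ne_bot
    (p := E ⊓ E.map (ρ g)) fun e => by rw [e, finrank_bot] at h4; omega
  have h6 : ∀ x : G, ρ x v ∈ Submodule.span ℂ {v} := fun x => by
    have hx : x ∈ Submonoid.closure {z, g * z * g⁻¹} := by
      rw [← closure_toSubmonoid_of_finite, htop]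
      trivial
    induction hx using Submonoid.closure_induction_left with
    | one => simp
    | mul_left x hx y hy ih =>
      obtain ⟨c, hc⟩ := Submodule.mem_span_singleton.1 ih
      rw [map_mul, Module.End.mul_apply, ← hc, map_smul]
      refine Submodule.smul_mem _ _ (Submodule.mem_span_singleton.2 ⟨α, ?_⟩)
      rcases hx with rfl | rfl
      · exact (Module.End.mem_eigenspace_iff.1 hv).symm
      · rw [← hwv, map_mul, map_mul, Module.End.mul_apply, Module.End.mul_apply,
          Representation.inv_self_apply, Module.End.mem_eigenspace_iff.1 hw, map_smul]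
  let W : Subrepresentation ρ := ⟨Submodule.span ℂ {v}, fun x y hy => by
    obtain ⟨c, rfl⟩ := Submodule.mem_span_singleton.1 hy
    rw [map_smul]
    exact Submodule.smul_mem _ _ (h6 x)⟩
  rcases hρ.eq_bot_or_eq_top W with e | e
  · exact hv0 (Submodule.span_singleton_eq_bot.1 (congrArg Subrepresentation.toSubmodule e))
  · have h7 : Submodule.span ℂ {v} = ⊤ := congrArg Subrepresentation.toSubmodule e
    exact h1 (by rw [← finrank_top, ← h7, finrank_span_singleton hv0])

end Cfsg

set_option linter.all false in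
theorem Cfsg.Rz.Blk_SmallRedA_0 : True := by
  have := @_root_.Cfsg.PGen.eq_def.{0}
  have := @_root_.Cfsg.PGen.eq_1.{0}
  have := @_root_.Cfsg.PGen.fun_cases
  trivial
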