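import Cfsg.Agent.Blk.Nineteen
import Cfsg.Agent.Char.ModTwo
import Cfsg.Agent.Grp.Heptad
import Cfsg.Agent.Grp.Scott
import Cfsg.Agent.Grp.SylowEA
import Mathlib.LinearAlgebra.Matrix.GeneralLinearGroup.Card

/-!
# Perfect groups with a faithful character of degree four and order divisible by seven
-/

set_option autoImplicit false
set_option linter.unusedSectionVars false
set_option linter.unusedVariables false
set_option linter.style.haveILetI false

namespace Cfsg

open Exc Subgroup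
open scoped ComplexConjugate Classical

universe u v w

variable {G : Type u} [Group G] [Finite G]

local notation "C(" Q ")" => Subgroup.centralizer ((Q : Subgroup G) : Set G)
local notation "N(" Q ")" => Subgroup.normalizer ((Q : Subgroup G) : Set G)

theorem seven_arith {δ : ℤ} (hδ : δ = 1 ∨ δ = -1) {θ i j b c n : ℕ} (h1 : 1 < i)
    (h2 : (i : ℤ) ≡ δ [ZMOD (7 : ℕ)]) (h3 : (j : ℤ) ≡ -1 [ZMOD (7 : ℕ)])
    (h4 : (θ : ℤ) ≡ δ * 3 [ZMOD (7 : ℕ)]) (h5 : δ * θ = 1 + δ * i - j)
    (h6 : IsSquare (θ * (i * j))) (h7 : 1 + b * i + c * j + n * θ ≤ 4 ^ 2)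
    (h8 : ((4 : ℕ) : ℤ) ^ 2 - (7 : ℕ) * (4 : ℕ) =
      δ * 3 * n - ((7 : ℕ) - 1) * (1 + δ * b - c)) : θ = 3 ∨ θ = 10 := by
  simp only [Int.ModEq] at h2 h3 h4
  rcases hδ with rfl | rfl
  · have h9 : 1 * i ≤ b * i := Nat.mul_le_mul_right _ (by omega)
    omega
  · have h10 : 2 * θ ≤ n * θ := Nat.mul_le_mul_right _ (by omega)
    omega

theorem exists_commute_of_index_eight [IsSimpleGroup G] {K : Subgroup G} (hK : K.index = 8)
    (h5 : 5 ∣ Nat.card G) : ∃ c w : G, orderOf c = 5 ∧ orderOf w = 3 ∧ Commute c w := by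
  have : Fact (Nat.Prime 5) := ⟨by norm_num⟩
  have hf := injective_toPermHom_of_isSimpleGroup (H := K) fun e => by simp [e] at hK
  have h25 : ¬ 5 ^ 2 ∣ Nat.card G := fun e => by
    have := e.trans (card_dvd_of_injective _ hf)
    rw [Nat.card_perm, ← index, hK] at this
    norm_num [Nat.factorial] at this
  obtain ⟨⟨c, hcK⟩, hc⟩ := exists_prime_orderOf_dvd_card' (G := K) 5
    ((by decide : Nat.Coprime 5 8).dvd_of_dvd_mul_right (by rwa [← hK, card_mul_index]))
  rw [← orderOf_coe] at hc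
  replace hc : orderOf c = 5 := hc
  have hQ : Nat.card (zpowers c) = 5 := by rw [Nat.card_zpowers, hc]
  have hp : IsPGroup 5 (zpowers c) := .of_card (n := 1) hQ
  have h1 : Nat.card (MulAction.fixedPoints (zpowers c) (G ⧸ K)) = 3 := by
    have h2 := hp.card_modEq_card_fixedPoints (G ⧸ K)
    obtain ⟨y, hy⟩ := not_forall.1 fun e : ∀ y : G ⧸ K, c • y = y => by
      have : c = 1 := hf (Equiv.ext fun y => (e y).trans (one_smul G y).symm)
      simp [this] at hc
    have h3 := Finite.card_subtype_lt (p := (· ∈ MulAction.fixedPoints (zpowers c) (G ⧸ K)))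
      (x := y) fun e => hy (e ⟨c, mem_zpowers c⟩)
    rw [← index, hK] at h2 h3
    change Nat.card (MulAction.fixedPoints (zpowers c) (G ⧸ K)) < 8 at h3
    rw [Nat.ModEq] at h2
    omega
  have h2 : MulAction.orbit N(zpowers c) ((1 : G) : G ⧸ K) =
      MulAction.fixedPoints (zpowers c) (G ⧸ K) := by
    ext y
    refine ⟨?_, fun hy => ?_⟩
    · rintro ⟨⟨n, hn⟩, rfl⟩ ⟨v, hv⟩
      refine QuotientGroup.eq.2 ?_
      simpa [mul_assoc] using zpowers_le.2 hcK ((mem_normalizer_iff''.1 hn _).1 (inv_mem hv))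
    · obtain ⟨g, rfl⟩ := QuotientGroup.mk_surjective y
      have h3 : g⁻¹ * c⁻¹ * g ∈ K := by
        simpa [mul_assoc] using QuotientGroup.eq.1 (hy ⟨c, mem_zpowers c⟩)
      obtain ⟨k, hk, h4⟩ := exists_conj_mem_of_not_dvd_relIndex hp (H := K) (fun e => h25 (by
        rw [← K.card_mul_index, ← card_mul_relIndex (zpowers_le.2 hcK), hQ, sq]
        exact (mul_dvd_mul_left 5 e).mul_right _)) h3 (k := 1) (by
          rw [← inv_inv g, inv_inv g⁻¹, conj_pow, inv_pow, pow_one, ← hc, pow_orderOf_eq_one]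
          simp)
      refine ⟨⟨(k * g⁻¹)⁻¹, inv_mem (mem_normalizer_fintype ?_)⟩,
        QuotientGroup.eq.2 (by simpa using hk)⟩
      rintro _ ⟨i, rfl⟩
      rw [← conj_zpow]
      exact zpow_mem (by simpa [mul_assoc] using inv_mem h4) i
  have h3 := MulAction.index_stabilizer N(zpowers c) ((1 : G) : G ⧸ K)
  rw [h2, ← Nat.card_coe_set_eq, h1] at h3
  obtain ⟨w, hw⟩ := exists_prime_orderOf_dvd_card' 3 (h3 ▸ index_dvd_card _)
  have h4 : (zpowers c).normalizerMonoidHom w = 1 := by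
    have : IsCyclic (zpowers c) := isCyclic_of_prime_card hQ
    have h5 := orderOf_dvd_natCard ((zpowers c).normalizerMonoidHom w)
    rw [IsCyclic.card_mulAut, hQ] at h5
    exact orderOf_eq_one_iff.1 (Nat.eq_one_of_dvd_coprimes (by decide) h5
      (hw ▸ orderOf_map_dvd _ w))
  rw [← MonoidHom.mem_ker, normalizerMonoidHom_ker] at h4
  exact ⟨c, w, hc, (orderOf_coe w).trans hw, h4 c (mem_zpowers c)⟩

namespace SmallDeg

variable [Fact (Nat.Prime 7)] {P : Sylow 7 G} {χ : IrrCharacter G} (h : SmallDeg 7 P χ)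
  (hG : commutator G = ⊤) (hd : charDegree χ.1 = 4)
include h hG hd

theorem seven_int {g : G} (hg : orderOf g ∣ 15) (h1 : g ≠ 1) : ∃ n : ℤ, χ g = n ∧ |n| < 4 := by
  have hZ := hd ▸ χ.card_center_dvd_of_perfect h.faith hG
  obtain ⟨n, hn⟩ := h.exists_int (g := g) (Nat.Coprime.coprime_dvd_left (mul_dvd_mul_left 7 hZ)
    (Nat.Coprime.coprime_dvd_right hg (by decide)))
  have h2 := χ.norm_le g
  have h3 := (χ.mem_charCenter (g := g)).not.1 (by
    rw [χ.charCenter_eq_center_of_faithful h.faith]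
    exact fun e => h1 (orderOf_eq_one_iff.1 (Nat.eq_one_of_dvd_coprimes (by decide) hg
      (((center G).orderOf_dvd_natCard e).trans hZ))))
  rw [hn, hd, Complex.norm_intCast] at h2 h3
  exact ⟨n, hn, by exact_mod_cast lt_of_le_of_ne h2 h3⟩

theorem seven_five {g : G} (hg : orderOf g = 5) : χ g = -1 := by
  obtain ⟨n, hn, h1⟩ := h.seven_int hG hd (g := g) (by rw [hg]; decide) fun e => by simp [e] at hg
  have h2 := χ.isCharacter.int_modEq_charDegree (p := 5) (by norm_num) (k := 1)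
    (by rw [pow_one, ← hg, pow_orderOf_eq_one]) hn
  rw [hd, Int.ModEq] at h2
  rw [hn, show n = -1 by rw [abs_lt] at h1; omega]
  simp

theorem seven_not_commute {c w : G ⧸ center G} (hc : orderOf c = 5) (hw : orderOf w = 3) :
    ¬ Commute c w := fun hcw => by
  have hZ := hd ▸ χ.card_center_dvd_of_perfect h.faith hG
  have h1 := hcw.orderOf_mul_eq_mul_orderOf_of_coprime (by rw [hc, hw]; decide)
  obtain ⟨y, hy⟩ := QuotientGroup.mk_surjective (c * w)
  rw [hc, hw, ← hy] at h1
  have h2 : y ^ 60 = 1 := by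
    have := pow_orderOf_eq_one (y : G ⧸ center G)
    rw [h1, ← QuotientGroup.mk_pow, QuotientGroup.eq_one_iff] at this
    exact (pow_mul y 15 4).trans (orderOf_dvd_iff_pow_eq_one.1
      (((center G).orderOf_dvd_natCard this).trans hZ))
  have h3 : ∀ k, ¬ 15 ∣ k → y ^ k ≠ 1 := fun k hk e => hk (by
    rw [← show orderOf (y : G ⧸ center G) = 15 from h1, orderOf_dvd_iff_pow_eq_one,
      ← QuotientGroup.mk_pow, e, QuotientGroup.mk_one])
  have h4 : ∀ k l, 60 ∣ k * l → (y ^ k) ^ l = 1 := fun k l ⟨m, hm⟩ => by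
    rw [← pow_mul, hm, pow_mul, h2, one_pow]
  have : Fact (Nat.Prime 5) := ⟨by norm_num⟩
  have h5 := h.seven_five hG hd (orderOf_eq_prime (h4 12 5 (by decide)) (h3 12 (by decide)))
  obtain ⟨a, ha, ha'⟩ := h.seven_int hG hd (orderOf_dvd_of_pow_eq_one (h4 20 15 (by decide)))
    (h3 20 (by decide))
  obtain ⟨m, hm, hm'⟩ := h.seven_int hG hd (orderOf_dvd_of_pow_eq_one (h4 32 15 (by decide)))
    (h3 32 (by decide))
  have h6 := χ.isCharacter.int_modEq_charDegree Nat.prime_three (k := 1) (h4 20 _ (by decide)) ha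
  have h7 := χ.isCharacter.isGen.int_modEq this.out (Commute.pow_pow_self y 12 20) (k := 1)
    (h4 12 _ (by decide)) (by rwa [← pow_add]) ha
  have h8 := χ.isCharacter.isGen.int_modEq Nat.prime_three (Commute.pow_pow_self y 20 12) (k := 1)
    (h4 20 _ (by decide)) (by rwa [← pow_add]) (n := -1) (by rw [h5]; simp)
  rw [hd] at h6
  rw [abs_lt] at ha' hm'
  simp only [Int.ModEq] at h6 h7 h8
  omega

theorem seven_sq {b : G} (hb : Odd (orderOf b)) : χ (b ^ 2) = χ b := by
  have hZ := hd ▸ χ.card_center_dvd_of_perfect h.faith hG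
  have hc : Nat.Coprime 4 (orderOf b) := (Nat.coprime_two_left.2 hb).pow_left 2
  by_cases h7 : 7 ∣ orderOf b
  swap
  · refine h.apply_pow (Nat.coprime_two_left.2 hb) ?_
    rw [Nat.Coprime.mul_left ((Nat.Prime.coprime_iff_not_dvd Fact.out).2 h7)
      (hc.coprime_dvd_left hZ)]
    exact Nat.modEq_one
  obtain ⟨g, hg⟩ := (isPElt_pPart 7 b).exists_conj_mem P
  have h1 : g * pPart 7 b * g⁻¹ ≠ 1 := fun e =>
    (pPart_eq_one_iff (p := 7)).1 (conj_eq_one_iff.1 e) h7
  have h2 : pPrimePart 7 b = 1 := by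
    have h3 := h.cent (y := pPrimePart 7 (g * b * g⁻¹)) (by
      rw [← h.centralizer_eq hg h1, mem_centralizer_singleton_iff, ← pPart_conj]
      exact (commute_pPart_pPrimePart _ _).symm) (isPRegular_pPrimePart _ _)
    rw [pPrimePart_conj, Normal.mem_comm_iff inferInstance, inv_mul_cancel_left] at h3
    exact orderOf_eq_one_iff.1 (Nat.eq_one_of_dvd_coprimes hc
      (((center G).orderOf_dvd_natCard h3).trans hZ)
      (orderOf_dvd_of_mem_zpowers (pPrimePart_mem _ (mem_zpowers b))))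
  have h3 : pPart 7 b = b := by simpa [h2] using pPart_mul_pPrimePart 7 b
  rw [h3] at hg h1
  rw [← χ.isClassFunction (b ^ 2) g, ← χ.isClassFunction b g, ← conj_pow]
  generalize g * b * g⁻¹ = u at hg h1
  have he : (C(P)).relIndex N(P) = 3 := by have := h.le_relIndex; omega
  obtain ⟨n, hn, hn'⟩ := SetLike.not_le_iff_exists.1 fun e : N(P) ≤ C(P) => by
    rw [relIndex_eq_one.2 e] at he
    omega
  have h4 := (C(P)).subgroupOf N(P) |>.pow_index_mem ⟨n, hn⟩
  rw [← relIndex, he, mem_subgroupOf, ← h.centralizer_eq hg h1,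
    mem_centralizer_singleton_iff] at h4
  rw [← h.centralizer_eq hg h1, mem_centralizer_singleton_iff] at hn'
  obtain ⟨k, hk, e⟩ := Finset.mem_image.1 (mem_zpowers_iff_mem_range_orderOf.1
    ((h.zpowers_eq hg h1).ge ((mem_normalizer_iff.1 hn u).1 hg)))
  have ho := h.orderOf_eq hg h1
  rw [ho, Finset.mem_range] at hk
  have h5 : u ^ (k * k) = n * (n * u * n⁻¹) * n⁻¹ := by rw [pow_mul, e, conj_pow, e]
  have h6 : u ^ (k * k * k) = u ^ 1 := by
    rw [pow_mul, h5, conj_pow, conj_pow, e, pow_one]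
    have : n ^ 3 * u * (n ^ 3)⁻¹ = u := by rw [mul_inv_eq_iff_eq_mul]; exact h4
    conv_rhs => rw [← this]
    simp only [pow_succ, pow_zero, one_mul, mul_inv_rev, mul_assoc]
  rw [pow_eq_pow_iff_modEq, ho] at h6
  have h7 : k ≠ 1 := fun e' => hn' (by rw [e', pow_one] at e; exact mul_inv_eq_iff_eq_mul.1 e.symm)
  rcases (by interval_cases k <;> simp_all [Nat.ModEq] : k = 2 ∨ k = 4) with rfl | rfl
  · rw [e, χ.isClassFunction]
  · rw [← pow_eq_pow_iff_modEq.2 (ho ▸ (by decide : 4 * 4 ≡ 2 [MOD 7])), h5, χ.isClassFunction,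
      χ.isClassFunction]

theorem seven_hom (h5 : 5 ∣ Nat.card G) :
    ∃ f : G ⧸ center G →* Equiv.Perm (Fin 8), Function.Injective f := by
  have : Fact (Nat.Prime 5) := ⟨by norm_num⟩
  have hZ := hd ▸ χ.card_center_dvd_of_perfect h.faith hG
  let _ := Fintype.ofFinite (P : Subgroup G)
  have he : (C(P)).relIndex N(P) = 3 := by have := h.le_relIndex; omega
  obtain ⟨-, lam, hl, hv⟩ := h.dichotomy.resolve_left fun e => by omega
  have : IsCyclic P := isCyclic_of_prime_card h.card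
  obtain ⟨n, hn, A, h1, h2⟩ := χ.isCharacter.exists_mod_two P (by
    rw [PM.sum_congr_ne hv, Finset.sum_neg_distrib, PM.sum_osum hl,
      (isFree_of_card_eq_prime h.card _).osum_one mul_comm' hl, card_autOf_subtype le_rfl, he,
      h.card, OneMemClass.coe_one, χ.apply_one, hd]
    norm_num) (by rw [h.card]; decide) fun b => h.seven_sq hG hd
  obtain ⟨c, hc⟩ := exists_prime_orderOf_dvd_card' 5 h5
  let _ := Fintype.ofFinite (zpowers c)
  have hQ : Nat.card (zpowers c) = 5 := by rw [Nat.card_zpowers, hc]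
  have h3 : ∀ v ∈ zpowers c, v ≠ 1 → orderOf v = 5 := fun v hv h1 =>
    ((Nat.dvd_prime (by norm_num)).1 (hc ▸ orderOf_dvd_of_mem_zpowers hv)).resolve_left
      fun e => h1 (orderOf_eq_one_iff.1 e)
  obtain ⟨v, hv, h4⟩ := h2 (zpowers c) (by rw [hQ]; decide) (by
    rw [PM.sum_congr_ne (g := fun _ => -1) fun (v : zpowers c) h1 =>
      h.seven_five hG hd (h3 v v.2 fun e => h1 (Subtype.ext e)), Finset.sum_const,
      Finset.card_univ, ← Nat.card_eq_fintype_card, hQ, OneMemClass.coe_one, χ.apply_one, hd]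
    norm_num)
  obtain rfl : n = 4 := by
    have h5 := orderOf_dvd_natCard (A.toHomUnits v)
    rw [orderOf_eq_prime (p := 5) (by
      rw [← map_pow, ← h3 v hv fun e => h4 (by rw [e, map_one]), pow_orderOf_eq_one, map_one])
      fun e => h4 (congrArg Units.val e), Matrix.card_GL_field, ZMod.card] at h5
    rw [hd] at hn
    interval_cases n <;> first | rfl | (revert h5; decide)
  obtain ⟨f, hf⟩ := Heptad.exists_hom A
  have := h.isSimpleGroup_quot hG
  refine ⟨QuotientGroup.lift _ f fun z hz => (hf z).2 (h1 z hz (isPElt_iff_pow_eq_one.2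
    ⟨2, orderOf_dvd_iff_pow_eq_one.1 (((center G).orderOf_dvd_natCard hz).trans hZ)⟩)), ?_⟩
  rw [← MonoidHom.ker_eq_bot_iff]
  refine (IsSimpleGroup.eq_bot_or_eq_top_of_normal _ inferInstance).resolve_right fun e =>
    h4 ((hf v).1 ?_)
  exact MonoidHom.mem_ker.1 (e.ge (mem_top (v : G ⧸ center G)))

theorem seven_four : Nonempty (G ⧸ center G ≃* Matrix.ProjectiveSpecialLinearGroup (Fin 2) (ZMod 7))
    ∨ Nonempty (G ⧸ center G ≃* alternatingGroup (Fin 7)) := by
  obtain ⟨x, hx, hx1⟩ := h.exists_ne_one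
  let _ := Fintype.ofFinite (zpowers (x : G ⧸ center G))
  have he : (C(P)).relIndex N(P) = 3 := by have := h.le_relIndex; omega
  obtain ⟨X, Y, ζ, δ, a, b, hX, θ, hθ, _, i, j, k, l, n, rfl, h1, h2, h3, h4, h5, h6, h7, h8⟩ :=
    h.exists_three hG he (by rw [hd]; decide) hx hx1
  rw [hd] at h7 h8
  have := h.isSimpleGroup_quot hG
  have hna := h.not_comm_quot
  have hS := h.selfCent hx hx1
  have hq := card_eq_card_quotient_mul_card_subgroup (center G)
  rcases seven_arith b.sign h1 h2 h3 h4 h5 h6 h7 h8 with e | e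
  · obtain ⟨-, ⟨φ⟩⟩ := θ.isCharacter.nonempty_quotient_center_equiv_psl
      (θ.faithful_of_isSimpleGroup fun e' => by simp [e'] at e) hS.order
      (fun e' => h.not_sq_dvd (hq ▸ e'.mul_right _)) (fun e' => by
        rcases IsSimpleGroup.eq_bot_or_eq_top_of_normal _ e' with e' | e'
        exacts [hS.ne_bot e', hna (isCyclic_iff_exists_zpowers_eq_top.2 ⟨_, e'⟩).isMulCommutative])
      (by rw [e])
    exact Or.inl ⟨(QuotientGroup.quotientBot.symm.trans (QuotientGroup.quotientMulEquivOfEq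
      (center_eq_bot_of_isSimpleGroup hna).symm)).trans φ⟩
  have h10 := e ▸ θ.charDegree_dvd_card
  have h9 := Nat.dvd_trans (by decide : 5 ∣ 10) h10
  obtain ⟨f, hf⟩ := h.seven_hom hG hd (hq ▸ h9.mul_right _)
  obtain ⟨ω, hω⟩ := not_forall.1 fun e : ∀ ω, f x ω = ω =>
    hS.ne_one (hf ((Equiv.ext e).trans f.map_one.symm))
  let K := (MulAction.stabilizer (Equiv.Perm (Fin 8)) ω).comap f
  have h11 : K.index ≤ 8 := by
    rw [index_comap]
    refine (relIndex_le_of_le_right le_top (by simp [index_ne_zero_of_finite])).trans ?_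
    rw [relIndex_top_right, MulAction.index_stabilizer_of_transitive]
    simp
  obtain ⟨g, hg⟩ := exists_injective_perm_of_index (H := K) rfl fun e => hω
    ((index_eq_one.1 e).ge (mem_top _))
  have h12 := card_dvd_of_injective _ hg
  have h13 := hS.card_eq b.card (mem_zpowers _)
  have h14 := card_sylow_modEq_one 7 (G ⧸ center G)
  rw [← b.cardX, hX] at h13
  rw [Nat.card_perm, Nat.card_fin] at h12
  have h15 : K.index = 7 := by
    have h15 : K.index ≠ 8 := fun e => by
      obtain ⟨c, w, hc, hw, hcw⟩ := exists_commute_of_index_eight e h9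
      exact h.seven_not_commute hG hd hc hw hcw
    have := (Nat.Prime.dvd_factorial (Fact.out : Nat.Prime 7)).1
      ((hS.order ▸ _root_.orderOf_dvd_natCard (x : G ⧸ center G)).trans h12)
    omega
  obtain ⟨g, hg⟩ := exists_injective_perm_of_index h15 (by decide)
  refine Or.inr (nonempty_equiv_alternatingGroup_of_injective (by decide)
    ((IsSimpleGroup.eq_bot_or_eq_top_of_normal _ inferInstance).resolve_left fun e =>
      hna ((commutator_eq_bot_iff _).1 e)) g hg ?_)
  rw [h15, h13, show Nat.factorial 7 = 7 * 3 * 240 by decide] at h12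
  have h16 := Nat.dvd_of_mul_dvd_mul_left (by decide) h12
  have h17 := Nat.le_of_dvd (by decide) h16
  rw [h13] at h10 ⊢
  obtain ⟨m, hm⟩ : ∃ m, Nat.card (Sylow 7 (G ⧸ center G)) = 70 * m + 50 :=
    ⟨Nat.card (Sylow 7 (G ⧸ center G)) / 70, by rw [Nat.ModEq] at h14; omega⟩
  rw [hm] at h16 h17 ⊢
  have : m < 3 := by omega
  interval_cases m <;> simp_all [Nat.factorial]

end SmallDeg

end Cfsg
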